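import Cfsg.Prelude.Def_Chevalley
import Cfsg.Prelude.Def_Classical
set_option linter.all false

set_option autoImplicit false

/-! Isomorphic fields give isomorphic Chevalley groups `D.group F` and isomorphic groups `SU n F q`, `PSU n F q`. -/

namespace Cfsg.Agent.ChevalleyStructure.FieldIso

open Cfsg Cfsg.Lie

universe u v

section Chevalley

variable {F : Type u} {L : Type v} [Field F] [Field L]

/-- Entrywise image of the root element under a ring homomorphism of fields. -/
theorem map_xMat (D : ChevalleyDatum) (φ : F →+* L) (r : Fin D.nroots) (t : F) :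
    (D.xMat F r t).map φ = D.xMat L r (φ t) := by
  ext i j
  rw [Matrix.map_apply]
  rcases j with j | s
  · rcases i with i | u
    · change φ (if i = j then 1 else 0) = if i = j then 1 else 0
      split_ifs
      · exact map_one φ
      · exact map_zero φ
    · change φ (if u = r then - (((D.cartanSR.getD j.val #[]).getD r.val 0 : ℤ) : F) * t else 0) =
        if u = r then - (((D.cartanSR.getD j.val #[]).getD r.val 0 : ℤ) : L) * φ t else 0
      split_ifs
      · rw [map_mul, map_neg, map_intCast]
      · exact map_zero φ
  · by_cases h1 : s = r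
    · rcases i with i | u
      · simp only [ChevalleyDatum.xMat, Matrix.of_apply, h1, ↓reduceIte, map_zero]
      · simp only [ChevalleyDatum.xMat, Matrix.of_apply, h1, ↓reduceIte]
        split_ifs
        · exact map_one φ
        · exact map_zero φ
    · by_cases h2 : s.val = D.negIdx.getD r.val 0
      · rcases i with i | u
        · simp only [ChevalleyDatum.xMat, Matrix.of_apply, h1, h2, ↓reduceIte, map_mul, map_intCast]
        · simp only [ChevalleyDatum.xMat, Matrix.of_apply, h1, h2, ↓reduceIte]
          split_ifs
          · exact map_one φ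
          · rw [map_neg, map_pow]
          · exact map_zero φ
      · rcases i with i | u
        · simp only [ChevalleyDatum.xMat, Matrix.of_apply, h1, h2, ↓reduceIte, map_zero]
        · simp only [ChevalleyDatum.xMat, Matrix.of_apply, h1, h2, ↓reduceIte, map_add]
          congr 1
          · split_ifs
            · exact map_one φ
            · exact map_zero φ
          · rw [map_list_sum, List.map_map]
            congr 1
            refine List.map_congr_left fun km _ => ?_
            simp only [Function.comp_apply, map_mul, map_pow, map_intCast]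

/-- The isomorphism of general linear groups induced by an isomorphism of fields. -/
def glEquiv (ι : Type) [Fintype ι] [DecidableEq ι] (φ : F ≃+* L) : GL ι F ≃* GL ι L :=
  Units.mapEquiv (φ.mapMatrix : Matrix ι ι F ≃+* Matrix ι ι L).toMulEquiv

theorem glEquiv_val (ι : Type) [Fintype ι] [DecidableEq ι] (φ : F ≃+* L) (g : GL ι F) :
    (glEquiv ι φ g : Matrix ι ι L) = (g : Matrix ι ι F).map φ := rfl

theorem group_map (D : ChevalleyDatum) (φ : F ≃+* L) :
    (D.group F).map (glEquiv D.Idx φ).toMonoidHom = D.group L := by
  rw [ChevalleyDatum.group, MonoidHom.map_closure, ChevalleyDatum.group]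
  congr 1
  ext g
  constructor
  · rintro ⟨h, ⟨r, t, hh⟩, rfl⟩
    refine ⟨r, φ t, ?_⟩
    change (glEquiv D.Idx φ h : Matrix D.Idx D.Idx L) = _
    rw [glEquiv_val, hh]
    exact map_xMat D (φ : F →+* L) r t
  · rintro ⟨r, t, hg⟩
    refine ⟨(glEquiv D.Idx φ).symm g, ⟨r, φ.symm t, ?_⟩, (glEquiv D.Idx φ).apply_symm_apply g⟩
    have h1 : (glEquiv D.Idx φ ((glEquiv D.Idx φ).symm g) : Matrix D.Idx D.Idx L) = D.xMat L r t := by
      rw [(glEquiv D.Idx φ).apply_symm_apply, hg]
    have h2 : (D.xMat F r (φ.symm t)).map φ = D.xMat L r t := by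
      have := map_xMat D (φ : F →+* L) r (φ.symm t)
      rw [RingEquiv.coe_toRingHom, RingEquiv.apply_symm_apply] at this
      exact this
    rw [glEquiv_val, ← h2] at h1
    exact Matrix.map_injective φ.injective h1

/-- Isomorphic fields give isomorphic Chevalley groups. -/
noncomputable def groupEquiv (D : ChevalleyDatum) (φ : F ≃+* L) : D.group F ≃* D.group L :=
  ((glEquiv D.Idx φ).subgroupMap (D.group F)).trans (MulEquiv.subgroupCongr (group_map D φ))

end Chevalley

section Unitary

variable {K : Type u} {L : Type v} [Field K] [Field L]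

/-- The isomorphism of special linear groups induced by an isomorphism of fields. -/
def slEquiv (n : ℕ) (φ : K ≃+* L) :
    Matrix.SpecialLinearGroup (Fin n) K ≃* Matrix.SpecialLinearGroup (Fin n) L where
  toFun := Matrix.SpecialLinearGroup.map (φ : K →+* L)
  invFun := Matrix.SpecialLinearGroup.map (φ.symm : L →+* K)
  left_inv g := by
    apply Subtype.ext
    ext i j
    exact φ.symm_apply_apply (g.val i j)
  right_inv g := by
    apply Subtype.ext
    ext i j
    exact φ.apply_symm_apply (g.val i j)
  map_mul' := map_mul _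

theorem slEquiv_val (n : ℕ) (φ : K ≃+* L) (g : Matrix.SpecialLinearGroup (Fin n) K) :
    (slEquiv n φ g).val = g.val.map φ := rfl

theorem mulVec_map (n : ℕ) (φ : K ≃+* L) (M : Matrix (Fin n) (Fin n) K) (u : Fin n → K) :
    (M.map φ).mulVec (fun i => φ (u i)) = fun i => φ (M.mulVec u i) := by
  funext i
  change (∑ j, φ (M i j) * φ (u j)) = φ (∑ j, M i j * u j)
  rw [map_sum]
  exact Finset.sum_congr rfl fun j _ => (map_mul φ _ _).symm

theorem hermForm_map (n q : ℕ) (φ : K ≃+* L) (u v : Fin n → K) :
    hermForm n L q (fun i => φ (u i)) (fun i => φ (v i)) = φ (hermForm n K q u v) := by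
  change (∑ i, φ (u i) * φ (v i) ^ q) = φ (∑ i, u i * v i ^ q)
  rw [map_sum]
  exact Finset.sum_congr rfl fun j _ => by rw [map_mul, map_pow]

theorem mem_SU_iff {n q : ℕ} {F : Type*} [Field F] (g : Matrix.SpecialLinearGroup (Fin n) F) :
    g ∈ SU n F q ↔ ∀ u v, hermForm n F q (g.val.mulVec u) (g.val.mulVec v) = hermForm n F q u v := Iff.rfl

theorem slEquiv_mem (n q : ℕ) (φ : K ≃+* L) {g : Matrix.SpecialLinearGroup (Fin n) K} (hg : g ∈ SU n K q) :
    slEquiv n φ g ∈ SU n L q := by
  rw [mem_SU_iff]
  intro u v
  have hu : u = fun i => φ ((fun j => φ.symm (u j)) i) := by funext i; exact (φ.apply_symm_apply _).symm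
  have hv : v = fun i => φ ((fun j => φ.symm (v j)) i) := by funext i; exact (φ.apply_symm_apply _).symm
  rw [hu, hv, slEquiv_val, mulVec_map, mulVec_map, hermForm_map, hermForm_map, (mem_SU_iff g).1 hg]

theorem SU_map (n q : ℕ) (φ : K ≃+* L) :
    (SU n K q).map (slEquiv n φ).toMonoidHom = SU n L q := by
  apply le_antisymm
  · rintro g ⟨h, hh, rfl⟩
    exact slEquiv_mem n q φ hh
  · intro g hg
    exact ⟨slEquiv n φ.symm g, slEquiv_mem n q φ.symm hg, (slEquiv n φ).apply_symm_apply g⟩

/-- Isomorphic fields give isomorphic special unitary groups. -/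
noncomputable def SUEquiv (n q : ℕ) (φ : K ≃+* L) : SU n K q ≃* SU n L q :=
  ((slEquiv n φ).subgroupMap (SU n K q)).trans (MulEquiv.subgroupCongr (SU_map n q φ))

theorem center_map {G : Type u} {H : Type v} [Group G] [Group H] (e : G ≃* H) :
    (Subgroup.center G).map e.toMonoidHom = Subgroup.center H := by
  ext h
  constructor
  · rintro ⟨g, hg, rfl⟩
    rw [Subgroup.mem_center_iff]
    intro x
    have := Subgroup.mem_center_iff.1 hg (e.symm x)
    have h2 := congrArg e this
    rw [map_mul, map_mul, e.apply_symm_apply] at h2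
    exact h2
  · intro hh
    refine ⟨e.symm h, ?_, e.apply_symm_apply h⟩
    change e.symm h ∈ Subgroup.center G
    rw [Subgroup.mem_center_iff]
    intro x
    have := Subgroup.mem_center_iff.1 hh (e x)
    have h2 := congrArg e.symm this
    rw [map_mul, map_mul, e.symm_apply_apply] at h2
    exact h2

/-- Isomorphic fields give isomorphic projective special unitary groups. -/
noncomputable def PSUEquiv (n q : ℕ) (φ : K ≃+* L) : PSU n K q ≃* PSU n L q :=
  QuotientGroup.congr _ _ (SUEquiv n q φ) (center_map (SUEquiv n q φ))

end Unitary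

end Cfsg.Agent.ChevalleyStructure.FieldIso
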