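import Mathlib
import Cfsg.Prelude.Def_LieExceptional
set_option linter.all false

/-!
An abstract criterion producing a `Cfsg.BNPair` from a subgroup `U`, a subgroup `H` normalising `U`,
a subgroup `N` generated by `H` and elements `n i`, and the rank one root subgroups `X i = X_{p_i}`,
`Y i = X_{-p_i}`, together with the facts that are proved for (twisted or untwisted) Chevalley groups.
-/

set_option autoImplicit false

open scoped Pointwise

namespace Cfsg.Agent.ChevalleyStructure.AbstractBN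

variable {G : Type*} [Group G] {ι : Type*}

/-- The data and facts from which a (B,N)-pair is built. -/
structure RootData (G : Type*) [Group G] (ι : Type*) where
  /-- the unipotent subgroup -/
  U : Subgroup G
  /-- the diagonal subgroup -/
  H : Subgroup G
  /-- the monomial subgroup -/
  N : Subgroup G
  /-- representatives of the simple reflections -/
  n : ι → G
  /-- the root subgroups of the simple roots -/
  X : ι → Set G
  /-- the root subgroups of the negatives of the simple roots -/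
  Y : ι → Set G
  /-- the complements `U_p` of `X_p` in `U` -/
  U' : ι → Set G
  conj_H_U : ∀ h ∈ H, ∀ u ∈ U, h * u * h⁻¹ ∈ U
  conj_N_H : ∀ m ∈ N, ∀ h ∈ H, m * h * m⁻¹ ∈ H
  N_eq : Subgroup.closure (Set.range n) ⊔ H = N
  sup_top : U ⊔ N = ⊤
  sq_mem : ∀ i, n i * n i ∈ H
  decomp : ∀ i, ∀ u ∈ U, ∃ v ∈ U' i, ∃ x ∈ X i, u = v * x
  conj_n_U' : ∀ i, ∀ v ∈ U' i, n i * v * (n i)⁻¹ ∈ U
  conj_n_X : ∀ i, ∀ x ∈ X i, n i * x * (n i)⁻¹ ∈ Y i
  conj_n_inv_X : ∀ i, ∀ x ∈ X i, (n i)⁻¹ * x * n i ∈ Y i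
  rank_one : ∀ i, ∀ y ∈ Y i, y ≠ 1 → ∃ u ∈ U, ∃ h ∈ H, ∃ x ∈ X i, y = u * h * n i * x
  root_cases : ∀ m ∈ N, ∀ i, (∀ x ∈ X i, m⁻¹ * x * m ∈ U) ∨ (∀ y ∈ Y i, m⁻¹ * y * m ∈ U)
  inf_le : ∀ u ∈ U, ∀ h ∈ H, u * h ∈ N → u ∈ H
  n_ne : ∀ i j, n i ≠ n j → (n i)⁻¹ * n j ∉ H
  not_le : ∀ i, ∃ x ∈ U, n i * x * (n i)⁻¹ ∉ U ⊔ H

namespace RootData

variable (R : RootData G ι)

/-- The Borel subgroup `B = U ⊔ H`. -/
def B : Subgroup G := R.U ⊔ R.H

theorem mem_B_iff (g : G) : g ∈ R.B ↔ ∃ u ∈ R.U, ∃ h ∈ R.H, g = u * h := by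
  have hn : R.H ≤ Subgroup.normalizer (R.U : Set G) := by
    intro h hh
    rw [Subgroup.mem_normalizer_iff]
    intro u
    constructor
    · intro hu
      exact R.conj_H_U h hh u hu
    · intro hu
      have := R.conj_H_U h⁻¹ (R.H.inv_mem hh) _ hu
      simpa [mul_assoc] using this
  have : ((R.U ⊔ R.H : Subgroup G) : Set G) = (R.U : Set G) * (R.H : Set G) :=
    Subgroup.coe_mul_of_right_le_normalizer_left R.U R.H hn
  constructor
  · intro hg
    have h1 : g ∈ ((R.U ⊔ R.H : Subgroup G) : Set G) := hg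
    rw [this] at h1
    obtain ⟨u, hu, h, hh, rfl⟩ := h1
    exact ⟨u, hu, h, hh, rfl⟩
  · rintro ⟨u, hu, h, hh, rfl⟩
    exact Subgroup.mul_mem _ (Subgroup.mem_sup_left hu) (Subgroup.mem_sup_right hh)

theorem U_le_B : R.U ≤ R.B := le_sup_left
theorem H_le_B : R.H ≤ R.B := le_sup_right

theorem H_le_N : R.H ≤ R.N := R.N_eq ▸ le_sup_right

theorem n_mem_N (i : ι) : R.n i ∈ R.N :=
  R.N_eq ▸ Subgroup.mem_sup_left (Subgroup.subset_closure ⟨i, rfl⟩)

theorem mem_inf (g : G) (hB : g ∈ R.B) (hN : g ∈ R.N) : g ∈ R.H := by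
  obtain ⟨u, hu, h, hh, rfl⟩ := (R.mem_B_iff g).1 hB
  exact R.H.mul_mem (R.inf_le u hu h hh hN) hh

theorem inf_eq : R.B ⊓ R.N = R.H := by
  apply le_antisymm
  · rintro g ⟨h1, h2⟩
    exact R.mem_inf g h1 h2
  · intro g hg
    exact ⟨R.H_le_B hg, R.H_le_N hg⟩

theorem conj_inv_N_H (m : G) (hm : m ∈ R.N) (h : G) (hh : h ∈ R.H) : m⁻¹ * h * m ∈ R.H := by
  have := R.conj_N_H m⁻¹ (R.N.inv_mem hm) h hh
  simpa using this

/-- the key inclusion `n_i B m ⊆ B n_i m B ∪ B m B` -/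
theorem mul_mem_union (i : ι) (m : G) (hm : m ∈ R.N) (b : G) (hb : b ∈ R.B) :
    R.n i * b * m ∈ DoubleCoset.doubleCoset (R.n i * m) (R.B : Set G) R.B ∪
      DoubleCoset.doubleCoset m (R.B : Set G) R.B := by
  -- write `b = h * u`
  obtain ⟨u0, hu0, h0, hh0, hb0⟩ := (R.mem_B_iff b⁻¹).1 (R.B.inv_mem hb)
  have hb1 : b = h0⁻¹ * u0⁻¹ := by
    rw [← mul_inv_rev, ← hb0, inv_inv]
  obtain ⟨v, hv, x, hx, hux⟩ := R.decomp i u0⁻¹ (R.U.inv_mem hu0)
  have hnv : R.n i * v * (R.n i)⁻¹ ∈ R.B := R.U_le_B (R.conj_n_U' i v hv)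
  have hnh : R.n i * h0⁻¹ * (R.n i)⁻¹ ∈ R.B :=
    R.H_le_B (R.conj_N_H _ (R.n_mem_N i) _ (R.H.inv_mem hh0))
  set b' : G := (R.n i * h0⁻¹ * (R.n i)⁻¹) * (R.n i * v * (R.n i)⁻¹) with hb'
  have hb'B : b' ∈ R.B := R.B.mul_mem hnh hnv
  have key : R.n i * b * m = b' * (R.n i * x * m) := by
    rw [hb1, hux, hb']
    group
  rw [key]
  rcases R.root_cases m hm i with hc | hc
  · left
    rw [DoubleCoset.mem_doubleCoset]
    refine ⟨b', hb'B, m⁻¹ * x * m, R.U_le_B (hc x hx), ?_⟩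
    group
  · -- `w⁻¹ p < 0`
    set y : G := R.n i * x * (R.n i)⁻¹ with hy
    have hyY : y ∈ R.Y i := R.conj_n_X i x hx
    by_cases hy1 : y = 1
    · left
      rw [DoubleCoset.mem_doubleCoset]
      refine ⟨b', hb'B, 1, R.B.one_mem, ?_⟩
      have : R.n i * x = R.n i := by
        have := hy.symm.trans hy1
        rwa [mul_inv_eq_one] at this
      rw [this]
      group
    · right
      obtain ⟨u1, hu1, h1, hh1, x1, hx1, hyx⟩ := R.rank_one i y hyY hy1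
      have hx2 : m⁻¹ * ((R.n i)⁻¹ * x1 * R.n i) * m ∈ R.U := hc _ (R.conj_n_inv_X i x1 hx1)
      have hsq : m⁻¹ * (R.n i * R.n i) * m ∈ R.H := R.conj_inv_N_H m hm _ (R.sq_mem i)
      rw [DoubleCoset.mem_doubleCoset]
      refine ⟨b' * (u1 * h1), R.B.mul_mem hb'B (R.B.mul_mem (R.U_le_B hu1) (R.H_le_B hh1)),
        (m⁻¹ * (R.n i * R.n i) * m) * (m⁻¹ * ((R.n i)⁻¹ * x1 * R.n i) * m),
        R.B.mul_mem (R.H_le_B hsq) (R.U_le_B hx2), ?_⟩
      have : R.n i * x * m = y * R.n i * m := by rw [hy]; group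
      rw [this, hyx]
      group

/-- The (B,N)-pair. -/
def bnPair : Cfsg.BNPair G where
  B := R.B
  N := R.N
  S := Set.range R.n
  sup_eq_top := by
    apply top_le_iff.1
    rw [← R.sup_top]
    exact sup_le_sup_right R.U_le_B _
  conj_mem := by
    rintro m hm t ⟨htB, htN⟩
    exact R.H_le_B (R.conj_N_H m hm t (R.mem_inf t htB htN))
  subset := by
    rintro _ ⟨i, rfl⟩
    exact R.n_mem_N i
  sq_mem := by
    rintro _ ⟨i, rfl⟩
    exact R.H_le_B (R.sq_mem i)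
  inj := by
    rintro _ ⟨i, rfl⟩ _ ⟨j, rfl⟩ hB
    by_contra hne
    exact R.n_ne i j hne (R.mem_inf _ hB (R.N.mul_mem (R.N.inv_mem (R.n_mem_N i)) (R.n_mem_N j)))
  closure_sup := by
    rw [R.inf_eq, R.N_eq]
  mul_mem_union := by
    rintro _ ⟨i, rfl⟩ m hm b hb
    exact R.mul_mem_union i m hm b hb
  conj_ne := by
    rintro _ ⟨i, rfl⟩ heq
    obtain ⟨x, hx, hxB⟩ := R.not_le i
    apply hxB
    have h1 : R.n i * x * R.n i ∈ (R.B : Set G) := by
      rw [← heq]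
      exact ⟨x, R.U_le_B hx, rfl⟩
    have h2 : R.n i * x * (R.n i)⁻¹ = (R.n i * x * R.n i) * (R.n i * R.n i)⁻¹ := by group
    rw [h2]
    exact R.B.mul_mem h1 (R.B.inv_mem (R.H_le_B (R.sq_mem i)))

theorem bnPair_B : R.bnPair.B = R.U ⊔ R.H := rfl
theorem bnPair_N : R.bnPair.N = R.N := rfl
theorem bnPair_S : R.bnPair.S = Set.range R.n := rfl

end RootData

end Cfsg.Agent.ChevalleyStructure.AbstractBN
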