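/-
helper600: additive root coordinates of the Chevalley tables, part 2: the API.
`rt D r i` is the coefficient of the root with index `r` on the fundamental root p_{i+1}.
-/
import Mathlib
import Cfsg.Prelude.Def_ChevStructure
import Cfsg.Prelude.Def_LieChev
import Cfsg.Prelude.Def_ChevB2
import Cfsg.Prelude.Def_ChevD4
set_option linter.all false

-- part: ChevalleyStructure/RootVecTab
section
set_option autoImplicit false

namespace Cfsg.Agent.ChevalleyStructure.RootVecTab

open Cfsg.Lie

/-- packed table of the root coefficient vectors of type G2 -/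
def packG2 : ℕ := 0x2ca2c92892492482092071c81c7187147146

/-- packed table of the Cartan integers of type G2 -/
def packCG2 : ℕ := 0x97897a6978978b97a5b69758

/-- packed table of the root coefficient vectors of type B2 -/
def packB2 : ℕ := 0x2892492482092071c81c7187

/-- packed table of the Cartan integers of type B2 -/
def packCB2 : ℕ := 0x897a6978a8a6a686

/-- packed table of the root coefficient vectors of type D4 -/
def packD4 : ℕ := 0x24a2492492492492482492092492082482082092492092482092092092082082482082092082072081c82072082072072071c82071c71c82081c72081c72071c71c81c71c71c61c7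

/-- packed table of the Cartan integers of type D4 -/
def packCD4 : ℕ := 0x89797897978a6897978979788997789977a8869977899778978897899a7799677897889789999a777788889999677778

/-- packed table of the root coefficient vectors of type F4 -/
def packF4 : ℕ := 0x28c2ca28c2c928c28928b28928a28928a24928a24824b28924a28924a24924a24824924924924824920824820820a28920a24920a2482092492092482092082082492082482082092082072081c82081c72072082071c82071c72061c82061c72061871c82081c72081c71c81c71c71c61c81c61c71c61871c51871861c81861c7186187185187184187184147184146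

/-- packed table of the Cartan integers of type F4 -/
def packCF4 : ℕ := 0x97888978897978889797897a6978979788897978897888978978978897889789788979a796797889789788978897897888a8688979977978aa88a6688aa6886689799779788a86888889aaa7888999a666777888888999aaa677788896667888

/-- packed table of the root coefficient vectors of type E6 -/
def packE6 : ℕ := 0x24a28b28924928b28924928a28924928a24924928a24824924a28924924a24924924a24824924924924924924824924920824824924924824924824824920824824820824820820820924a28920924a24920924a2482092492492092492482092492082092092492092092482092092082092082082082492492082492482082492082082482082082092492082092482082092082082082492082082482082082092082082072082081c82082081c72082072082082071c82082071c72081c82082081c72082081c71c82081c71c72072082082072072082072071c82072071c72071c72082071c71c82071c71c72071c61c82071c61c72071c61871c82082081c81c82081c81c72081c81c71c81c81c71c71c71c72081c71c71c81c71c71c71c71c61c81c71c61c71c71c61871c71861c81c71861c71c71861871c71851871c6185187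

/-- packed table of the Cartan integers of type E6 -/
def packCE6 : ℕ := 0x88897897978978888979789788978897897a6978978897889789797888897897978978888897897889789788978897897889788979a796797889788978978897889789788978978889788899778889788997788897889799a77889967797889788899778897888997788897888999777888888978889997778999a7778888889996777899977788897888888999777889788888899977788888999999a7778777888888999899967777778888899977788888897888889999999999a77777788887777888888888888999988889999996777777777788888

/-- packed table of the root coefficient vectors of type E7 -/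
def packE7 : ℕ := 0x28a2cc2ca24928b30b28924a28c2ca24928a2cb28924a28b28a24928a2ca24924a28b28920924a2cb28924928b28a24924a2ca24924928b28920924a28a28924928a28924924a28a24824928a24924924a28924824928a24820924928a28924924a28924924928a24824924a24924924928924824924a24820924924924924924924920924924920824924920820920924924924824924920920924920824824920820920920820824820820820824928a28920924a28924824928a24820924a24924824928924820924a2482082492492492092492492082492492082092492082082482492492092092492082482492082092092082082482082082082492492482092492482082492482082092482082082482082082082492492082092492082082492082082092082082082092492082082492082082092082082082092482082082482082082082482082082072082082072082082081c72082081c82082082071c82082081c71c82081c82082082071c82082081c71c82082071c71c82072082082081c72082082071c72082081c71c72082071c71c72072082082081c81c82082072071c82081c81c71c82072071c71c81c71c82082071c71c82081c71c71c82071c71c71c81c71872082071c61c72081c71871c72071c61872081c71861c72071c61861c72082082081c81c82082072071c82081c81c71c82072071c71c81c81c71c71c71c71c82081c71c71c82071c71c71c81c71c71c71c71c71872081c71c61c72071c71871c71c71c61872071c71861c71c71c61861c71c61872081c71861c72071c61871c71c71861872071c61861c71c71861861c71c61461c81c71851871c71c61461871c71851461c71861461c81c61851871c71861461871c61851461c71861051871c61441461c6185105187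

/-- packed table of the Cartan integers of type E7 -/
def packCE7 : ℕ := 0x88888978897897978897978978897888889797897889788897888978897897a6978978897888978889788978979788888978897897978897978978897888888888978897897889797889789788978889788978978897888978889788979a796797889788897888978897897889788897889789788979788978978897888888897889788899778899778889788978889977888978897888978889799a77889967797888978889788978889977888978897888997788997788897889788888978888999777888888999777888897888899977788889788897999a7778888889996777978889788889997778888978888999777888888999777888897888978888888899999977777788888888978888889999777789999a777788888888888899996777789999777788888897888888889999997777778888888897888899997777888888888888999977778888888899999999a77778777788888888888899998999967777777788888888999977778888888888889999777788897888888888888888999999999999999a777777777788888777778888888888888888888899999888889999999999677777777777777788888888888888897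

/-- packed table of the root coefficient vectors of type E8 -/
def packE8 : ℕ := 0x28b30e34c2ca28b30e34c2c928b30e34c28928b30e34b28928b30e30b28928b30d30b28928b2cd30b28928a30d30b28928a2cd30b28928a2cc30b28928a2cc2cb28928a2cc2ca28928a2cc2ca24928a2cc2ca24824b2cd30b28924a2cd30b28924a2cc30b28924a2cc2cb28924a2cc2ca28924a2cc2ca24924a2cc2ca24824a28c30b28924a28c2cb28924a28c2ca28924a28c2ca24924a28c2ca24824a28b2cb28924a28b2ca28924a28b2ca24924a28b2ca24824a28b28a28924a28b28a24924a28b28a24824a28b28924924a28b28924824a28b28920824928b2cb28924928b2ca28924928b2ca24924928b2ca24824928b28a28924928b28a24924928b28a24824928b28924924928b28924824928b28920824928a28a28924928a28a24924928a28a24824928a28924924928a28924824928a28920824928a24924924928a24924824928a24920824928a24820824924a28a28924924a28a24924924a28a24824924a28924924924a28924824924a28920824924a24924924924a24924824924a24920824924a24820824924924924924924924924824924924920824924924820824924920820824824924924924824924924824824924920824824924820824824920820824824820820824820820820820924a28a28920924a28a24920924a28a24820924a28924920924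a28924820924a28920820924a24924920924a24924820924a24920820924a2482082092492492492092492492482092492492082092492482082092492082082092092492492092092492482092092492082092092482082092092082082092082082082082492492492082492492482082492492082082492482082082492082082082482082082082092492492082092492482082092492082082092482082082092082082082082492492082082492482082082492082082082482082082082092492082082092482082082092082082082082492082082082482082082082092082082082072082082081c82082082081c72082082072082082082071c82082082071c72082081c82082082081c72082082081c71c82082081c71c72082072082082082071c82082082071c72082082071c71c82082071c71c72081c82082082081c72082082081c71c82082081c71c72082081c71c71c82081c71c71c72072082082082072072082082072071c82082072071c72082072071c71c82072071c71c72071c72082082071c71c82082071c71c72082071c71c71c82071c71c71c72071c61c82082071c61c72082071c61c71c82071c61c71c72071c61872082071c61871c82071c61871c72071c61861c82071c61861c72071c61861871c82082082081c81c82082081c81c72082081c81c71c82081c81c71c72081c81c71c71c81c81c71c71c71c71c72082081c71c71c82081c71c71c720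81c71c71c71c81c71c71c71c71c71c61c82081c71c61c72081c71c61c71c81c71c61c71c71c71c61872081c71c61871c81c71c61871c71c71c61861c81c71c61861c71c71c61861871c71861c82081c71861c72081c71861c71c81c71861c71c71c71861872081c71861871c81c71861871c71c71861861c81c71861861c71c71861861871c71851872081c71851871c81c71851871c71c71851861c81c71851861c71c71851861871c71851461c81c71851461c71c71851461871c71851451871c61851872081c61851871c81c61851871c71c61851861c81c61851861c71c61851861871c61851461c81c61851461c71c61851461871c61851451871c61841461c81c61841461c71c61841461871c61841451871c61841051871c61441461c81c61441461c71c61441461871c61441451871c61441051871c61431051871c51431051871861441461c81861441461c71861441461871861441451871861441051871861431051871861031051871851431051871851031051871851021051871851020c51871851020c41871851020c41471851020c4146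

/-- packed table of the Cartan integers of type E8 -/
def packCE8 : ℕ := 0x97888888888897888889788897889789797888978979788979789788897978978897888978888889797897889788897888897888897888978897897a6978978897888978888978888978889788978979788888897888978897897978889789797889797897888979789788978889788888978888888888978978888888897888889788897889789788978978978897978897897897889789788978889788889788978978897888978888978888978889788979a796797889788897888897888897888978897897889788889788897889789788978978978897978897897897889789788978889788888978888888897888978888889788888978889788978889977897888997788997788897899778889788978889788889977888978897888978888978888978889799a77889967797888978888978888978889788978889977888897888978897888997789788899778899778889789977888978897888978888897888888978888897888897888889788897888899977788889997778888889997778888999777888897888978888899977788889788897888897888897999a7778888889996777978888978888978889788889997778888897888978888999777888899977788888899977788889997778888978889788888978888978888888978897888889788888999977778888888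888999999777777888888888899997777888889788888889999777788888978888979999a777788888888888899996777797888897888889999777788888889788888999977778888888888999999777777888888888899997777888889788888978897888888888979788888889999977777888888888888888888889999999999777777777788888888889788888888889999977777899999a77777888888888888888888889999967777789999977777888888888897888888888899999999997777777777888888888888888888889999977777888888897978888888888997788888978888888888999999999977777777778888888888888888888899999777778888888888889999999999a77777877777888888888888888888889999989999967777777777888888888888999997777788888888888888888888999999999977777777778888888888978888899778888888888898999999777777788888888888888888888888888888888888999999999999999999999a777777777777777888888777777888888888888888888888888888888999999888888999999999999999677777777777777777777788888888888888888888888888888888888999999977777787888888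

/-- The packed root table of a datum (selected by the number of roots). -/
def packTab (D : ChevalleyDatum) : ℕ :=
  if D.nroots = 12 then packG2 else if D.nroots = 8 then packB2 else if D.nroots = 24 then packD4
  else if D.nroots = 48 then packF4 else if D.nroots = 72 then packE6
  else if D.nroots = 126 then packE7 else packE8

/-- The packed Cartan table of a datum (selected by the number of roots). -/
def packCTab (D : ChevalleyDatum) : ℕ :=
  if D.nroots = 12 then packCG2 else if D.nroots = 8 then packCB2 else if D.nroots = 24 then packCD4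
  else if D.nroots = 48 then packCF4 else if D.nroots = 72 then packCE6
  else if D.nroots = 126 then packCE7 else packCE8

/-- Code of the root with index `r`: the digits (base 64) are the root coefficients plus 8, the first
coefficient being the most significant one. -/
def code (D : ChevalleyDatum) (r : ℕ) : ℕ :=
  Nat.mod (Nat.shiftRight (packTab D) (6 * D.rank * r)) (2 ^ (6 * D.rank))

/-- `j`-th digit to the base 64. -/
def dig (c j : ℕ) : ℕ := Nat.mod (Nat.shiftRight c (6 * j)) 64

/-- The code of the zero vector. -/
def offs (D : ChevalleyDatum) : ℕ := (List.range D.rank).foldl (fun a _ => 64 * a + 8) 0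

/-- Cartan integer plus 8. -/
def cart (D : ChevalleyDatum) (i r : ℕ) : ℕ :=
  Nat.mod (Nat.shiftRight (packCTab D) (4 * (i * D.nroots + r))) 16

def chkEnt (D : ChevalleyDatum) (n O cr cs : ℕ) : List (ℕ × ℤ) → ℕ → Bool
  | [], _ => true
  | q :: t, k => (Nat.ble k 3 && Nat.blt q.1 n &&
      Nat.beq (Nat.add (code D q.1) (Nat.mul k O)) (Nat.add cs (Nat.mul k cr)))
      && chkEnt D n O cr cs t (k + 1)

def chkRow (D : ChevalleyDatum) (n O cr : ℕ) : List (ℕ × Array (ℕ × ℤ)) → ℕ → Bool
  | [], _ => true
  | e :: t, lb => (Nat.ble lb e.1 && Nat.blt e.1 n && chkEnt D n O cr (code D e.1) e.2.toList 1)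
      && chkRow D n O cr t (e.1 + 1)

def chkRows (D : ChevalleyDatum) (n O : ℕ) : List (Array (ℕ × Array (ℕ × ℤ))) → ℕ → Bool
  | [], r => Nat.beq r n
  | row :: t, r => chkRow D n O (code D r) row.toList 0 && chkRows D n O t (r + 1)

def chkChain (D : ChevalleyDatum) : Bool := chkRows D D.nroots (offs D) D.chain.toList 0

/-- `f` holds on all numbers below `n`. -/
def allLT (f : ℕ → Bool) : ℕ → Bool
  | 0 => true
  | n + 1 => f n && allLT f n

/-- `f` holds somewhere below `n`. -/
def anyLT (f : ℕ → Bool) : ℕ → Bool
  | 0 => false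
  | n + 1 => f n || anyLT f n

/-- sum of `f` below `n` -/
def sumLT (f : ℕ → ℕ) : ℕ → ℕ
  | 0 => 0
  | n + 1 => Nat.add (f n) (sumLT f n)

/-- sign of the coroot coefficient agrees with the digit -/
def chkSign (c : ℤ) (d : ℕ) : Bool :=
  match c with
  | Int.ofNat 0 => Nat.beq d 8
  | Int.ofNat (_ + 1) => Nat.blt 8 d
  | Int.negSucc _ => Nat.blt d 8

def chkSigns (c l : ℕ) : List ℤ → ℕ → Bool
  | [], i => Nat.beq i l
  | a :: t, i => (chkSign a (dig c (l - 1 - i)) && Nat.blt (dig c (l - 1 - i)) 16) && chkSigns c l t (i + 1)

def chkCo (D : ChevalleyDatum) (l : ℕ) : List (Array ℤ) → ℕ → Bool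
  | [], _ => true
  | row :: t, r => chkSigns (code D r) l row.toList 0 && chkCo D l t (r + 1)

/-- signs of coroot coefficients and digits -/
def chkCoroot (D : ChevalleyDatum) : Bool :=
  Nat.beq D.coroot.size D.nroots && chkCo D D.rank D.coroot.toList 0

def chkNegL (D : ChevalleyDatum) (n O : ℕ) : List ℕ → ℕ → Bool
  | [], r => Nat.beq r n
  | a :: t, r => (Nat.beq (a + r + 1) n && Nat.beq (Nat.add (code D a) (code D r)) (Nat.mul 2 O))
      && chkNegL D n O t (r + 1)

/-- negatives -/
def chkNeg (D : ChevalleyDatum) : Bool := chkNegL D D.nroots (offs D) D.negIdx.toList 0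

/-- every root is positive or negative -/
def chkPosNeg (D : ChevalleyDatum) : Bool :=
  allLT (fun r => (Nat.blt (offs D) (code D r) && allLT (fun i => Nat.ble 8 (dig (code D r) i)) D.rank) ||
    (Nat.blt (code D r) (offs D) && allLT (fun i => Nat.ble (dig (code D r) i) 8) D.rank)) D.nroots

/-- the offset -/
def chkOffs (D : ChevalleyDatum) : Bool :=
  allLT (fun i => Nat.beq (dig (offs D) i) 8) D.rank && Nat.blt (offs D) (64 ^ D.rank) && Nat.blt 0 D.rank
    && Nat.blt 0 D.nroots

/-- codes are strictly increasing -/
def chkMono (D : ChevalleyDatum) : Bool := allLT (fun r => Nat.blt (code D r) (code D (r + 1))) (D.nroots - 1)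

/-- the simple roots -/
def chkSimple (D : ChevalleyDatum) : Bool :=
  allLT (fun i => Nat.blt (D.simple i) D.nroots && Nat.beq (code D (D.simple i)) (offs D + 64 ^ (D.rank - 1 - i))
    && Nat.beq (cart D i (D.simple i)) 10) D.rank

def chkCartRow (D : ChevalleyDatum) (n i : ℕ) : List ℤ → ℕ → Bool
  | [], r => Nat.beq r n
  | a :: t, r => decide (a = (cart D i r : ℤ) - 8) && chkCartRow D n i t (r + 1)

def chkCartRows (D : ChevalleyDatum) (n l : ℕ) : List (Array ℤ) → ℕ → Bool
  | [], i => Nat.beq i l
  | row :: t, i => chkCartRow D n i row.toList 0 && chkCartRows D n l t (i + 1)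

/-- the packed Cartan table is the Cartan table -/
def chkCart (D : ChevalleyDatum) : Bool := chkCartRows D D.nroots D.rank D.cartanSR.toList 0

/-- cartan integers are additive -/
def chkCartAdd (D : ChevalleyDatum) : Bool :=
  allLT (fun i => allLT (fun r => Nat.beq
    (Nat.add (cart D i r) (Nat.mul 8 (Nat.add (sumLT (fun j => dig (code D r) (D.rank - 1 - j)) D.rank)
      (sumLT (fun j => cart D i (D.simple j)) D.rank))))
    (Nat.add (Nat.add 8 (Nat.mul 64 D.rank))
      (sumLT (fun j => Nat.mul (dig (code D r) (D.rank - 1 - j)) (cart D i (D.simple j))) D.rank)))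
      D.nroots) D.rank

def chkMerge (f : ℕ → ℕ) : ℕ → ℕ → List (ℕ × Array (ℕ × ℤ)) → Bool
  | 0, _, _ => true
  | fuel + 1, s, [] => Nat.beq (f s) 0 && chkMerge f fuel (s + 1) []
  | fuel + 1, s, e :: t =>
    bif Nat.beq e.1 s then Nat.ble (f s) e.2.toList.length && chkMerge f fuel (s + 1) t
    else Nat.beq (f s) 0 && chkMerge f fuel (s + 1) (e :: t)

/-- reflections stay in the root system -/
def chkRefl (D : ChevalleyDatum) : Bool :=
  allLT (fun i =>
    chkMerge (fun s => bif (Nat.beq s (D.simple i) || Nat.beq s (D.neg (D.simple i))) then 0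
      else Nat.sub 8 (cart D i s)) D.nroots 0 (D.chain.getD (D.simple i) #[]).toList &&
    chkMerge (fun s => bif (Nat.beq s (D.simple i) || Nat.beq s (D.neg (D.simple i))) then 0
      else Nat.sub (cart D i s) 8) D.nroots 0 (D.chain.getD (D.neg (D.simple i)) #[]).toList) D.rank

/-- a negative root has a negative coefficient with negative Cartan integer -/
def chkDescent (D : ChevalleyDatum) : Bool :=
  allLT (fun r => Nat.blt (offs D) (code D r) ||
    anyLT (fun i => Nat.blt (dig (code D r) (D.rank - 1 - i)) 8 && Nat.blt (cart D i r) 8) D.rank) D.nroots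

theorem chkChain_G2 : chkChain chevG2 = true := by decide +kernel
theorem chkChain_B2 : chkChain chevB2 = true := by decide +kernel
theorem chkChain_D4 : chkChain chevD4 = true := by decide +kernel
theorem chkChain_F4 : chkChain chevF4 = true := by decide +kernel
theorem chkChain_E6 : chkChain chevE6 = true := by decide +kernel
theorem chkChain_E7 : chkChain chevE7 = true := by decide +kernel
theorem chkChain_E8 : chkChain chevE8 = true := by decide +kernel

theorem chkCoroot_G2 : chkCoroot chevG2 = true := by decide +kernel
theorem chkCoroot_B2 : chkCoroot chevB2 = true := by decide +kernel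
theorem chkCoroot_D4 : chkCoroot chevD4 = true := by decide +kernel
theorem chkCoroot_F4 : chkCoroot chevF4 = true := by decide +kernel
theorem chkCoroot_E6 : chkCoroot chevE6 = true := by decide +kernel
theorem chkCoroot_E7 : chkCoroot chevE7 = true := by decide +kernel
theorem chkCoroot_E8 : chkCoroot chevE8 = true := by decide +kernel

theorem chkNeg_G2 : chkNeg chevG2 = true := by decide +kernel
theorem chkNeg_B2 : chkNeg chevB2 = true := by decide +kernel
theorem chkNeg_D4 : chkNeg chevD4 = true := by decide +kernel
theorem chkNeg_F4 : chkNeg chevF4 = true := by decide +kernel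
theorem chkNeg_E6 : chkNeg chevE6 = true := by decide +kernel
theorem chkNeg_E7 : chkNeg chevE7 = true := by decide +kernel
theorem chkNeg_E8 : chkNeg chevE8 = true := by decide +kernel

theorem chkPosNeg_G2 : chkPosNeg chevG2 = true := by decide +kernel
theorem chkPosNeg_B2 : chkPosNeg chevB2 = true := by decide +kernel
theorem chkPosNeg_D4 : chkPosNeg chevD4 = true := by decide +kernel
theorem chkPosNeg_F4 : chkPosNeg chevF4 = true := by decide +kernel
theorem chkPosNeg_E6 : chkPosNeg chevE6 = true := by decide +kernel
theorem chkPosNeg_E7 : chkPosNeg chevE7 = true := by decide +kernel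
theorem chkPosNeg_E8 : chkPosNeg chevE8 = true := by decide +kernel

theorem chkOffs_G2 : chkOffs chevG2 = true := by decide +kernel
theorem chkOffs_B2 : chkOffs chevB2 = true := by decide +kernel
theorem chkOffs_D4 : chkOffs chevD4 = true := by decide +kernel
theorem chkOffs_F4 : chkOffs chevF4 = true := by decide +kernel
theorem chkOffs_E6 : chkOffs chevE6 = true := by decide +kernel
theorem chkOffs_E7 : chkOffs chevE7 = true := by decide +kernel
theorem chkOffs_E8 : chkOffs chevE8 = true := by decide +kernel

theorem chkMono_G2 : chkMono chevG2 = true := by decide +kernel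
theorem chkMono_B2 : chkMono chevB2 = true := by decide +kernel
theorem chkMono_D4 : chkMono chevD4 = true := by decide +kernel
theorem chkMono_F4 : chkMono chevF4 = true := by decide +kernel
theorem chkMono_E6 : chkMono chevE6 = true := by decide +kernel
theorem chkMono_E7 : chkMono chevE7 = true := by decide +kernel
theorem chkMono_E8 : chkMono chevE8 = true := by decide +kernel

theorem chkSimple_G2 : chkSimple chevG2 = true := by decide +kernel
theorem chkSimple_B2 : chkSimple chevB2 = true := by decide +kernel
theorem chkSimple_D4 : chkSimple chevD4 = true := by decide +kernel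
theorem chkSimple_F4 : chkSimple chevF4 = true := by decide +kernel
theorem chkSimple_E6 : chkSimple chevE6 = true := by decide +kernel
theorem chkSimple_E7 : chkSimple chevE7 = true := by decide +kernel
theorem chkSimple_E8 : chkSimple chevE8 = true := by decide +kernel

theorem chkCart_G2 : chkCart chevG2 = true := by decide +kernel
theorem chkCart_B2 : chkCart chevB2 = true := by decide +kernel
theorem chkCart_D4 : chkCart chevD4 = true := by decide +kernel
theorem chkCart_F4 : chkCart chevF4 = true := by decide +kernel
theorem chkCart_E6 : chkCart chevE6 = true := by decide +kernel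
theorem chkCart_E7 : chkCart chevE7 = true := by decide +kernel
theorem chkCart_E8 : chkCart chevE8 = true := by decide +kernel

theorem chkCartAdd_G2 : chkCartAdd chevG2 = true := by decide +kernel
theorem chkCartAdd_B2 : chkCartAdd chevB2 = true := by decide +kernel
theorem chkCartAdd_D4 : chkCartAdd chevD4 = true := by decide +kernel
theorem chkCartAdd_F4 : chkCartAdd chevF4 = true := by decide +kernel
theorem chkCartAdd_E6 : chkCartAdd chevE6 = true := by decide +kernel
theorem chkCartAdd_E7 : chkCartAdd chevE7 = true := by decide +kernel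
theorem chkCartAdd_E8 : chkCartAdd chevE8 = true := by decide +kernel

theorem chkRefl_G2 : chkRefl chevG2 = true := by decide +kernel
theorem chkRefl_B2 : chkRefl chevB2 = true := by decide +kernel
theorem chkRefl_D4 : chkRefl chevD4 = true := by decide +kernel
theorem chkRefl_F4 : chkRefl chevF4 = true := by decide +kernel
theorem chkRefl_E6 : chkRefl chevE6 = true := by decide +kernel
theorem chkRefl_E7 : chkRefl chevE7 = true := by decide +kernel
theorem chkRefl_E8 : chkRefl chevE8 = true := by decide +kernel

theorem chkDescent_G2 : chkDescent chevG2 = true := by decide +kernel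
theorem chkDescent_B2 : chkDescent chevB2 = true := by decide +kernel
theorem chkDescent_D4 : chkDescent chevD4 = true := by decide +kernel
theorem chkDescent_F4 : chkDescent chevF4 = true := by decide +kernel
theorem chkDescent_E6 : chkDescent chevE6 = true := by decide +kernel
theorem chkDescent_E7 : chkDescent chevE7 = true := by decide +kernel
theorem chkDescent_E8 : chkDescent chevE8 = true := by decide +kernel

/-- All checks. -/
structure Checked (D : ChevalleyDatum) : Prop where
  chkChain : chkChain D = true
  chkCoroot : chkCoroot D = true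
  chkNeg : chkNeg D = true
  chkPosNeg : chkPosNeg D = true
  chkOffs : chkOffs D = true
  chkMono : chkMono D = true
  chkSimple : chkSimple D = true
  chkCart : chkCart D = true
  chkCartAdd : chkCartAdd D = true
  chkRefl : chkRefl D = true
  chkDescent : chkDescent D = true

theorem checked_G2 : Checked chevG2 := ⟨chkChain_G2, chkCoroot_G2, chkNeg_G2, chkPosNeg_G2, chkOffs_G2, chkMono_G2, chkSimple_G2, chkCart_G2, chkCartAdd_G2, chkRefl_G2, chkDescent_G2⟩
theorem checked_B2 : Checked chevB2 := ⟨chkChain_B2, chkCoroot_B2, chkNeg_B2, chkPosNeg_B2, chkOffs_B2, chkMono_B2, chkSimple_B2, chkCart_B2, chkCartAdd_B2, chkRefl_B2, chkDescent_B2⟩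
theorem checked_D4 : Checked chevD4 := ⟨chkChain_D4, chkCoroot_D4, chkNeg_D4, chkPosNeg_D4, chkOffs_D4, chkMono_D4, chkSimple_D4, chkCart_D4, chkCartAdd_D4, chkRefl_D4, chkDescent_D4⟩
theorem checked_F4 : Checked chevF4 := ⟨chkChain_F4, chkCoroot_F4, chkNeg_F4, chkPosNeg_F4, chkOffs_F4, chkMono_F4, chkSimple_F4, chkCart_F4, chkCartAdd_F4, chkRefl_F4, chkDescent_F4⟩
theorem checked_E6 : Checked chevE6 := ⟨chkChain_E6, chkCoroot_E6, chkNeg_E6, chkPosNeg_E6, chkOffs_E6, chkMono_E6, chkSimple_E6, chkCart_E6, chkCartAdd_E6, chkRefl_E6, chkDescent_E6⟩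
theorem checked_E7 : Checked chevE7 := ⟨chkChain_E7, chkCoroot_E7, chkNeg_E7, chkPosNeg_E7, chkOffs_E7, chkMono_E7, chkSimple_E7, chkCart_E7, chkCartAdd_E7, chkRefl_E7, chkDescent_E7⟩
theorem checked_E8 : Checked chevE8 := ⟨chkChain_E8, chkCoroot_E8, chkNeg_E8, chkPosNeg_E8, chkOffs_E8, chkMono_E8, chkSimple_E8, chkCart_E8, chkCartAdd_E8, chkRefl_E8, chkDescent_E8⟩

theorem checked_of_mem {D : ChevalleyDatum}
    (hD : D ∈ [chevG2, chevB2, chevD4, chevF4, chevE6, chevE7, chevE8]) : Checked D := by
  simp only [List.mem_cons, List.mem_nil_iff, or_false] at hD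
  rcases hD with rfl | rfl | rfl | rfl | rfl | rfl | rfl
  · exact checked_G2
  · exact checked_B2
  · exact checked_D4
  · exact checked_F4
  · exact checked_E6
  · exact checked_E7
  · exact checked_E8

end Cfsg.Agent.ChevalleyStructure.RootVecTab
end

-- part: ChevalleyStructure/RootVec
section
set_option autoImplicit false

namespace Cfsg.Agent.ChevalleyStructure.RootVec

open Cfsg.Lie Cfsg.Agent.ChevalleyStructure.RootVecTab

/-! ### digits -/

theorem dig_zero (c : ℕ) : dig c 0 = c % 64 := by
  show (Nat.shiftRight c (6 * 0)) % 64 = c % 64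
  rfl

theorem dig_eq (c j : ℕ) : dig c j = c / 64 ^ j % 64 := by
  show (c >>> (6 * j)) % 64 = _
  rw [Nat.shiftRight_eq_div_pow, pow_mul]
  norm_num

theorem dig_succ (c j : ℕ) : dig c (j + 1) = dig (c / 64) j := by
  rw [dig_eq, dig_eq, Nat.div_div_eq_div_mul, pow_succ, mul_comm]

theorem dig_add_mul (k : ℕ) : ∀ (j x y : ℕ), (∀ i ≤ j, dig x i + k * dig y i < 64) →
    dig (x + k * y) j = dig x j + k * dig y j := by
  intro j
  induction j with
  | zero =>
    intro x y h
    have h0 := h 0 le_rfl
    rw [dig_zero, dig_zero] at *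
    rw [dig_zero]
    have hx := Nat.div_add_mod x 64
    have hy := Nat.div_add_mod y 64
    have : x + k * y = (x % 64 + k * (y % 64)) + 64 * (x / 64 + k * (y / 64)) := by
      conv_lhs => rw [← hx, ← hy]
      ring
    rw [this, Nat.add_mul_mod_self_left, Nat.mod_eq_of_lt h0]
  | succ j ih =>
    intro x y h
    have h0 := h 0 (Nat.zero_le _)
    rw [dig_zero, dig_zero] at h0
    rw [dig_succ, dig_succ, dig_succ]
    have hx := Nat.div_add_mod x 64
    have hy := Nat.div_add_mod y 64
    have e : x + k * y = (x % 64 + k * (y % 64)) + 64 * (x / 64 + k * (y / 64)) := by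
      conv_lhs => rw [← hx, ← hy]
      ring
    have : (x + k * y) / 64 = x / 64 + k * (y / 64) := by
      rw [e, Nat.add_mul_div_left _ _ (by norm_num : 0 < 64), Nat.div_eq_of_lt h0, zero_add]
    rw [this]
    apply ih
    intro i hi
    have := h (i + 1) (by omega)
    rwa [dig_succ, dig_succ] at this

theorem eq_of_dig (l : ℕ) : ∀ x y : ℕ, x < 64 ^ l → y < 64 ^ l → (∀ j < l, dig x j = dig y j) → x = y := by
  induction l with
  | zero => intro x y hx hy _; simp at hx hy; omega
  | succ l ih =>
    intro x y hx hy h
    have h0 := h 0 (Nat.succ_pos _)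
    rw [dig_zero, dig_zero] at h0
    have : x / 64 = y / 64 := by
      apply ih
      · rw [Nat.div_lt_iff_lt_mul (by norm_num)]; rwa [pow_succ] at hx
      · rw [Nat.div_lt_iff_lt_mul (by norm_num)]; rwa [pow_succ] at hy
      · intro j hj
        have := h (j + 1) (by omega)
        rwa [dig_succ, dig_succ] at this
    omega

theorem dig_pow (m j : ℕ) : dig (64 ^ m) j = if j = m then 1 else 0 := by
  rw [dig_eq]
  rcases lt_trichotomy j m with h | h | h
  · rw [if_neg (by omega), Nat.pow_div h.le (by norm_num)]
    obtain ⟨d, hd⟩ : ∃ d, m - j = d + 1 := ⟨m - j - 1, by omega⟩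
    rw [hd, pow_succ]; simp
  · subst h; rw [if_pos rfl, Nat.div_self (by positivity)]
  · rw [if_neg (by omega), Nat.div_eq_of_lt (Nat.pow_lt_pow_right (by norm_num) h)]

/-! ### loops -/

theorem allLT_iff (f : ℕ → Bool) (n : ℕ) : allLT f n = true ↔ ∀ i < n, f i = true := by
  induction n with
  | zero => simp [allLT]
  | succ n ih =>
    simp only [allLT, Bool.and_eq_true, ih]
    constructor
    · rintro ⟨h1, h2⟩ i hi
      rcases Nat.lt_succ_iff_lt_or_eq.mp hi with h | h
      · exact h2 i h
      · rw [h]; exact h1
    · intro h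
      exact ⟨h n (Nat.lt_succ_self n), fun i hi => h i (Nat.lt_succ_of_lt hi)⟩

theorem anyLT_iff (f : ℕ → Bool) (n : ℕ) : anyLT f n = true ↔ ∃ i < n, f i = true := by
  induction n with
  | zero => simp [anyLT]
  | succ n ih =>
    simp only [anyLT, Bool.or_eq_true, ih]
    constructor
    · rintro (h | ⟨i, hi, h⟩)
      · exact ⟨n, Nat.lt_succ_self n, h⟩
      · exact ⟨i, Nat.lt_succ_of_lt hi, h⟩
    · rintro ⟨i, hi, h⟩
      rcases Nat.lt_succ_iff_lt_or_eq.mp hi with h' | h'
      · exact Or.inr ⟨i, h', h⟩
      · exact Or.inl (h' ▸ h)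

theorem sumLT_eq (f : ℕ → ℕ) (n : ℕ) : sumLT f n = ∑ i ∈ Finset.range n, f i := by
  induction n with
  | zero => simp [sumLT]
  | succ n ih =>
    rw [Finset.sum_range_succ, ← ih]
    show Nat.add (f n) (sumLT f n) = _
    exact Nat.add_comm _ _

theorem blt_iff {a b : ℕ} : Nat.blt a b = true ↔ a < b := by
  rw [Nat.blt_eq]

theorem beq_iff {a b : ℕ} : Nat.beq a b = true ↔ a = b :=
  ⟨Nat.eq_of_beq_eq_true, fun h => h ▸ Nat.beq_refl a⟩

theorem ble_iff {a b : ℕ} : Nat.ble a b = true ↔ a ≤ b := by
  rw [Nat.ble_eq]

/-! ### the coordinates -/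

/-- The coefficient of the root with index `r` on the fundamental root p_{i+1} (0 if out of range). -/
def rt (D : ChevalleyDatum) (r i : ℕ) : ℤ :=
  if r < D.nroots ∧ i < D.rank then (dig (code D r) (D.rank - 1 - i) : ℤ) - 8 else 0

/-- The coefficient of the coroot of `r` on the fundamental coroot h_{p_{i+1}}. -/
def co (D : ChevalleyDatum) (r i : ℕ) : ℤ := (D.coroot.getD r #[]).getD i 0

theorem co_def (D : ChevalleyDatum) (r i : ℕ) : co D r i = (D.coroot.getD r #[]).getD i 0 := rfl

variable {D : ChevalleyDatum}

theorem rt_of_lt {r i : ℕ} (hr : r < D.nroots) (hi : i < D.rank) :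
    rt D r i = (dig (code D r) (D.rank - 1 - i) : ℤ) - 8 := if_pos ⟨hr, hi⟩

theorem rt_of_rank_le {r i : ℕ} (hi : D.rank ≤ i) : rt D r i = 0 :=
  if_neg (by omega)

theorem rt_of_nroots_le {r i : ℕ} (hr : D.nroots ≤ r) : rt D r i = 0 :=
  if_neg (by omega)

theorem code_lt (r : ℕ) : code D r < 64 ^ D.rank := by
  have : code D r < 2 ^ (6 * D.rank) := Nat.mod_lt _ (by positivity)
  rw [pow_mul] at this
  norm_num at this
  exact this

theorem rank_pos (h : Checked D) : 0 < D.rank := by
  have := h.chkOffs
  simp only [chkOffs, Bool.and_eq_true, blt_iff] at this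
  exact this.1.2

theorem nroots_pos (h : Checked D) : 0 < D.nroots := by
  have := h.chkOffs
  simp only [chkOffs, Bool.and_eq_true, blt_iff] at this
  exact this.2

theorem dig_offs (h : Checked D) {j : ℕ} (hj : j < D.rank) : dig (offs D) j = 8 := by
  have := h.chkOffs
  simp only [chkOffs, Bool.and_eq_true, blt_iff, allLT_iff, beq_iff] at this
  exact this.1.1.1 j hj

/-! ### coroots -/

theorem getD_toList {α : Type*} (a : Array α) (d : α) {i : ℕ} (h : i < a.toList.length) :
    a.getD i d = a.toList[i] := by
  rw [Array.getD_eq_getD_getElem?, Array.getElem?_eq_getElem (by rwa [Array.length_toList] at h)]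
  simp

theorem co_soundL (l : ℕ) : ∀ (rows : List (Array ℤ)) (r : ℕ), chkCo D l rows r = true →
    ∀ (k : ℕ) (hk : k < rows.length), chkSigns (code D (r + k)) l (rows[k]).toList 0 = true := by
  intro rows
  induction rows with
  | nil => intro r _ k hk; simp at hk
  | cons a t ih =>
    intro r h k hk
    simp only [chkCo, Bool.and_eq_true] at h
    cases k with
    | zero => exact h.1
    | succ k =>
      have := ih (r + 1) h.2 k (by simpa using hk)
      rw [show r + (k + 1) = r + 1 + k by ring]
      exact this

theorem signs_sound (c l : ℕ) : ∀ (row : List ℤ) (i : ℕ), chkSigns c l row i = true →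
    i + row.length = l ∧ ∀ (k : ℕ) (hk : k < row.length),
      chkSign (row[k]) (dig c (l - 1 - (i + k))) = true ∧ dig c (l - 1 - (i + k)) < 16 := by
  intro row
  induction row with
  | nil => intro i h; simp only [chkSigns, beq_iff] at h; simp [h]
  | cons a t ih =>
    intro i h
    simp only [chkSigns, Bool.and_eq_true, blt_iff] at h
    obtain ⟨h1, h2⟩ := ih (i + 1) h.2
    refine ⟨by simp only [List.length_cons]; omega, ?_⟩
    intro k hk
    cases k with
    | zero => exact h.1
    | succ k =>
      have := h2 k (by simpa using hk)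
      rw [show i + (k + 1) = i + 1 + k by ring]
      exact this

theorem sign_sound {c : ℤ} {d : ℕ} (h : chkSign c d = true) :
    (0 < c ↔ 8 < d) ∧ (c < 0 ↔ d < 8) ∧ (c = 0 ↔ d = 8) := by
  match c, h with
  | Int.ofNat 0, h =>
    have : d = 8 := beq_iff.mp h
    subst this
    simp
  | Int.ofNat (n + 1), h =>
    have h8 : 8 < d := blt_iff.mp h
    have : (0 : ℤ) < Int.ofNat (n + 1) := by simp [Int.ofNat_eq_natCast]
    refine ⟨⟨fun _ => h8, fun _ => this⟩, ⟨fun hc => by omega, fun hc => by omega⟩,
      ⟨fun hc => by omega, fun hc => by omega⟩⟩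
  | Int.negSucc n, h =>
    have h8 : d < 8 := blt_iff.mp h
    have : Int.negSucc n < 0 := Int.negSucc_lt_zero n
    refine ⟨⟨fun hc => by omega, fun hc => by omega⟩, ⟨fun _ => h8, fun _ => this⟩,
      ⟨fun hc => by omega, fun hc => by omega⟩⟩

theorem coroot_row (h : Checked D) {r : ℕ} (hr : r < D.nroots) :
    (D.coroot.getD r #[]).size = D.rank ∧ ∀ i < D.rank,
      chkSign (co D r i) (dig (code D r) (D.rank - 1 - i)) = true ∧ dig (code D r) (D.rank - 1 - i) < 16 := by
  have h1 := h.chkCoroot
  simp only [chkCoroot, Bool.and_eq_true, beq_iff] at h1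
  obtain ⟨hsz, h2⟩ := h1
  have hr' : r < D.coroot.toList.length := by rw [Array.length_toList, hsz]; exact hr
  have h3 := co_soundL D.rank D.coroot.toList 0 h2 r hr'
  rw [zero_add] at h3
  have e : D.coroot.getD r #[] = D.coroot.toList[r] := getD_toList _ _ hr'
  obtain ⟨h4, h5⟩ := signs_sound _ _ _ _ h3
  rw [← e] at h4 h5
  rw [zero_add, Array.length_toList] at h4
  refine ⟨h4, ?_⟩
  intro i hi
  have := h5 i (by rw [Array.length_toList, h4]; exact hi)
  rw [zero_add] at this
  have e2 : co D r i = (D.coroot.getD r #[]).toList[i]'(by rw [Array.length_toList, h4]; exact hi) :=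
    getD_toList _ _ _
  rw [e2]
  exact this

theorem dig_lt (h : Checked D) {r j : ℕ} (hr : r < D.nroots) (hj : j < D.rank) : dig (code D r) j < 16 := by
  have := ((coroot_row h hr).2 (D.rank - 1 - j) (by omega)).2
  rwa [show D.rank - 1 - (D.rank - 1 - j) = j by omega] at this

theorem co_pos_iff (h : Checked D) {r i : ℕ} (hr : r < D.nroots) (hi : i < D.rank) :
    0 < co D r i ↔ 0 < rt D r i := by
  rw [(sign_sound ((coroot_row h hr).2 i hi).1).1, rt_of_lt hr hi]; omega

theorem co_neg_iff (h : Checked D) {r i : ℕ} (hr : r < D.nroots) (hi : i < D.rank) :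
    co D r i < 0 ↔ rt D r i < 0 := by
  rw [(sign_sound ((coroot_row h hr).2 i hi).1).2.1, rt_of_lt hr hi]; omega

theorem co_eq_zero_iff (h : Checked D) {r i : ℕ} (hr : r < D.nroots) (hi : i < D.rank) :
    co D r i = 0 ↔ rt D r i = 0 := by
  rw [(sign_sound ((coroot_row h hr).2 i hi).1).2.2, rt_of_lt hr hi]; omega

theorem mem_coroot_row (h : Checked D) {r : ℕ} (hr : r < D.nroots) (c : ℤ) :
    c ∈ (D.coroot.getD r #[]).toList ↔ ∃ i < D.rank, co D r i = c := by
  have hsz := (coroot_row h hr).1
  rw [List.mem_iff_getElem]
  constructor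
  · rintro ⟨i, hi, rfl⟩
    have hi' : i < D.rank := by rwa [Array.length_toList, hsz] at hi
    exact ⟨i, hi', getD_toList _ _ _⟩
  · rintro ⟨i, hi, rfl⟩
    exact ⟨i, by rw [Array.length_toList, hsz]; exact hi, (getD_toList _ _ _).symm⟩

theorem isPosRoot_iff (h : Checked D) (r : ℕ) :
    D.IsPosRoot r ↔ r < D.nroots ∧ ∀ i < D.rank, 0 ≤ rt D r i := by
  show (r < D.nroots ∧ ∀ c ∈ (D.coroot.getD r #[]).toList, 0 ≤ c) ↔ _
  refine and_congr_right fun hr => ?_
  simp only [mem_coroot_row h hr]
  constructor
  · intro H i hi
    have := H _ ⟨i, hi, rfl⟩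
    have := (co_neg_iff h hr hi).not
    omega
  · rintro H c ⟨i, hi, rfl⟩
    have := H i hi
    have := (co_neg_iff h hr hi).not
    omega

theorem isNegRoot_iff (h : Checked D) (r : ℕ) :
    D.IsNegRoot r ↔ r < D.nroots ∧ ∀ i < D.rank, rt D r i ≤ 0 := by
  show (r < D.nroots ∧ ∀ c ∈ (D.coroot.getD r #[]).toList, c ≤ 0) ↔ _
  refine and_congr_right fun hr => ?_
  simp only [mem_coroot_row h hr]
  constructor
  · intro H i hi
    have := H _ ⟨i, hi, rfl⟩
    have := (co_pos_iff h hr hi).not
    omega
  · rintro H c ⟨i, hi, rfl⟩
    have := H i hi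
    have := (co_pos_iff h hr hi).not
    omega

theorem inRootSub_iff (h : Checked D) (J : Set ℕ) (r : ℕ) :
    D.InRootSub J r ↔ r < D.nroots ∧ ∀ i < D.rank, i ∉ J → rt D r i = 0 := by
  show (r < D.nroots ∧ ∀ i < D.rank, i ∉ J → co D r i = 0) ↔ _
  refine and_congr_right fun hr => ?_
  constructor
  · intro H i hi hJ
    exact (co_eq_zero_iff h hr hi).mp (H i hi hJ)
  · intro H i hi hJ
    exact (co_eq_zero_iff h hr hi).mpr (H i hi hJ)

/-! ### negatives -/

theorem negL_sound (n O : ℕ) : ∀ (l : List ℕ) (r : ℕ), chkNegL D n O l r = true →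
    r + l.length = n ∧ ∀ (k : ℕ) (hk : k < l.length),
      l[k] + (r + k) + 1 = n ∧ code D l[k] + code D (r + k) = 2 * O := by
  intro l
  induction l with
  | nil => intro r h; simp only [chkNegL, beq_iff] at h; simp [h]
  | cons a t ih =>
    intro r h
    simp only [chkNegL, Bool.and_eq_true, beq_iff] at h
    obtain ⟨h1, h2⟩ := ih (r + 1) h.2
    refine ⟨by simp only [List.length_cons]; omega, ?_⟩
    intro k hk
    cases k with
    | zero => exact ⟨h.1.1, h.1.2⟩
    | succ k =>
      have := h2 k (by simpa using hk)
      rw [show r + (k + 1) = r + 1 + k by ring]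
      exact this

theorem neg_facts (h : Checked D) {r : ℕ} (hr : r < D.nroots) :
    D.neg r + r + 1 = D.nroots ∧ code D (D.neg r) + code D r = 2 * offs D := by
  have h1 := negL_sound _ _ _ _ h.chkNeg
  rw [zero_add] at h1
  have hr' : r < D.negIdx.toList.length := by rw [h1.1]; exact hr
  have h2 := h1.2 r hr'
  rw [zero_add, ← getD_toList D.negIdx 0 hr'] at h2
  exact h2

theorem neg_add (h : Checked D) {r : ℕ} (hr : r < D.nroots) : D.neg r + r + 1 = D.nroots :=
  (neg_facts h hr).1

theorem neg_eq (h : Checked D) {r : ℕ} (hr : r < D.nroots) : D.neg r = D.nroots - 1 - r := by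
  have := neg_add h hr; omega

theorem neg_lt (h : Checked D) {r : ℕ} (hr : r < D.nroots) : D.neg r < D.nroots := by
  have := neg_add h hr; omega

theorem neg_neg (h : Checked D) {r : ℕ} (hr : r < D.nroots) : D.neg (D.neg r) = r := by
  have := neg_add h hr; have := neg_add h (neg_lt h hr); omega

theorem neg_inj (h : Checked D) {r s : ℕ} (hr : r < D.nroots) (hs : s < D.nroots)
    (e : D.neg r = D.neg s) : r = s := by
  have := neg_add h hr; have := neg_add h hs; omega

theorem rt_neg (h : Checked D) {r : ℕ} (hr : r < D.nroots) (i : ℕ) : rt D (D.neg r) i = - rt D r i := by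
  by_cases hi : i < D.rank
  · have hn := neg_lt h hr
    have e := (neg_facts h hr).2
    have e' : code D (D.neg r) + 1 * code D r = offs D + 1 * offs D := by rw [one_mul, one_mul, e, two_mul]
    have d1 := dig_add_mul 1 (D.rank - 1 - i) (code D (D.neg r)) (code D r) (by
      intro j hj
      have := dig_lt h (j := j) hn (by omega)
      have := dig_lt h (j := j) hr (by omega)
      omega)
    have d2 := dig_add_mul 1 (D.rank - 1 - i) (offs D) (offs D) (by
      intro j hj
      have := dig_offs h (j := j) (by omega)
      omega)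
    rw [e', d2, dig_offs h (by omega)] at d1
    rw [rt_of_lt hn hi, rt_of_lt hr hi]
    omega
  · rw [rt_of_rank_le (by omega), rt_of_rank_le (by omega), neg_zero]

/-! ### order and injectivity -/

theorem code_lt_succ (h : Checked D) {r : ℕ} (hr : r + 1 < D.nroots) : code D r < code D (r + 1) := by
  have h1 := h.chkMono
  simp only [chkMono, allLT_iff, blt_iff] at h1
  exact h1 r (by omega)

theorem code_strictMono (h : Checked D) {r s : ℕ} (hrs : r < s) (hs : s < D.nroots) : code D r < code D s := by
  induction s, hrs using Nat.le_induction with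
  | base => exact code_lt_succ h hs
  | succ s hs' ih => exact (ih (by omega)).trans (code_lt_succ h hs)

theorem code_lt_iff (h : Checked D) {r s : ℕ} (hr : r < D.nroots) (hs : s < D.nroots) :
    code D r < code D s ↔ r < s := by
  constructor
  · intro hc
    rcases lt_trichotomy r s with h1 | h1 | h1
    · exact h1
    · subst h1; omega
    · have := code_strictMono h h1 hr; omega
  · intro h1; exact code_strictMono h h1 hs

theorem code_inj (h : Checked D) {r s : ℕ} (hr : r < D.nroots) (hs : s < D.nroots)
    (e : code D r = code D s) : r = s := by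
  rcases lt_trichotomy r s with h1 | h1 | h1
  · have := code_strictMono h h1 hs; omega
  · exact h1
  · have := code_strictMono h h1 hr; omega

/-- A root is determined by its coefficient vector. -/
theorem rt_inj (h : Checked D) {r s : ℕ} (hr : r < D.nroots) (hs : s < D.nroots)
    (e : ∀ i < D.rank, rt D r i = rt D s i) : r = s := by
  apply code_inj h hr hs
  apply eq_of_dig D.rank _ _ (code_lt r) (code_lt s)
  intro j hj
  have := e (D.rank - 1 - j) (by omega)
  rw [rt_of_lt hr (by omega), rt_of_lt hs (by omega)] at this
  rw [show D.rank - 1 - (D.rank - 1 - j) = j by omega] at this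
  omega

theorem pos_or_neg' (h : Checked D) {r : ℕ} (hr : r < D.nroots) :
    (offs D < code D r ∧ ∀ i < D.rank, 0 ≤ rt D r i) ∨ (code D r < offs D ∧ ∀ i < D.rank, rt D r i ≤ 0) := by
  have h1 := h.chkPosNeg
  simp only [chkPosNeg, allLT_iff, blt_iff, ble_iff, Bool.or_eq_true, Bool.and_eq_true] at h1
  rcases h1 r hr with ⟨h2, h3⟩ | ⟨h2, h3⟩
  · refine Or.inl ⟨h2, fun i hi => ?_⟩
    have := h3 (D.rank - 1 - i) (by omega)
    rw [rt_of_lt hr hi]; omega
  · refine Or.inr ⟨h2, fun i hi => ?_⟩
    have := h3 (D.rank - 1 - i) (by omega)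
    rw [rt_of_lt hr hi]; omega

theorem pos_or_neg (h : Checked D) {r : ℕ} (hr : r < D.nroots) : D.IsPosRoot r ∨ D.IsNegRoot r := by
  rcases pos_or_neg' h hr with h1 | h1
  · exact Or.inl ((isPosRoot_iff h r).mpr ⟨hr, h1.2⟩)
  · exact Or.inr ((isNegRoot_iff h r).mpr ⟨hr, h1.2⟩)

/-- No root has coefficient vector zero. -/
theorem exists_rt_ne_zero (h : Checked D) {r : ℕ} (hr : r < D.nroots) : ∃ i < D.rank, rt D r i ≠ 0 := by
  by_contra hc
  push Not at hc
  have e : code D r = offs D := by
    have h1 := h.chkOffs
    simp only [chkOffs, Bool.and_eq_true, blt_iff, allLT_iff, beq_iff] at h1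
    apply eq_of_dig D.rank _ _ (code_lt r) h1.1.1.2
    intro j hj
    rw [dig_offs h hj]
    have := hc (D.rank - 1 - j) (by omega)
    rw [rt_of_lt hr (by omega), show D.rank - 1 - (D.rank - 1 - j) = j by omega] at this
    omega
  rcases pos_or_neg' h hr with h1 | h1 <;> omega

theorem not_pos_and_neg (h : Checked D) {r : ℕ} (hp : D.IsPosRoot r) (hn : D.IsNegRoot r) : False := by
  rw [isPosRoot_iff h] at hp
  rw [isNegRoot_iff h] at hn
  obtain ⟨i, hi, hne⟩ := exists_rt_ne_zero h hp.1
  have := hp.2 i hi
  have := hn.2 i hi
  omega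

theorem isPosRoot_iff_code (h : Checked D) {r : ℕ} (hr : r < D.nroots) : D.IsPosRoot r ↔ offs D < code D r := by
  rcases pos_or_neg' h hr with h1 | h1
  · exact ⟨fun _ => h1.1, fun _ => (isPosRoot_iff h r).mpr ⟨hr, h1.2⟩⟩
  · refine ⟨fun hp => (not_pos_and_neg h hp ((isNegRoot_iff h r).mpr ⟨hr, h1.2⟩)).elim, fun hc => by omega⟩

theorem isNegRoot_iff_code (h : Checked D) {r : ℕ} (hr : r < D.nroots) : D.IsNegRoot r ↔ code D r < offs D := by
  rcases pos_or_neg' h hr with h1 | h1
  · refine ⟨fun hp => (not_pos_and_neg h ((isPosRoot_iff h r).mpr ⟨hr, h1.2⟩) hp).elim, fun hc => by omega⟩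
  · exact ⟨fun _ => h1.1, fun _ => (isNegRoot_iff h r).mpr ⟨hr, h1.2⟩⟩

theorem isPosRoot_neg_iff (h : Checked D) {r : ℕ} (hr : r < D.nroots) :
    D.IsPosRoot (D.neg r) ↔ D.IsNegRoot r := by
  rw [isPosRoot_iff h, isNegRoot_iff h]
  simp only [rt_neg h hr, neg_lt h hr, hr, true_and]
  exact forall_congr' fun i => imp_congr_right fun _ => by omega

theorem isNegRoot_neg_iff (h : Checked D) {r : ℕ} (hr : r < D.nroots) :
    D.IsNegRoot (D.neg r) ↔ D.IsPosRoot r := by
  rw [isPosRoot_iff h, isNegRoot_iff h]
  simp only [rt_neg h hr, neg_lt h hr, hr, true_and]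
  exact forall_congr' fun i => imp_congr_right fun _ => by omega

/-- The positive roots are the indices in the upper half. -/
theorem isPosRoot_iff_index (h : Checked D) {r : ℕ} (hr : r < D.nroots) : D.IsPosRoot r ↔ D.neg r < r := by
  have hn := neg_lt h hr
  have e := (neg_facts h hr).2
  rw [isPosRoot_iff_code h hr, ← code_lt_iff h hn hr]
  omega

theorem neg_ne (h : Checked D) {r : ℕ} (hr : r < D.nroots) : D.neg r ≠ r := by
  intro e
  rcases pos_or_neg h hr with h1 | h1
  · rw [isPosRoot_iff_index h hr] at h1; omega
  · rw [← isPosRoot_neg_iff h hr, isPosRoot_iff_index h (neg_lt h hr), neg_neg h hr] at h1; omega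

/-! ### simple roots -/

theorem simple_facts (h : Checked D) {i : ℕ} (hi : i < D.rank) :
    (D.simple i < D.nroots ∧ code D (D.simple i) = offs D + 64 ^ (D.rank - 1 - i)) ∧
      cart D i (D.simple i) = 10 := by
  have h1 := h.chkSimple
  simp only [chkSimple, allLT_iff, blt_iff, beq_iff, Bool.and_eq_true] at h1
  exact h1 i hi

theorem simple_lt (h : Checked D) {i : ℕ} (hi : i < D.rank) : D.simple i < D.nroots := (simple_facts h hi).1.1

theorem rt_simple (h : Checked D) {i : ℕ} (hi : i < D.rank) (j : ℕ) :
    rt D (D.simple i) j = if j = i then 1 else 0 := by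
  by_cases hj : j < D.rank
  · rw [rt_of_lt (simple_lt h hi) hj, (simple_facts h hi).1.2]
    have := dig_add_mul 1 (D.rank - 1 - j) (offs D) (64 ^ (D.rank - 1 - i)) (by
      intro k hk
      rw [dig_offs h (by omega), dig_pow]
      split_ifs <;> omega)
    rw [one_mul, dig_offs h (by omega), dig_pow] at this
    rw [this]
    by_cases hji : j = i
    · subst hji; simp
    · rw [if_neg (by omega), if_neg hji]; simp
  · rw [rt_of_rank_le (by omega), if_neg (by omega)]

theorem simple_pos (h : Checked D) {i : ℕ} (hi : i < D.rank) : D.IsPosRoot (D.simple i) := by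
  rw [isPosRoot_iff h]
  refine ⟨simple_lt h hi, fun j _ => ?_⟩
  rw [rt_simple h hi]
  split_ifs <;> omega

theorem simple_inj (h : Checked D) {i j : ℕ} (hi : i < D.rank) (hj : j < D.rank)
    (e : D.simple i = D.simple j) : i = j := by
  have h1 := rt_simple h hi i
  rw [e, rt_simple h hj] at h1
  by_contra hne
  simp [hne] at h1

/-! ### Cartan integers -/

theorem cartRow_sound (n i : ℕ) : ∀ (l : List ℤ) (r : ℕ), chkCartRow D n i l r = true →
    r + l.length = n ∧ ∀ (k : ℕ) (hk : k < l.length), l[k] = (cart D i (r + k) : ℤ) - 8 := by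
  intro l
  induction l with
  | nil => intro r h; simp only [chkCartRow, beq_iff] at h; simp [h]
  | cons a t ih =>
    intro r h
    simp only [chkCartRow, Bool.and_eq_true, decide_eq_true_eq] at h
    obtain ⟨h1, h2⟩ := ih (r + 1) h.2
    refine ⟨by simp only [List.length_cons]; omega, ?_⟩
    intro k hk
    cases k with
    | zero => exact h.1
    | succ k =>
      have := h2 k (by simpa using hk)
      rw [show r + (k + 1) = r + 1 + k by ring]
      exact this

theorem cartRows_sound (n l : ℕ) : ∀ (rows : List (Array ℤ)) (i : ℕ), chkCartRows D n l rows i = true →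
    i + rows.length = l ∧ ∀ (k : ℕ) (hk : k < rows.length),
      chkCartRow D n (i + k) (rows[k]).toList 0 = true := by
  intro rows
  induction rows with
  | nil => intro i h; simp only [chkCartRows, beq_iff] at h; simp [h]
  | cons a t ih =>
    intro i h
    simp only [chkCartRows, Bool.and_eq_true] at h
    obtain ⟨h1, h2⟩ := ih (i + 1) h.2
    refine ⟨by simp only [List.length_cons]; omega, ?_⟩
    intro k hk
    cases k with
    | zero => exact h.1
    | succ k =>
      have := h2 k (by simpa using hk)
      rw [show i + (k + 1) = i + 1 + k by ring]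
      exact this

theorem cartan_eq_cart (h : Checked D) {i r : ℕ} (hi : i < D.rank) (hr : r < D.nroots) :
    D.cartan i r = (cart D i r : ℤ) - 8 := by
  obtain ⟨h1, h2⟩ := cartRows_sound _ _ _ _ h.chkCart
  rw [zero_add] at h1
  have hi' : i < D.cartanSR.toList.length := by rw [h1]; exact hi
  have h3 := h2 i hi'
  rw [zero_add, ← getD_toList D.cartanSR #[] hi'] at h3
  obtain ⟨h4, h5⟩ := cartRow_sound _ _ _ _ h3
  rw [zero_add] at h4
  have hr' : r < (D.cartanSR.getD i #[]).toList.length := by rw [h4]; exact hr
  have h6 := h5 r hr'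
  rw [zero_add, ← getD_toList (D.cartanSR.getD i #[]) 0 hr'] at h6
  exact h6

theorem cartan_simple_self (h : Checked D) {i : ℕ} (hi : i < D.rank) : D.cartan i (D.simple i) = 2 := by
  rw [cartan_eq_cart h hi (simple_lt h hi), (simple_facts h hi).2]; norm_num

/-- Cartan integers A_{p_i, r} are additive in `r`. -/
theorem cartan_eq_sum (h : Checked D) {i r : ℕ} (hi : i < D.rank) (hr : r < D.nroots) :
    D.cartan i r = ∑ j ∈ Finset.range D.rank, rt D r j * D.cartan i (D.simple j) := by
  have h1 := h.chkCartAdd
  simp only [chkCartAdd, allLT_iff, beq_iff, sumLT_eq] at h1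
  have h2 := h1 i hi r hr
  have h3 : (cart D i r : ℤ) + 8 * ((∑ j ∈ Finset.range D.rank, (dig (code D r) (D.rank - 1 - j) : ℤ))
      + ∑ j ∈ Finset.range D.rank, (cart D i (D.simple j) : ℤ)) = (8 + 64 * D.rank)
      + ∑ j ∈ Finset.range D.rank, (dig (code D r) (D.rank - 1 - j) : ℤ) * (cart D i (D.simple j) : ℤ) := by
    exact_mod_cast h2
  rw [cartan_eq_cart h hi hr]
  have h4 : ∑ j ∈ Finset.range D.rank, rt D r j * D.cartan i (D.simple j) =
      ∑ j ∈ Finset.range D.rank, ((dig (code D r) (D.rank - 1 - j) : ℤ) * (cart D i (D.simple j) : ℤ)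
        - 8 * (dig (code D r) (D.rank - 1 - j) : ℤ) - 8 * (cart D i (D.simple j) : ℤ) + 64) := by
    apply Finset.sum_congr rfl
    intro j hj
    rw [Finset.mem_range] at hj
    rw [rt_of_lt hr hj, cartan_eq_cart h hi (simple_lt h hj)]
    ring
  rw [h4, Finset.sum_add_distrib, Finset.sum_sub_distrib, Finset.sum_sub_distrib, ← Finset.mul_sum,
    ← Finset.mul_sum, Finset.sum_const, Finset.card_range, nsmul_eq_mul]
  linarith

theorem cartan_neg (h : Checked D) {i r : ℕ} (hi : i < D.rank) (hr : r < D.nroots) :
    D.cartan i (D.neg r) = - D.cartan i r := by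
  rw [cartan_eq_sum h hi hr, cartan_eq_sum h hi (neg_lt h hr), ← Finset.sum_neg_distrib]
  exact Finset.sum_congr rfl fun j _ => by rw [rt_neg h hr]; ring

/-- Linear combinations of coefficient vectors give the same linear combination of Cartan integers. -/
theorem cartan_of_rt (h : Checked D) {u r s : ℕ} {a b : ℤ} (hu : u < D.nroots) (hr : r < D.nroots)
    (hs : s < D.nroots) (e : ∀ i < D.rank, rt D u i = a * rt D r i + b * rt D s i) {i : ℕ} (hi : i < D.rank) :
    D.cartan i u = a * D.cartan i r + b * D.cartan i s := by
  rw [cartan_eq_sum h hi hr, cartan_eq_sum h hi hu, cartan_eq_sum h hi hs, Finset.mul_sum, Finset.mul_sum,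
    ← Finset.sum_add_distrib]
  refine Finset.sum_congr rfl fun j hj => ?_
  rw [e j (Finset.mem_range.mp hj)]; ring

/-! ### chains -/

theorem rows_sound (n O : ℕ) : ∀ (rows : List (Array (ℕ × Array (ℕ × ℤ)))) (r : ℕ),
    chkRows D n O rows r = true → r + rows.length = n ∧ ∀ (k : ℕ) (hk : k < rows.length),
      chkRow D n O (code D (r + k)) (rows[k]).toList 0 = true := by
  intro rows
  induction rows with
  | nil => intro r h; simp only [chkRows, beq_iff] at h; simp [h]
  | cons a t ih =>
    intro r h
    simp only [chkRows, Bool.and_eq_true] at h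
    obtain ⟨h1, h2⟩ := ih (r + 1) h.2
    refine ⟨by simp only [List.length_cons]; omega, ?_⟩
    intro k hk
    cases k with
    | zero => exact h.1
    | succ k =>
      have := h2 k (by simpa using hk)
      rw [show r + (k + 1) = r + 1 + k by ring]
      exact this

theorem row_sound (n O cr : ℕ) : ∀ (row : List (ℕ × Array (ℕ × ℤ))) (lb : ℕ), chkRow D n O cr row lb = true →
    (∀ e ∈ row, lb ≤ e.1 ∧ e.1 < n ∧ chkEnt D n O cr (code D e.1) e.2.toList 1 = true) ∧
    (row.map Prod.fst).Pairwise (· < ·) := by
  intro row
  induction row with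
  | nil => intro lb _; simp
  | cons a t ih =>
    intro lb h
    simp only [chkRow, Bool.and_eq_true, blt_iff, ble_iff] at h
    obtain ⟨⟨⟨ha, hb⟩, hc⟩, hd⟩ := h
    obtain ⟨h1, h2⟩ := ih _ hd
    constructor
    · intro e he
      rcases List.mem_cons.mp he with rfl | he
      · exact ⟨ha, hb, hc⟩
      · obtain ⟨h3, h4⟩ := h1 e he
        exact ⟨by omega, h4⟩
    · rw [List.map_cons, List.pairwise_cons]
      refine ⟨?_, h2⟩
      intro b hb'
      obtain ⟨e, he, rfl⟩ := List.mem_map.mp hb'
      have := (h1 e he).1
      omega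

theorem ent_sound (n O cr cs : ℕ) : ∀ (l : List (ℕ × ℤ)) (k : ℕ), chkEnt D n O cr cs l k = true →
    ∀ (j : ℕ) (hj : j < l.length),
      (k + j ≤ 3 ∧ l[j].1 < n) ∧ code D l[j].1 + (k + j) * O = cs + (k + j) * cr := by
  intro l
  induction l with
  | nil => intro k _ j hj; simp at hj
  | cons a t ih =>
    intro k h j hj
    simp only [chkEnt, Bool.and_eq_true, blt_iff, ble_iff, beq_iff] at h
    cases j with
    | zero => exact h.1
    | succ j =>
      have := ih (k + 1) h.2 j (by simpa using hj)
      rw [show k + (j + 1) = k + 1 + j by ring]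
      exact this

/-- The row of the chain table. -/
def row (D : ChevalleyDatum) (r : ℕ) : List (ℕ × Array (ℕ × ℤ)) := (D.chain.getD r #[]).toList

theorem row_def (D : ChevalleyDatum) (r : ℕ) : row D r = (D.chain.getD r #[]).toList := rfl

theorem chain_size (h : Checked D) : D.chain.toList.length = D.nroots := by
  have := (rows_sound _ _ _ _ h.chkChain).1
  rwa [zero_add] at this

theorem row_of_le (h : Checked D) {r : ℕ} (hr : D.nroots ≤ r) : row D r = [] := by
  rw [row_def, Array.getD_eq_getD_getElem?, Array.getElem?_eq_none]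
  · simp
  · have := chain_size h; rw [Array.length_toList] at this; omega

theorem row_chk (h : Checked D) {r : ℕ} (hr : r < D.nroots) :
    chkRow D D.nroots (offs D) (code D r) (row D r) 0 = true := by
  have h1 := (rows_sound _ _ _ _ h.chkChain).2
  have hr' : r < D.chain.toList.length := by rw [chain_size h]; exact hr
  have h2 := h1 r hr'
  rw [zero_add, ← getD_toList D.chain #[] hr'] at h2
  exact h2

theorem row_pairwise (h : Checked D) (r : ℕ) : ((row D r).map Prod.fst).Pairwise (· < ·) := by
  by_cases hr : r < D.nroots
  · exact (row_sound _ _ _ _ _ (row_chk h hr)).2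
  · rw [row_of_le h (by omega)]; simp

theorem lt_of_mem_row (h : Checked D) {r : ℕ} {e : ℕ × Array (ℕ × ℤ)} (he : e ∈ row D r) :
    r < D.nroots := by
  by_contra hr
  rw [row_of_le h (by omega)] at he
  simp at he

theorem key_lt (h : Checked D) {r : ℕ} {e : ℕ × Array (ℕ × ℤ)} (he : e ∈ row D r) : e.1 < D.nroots :=
  ((row_sound _ _ _ _ _ (row_chk h (lt_of_mem_row h he))).1 e he).2.1

theorem row_key_inj (h : Checked D) {r : ℕ} {e e' : ℕ × Array (ℕ × ℤ)} (he : e ∈ row D r)
    (he' : e' ∈ row D r) (hk : e.1 = e'.1) : e = e' := by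
  have hn : ((row D r).map Prod.fst).Nodup := (row_pairwise h r).imp (fun h => ne_of_lt h)
  exact List.inj_on_of_nodup_map hn he he' hk

theorem dig_comb (h : Checked D) {u s r k : ℕ} (hu : u < D.nroots) (hs : s < D.nroots) (hr : r < D.nroots)
    (hk : k ≤ 3) (e : code D u + k * offs D = code D s + k * code D r) (i : ℕ) :
    rt D u i = rt D s i + k * rt D r i := by
  by_cases hi : i < D.rank
  · have d1 := dig_add_mul k (D.rank - 1 - i) (code D u) (offs D) (by
      intro j hj
      have := dig_lt h (j := j) hu (by omega)
      have := dig_offs h (j := j) (by omega)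
      rw [this]
      omega)
    have d2 := dig_add_mul k (D.rank - 1 - i) (code D s) (code D r) (by
      intro j hj
      have := dig_lt h (j := j) hs (by omega)
      have := dig_lt h (j := j) hr (by omega)
      have : k * dig (code D r) j ≤ 3 * 15 := Nat.mul_le_mul hk (by omega)
      omega)
    rw [e, d2, dig_offs h (by omega)] at d1
    rw [rt_of_lt hu hi, rt_of_lt hr hi, rt_of_lt hs hi]
    have d3 : (dig (code D s) (D.rank - 1 - i) : ℤ) + k * (dig (code D r) (D.rank - 1 - i) : ℤ) =
      (dig (code D u) (D.rank - 1 - i) : ℤ) + k * 8 := by exact_mod_cast d1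
    linarith
  · simp only [rt_of_rank_le (le_of_not_gt hi)]; ring

/-- Coefficient vector of the `k`-th entry of the chain through `e.1`. -/
theorem row_entry (h : Checked D) {r k : ℕ} {e : ℕ × Array (ℕ × ℤ)} {q : ℕ × ℤ} (he : e ∈ row D r)
    (hq : e.2.toList[k]? = some q) :
    q.1 < D.nroots ∧ ∀ i, rt D q.1 i = rt D e.1 i + ((k + 1 : ℕ) : ℤ) * rt D r i := by
  have hr := lt_of_mem_row h he
  obtain ⟨h1, _⟩ := row_sound _ _ _ _ _ (row_chk h hr)
  obtain ⟨_, h3, h4⟩ := h1 e he
  obtain ⟨hk, rfl⟩ := List.getElem?_eq_some_iff.mp hq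
  obtain ⟨⟨h7, h5⟩, h6⟩ := ent_sound _ _ _ _ _ _ h4 k hk
  refine ⟨h5, fun i => ?_⟩
  apply dig_comb h h5 h3 hr
  · omega
  · rw [add_comm k 1]; exact h6

theorem chainEntry_eq_some (r s : ℕ) (hne : D.chainEntry r s ≠ []) :
    ∃ e ∈ row D r, e.1 = s ∧ D.chainEntry r s = e.2.toList := by
  have hdef : D.chainEntry r s = match (row D r).find? (fun e => e.1 = s) with
    | none => []
    | some e => e.2.toList := rfl
  rw [hdef] at hne ⊢
  rcases hf : (row D r).find? (fun e => e.1 = s) with _ | e
  · rw [hf] at hne; exact (hne rfl).elim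
  · refine ⟨e, List.mem_of_find?_eq_some hf, ?_, ?_⟩
    · simpa using List.find?_some hf
    · rw [hf]

theorem chainEntry_of_mem (h : Checked D) {r : ℕ} {e : ℕ × Array (ℕ × ℤ)} (he : e ∈ row D r) :
    D.chainEntry r e.1 = e.2.toList := by
  have hdef : D.chainEntry r e.1 = match (row D r).find? (fun e' => e'.1 = e.1) with
    | none => []
    | some e => e.2.toList := rfl
  rw [hdef]
  rcases hf : (row D r).find? (fun e' => e'.1 = e.1) with _ | e'
  · rw [List.find?_eq_none] at hf
    exact absurd (decide_eq_true (rfl : e.1 = e.1)) (hf e he)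
  · have h1 : e'.1 = e.1 := by simpa using List.find?_some hf
    rw [hf]
    have h2 := row_key_inj h (List.mem_of_find?_eq_some hf) he h1
    subst h2
    rfl

theorem chainEntry_get (h : Checked D) {r s k : ℕ} {q : ℕ × ℤ} (hq : (D.chainEntry r s)[k]? = some q) :
    q.1 < D.nroots ∧ r < D.nroots ∧ s < D.nroots ∧
      ∀ i, rt D q.1 i = rt D s i + ((k + 1 : ℕ) : ℤ) * rt D r i := by
  obtain ⟨e, he, rfl, h1⟩ := chainEntry_eq_some (D := D) r s (by
    intro h0; rw [h0] at hq; simp at hq)
  rw [h1] at hq
  obtain ⟨h2, h3⟩ := row_entry h he hq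
  exact ⟨h2, lt_of_mem_row h he, key_lt h he, h3⟩

theorem chainRoot_rt (h : Checked D) {r s k u : ℕ} (hk : 1 ≤ k) (hu : D.chainRoot r s k = some u) :
    u < D.nroots ∧ r < D.nroots ∧ s < D.nroots ∧ ∀ i, rt D u i = rt D s i + (k : ℤ) * rt D r i := by
  have hdef : D.chainRoot r s k = ((D.chainEntry r s)[k - 1]?).map Prod.fst := rfl
  rw [hdef, Option.map_eq_some_iff] at hu
  obtain ⟨q, hq, rfl⟩ := hu
  have := chainEntry_get h hq
  rwa [show k - 1 + 1 = k by omega] at this

/-- Terms of the commutator formula have root `i r + j s`. -/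
theorem commTerms_rt (h : Checked D) {r s u i j : ℕ} {C : ℤ} (hu : (u, C, i, j) ∈ D.commTerms r s) :
    u < D.nroots ∧ r < D.nroots ∧ s < D.nroots ∧ 1 ≤ i ∧ 1 ≤ j ∧
      ∀ a, rt D u a = (i : ℤ) * rt D r a + (j : ℤ) * rt D s a := by
  have hdef : D.commTerms r s = ([ (D.chainRoot r s 1, D.chainM r s 1, 1, 1),
      (D.chainRoot r s 2, D.chainM r s 2, 2, 1),
      (D.chainRoot s r 2, D.chainM s r 2, 1, 2),
      (D.chainRoot r s 3, D.chainM r s 3, 3, 1),
      (D.chainRoot s r 3, - D.chainM s r 3, 1, 3),
      ((D.chainRoot r s 3).bind fun k => D.chainRoot k s 1, ((D.chainRoot r s 1).map fun k => D.chainM k r 2 / 3).getD 0, 3, 2),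
      ((D.chainRoot s r 3).bind fun k => D.chainRoot k r 1, ((D.chainRoot r s 1).map fun k => -2 * D.chainM k s 2 / 3).getD 0, 2, 3) ] :
      List (Option ℕ × ℤ × ℕ × ℕ)).filterMap fun c => c.1.map fun k => (k, c.2) := rfl
  rw [hdef, List.mem_filterMap] at hu
  obtain ⟨c, hc, he⟩ := hu
  rw [Option.map_eq_some_iff] at he
  obtain ⟨k, hk, he⟩ := he
  obtain ⟨rfl, hc2⟩ := Prod.mk.inj he
  simp only [List.mem_cons, List.mem_nil_iff, or_false] at hc
  rcases hc with rfl | rfl | rfl | rfl | rfl | rfl | rfl <;> simp only [Prod.mk.injEq] at hc2 <;>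
    obtain ⟨_, rfl, rfl⟩ := hc2
  · obtain ⟨h1, h2, h3, h4⟩ := chainRoot_rt h (by norm_num) hk
    exact ⟨h1, h2, h3, by norm_num, by norm_num, fun a => by rw [h4]; push_cast; ring⟩
  · obtain ⟨h1, h2, h3, h4⟩ := chainRoot_rt h (by norm_num) hk
    exact ⟨h1, h2, h3, by norm_num, by norm_num, fun a => by rw [h4]; push_cast; ring⟩
  · obtain ⟨h1, h2, h3, h4⟩ := chainRoot_rt h (by norm_num) hk
    exact ⟨h1, h3, h2, by norm_num, by norm_num, fun a => by rw [h4]; push_cast; ring⟩
  · obtain ⟨h1, h2, h3, h4⟩ := chainRoot_rt h (by norm_num) hk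
    exact ⟨h1, h2, h3, by norm_num, by norm_num, fun a => by rw [h4]; push_cast; ring⟩
  · obtain ⟨h1, h2, h3, h4⟩ := chainRoot_rt h (by norm_num) hk
    exact ⟨h1, h3, h2, by norm_num, by norm_num, fun a => by rw [h4]; push_cast; ring⟩
  · simp only [Option.bind_eq_some_iff] at hk
    obtain ⟨v, hv, hk⟩ := hk
    obtain ⟨h1, h2, h3, h4⟩ := chainRoot_rt h (by norm_num) hv
    obtain ⟨h5, h6, h7, h8⟩ := chainRoot_rt h (by norm_num) hk
    exact ⟨h5, h2, h3, by norm_num, by norm_num, fun a => by rw [h8, h4]; push_cast; ring⟩
  · simp only [Option.bind_eq_some_iff] at hk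
    obtain ⟨v, hv, hk⟩ := hk
    obtain ⟨h1, h2, h3, h4⟩ := chainRoot_rt h (by norm_num) hv
    obtain ⟨h5, h6, h7, h8⟩ := chainRoot_rt h (by norm_num) hk
    exact ⟨h5, h3, h2, by norm_num, by norm_num, fun a => by rw [h8, h4]; push_cast; ring⟩

/-! ### reflections -/

theorem merge_sound (f : ℕ → ℕ) : ∀ (fuel s : ℕ) (rw' : List (ℕ × Array (ℕ × ℤ))), chkMerge f fuel s rw' = true →
    ∀ s', s ≤ s' → s' < s + fuel → f s' = 0 ∨ ∃ e ∈ rw', e.1 = s' ∧ f s' ≤ e.2.toList.length := by
  intro fuel
  induction fuel with
  | zero => intro s l _ s' h1 h2; omega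
  | succ fuel ih =>
    intro s l h s' h1 h2
    cases l with
    | nil =>
      simp only [chkMerge, Bool.and_eq_true, beq_iff] at h
      rcases Nat.eq_or_lt_of_le h1 with rfl | h3
      · exact Or.inl h.1
      · exact ih (s + 1) [] h.2 s' h3 (by omega)
    | cons e t =>
      simp only [chkMerge] at h
      cases hb : Nat.beq e.1 s with
      | true =>
        rw [hb, cond_true, Bool.and_eq_true, ble_iff] at h
        rcases Nat.eq_or_lt_of_le h1 with rfl | h3
        · exact Or.inr ⟨e, List.mem_cons_self, beq_iff.mp hb, h.1⟩
        · rcases ih (s + 1) t h.2 s' h3 (by omega) with h4 | ⟨e', he', h5⟩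
          · exact Or.inl h4
          · exact Or.inr ⟨e', List.mem_cons_of_mem _ he', h5⟩
      | false =>
        rw [hb, cond_false, Bool.and_eq_true, beq_iff] at h
        rcases Nat.eq_or_lt_of_le h1 with rfl | h3
        · exact Or.inl h.1
        · exact ih (s + 1) (e :: t) h.2 s' h3 (by omega)

theorem bne_cond {s p q m : ℕ} (hp : s ≠ p) (hq : s ≠ q) :
    (bif (Nat.beq s p || Nat.beq s q) then 0 else m) = m := by
  have h1 : Nat.beq s p = false := by
    rw [← Bool.not_eq_true, beq_iff]; exact hp
  have h2 : Nat.beq s q = false := by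
    rw [← Bool.not_eq_true, beq_iff]; exact hq
  rw [h1, h2]; rfl

theorem chainRoot_isSome (h : Checked D) {r k : ℕ} {e : ℕ × Array (ℕ × ℤ)} (he : e ∈ row D r) (hk : 1 ≤ k)
    (hk' : k ≤ e.2.toList.length) : ∃ u, D.chainRoot r e.1 k = some u := by
  have hdef : D.chainRoot r e.1 k = ((D.chainEntry r e.1)[k - 1]?).map Prod.fst := rfl
  rw [hdef, chainEntry_of_mem h he, List.getElem?_eq_getElem (by omega)]
  exact ⟨_, rfl⟩

theorem refl_pos (h : Checked D) {i s : ℕ} (hi : i < D.rank) (hs : s < D.nroots) (h1 : s ≠ D.simple i)
    (h2 : s ≠ D.neg (D.simple i)) (hA : 0 < D.cartan i s) :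
    ∃ u, D.chainRoot (D.neg (D.simple i)) s (D.cartan i s).toNat = some u := by
  have h3 := h.chkRefl
  simp only [chkRefl, allLT_iff, Bool.and_eq_true] at h3
  have h4 := merge_sound _ _ _ _ (h3 i hi).2 s (Nat.zero_le _) (by omega)
  simp only [bne_cond h1 h2] at h4
  have hA' := cartan_eq_cart h hi hs
  rcases h4 with h4 | ⟨e, he, rfl, h5⟩
  · have : Nat.sub (cart D i s) 8 = cart D i s - 8 := rfl
    omega
  · have : Nat.sub (cart D i e.1) 8 = cart D i e.1 - 8 := rfl
    exact chainRoot_isSome h he (by omega) (by omega)

theorem refl_neg (h : Checked D) {i s : ℕ} (hi : i < D.rank) (hs : s < D.nroots) (h1 : s ≠ D.simple i)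
    (h2 : s ≠ D.neg (D.simple i)) (hA : D.cartan i s < 0) :
    ∃ u, D.chainRoot (D.simple i) s (-D.cartan i s).toNat = some u := by
  have h3 := h.chkRefl
  simp only [chkRefl, allLT_iff, Bool.and_eq_true] at h3
  have h4 := merge_sound _ _ _ _ (h3 i hi).1 s (Nat.zero_le _) (by omega)
  simp only [bne_cond h1 h2] at h4
  have hA' := cartan_eq_cart h hi hs
  rcases h4 with h4 | ⟨e, he, rfl, h5⟩
  · have : Nat.sub 8 (cart D i s) = 8 - cart D i s := rfl
    omega
  · have : Nat.sub 8 (cart D i e.1) = 8 - cart D i e.1 := rfl
    exact chainRoot_isSome h he (by omega) (by omega)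

/-- The reflected root: `w_p(s) = s - A_{p,s} p`. -/
theorem reflectRoot_rt (h : Checked D) {i s : ℕ} (hi : i < D.rank) (hs : s < D.nroots) :
    D.reflectRoot i s < D.nroots ∧
      ∀ j, rt D (D.reflectRoot i s) j = rt D s j - D.cartan i s * (if j = i then 1 else 0) := by
  have hp := simple_lt h hi
  have hdef : D.reflectRoot i s = if s = D.simple i then D.neg (D.simple i)
    else if s = D.neg (D.simple i) then D.simple i
    else if 0 < D.cartan i s then (D.chainRoot (D.neg (D.simple i)) s (D.cartan i s).toNat).getD s
    else if D.cartan i s < 0 then (D.chainRoot (D.simple i) s (-D.cartan i s).toNat).getD s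
    else s := rfl
  rw [hdef]
  by_cases h1 : s = D.simple i
  · rw [if_pos h1]
    refine ⟨neg_lt h hp, fun j => ?_⟩
    rw [rt_neg h hp, h1, cartan_simple_self h hi, rt_simple h hi]
    split_ifs <;> ring
  rw [if_neg h1]
  by_cases h2 : s = D.neg (D.simple i)
  · rw [if_pos h2]
    refine ⟨hp, fun j => ?_⟩
    rw [h2, cartan_neg h hi hp, cartan_simple_self h hi, rt_neg h hp, rt_simple h hi]
    split_ifs <;> ring
  rw [if_neg h2]
  by_cases h3 : 0 < D.cartan i s
  · rw [if_pos h3]
    obtain ⟨u, hu⟩ := refl_pos h hi hs h1 h2 h3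
    obtain ⟨h4, _, _, h5⟩ := chainRoot_rt h (by omega) hu
    rw [hu]
    refine ⟨h4, fun j => ?_⟩
    show rt D u j = _
    rw [h5, rt_neg h hp, rt_simple h hi, Int.toNat_of_nonneg h3.le]
    ring
  rw [if_neg h3]
  by_cases h4 : D.cartan i s < 0
  · rw [if_pos h4]
    obtain ⟨u, hu⟩ := refl_neg h hi hs h1 h2 h4
    obtain ⟨h5, _, _, h6⟩ := chainRoot_rt h (by omega) hu
    rw [hu]
    refine ⟨h5, fun j => ?_⟩
    show rt D u j = _
    rw [h6, rt_simple h hi, Int.toNat_of_nonneg (by omega)]
    ring
  · rw [if_neg h4]
    refine ⟨hs, fun j => ?_⟩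
    have : D.cartan i s = 0 := by omega
    rw [this]; ring

/-- Descent: for a negative root there is a simple root in its support whose reflection increases it. -/
theorem exists_descent (h : Checked D) {r : ℕ} (hr : D.IsNegRoot r) :
    ∃ i < D.rank, rt D r i < 0 ∧ D.cartan i r < 0 := by
  have h1 := h.chkDescent
  simp only [chkDescent, allLT_iff, anyLT_iff, Bool.or_eq_true, Bool.and_eq_true, blt_iff] at h1
  have hr' := hr.1
  rw [isNegRoot_iff_code h hr'] at hr
  rcases h1 r hr' with h2 | ⟨i, hi, h2, h3⟩
  · omega
  · refine ⟨i, hi, ?_, ?_⟩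
    · rw [rt_of_lt hr' hi]; omega
    · rw [cartan_eq_cart h hi hr']; omega

end Cfsg.Agent.ChevalleyStructure.RootVec
end
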