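import Cfsg.Prelude.Def_ChevStructure
set_option linter.all false

-- part: ChevalleyStructure/SparseWord
section
/-!
Integer sparse-vector model of the root elements x_r(t), t an integer: columns of words in root elements are computed as
lists of (coordinate code, coefficient); code of `e_s` is `s`, code of `h_j` is `nroots + j`.
-/

set_option autoImplicit false

namespace Cfsg.Agent.ChevalleyStructure.SparseWord

open Cfsg.Lie

/-- Forces the evaluation of a natural number before it is passed on. -/
def force {α : Type*} (n : ℕ) (f : ℕ → α) : α :=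
  match n with
  | 0 => f 0
  | k + 1 => f (Nat.succ k)

theorem force_eq {α : Type*} (n : ℕ) (f : ℕ → α) : force n f = f n := by
  cases n <;> rfl

variable (D : ChevalleyDatum)

/-- The code of a coordinate. -/
def code : D.Idx → ℕ
  | Sum.inl j => D.nroots + j
  | Sum.inr s => s

theorem code_inl (j : Fin D.rank) : code D (Sum.inl j) = D.nroots + j := rfl
theorem code_inr (s : Fin D.nroots) : code D (Sum.inr s) = s := rfl

theorem code_lt (c : D.Idx) : code D c < D.nroots + D.rank := by
  rcases c with j | s
  · have := j.2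
    show D.nroots + (j : ℕ) < _
    omega
  · have := s.2
    show (s : ℕ) < _
    omega

theorem code_injective : Function.Injective (code D) := by
  intro a b h
  rcases a with i | s <;> rcases b with j | t
  · have h' : D.nroots + (i : ℕ) = D.nroots + (j : ℕ) := h
    congr 1
    exact Fin.ext (by omega)
  · have h' : D.nroots + (i : ℕ) = (t : ℕ) := h
    have := t.2
    omega
  · have h' : (s : ℕ) = D.nroots + (j : ℕ) := h
    have := s.2
    omega
  · have h' : (s : ℕ) = (t : ℕ) := h
    congr 1
    exact Fin.ext h'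

theorem exists_code {n : ℕ} (h : n < D.nroots + D.rank) : ∃ c : D.Idx, code D c = n := by
  by_cases h' : n < D.nroots
  · exact ⟨Sum.inr ⟨n, h'⟩, rfl⟩
  · exact ⟨Sum.inl ⟨n - D.nroots, by omega⟩, by show D.nroots + (n - D.nroots) = n; omega⟩

/-- The coefficient at `u` of a sparse vector. -/
def coefAt (v : List (ℕ × ℤ)) (u : ℕ) : ℤ :=
  (v.map fun q => if Nat.beq q.1 u then q.2 else 0).sum

theorem coefAt_nil (u : ℕ) : coefAt [] u = 0 := rfl

theorem coefAt_cons (q : ℕ × ℤ) (v : List (ℕ × ℤ)) (u : ℕ) :
    coefAt (q :: v) u = (if q.1 = u then q.2 else 0) + coefAt v u := by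
  unfold coefAt
  rw [List.map_cons, List.sum_cons]
  congr 1
  by_cases h : q.1 = u
  · rw [if_pos h, if_pos]
    exact (Nat.beq_eq).symm ▸ h
  · rw [if_neg h, if_neg]
    intro h'
    exact h (Nat.eq_of_beq_eq_true h')

theorem coefAt_append (v w : List (ℕ × ℤ)) (u : ℕ) : coefAt (v ++ w) u = coefAt v u + coefAt w u := by
  unfold coefAt
  rw [List.map_append, List.sum_append]

theorem coefAt_smul (a : ℤ) (v : List (ℕ × ℤ)) (u : ℕ) :
    coefAt (v.map fun p => (p.1, a * p.2)) u = a * coefAt v u := by
  induction v with
  | nil => simp [coefAt_nil]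
  | cons q v ih =>
    rw [List.map_cons, coefAt_cons, coefAt_cons, ih, mul_add]
    congr 1
    split_ifs <;> simp

theorem coefAt_neg (v : List (ℕ × ℤ)) (u : ℕ) :
    coefAt (v.map fun p => (p.1, -p.2)) u = - coefAt v u := by
  have := coefAt_smul (-1) v u
  simpa using this

/-- All entries of an association list with key `s` (written with recursors, for fast kernel evaluation). -/
noncomputable def look {α β : Type*} (s : ℕ) (f : α → List β) (l : List (ℕ × α)) : List β :=
  List.rec (motive := fun _ => List β) [] (fun e _ ih => Bool.rec (motive := fun _ => List β) ih (f e.2 ++ ih)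
    (Nat.beq e.1 s)) l

/-- Entries of `x_r(t) e_s`, `s ≠ ±r`, other than `e_s` itself. -/
noncomputable def ent (r s : ℕ) (t : ℤ) : List (ℕ × ℤ) :=
  look s (fun a => (a.toList.zipIdx.filter fun q => Nat.blt q.1.1 D.nroots).map
    fun q => (q.1.1, q.1.2 * t ^ (q.2 + 1))) (D.chain.getD r #[]).toList

/-- The column with code `c` of `x_r(t)`. -/
noncomputable def xcol (r : ℕ) (t : ℤ) (c : ℕ) : List (ℕ × ℤ) :=
  if D.nroots ≤ c then
    (if D.nroots + D.rank ≤ c then []
      else [(c, 1), (r, -(D.cartan (c - D.nroots) r) * t)])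
  else if Nat.beq c r then [(c, 1)]
  else if Nat.beq c (D.neg r) then
    (c, 1) :: (r, -t ^ 2) ::
      (List.range D.rank).map fun j => (D.nroots + j, ((D.coroot.getD r #[]).getD j 0) * t)
  else (c, 1) :: ent D r c t

/-- The action of `x_r(t)` on sparse vectors. -/
noncomputable def app (r : ℕ) (t : ℤ) (v : List (ℕ × ℤ)) : List (ℕ × ℤ) :=
  v.flatMap fun q => force q.1 fun c => (xcol D r t c).map fun p => (p.1, q.2 * p.2)

theorem coefAt_flatMap_map {α : Type*} (l : List α) (f : α → List (ℕ × ℤ)) (u : ℕ) :
    coefAt (l.flatMap f) u = (l.map fun a => coefAt (f a) u).sum := by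
  induction l with
  | nil => rfl
  | cons a l ih => rw [List.flatMap_cons, coefAt_append, ih, List.map_cons, List.sum_cons]

theorem beq_eq_decide (a b : ℕ) : Nat.beq a b = decide (a = b) := by
  by_cases h : a = b
  · subst h; simp
  · simp only [h, decide_false]
    cases h' : Nat.beq a b
    · rfl
    · exact absurd (Nat.eq_of_beq_eq_true h') h

theorem look_eq {α β : Type*} (s : ℕ) (f : α → List β) (l : List (ℕ × α)) :
    look s f l = (l.filter fun e => decide (e.1 = s)).flatMap fun e => f e.2 := by
  induction l with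
  | nil => rfl
  | cons e l ih =>
    have h1 : look s f (e :: l) = Bool.rec (motive := fun _ => List β) (look s f l) (f e.2 ++ look s f l)
      (Nat.beq e.1 s) := rfl
    rw [h1, ih, beq_eq_decide, List.filter_cons]
    by_cases h : e.1 = s
    · simp only [h, decide_true, if_true, List.flatMap_cons]
    · simp only [h, decide_false]
      rfl

theorem ent_eq (r s : ℕ) (t : ℤ) : ent D r s t =
    ((D.chain.getD r #[]).toList.filter (fun e => decide (e.1 = s))).flatMap fun e =>
      (e.2.toList.zipIdx.filter fun q => Nat.blt q.1.1 D.nroots).map fun q => (q.1.1, q.1.2 * t ^ (q.2 + 1)) := by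
  unfold ent
  rw [look_eq]

theorem blt_eq_decide (a b : ℕ) : Nat.blt a b = decide (a < b) := by
  by_cases h : a < b
  · simp [h, Nat.blt]
  · simp only [h, decide_false]
    cases h' : Nat.blt a b
    · rfl
    · exact absurd (Nat.le_of_ble_eq_true h') h

theorem coefAt_ent_ge (r s u : ℕ) (t : ℤ) (hu : D.nroots ≤ u) : coefAt (ent D r s t) u = 0 := by
  rw [ent_eq]
  simp only [blt_eq_decide]
  induction ((D.chain.getD r #[]).toList.filter (fun e => decide (e.1 = s))) with
  | nil => simp [coefAt_nil]
  | cons e l ih =>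
    rw [List.flatMap_cons, coefAt_append, ih, add_zero]
    clear ih
    generalize e.2.toList.zipIdx = m
    induction m with
    | nil => simp [coefAt_nil]
    | cons q m ihm =>
      rw [List.filter_cons]
      by_cases hq : q.1.1 < D.nroots
      · simp only [hq, decide_true, if_true]
        rw [List.map_cons, coefAt_cons, ihm, if_neg (by simp only; omega), zero_add]
      · simp only [hq, decide_false]
        exact ihm

theorem coefAt_ent (F : Type*) [Field F] (r s u : ℕ) (t : ℤ) (hu : u < D.nroots) :
    ((coefAt (ent D r s t) u : ℤ) : F) =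
      ((D.chainCoeff r s u).map fun km => ((km.2 : ℤ) : F) * (t : F) ^ km.1).sum := by
  rw [ent_eq]
  unfold ChevalleyDatum.chainCoeff
  simp only [blt_eq_decide]
  induction ((D.chain.getD r #[]).toList.filter (fun e => decide (e.1 = s))) with
  | nil => simp [coefAt_nil]
  | cons e l ih =>
    rw [List.flatMap_cons, List.flatMap_cons, coefAt_append, List.map_append, List.sum_append, ← ih,
      Int.cast_add]
    congr 1
    clear ih
    generalize e.2.toList.zipIdx = m
    induction m with
    | nil => simp [coefAt_nil]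
    | cons q m ihm =>
      rw [List.filter_cons, List.filter_cons]
      by_cases hq : q.1.1 < D.nroots
      · simp only [hq, decide_true, if_true]
        rw [List.map_cons, coefAt_cons, Int.cast_add, ihm]
        by_cases hq : q.1.1 = u
        · simp [hq]
        · simp [hq]
      · have hq' : ¬ q.1.1 = u := by omega
        simp only [hq, hq', decide_false]
        exact ihm

theorem sum_range_coef (n k u : ℕ) (f : ℕ → ℤ) :
    coefAt ((List.range k).map fun j => (n + j, f j)) u = if n ≤ u ∧ u < n + k then f (u - n) else 0 := by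
  induction k with
  | zero =>
    rw [if_neg (by omega)]
    rfl
  | succ k ih =>
    rw [List.range_succ, List.map_append, coefAt_append, ih, List.map_singleton, coefAt_cons, coefAt_nil,
      add_zero]
    by_cases h : n + k = u
    · subst h
      rw [if_pos rfl, if_neg (by omega), if_pos (by omega), zero_add]
      have e : n + k - n = k := by omega
      rw [e]
    · simp only [h, if_false, add_zero]
      by_cases h2 : n ≤ u ∧ u < n + k
      · rw [if_pos h2, if_pos (by omega)]
      · rw [if_neg h2, if_neg (by omega)]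

/-- The column formula for `x_r(t)`, `t` an integer. -/
theorem x_apply (F : Type*) [Field F] (r : ℕ) (hr : r < D.nroots) (t : ℤ) (row col : D.Idx) :
    D.x F r (t : F) row col = ((coefAt (xcol D r t (code D col)) (code D row) : ℤ) : F) := by
  unfold ChevalleyDatum.x
  rw [dif_pos hr]
  unfold ChevalleyDatum.xMat
  rw [Matrix.of_apply]
  unfold xcol
  simp only [beq_eq_decide, decide_eq_true_eq]
  rcases col with j | s
  · have hj := j.2
    rw [code_inl, if_pos (by omega), if_neg (by omega)]
    rcases row with i | u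
    · have hi := i.2
      rw [code_inl, coefAt_cons, coefAt_cons, coefAt_nil]
      by_cases h : i = j
      · subst h
        simp only [if_true]
        rw [if_neg (by omega)]
        simp
      · have h' : (i : ℕ) ≠ j := fun e => h (Fin.ext e)
        simp only [h, if_false]
        rw [if_neg (by omega), if_neg (by omega)]
        simp
    · have hu := u.2
      rw [code_inr, coefAt_cons, coefAt_cons, coefAt_nil]
      have e : D.nroots + (j : ℕ) - D.nroots = j := by omega
      have e2 : ¬ (D.nroots + (j : ℕ) = (u : ℕ)) := by omega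
      simp only [e, e2, if_false]
      by_cases h : u = ⟨r, hr⟩
      · subst h
        simp [ChevalleyDatum.cartan]
      · have h' : ¬ r = (u : ℕ) := fun e => h (Fin.ext e.symm)
        simp only [h, h', if_false]
        simp
  · have hs := s.2
    rw [code_inr, if_neg (by omega)]
    by_cases h1 : s = ⟨r, hr⟩
    · have h1' : (s : ℕ) = r := by rw [h1]
      rw [if_pos h1', coefAt_cons, coefAt_nil]
      simp only [h1, if_true]
      rcases row with i | u
      · rw [code_inl]
        simp only
        rw [if_neg (by omega)]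
        simp
      · rw [code_inr]
        simp only
        by_cases hu : u = ⟨r, hr⟩
        · simp [hu]
        · have hu' : ¬ r = (u : ℕ) := fun e => hu (Fin.ext e.symm)
          simp [hu, hu']
    · have h1' : ¬ (s : ℕ) = r := fun e => h1 (Fin.ext e)
      simp only [h1, h1', if_false]
      by_cases h2 : (s : ℕ) = D.negIdx.getD r 0
      · have h2' : (s : ℕ) = D.neg r := h2
        rw [if_pos h2, if_pos h2', coefAt_cons, coefAt_cons, sum_range_coef]
        rcases row with i | u
        · have hi := i.2
          rw [code_inl]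
          simp only
          rw [if_neg (by omega), if_neg (by omega), if_pos (by omega)]
          have e : D.nroots + (i : ℕ) - D.nroots = i := by omega
          rw [e]
          simp
        · have hu := u.2
          rw [code_inr]
          simp only
          rw [if_neg (c := D.nroots ≤ (u : ℕ) ∧ (u : ℕ) < D.nroots + D.rank) (by omega)]
          by_cases h3 : u = s
          · have h3' : ¬ (r = (u : ℕ)) := by rw [h3]; omega
            rw [if_pos h3, if_pos (by rw [h3]), if_neg h3']
            simp
          · have h3' : ¬ ((s : ℕ) = (u : ℕ)) := fun e => h3 (Fin.ext e.symm)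
            rw [if_neg h3, if_neg h3']
            by_cases h4 : u = ⟨r, hr⟩
            · simp [h4]
            · have h4' : ¬ (r = (u : ℕ)) := fun e => h4 (Fin.ext e.symm)
              rw [if_neg h4, if_neg h4']
              simp
      · have h2' : ¬ (s : ℕ) = D.neg r := h2
        rw [if_neg h2, if_neg h2', coefAt_cons]
        rcases row with i | u
        · have hi := i.2
          rw [code_inl]
          simp only
          rw [if_neg (by omega), zero_add, coefAt_ent_ge _ _ _ _ _ (by omega)]
          simp
        · rw [code_inr, Int.cast_add, coefAt_ent _ _ _ _ _ _ u.2]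
          by_cases h3 : u = s
          · simp [h3]
          · have h3' : ¬ ((s : ℕ) = (u : ℕ)) := fun e => h3 (Fin.ext e.symm)
            simp [h3, h3']

theorem coefAt_app (r : ℕ) (t : ℤ) (v : List (ℕ × ℤ)) (u : ℕ) :
    coefAt (app D r t v) u = (v.map fun q => q.2 * coefAt (xcol D r t q.1) u).sum := by
  unfold app
  rw [coefAt_flatMap_map]
  congr 1
  apply List.map_congr_left
  intro q _
  rw [force_eq, coefAt_smul]

theorem xcol_of_ge (r : ℕ) (t : ℤ) (c : ℕ) (h : D.nroots + D.rank ≤ c) : xcol D r t c = [] := by
  unfold xcol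
  rw [if_pos (by omega), if_pos h]

theorem sum_xcol_mul (r : ℕ) (t : ℤ) (v : List (ℕ × ℤ)) (u : ℕ) :
    ∑ k : D.Idx, coefAt (xcol D r t (code D k)) u * coefAt v (code D k) = coefAt (app D r t v) u := by
  rw [coefAt_app]
  induction v with
  | nil => simp [coefAt_nil]
  | cons q v ih =>
    rw [List.map_cons, List.sum_cons, ← ih]
    simp only [coefAt_cons, mul_add, Finset.sum_add_distrib]
    congr 1
    by_cases h : q.1 < D.nroots + D.rank
    · obtain ⟨c, hc⟩ := exists_code D h
      rw [Finset.sum_eq_single c]
      · rw [if_pos hc.symm, hc, mul_comm]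
      · intro b _ hb
        rw [if_neg, mul_zero]
        intro e
        exact hb (code_injective D (e.symm.trans hc.symm))
      · intro h'
        exact absurd (Finset.mem_univ _) h'
    · rw [xcol_of_ge D r t q.1 (by omega), coefAt_nil, mul_zero]
      apply Finset.sum_eq_zero
      intro k _
      rw [if_neg, mul_zero]
      intro e
      have := code_lt D k
      omega

theorem x_mul_apply (F : Type*) [Field F] (r : ℕ) (hr : r < D.nroots) (t : ℤ) (B : Matrix D.Idx D.Idx F)
    (v : List (ℕ × ℤ)) (col : D.Idx) (hv : ∀ k, B k col = ((coefAt v (code D k) : ℤ) : F)) (row : D.Idx) :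
    (D.x F r (t : F) * B) row col = ((coefAt (app D r t v) (code D row) : ℤ) : F) := by
  rw [Matrix.mul_apply, ← sum_xcol_mul]
  push_cast
  apply Finset.sum_congr rfl
  intro k _
  rw [hv, x_apply D F r hr]

/-- The column with code `c` of a word with integer parameters. -/
noncomputable def wcol : List (ℕ × ℤ) → ℕ → List (ℕ × ℤ)
  | [], c => [(c, 1)]
  | p :: w, c => app D p.1 p.2 (wcol w c)

theorem wcol_nil (c : ℕ) : wcol D [] c = [(c, 1)] := rfl
theorem wcol_cons (p : ℕ × ℤ) (w : List (ℕ × ℤ)) (c : ℕ) : wcol D (p :: w) c = app D p.1 p.2 (wcol D w c) := rfl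

theorem wordMat_apply (F : Type*) [Field F] (w : List (ℕ × ℤ)) (hw : ∀ p ∈ w, p.1 < D.nroots) (row col : D.Idx) :
    D.wordMat F (w.map fun p => (p.1, (p.2 : F))) row col =
      ((coefAt (wcol D w (code D col)) (code D row) : ℤ) : F) := by
  induction w generalizing row with
  | nil =>
    rw [wcol_nil, coefAt_cons, coefAt_nil, add_zero]
    show (1 : Matrix D.Idx D.Idx F) row col = _
    rw [Matrix.one_apply]
    by_cases h : row = col
    · rw [if_pos h, if_pos (by rw [h])]
      simp
    · rw [if_neg h, if_neg (fun e => h (code_injective D e.symm))]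
      simp
  | cons p w ih =>
    rw [wcol_cons]
    have e : D.wordMat F ((p :: w).map fun p => (p.1, (p.2 : F))) =
        D.x F p.1 (p.2 : F) * D.wordMat F (w.map fun p => (p.1, (p.2 : F))) := by
      unfold ChevalleyDatum.wordMat
      rw [List.map_cons, List.map_cons, List.prod_cons]
    rw [e]
    exact x_mul_apply D F p.1 (hw p (List.mem_cons_self ..)) p.2 _ _ col
      (fun k => ih (fun q hq => hw q (List.mem_cons_of_mem _ hq)) k) row

/-- Checks that a sparse vector is zero. -/
def isZero (v : List (ℕ × ℤ)) : Bool :=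
  v.all fun q => force q.1 fun u => decide (coefAt v u = 0)

theorem coefAt_of_not_mem (v : List (ℕ × ℤ)) (u : ℕ) (h : ∀ q ∈ v, q.1 ≠ u) : coefAt v u = 0 := by
  induction v with
  | nil => rfl
  | cons q v ih =>
    rw [coefAt_cons, if_neg (h q (List.mem_cons_self ..)),
      ih fun q' hq' => h q' (List.mem_cons_of_mem _ hq'), zero_add]

theorem coefAt_of_isZero (v : List (ℕ × ℤ)) (h : isZero v = true) (u : ℕ) : coefAt v u = 0 := by
  unfold isZero at h
  rw [List.all_eq_true] at h
  by_cases h' : ∃ q ∈ v, q.1 = u
  · obtain ⟨q, hq, rfl⟩ := h'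
    have := h q hq
    rw [force_eq] at this
    exact of_decide_eq_true this
  · push Not at h'
    exact coefAt_of_not_mem v u h'

/-- Checks that two sparse vectors represent the same vector. -/
def sameVec (v w : List (ℕ × ℤ)) : Bool := isZero (v ++ w.map fun q => (q.1, -q.2))

theorem coefAt_of_sameVec (v w : List (ℕ × ℤ)) (h : sameVec v w = true) (u : ℕ) : coefAt v u = coefAt w u := by
  have := coefAt_of_isZero _ h u
  rw [coefAt_append, coefAt_neg] at this
  omega

end Cfsg.Agent.ChevalleyStructure.SparseWord
end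

-- part: ChevalleyStructure/NSimple
section
/-!
The matrix of `n_p(1)`, `p` a fundamental root, from a kernel check of its columns over the integers.
-/

set_option autoImplicit false

namespace Cfsg.Agent.ChevalleyStructure.NSimple

open Cfsg.Lie Cfsg.Agent.ChevalleyStructure.SparseWord

/-! ### Packed lists -/

/-- A list of numbers below `2 ^ b` packed into one number. -/
noncomputable def pack (b : ℕ) (l : List ℕ) : ℕ :=
  List.rec (motive := fun _ => ℕ) 0 (fun a _ ih => Nat.add a (Nat.mul (Nat.pow 2 b) ih)) l

/-- Reading a packed list. -/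
def unpack (b T s : ℕ) : ℕ := Nat.mod (Nat.shiftRight T (Nat.mul b s)) (Nat.pow 2 b)

theorem pack_nil (b : ℕ) : pack b [] = 0 := rfl
theorem pack_cons (b a : ℕ) (l : List ℕ) : pack b (a :: l) = a + 2 ^ b * pack b l := rfl

theorem unpack_pack (b : ℕ) (l : List ℕ) (h : ∀ a ∈ l, a < 2 ^ b) (s : ℕ) : unpack b (pack b l) s = l.getD s 0 := by
  have key : ∀ T s, unpack b T s = T / (2 ^ b) ^ s % 2 ^ b := by
    intro T s
    show (T >>> (b * s)) % 2 ^ b = _
    rw [Nat.shiftRight_eq_div_pow, pow_mul]
  induction l generalizing s with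
  | nil => rw [key, pack_nil]; simp
  | cons a l ih =>
    have ha : a < 2 ^ b := h a (List.mem_cons_self ..)
    have hb : 0 < 2 ^ b := Nat.two_pow_pos b
    rw [key, pack_cons]
    cases s with
    | zero =>
      rw [pow_zero, Nat.div_one, Nat.add_mul_mod_self_left, Nat.mod_eq_of_lt ha]
      rfl
    | succ s =>
      rw [pow_succ', ← Nat.div_div_eq_div_mul, Nat.add_mul_div_left _ _ hb, Nat.div_eq_of_lt ha, zero_add,
        ← key, ih (fun a' ha' => h a' (List.mem_cons_of_mem _ ha'))]
      rfl

variable (D : ChevalleyDatum)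

/-- The sign `η_s` of `n_p(1) e_s = η_s e_{w_p(s)}`, `p = p_{i+1}`, read off the chain table. -/
def eta (i s : ℕ) : ℤ :=
  if s = D.simple i then -1
  else if s = D.neg (D.simple i) then -1
  else
    (-1) ^ (D.chainEntry (D.neg (D.simple i)) s).length *
      (if 0 < D.cartan i s then (D.chainM (D.neg (D.simple i)) s (D.cartan i s).toNat).sign
       else if D.cartan i s < 0 then (D.chainM (D.simple i) s (-(D.cartan i s)).toNat).sign else 1)

theorem eta_simple (i : ℕ) : eta D i (D.simple i) = -1 := by
  unfold eta
  rw [if_pos rfl]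

theorem eta_neg_simple (i : ℕ) : eta D i (D.neg (D.simple i)) = -1 := by
  unfold eta
  by_cases h : D.neg (D.simple i) = D.simple i
  · rw [if_pos h]
  · rw [if_neg h, if_pos rfl]

/-- Fast form of `chainEntry`. -/
noncomputable def entF (row : List (ℕ × Array (ℕ × ℤ))) (s : ℕ) : List (ℕ × ℤ) :=
  List.rec (motive := fun _ => List (ℕ × ℤ)) []
    (fun e _ ih => Bool.rec (motive := fun _ => List (ℕ × ℤ)) ih e.2.toList (Nat.beq e.1 s)) row

theorem entF_eq (r s : ℕ) : entF (D.chain.getD r #[]).toList s = D.chainEntry r s := by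
  unfold ChevalleyDatum.chainEntry
  induction (D.chain.getD r #[]).toList with
  | nil => rfl
  | cons e l ih =>
    have h1 : entF (e :: l) s = Bool.rec (motive := fun _ => List (ℕ × ℤ)) (entF l s) e.2.toList
      (Nat.beq e.1 s) := rfl
    rw [h1, ih, beq_eq_decide, List.find?_cons]
    by_cases h : e.1 = s
    · simp only [h, decide_true]
    · simp only [h, decide_false]

/-- Fast form of `reflectRoot`; `a` is the Cartan integer plus 3. -/
noncomputable def reflF (rp rm : List (ℕ × Array (ℕ × ℤ))) (p m a s : ℕ) : ℕ :=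
  cond (Nat.beq s p) m <| cond (Nat.beq s m) p <|
    cond (Nat.blt 3 a) ((((entF rm s)[a - 3 - 1]?).map Prod.fst).getD s) <|
      cond (Nat.blt a 3) ((((entF rp s)[3 - a - 1]?).map Prod.fst).getD s) s

/-- Fast form of `eta`. -/
noncomputable def etaF (rp rm : List (ℕ × Array (ℕ × ℤ))) (p m a s : ℕ) : ℤ :=
  cond (Nat.beq s p) (-1) <| cond (Nat.beq s m) (-1) <|
    (-1) ^ (entF rm s).length *
      (cond (Nat.blt 3 a) ((((entF rm s)[a - 3 - 1]?).map Prod.snd).getD 0).sign <|
        cond (Nat.blt a 3) ((((entF rp s)[3 - a - 1]?).map Prod.snd).getD 0).sign 1)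

theorem reflF_eq (i a s : ℕ) (ha : (a : ℤ) = D.cartan i s + 3) :
    reflF (D.chain.getD (D.simple i) #[]).toList (D.chain.getD (D.neg (D.simple i)) #[]).toList
      (D.simple i) (D.neg (D.simple i)) a s = D.reflectRoot i s := by
  unfold reflF ChevalleyDatum.reflectRoot ChevalleyDatum.chainRoot
  rw [entF_eq, entF_eq]
  simp only [beq_eq_decide, blt_eq_decide, Bool.cond_decide]
  by_cases h1 : s = D.simple i
  · rw [if_pos h1, if_pos h1]
  rw [if_neg h1, if_neg h1]
  by_cases h2 : s = D.neg (D.simple i)
  · rw [if_pos h2, if_pos h2]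
  rw [if_neg h2, if_neg h2]
  by_cases h3 : 0 < D.cartan i s
  · rw [if_pos h3, if_pos (by omega)]
    have : (D.cartan i s).toNat = a - 3 := by omega
    rw [this]
  rw [if_neg h3, if_neg (by omega)]
  by_cases h4 : D.cartan i s < 0
  · rw [if_pos h4, if_pos (by omega)]
    have : (-(D.cartan i s)).toNat = 3 - a := by omega
    rw [this]
  rw [if_neg h4, if_neg (by omega)]

theorem etaF_eq (i a s : ℕ) (ha : (a : ℤ) = D.cartan i s + 3) :
    etaF (D.chain.getD (D.simple i) #[]).toList (D.chain.getD (D.neg (D.simple i)) #[]).toList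
      (D.simple i) (D.neg (D.simple i)) a s = eta D i s := by
  unfold etaF eta ChevalleyDatum.chainM
  rw [entF_eq, entF_eq]
  simp only [beq_eq_decide, blt_eq_decide, Bool.cond_decide]
  by_cases h1 : s = D.simple i
  · rw [if_pos h1, if_pos h1]
  rw [if_neg h1, if_neg h1]
  by_cases h2 : s = D.neg (D.simple i)
  · rw [if_pos h2, if_pos h2]
  rw [if_neg h2, if_neg h2]
  by_cases h3 : 0 < D.cartan i s
  · rw [if_pos h3, if_pos (by omega)]
    have : (D.cartan i s).toNat = a - 3 := by omega
    rw [this]
  rw [if_neg h3, if_neg (by omega)]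
  by_cases h4 : D.cartan i s < 0
  · rw [if_pos h4, if_pos (by omega)]
    have : (-(D.cartan i s)).toNat = 3 - a := by omega
    rw [this]
  rw [if_neg h4, if_neg (by omega)]

/-- The row of Cartan integers `A_{p_{i+1}, s}`, shifted by 3. -/
def cartRow (i : ℕ) : List ℕ := (D.cartanSR.getD i #[]).toList.map fun a => (a + 3).toNat

/-- The checks on the negation table and on the i-th row of the Cartan table. -/
def checkTab (i : ℕ) : Bool :=
  D.negIdx.toList.all (fun a => Nat.blt a D.nroots) && Nat.beq D.negIdx.toList.length D.nroots &&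
  Nat.ble D.nroots 256 && Nat.beq (D.cartanSR.getD i #[]).toList.length D.nroots &&
  (D.cartanSR.getD i #[]).toList.all (fun a => decide (-3 ≤ a) && decide (a ≤ 4))

/-- The check for the root `s`. -/
noncomputable def checkRoot (rp rm : List (ℕ × Array (ℕ × ℤ))) (p m NT CT s : ℕ) : Bool :=
  force (unpack 3 CT s) fun a =>
  force (reflF rp rm p m a s) fun w =>
  force (unpack 8 NT s) fun ns =>
  force (unpack 3 CT w) fun aw =>
  force (unpack 3 CT ns) fun an =>
    (decide (etaF rp rm p m a s = 1) || decide (etaF rp rm p m a s = -1)) &&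
    Nat.blt w D.nroots &&
    decide (etaF rp rm p m a s * etaF rp rm p m aw w = (-1) ^ (Nat.sub a 3 + Nat.sub 3 a)) &&
    decide (etaF rp rm p m a s * etaF rp rm p m an ns = 1) &&
    sameVec (wcol D [(p, 1), (m, -1), (p, 1)] s) [(w, etaF rp rm p m a s)]

/-- The full check for the fundamental root `p_{i+1}`. -/
noncomputable def check (i : ℕ) : Bool :=
  checkTab D i &&
  (force (D.simple i) fun p => force (D.neg p) fun m =>
  force (pack 8 D.negIdx.toList) fun NT => force (pack 3 (cartRow D i)) fun CT =>
    Nat.blt p D.nroots && Nat.blt m D.nroots &&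
    ((List.range D.nroots).all fun s => force s fun s =>
      checkRoot D (D.chain.getD p #[]).toList (D.chain.getD m #[]).toList p m NT CT s) &&
    ((List.range D.rank).all fun j => force j fun j => force (Nat.add D.nroots j) fun c =>
      sameVec (wcol D [(p, 1), (m, -1), (p, 1)] c) [(c, 1), (Nat.add D.nroots i, -(D.cartan j p))]))

/-! ### Soundness -/

/-- The facts proved by `check`. -/
structure Facts (i : ℕ) : Prop where
  simple_lt : D.simple i < D.nroots
  neg_simple_lt : D.neg (D.simple i) < D.nroots
  eta_one : ∀ s < D.nroots, eta D i s = 1 ∨ eta D i s = -1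
  reflect_lt : ∀ s < D.nroots, D.reflectRoot i s < D.nroots
  eta_mul_reflect : ∀ s < D.nroots, eta D i s * eta D i (D.reflectRoot i s) = (-1) ^ (D.cartan i s).natAbs
  eta_mul_neg : ∀ s < D.nroots, eta D i s * eta D i (D.neg s) = 1
  col_root : ∀ s < D.nroots, ∀ u, coefAt (wcol D [(D.simple i, 1), (D.neg (D.simple i), -1), (D.simple i, 1)] s) u =
    coefAt [(D.reflectRoot i s, eta D i s)] u
  col_cartan : ∀ j < D.rank, ∀ u, coefAt (wcol D [(D.simple i, 1), (D.neg (D.simple i), -1), (D.simple i, 1)]
    (D.nroots + j)) u = coefAt [(D.nroots + j, 1), (D.nroots + i, -(D.cartan j (D.simple i)))] u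

theorem unpack_neg (i : ℕ) (h : checkTab D i = true) (s : ℕ) :
    unpack 8 (pack 8 D.negIdx.toList) s = D.neg s := by
  unfold checkTab at h
  simp only [Bool.and_eq_true, List.all_eq_true, blt_eq_decide, decide_eq_true_eq] at h
  obtain ⟨⟨⟨⟨h1, -⟩, h3⟩, -⟩, -⟩ := h
  have h3' : D.nroots ≤ 256 := Nat.le_of_ble_eq_true h3
  rw [unpack_pack]
  · show D.negIdx.toList.getD s 0 = D.negIdx.getD s 0
    simp
  · intro a ha
    have := h1 a ha
    omega

theorem unpack_cartan (i : ℕ) (h : checkTab D i = true) (s : ℕ) (hs : s < D.nroots) :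
    ((unpack 3 (pack 3 (cartRow D i)) s : ℕ) : ℤ) = D.cartan i s + 3 := by
  unfold checkTab at h
  simp only [Bool.and_eq_true, List.all_eq_true, blt_eq_decide, decide_eq_true_eq] at h
  obtain ⟨⟨⟨-, -⟩, h4⟩, h5⟩ := h
  have h4' : (D.cartanSR.getD i #[]).toList.length = D.nroots := Nat.eq_of_beq_eq_true h4
  rw [unpack_pack]
  · unfold cartRow
    have hs' : s < ((D.cartanSR.getD i #[]).toList.map fun a => (a + 3).toNat).length := by
      rw [List.length_map, h4']; exact hs
    have hs'' : s < (D.cartanSR.getD i #[]).toList.length := by rw [h4']; exact hs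
    rw [List.getD_eq_getElem _ _ hs', List.getElem_map]
    have e : D.cartan i s = (D.cartanSR.getD i #[]).toList[s] := by
      unfold ChevalleyDatum.cartan
      rw [Array.getD_eq_getD_getElem?, ← Array.getElem?_toList, List.getElem?_eq_getElem hs'']
      rfl
    rw [e]
    have := h5 _ (List.getElem_mem hs'')
    omega
  · intro a ha
    unfold cartRow at ha
    rw [List.mem_map] at ha
    obtain ⟨b, hb, rfl⟩ := ha
    have := h5 b hb
    omega

theorem pow_sub_add_sub (A : ℤ) (a : ℕ) (ha : (a : ℤ) = A + 3) :
    ((-1 : ℤ)) ^ (Nat.sub a 3 + Nat.sub 3 a) = (-1) ^ A.natAbs := by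
  congr 1
  show (a - 3) + (3 - a) = _
  omega

theorem facts_of_check (i : ℕ) (h : check D i = true) : Facts D i := by
  unfold check at h
  rw [Bool.and_eq_true] at h
  obtain ⟨hT, h⟩ := h
  simp only [force_eq, Bool.and_eq_true, List.all_eq_true, blt_eq_decide, decide_eq_true_eq, List.mem_range] at h
  obtain ⟨⟨⟨hp, hm⟩, hroot⟩, hcart⟩ := h
  have hneg : ∀ s, unpack 8 (pack 8 D.negIdx.toList) s = D.neg s := unpack_neg D i hT
  have hc := unpack_cartan D i hT
  have hnegLt : ∀ s < D.nroots, D.neg s < D.nroots := by
    intro s hs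
    have h' := hT
    unfold checkTab at h'
    simp only [Bool.and_eq_true, List.all_eq_true, blt_eq_decide, decide_eq_true_eq] at h'
    obtain ⟨⟨⟨⟨h1, h2⟩, -⟩, -⟩, -⟩ := h'
    have h2' : D.negIdx.toList.length = D.nroots := Nat.eq_of_beq_eq_true h2
    have hs'' : s < D.negIdx.toList.length := by rw [h2']; exact hs
    unfold ChevalleyDatum.neg
    rw [Array.getD_eq_getD_getElem?, ← Array.getElem?_toList, List.getElem?_eq_getElem hs'']
    exact h1 _ (List.getElem_mem hs'')
  have hR : ∀ s < D.nroots,
      (eta D i s = 1 ∨ eta D i s = -1) ∧ D.reflectRoot i s < D.nroots ∧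
      eta D i s * eta D i (D.reflectRoot i s) = (-1) ^ (D.cartan i s).natAbs ∧
      eta D i s * eta D i (D.neg s) = 1 ∧
      ∀ u, coefAt (wcol D [(D.simple i, 1), (D.neg (D.simple i), -1), (D.simple i, 1)] s) u =
        coefAt [(D.reflectRoot i s, eta D i s)] u := by
    intro s hs
    have h1 := hroot s hs
    unfold checkRoot at h1
    simp only [force_eq, hneg] at h1
    rw [reflF_eq D i _ s (hc s hs), etaF_eq D i _ s (hc s hs)] at h1
    simp only [Bool.and_eq_true, Bool.or_eq_true, blt_eq_decide, decide_eq_true_eq] at h1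
    obtain ⟨⟨⟨⟨a1, a2⟩, a3⟩, a4⟩, a5⟩ := h1
    rw [etaF_eq D i _ _ (hc _ a2), pow_sub_add_sub _ _ (hc s hs)] at a3
    rw [etaF_eq D i _ _ (hc _ (hnegLt s hs))] at a4
    exact ⟨a1, a2, a3, a4, coefAt_of_sameVec _ _ a5⟩
  exact
    { simple_lt := hp
      neg_simple_lt := hm
      eta_one := fun s hs => (hR s hs).1
      reflect_lt := fun s hs => (hR s hs).2.1
      eta_mul_reflect := fun s hs => (hR s hs).2.2.1
      eta_mul_neg := fun s hs => (hR s hs).2.2.2.1
      col_root := fun s hs => (hR s hs).2.2.2.2
      col_cartan := fun j hj => coefAt_of_sameVec _ _ (hcart j hj) }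

section Matrix

variable (F : Type*) [Field F] {D} {i : ℕ}

theorem nMat_eq_wordMat (p : ℕ) : D.nMat F p 1 =
    D.wordMat F ((([(p, 1), (D.neg p, -1), (p, 1)] : List (ℕ × ℤ))).map fun q => (q.1, (q.2 : F))) := by
  unfold ChevalleyDatum.nMat ChevalleyDatum.nWord
  simp

theorem nMat_apply (h : Facts D i) (row col : D.Idx) :
    D.nMat F (D.simple i) 1 row col =
      ((coefAt (wcol D [(D.simple i, 1), (D.neg (D.simple i), -1), (D.simple i, 1)] (code D col))
        (code D row) : ℤ) : F) := by
  rw [nMat_eq_wordMat]
  apply wordMat_apply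
  intro q hq
  simp only [List.mem_cons, List.not_mem_nil, or_false] at hq
  rcases hq with rfl | rfl | rfl
  · exact h.simple_lt
  · exact h.neg_simple_lt
  · exact h.simple_lt

/-- `n_p(1)` on root vectors. -/
theorem nMat_apply_inr (h : Facts D i) (row : D.Idx) (s : Fin D.nroots) :
    D.nMat F (D.simple i) 1 row (Sum.inr s) = Sum.elim (fun _ => (0 : F))
      (fun s' : Fin D.nroots => if (s' : ℕ) = D.reflectRoot i s then ((eta D i s : ℤ) : F) else 0) row := by
  rw [nMat_apply F h, code_inr, h.col_root s s.2, coefAt_cons, coefAt_nil, add_zero]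
  have h1 := h.reflect_lt s s.2
  rcases row with j | s'
  · rw [code_inl, if_neg (by simp only; omega)]
    simp
  · rw [code_inr, Sum.elim_inr]
    by_cases h2 : (s' : ℕ) = D.reflectRoot i s
    · rw [if_pos h2, if_pos h2.symm]
    · rw [if_neg h2, if_neg (fun e => h2 e.symm)]
      simp

/-- `n_p(1)` on the fundamental coroots. -/
theorem nMat_apply_inl (h : Facts D i) (row : D.Idx) (j : Fin D.rank) :
    D.nMat F (D.simple i) 1 row (Sum.inl j) = Sum.elim
      (fun j' : Fin D.rank => (if j' = j then (1 : F) else 0) -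
        (if (j' : ℕ) = i then ((D.cartan j (D.simple i) : ℤ) : F) else 0))
      (fun _ => (0 : F)) row := by
  rw [nMat_apply F h, code_inl, h.col_cartan j j.2, coefAt_cons, coefAt_cons, coefAt_nil, add_zero]
  rcases row with j' | s'
  · rw [code_inl, Sum.elim_inl]
    have e1 : (D.nroots + (j : ℕ) = D.nroots + (j' : ℕ)) ↔ j' = j := by
      rw [Fin.ext_iff]
      omega
    have e2 : (D.nroots + i = D.nroots + (j' : ℕ)) ↔ (j' : ℕ) = i := by omega
    simp only [e1, e2]
    split_ifs <;> simp [sub_eq_add_neg]
  · have := s'.2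
    rw [code_inr, Sum.elim_inr]
    simp only
    rw [if_neg (by omega), if_neg (by omega)]
    simp

/-- The matrix of `n_p(1)`. -/
theorem nMat_simple_one (h : Facts D i) :
    D.nMat F (D.simple i) 1 = Matrix.of (fun (row col : D.Idx) =>
        Sum.elim
          (fun j' : Fin D.rank => Sum.elim
            (fun j : Fin D.rank => (if j' = j then (1 : F) else 0) -
              (if (j' : ℕ) = i then ((D.cartan j (D.simple i) : ℤ) : F) else 0))
            (fun _ => (0 : F)) col)
          (fun s' : Fin D.nroots => Sum.elim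
            (fun _ => (0 : F))
            (fun s : Fin D.nroots => if (s' : ℕ) = D.reflectRoot i s then ((eta D i s : ℤ) : F) else 0) col)
          row) := by
  ext row col
  rw [Matrix.of_apply]
  rcases col with j | s
  · rw [nMat_apply_inl F h]
    rcases row with j' | s'
    · simp only [Sum.elim_inl]
    · simp only [Sum.elim_inr, Sum.elim_inl]
  · rw [nMat_apply_inr F h]
    rcases row with j' | s'
    · simp only [Sum.elim_inl, Sum.elim_inr]
    · simp only [Sum.elim_inr]

end Matrix

end Cfsg.Agent.ChevalleyStructure.NSimple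
end
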