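/-
H consists of diagonal matrices, identity on the coroot block (from S1033 and S1034), hence is abelian.
-/
import Cfsg.Agent.S1033
import Cfsg.Agent.S1034
set_option linter.all false

set_option autoImplicit false

namespace Cfsg.Agent.ChevalleyStructure.HDiag

open Cfsg.Lie Cfsg.Lie.ChevalleyDatum

/-- The diagonal matrix which is `1` on the coroot basis vectors and `χ s` on the root vector `e_s`. -/
def dmat (D : ChevalleyDatum) (F : Type*) [Field F] (χ : Fin D.nroots → F) : Matrix D.Idx D.Idx F :=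
  Matrix.diagonal (Sum.elim (fun _ => (1 : F)) χ)

theorem dmat_def (D : ChevalleyDatum) (F : Type*) [Field F] (χ : Fin D.nroots → F) :
    dmat D F χ = Matrix.diagonal (Sum.elim (fun _ => (1 : F)) χ) := rfl

theorem dmat_mul (D : ChevalleyDatum) (F : Type*) [Field F] (χ ψ : Fin D.nroots → F) :
    dmat D F χ * dmat D F ψ = dmat D F (fun s => χ s * ψ s) := by
  rw [dmat_def, dmat_def, dmat_def, Matrix.diagonal_mul_diagonal]
  congr 1
  funext i
  rcases i with i | i <;> simp

theorem dmat_one (D : ChevalleyDatum) (F : Type*) [Field F] : dmat D F (fun _ => 1) = 1 := by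
  rw [dmat_def, ← Matrix.diagonal_one]
  congr 1
  funext i
  rcases i with i | i <;> simp

theorem wordMat_append (D : ChevalleyDatum) (F : Type*) [Field F] (w₁ w₂ : List (ℕ × F)) :
    D.wordMat F (w₁ ++ w₂) = D.wordMat F w₁ * D.wordMat F w₂ := by
  show ((w₁ ++ w₂).map _).prod = (w₁.map _).prod * (w₂.map _).prod
  rw [List.map_append, List.prod_append]

theorem wordMat_nil (D : ChevalleyDatum) (F : Type*) [Field F] :
    D.wordMat F [] = 1 := rfl

/-- Every element of `H` is of the form `dmat χ` with `χ` nowhere zero. -/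
theorem exists_dmat {F : Type*} [Field F] (D : ChevalleyDatum)
    (hD : D ∈ [chevG2, chevB2, chevD4, chevF4, chevE6, chevE7, chevE8])
    (g : GL D.Idx F) (hg : g ∈ D.diagonalSubgroup F) :
    ∃ χ : Fin D.nroots → F, (∀ s, χ s ≠ 0) ∧ (g : Matrix D.Idx D.Idx F) = dmat D F χ := by
  obtain ⟨c, hc, hw⟩ := Cfsg.Agent.S1034.result D hD g hg
  have key : ∀ n ≤ D.rank, ∃ χ : Fin D.nroots → F, (∀ s, χ s ≠ 0) ∧
      D.wordMat F ((List.range n).flatMap fun i => D.hWord (D.simple i) (c i)) = dmat D F χ := by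
    intro n
    induction n with
    | zero =>
      intro _
      refine ⟨fun _ => 1, fun _ => one_ne_zero, ?_⟩
      rw [dmat_one]
      rfl
    | succ n ih =>
      intro hn
      obtain ⟨χ, hχ, h⟩ := ih (by omega)
      refine ⟨fun s => χ s * c n ^ (D.cartan n s),
        fun s => mul_ne_zero (hχ s) (zpow_ne_zero _ (hc n (by omega))), ?_⟩
      rw [List.range_succ, List.flatMap_append, wordMat_append, h, List.flatMap_singleton]
      have h2 : D.wordMat F (D.hWord (D.simple n) (c n)) = dmat D F (fun s => c n ^ (D.cartan n s)) :=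
        Cfsg.Agent.S1033.result D hD n (by omega) (c n) (hc n (by omega))
      rw [h2, dmat_mul]
  obtain ⟨χ, hχ, h⟩ := key D.rank le_rfl
  exact ⟨χ, hχ, hw.trans h⟩

/-- `H` is commutative. -/
theorem mul_comm_of_mem {F : Type*} [Field F] (D : ChevalleyDatum)
    (hD : D ∈ [chevG2, chevB2, chevD4, chevF4, chevE6, chevE7, chevE8])
    {g h : GL D.Idx F} (hg : g ∈ D.diagonalSubgroup F) (hh : h ∈ D.diagonalSubgroup F) :
    g * h = h * g := by
  obtain ⟨χ, -, e₁⟩ := exists_dmat D hD g hg
  obtain ⟨ψ, -, e₂⟩ := exists_dmat D hD h hh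
  apply Units.ext
  show (g : Matrix D.Idx D.Idx F) * (h : Matrix D.Idx D.Idx F) =
    (h : Matrix D.Idx D.Idx F) * (g : Matrix D.Idx D.Idx F)
  rw [e₁, e₂, dmat_mul, dmat_mul]
  congr 1
  funext s
  exact mul_comm _ _

end Cfsg.Agent.ChevalleyStructure.HDiag
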