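import Cfsg.Prelude.Def_ChevStructure
set_option linter.all false

/-!
# Packed reflection tables: the combinatorial core for the longest element

`look T s` reads the `s`-th byte of the number `T`. `ReflTab D T` says that the numbers in the list `T` tabulate
the reflections in the fundamental roots on the root indices.
-/

set_option autoImplicit false

namespace Cfsg.Agent.ChevalleyStructure.W0Core

open Cfsg.Lie

/-- The `s`-th byte of `T`. -/
def look (T s : ℕ) : ℕ := (T >>> (8 * s)) % 256

/-- One packed table is correct. -/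
def rowOK (D : ChevalleyDatum) (i T : ℕ) : Bool :=
  (List.range D.nroots).all fun s => Nat.beq (D.reflectRoot i s) (look T s)

theorem rowOK_spec {D : ChevalleyDatum} {i T : ℕ} (h : rowOK D i T = true) {s : ℕ} (hs : s < D.nroots) :
    D.reflectRoot i s = look T s :=
  Nat.eq_of_beq_eq_true (List.all_eq_true.1 h s (List.mem_range.2 hs))

/-- The action of a word by the tables. -/
def actT (T : ℕ → ℕ) (w : List ℕ) (s : ℕ) : ℕ := w.foldr (fun i s => look (T i) s) s

/-- The table check for the word `w`: it acts on the roots as the packed table `W`. -/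
def wordOK (T : ℕ → ℕ) (w : List ℕ) (W n : ℕ) : Bool :=
  (List.range n).all fun s => Nat.beq (actT T w s) (look W s)

theorem wordOK_spec {T : ℕ → ℕ} {w : List ℕ} {W n : ℕ} (h : wordOK T w W n = true) {s : ℕ} (hs : s < n) :
    actT T w s = look W s :=
  Nat.eq_of_beq_eq_true (List.all_eq_true.1 h s (List.mem_range.2 hs))

/-- tables stay in range -/
def rangeOK (T n : ℕ) : Bool := (List.range n).all fun s => Nat.blt (look T s) n

theorem rangeOK_spec {T n : ℕ} (h : rangeOK T n = true) {s : ℕ} (hs : s < n) : look T s < n := by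
  have := List.all_eq_true.1 h s (List.mem_range.2 hs)
  exact Nat.le_of_ble_eq_true this

/-- the sign bookkeeping: positive roots are exactly the indices from `m` on -/
def signOK (D : ChevalleyDatum) (m : ℕ) : Bool :=
  (List.range D.nroots).all fun s =>
    (decide (D.IsPosRoot s) == Nat.ble m s) && (decide (D.IsNegRoot s) == Nat.blt s m)

theorem pos_iff {D : ChevalleyDatum} {m : ℕ} (h : signOK D m = true) (s : ℕ) :
    D.IsPosRoot s ↔ m ≤ s ∧ s < D.nroots := by
  by_cases hs : s < D.nroots
  · have := List.all_eq_true.1 h s (List.mem_range.2 hs)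
    rw [Bool.and_eq_true, beq_iff_eq, beq_iff_eq] at this
    rw [← decide_eq_true_iff (p := D.IsPosRoot s), this.1, Nat.ble_eq]
    exact ⟨fun h => ⟨h, hs⟩, fun h => h.1⟩
  · exact ⟨fun h => absurd h.1 hs, fun h => absurd h.2 hs⟩

theorem neg_iff {D : ChevalleyDatum} {m : ℕ} (h : signOK D m = true) (hm : m ≤ D.nroots) (s : ℕ) :
    D.IsNegRoot s ↔ s < m := by
  by_cases hs : s < D.nroots
  · have := List.all_eq_true.1 h s (List.mem_range.2 hs)
    rw [Bool.and_eq_true, beq_iff_eq, beq_iff_eq] at this
    rw [← decide_eq_true_iff (p := D.IsNegRoot s), this.2, Nat.blt_eq]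
  · exact ⟨fun h => absurd h.1 hs, fun h => absurd (h.trans_le hm) hs⟩

/-- the flip check for the table of the longest element -/
def flipOK (W m n : ℕ) : Bool :=
  (List.range n).all fun s => (Nat.ble m s != Nat.ble m (look W s)) && Nat.blt (look W s) n &&
    Nat.beq (look W (look W s)) s

theorem flipOK_spec {W m n : ℕ} (h : flipOK W m n = true) {s : ℕ} (hs : s < n) :
    (m ≤ s ↔ look W s < m) ∧ look W s < n ∧ look W (look W s) = s := by
  have := List.all_eq_true.1 h s (List.mem_range.2 hs)
  rw [Bool.and_eq_true, Bool.and_eq_true] at this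
  obtain ⟨⟨h1, h2⟩, h3⟩ := this
  rw [Nat.blt_eq] at h2
  refine ⟨?_, h2, Nat.eq_of_beq_eq_true h3⟩
  rw [bne_iff_ne, Ne, Bool.eq_iff_iff, Nat.ble_eq, Nat.ble_eq] at h1
  constructor
  · intro h
    by_contra h'
    exact h1 ⟨fun _ => not_lt.1 h', fun _ => h⟩
  · intro h
    by_contra h'
    exact h1 ⟨fun h'' => absurd h'' h', fun h'' => absurd h (not_lt.2 h'')⟩

end Cfsg.Agent.ChevalleyStructure.W0Core
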