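import Cfsg.Prelude.Def_ChevE6
import Cfsg.Agent.ChevalleyStructure.W0Core
set_option linter.all false

/-!
Packed reflection tables and the longest element for the types E6.
-/

set_option autoImplicit false
set_option maxRecDepth 100000

namespace Cfsg.Agent.ChevalleyStructure.W0E6

open Cfsg.Lie
open Cfsg.Agent.ChevalleyStructure.W0Core

/-! ### Type E6 -/

/-- packed table of the 0-th reflection of type E6 -/
def tabE6_0 : ℕ := 0x47464544433736353433322d2c2b2a0f4241403f3e3d31302f2e3c3b3a39292827262524232221201f1e0e0d0c0b191817160a0908070605381d1c1b1a1514131211100403020100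

theorem rowE6_0 : rowOK chevE6 0 tabE6_0 = true := by decide +kernel

/-- packed table of the 1-th reflection of type E6 -/
def tabE6_1 : ℕ := 0x46474544434241403c3b3a3f3e3d39383736352d2c2b292827193433322a31302f2625242322211817161d1514132e201f1e1c1b1a1211100f0e0a09080d0c0b0706050403020001

theorem rowE6_1 : rowOK chevE6 1 tabE6_1 = true := by decide +kernel

/-- packed table of the 2-th reflection of type E6 -/
def tabE6_2 : ℕ := 0x47464241404544433f3e3d3c3b3a383937363531302f3433322e2928271d2d2c2b2625242322211c1b1a2a201f1e191514131817161211100e0f0d0c0b0a09080403020706050100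

theorem rowE6_2 : rowOK chevE6 2 tabE6_2 = true := by decide +kernel

/-- packed table of the 3-th reflection of type E6 -/
def tabE6_3 : ℕ := 0x4745464443423f3e41403d3c3b393a3837343336353231302e2f2d2c2a2b262520292824231f1e2722211c1d1b1a181917161512111413100f0d0e0c0b0a07060908050403010200

theorem rowE6_3 : rowOK chevE6 3 tabE6_3 = true := by decide +kernel

/-- packed table of the 4-th reflection of type E6 -/
def tabE6_4 : ℕ := 0x47464445434142403f3d3e3c3a3b3938363735343233312f302e2d2b2c2a2927282422262125231f201e1d1b1c1a191718161415131210110f0e0c0d0b090a080705060402030100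

theorem rowE6_4 : rowOK chevE6 4 tabE6_4 = true := by decide +kernel

/-- packed table of the 5-th reflection of type E6 -/
def tabE6_5 : ℕ := 0x47464543444240413e3f3d3b3c3a393837353633343230312f2e2c2d2b2a282927252623242122201e1f1d1c1a1b191816171513141112100f0e0d0b0c0a08090607050304020100

theorem rowE6_5 : rowOK chevE6 5 tabE6_5 = true := by decide +kernel

/-- the packed reflection tables of type E6 -/
def tabE6 : ℕ → ℕ
  | 0 => tabE6_0
  | 1 => tabE6_1
  | 2 => tabE6_2
  | 3 => tabE6_3
  | 4 => tabE6_4
  | 5 => tabE6_5
  | _ => 0

theorem tabE6_ok : ∀ i < chevE6.rank, ∀ s < chevE6.nroots, chevE6.reflectRoot i s = look (tabE6 i) s := by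
  intro i hi s hs
  have hi : i < 6 := hi
  interval_cases i
  · exact rowOK_spec rowE6_0 hs
  · exact rowOK_spec rowE6_1 hs
  · exact rowOK_spec rowE6_2 hs
  · exact rowOK_spec rowE6_3 hs
  · exact rowOK_spec rowE6_4 hs
  · exact rowOK_spec rowE6_5 hs

theorem rangeE6 : ∀ i < 6, rangeOK (tabE6 i) 72 = true := by decide +kernel

/-- a word for the longest element of type E6: a power of a Coxeter element -/
def wordE6 : List ℕ := (List.replicate 6 [0, 3, 5, 1, 2, 4]).flatten

/-- the packed table of the longest element of type E6 -/
def w0E6 : ℕ := 0x10205100306110813160b1a1e21230407120914170a1518190c1b1f220d1c200e1d0f382a39272b3a25282c3b2e2f323d30333e3540432426292d3c31343f3641443742454647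

theorem wordE6_lt : ∀ i ∈ wordE6, i < 6 := by decide +kernel

theorem wordE6_simple : ∀ i ∈ wordE6, chevE6.simple i < 72 := by decide +kernel

theorem wordE6_ok : wordOK tabE6 wordE6 w0E6 72 = true := by decide +kernel

theorem flipE6 : flipOK w0E6 36 72 = true := by decide +kernel

theorem signE6 : signOK chevE6 36 = true := by decide +kernel

end Cfsg.Agent.ChevalleyStructure.W0E6
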