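import Cfsg.Prelude.Def_ChevB2
import Cfsg.Prelude.Def_ChevG2
import Cfsg.Prelude.Def_ChevD4
import Cfsg.Prelude.Def_ChevF4
import Cfsg.Prelude.Def_ChevE6
import Cfsg.Agent.ChevalleyStructure.NSimple
set_option linter.all false

/-! Kernel checks of the columns of `n_p(1)` for the types B2, G2, D4, F4, E6. -/

set_option autoImplicit false

namespace Cfsg.Agent.ChevalleyStructure.NSimpleSmall

open Cfsg.Lie Cfsg.Agent.ChevalleyStructure.NSimple

theorem checkB2 (i : ℕ) (hi : i < 2) : check chevB2 i = true := by
  have h : ∀ i < 2, check chevB2 i = true := by decide +kernel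
  exact h i hi

theorem checkG2 (i : ℕ) (hi : i < 2) : check chevG2 i = true := by
  have h : ∀ i < 2, check chevG2 i = true := by decide +kernel
  exact h i hi

theorem checkD4 (i : ℕ) (hi : i < 4) : check chevD4 i = true := by
  have h : ∀ i < 4, check chevD4 i = true := by decide +kernel
  exact h i hi

theorem checkF4 (i : ℕ) (hi : i < 4) : check chevF4 i = true := by
  have h : ∀ i < 4, check chevF4 i = true := by decide +kernel
  exact h i hi

theorem checkE6 (i : ℕ) (hi : i < 6) : check chevE6 i = true := by
  have h : ∀ i < 6, check chevE6 i = true := by decide +kernel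
  exact h i hi

end Cfsg.Agent.ChevalleyStructure.NSimpleSmall
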