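import Cfsg.Prelude.Def_ChevStructure
set_option linter.all false

-- part: ChevalleyStructure/RootCombBase
section
/-!
Kernel-friendly tools for checking finite tables, and the abstract check of the combinatorial layer of a
`ChevalleyDatum` (see `RootComb.lean` for the results).
-/

set_option autoImplicit false

namespace Cfsg.Agent.ChevalleyStructure.RootCombBase

open Cfsg.Lie

/-! ### Bounded quantifiers and traversals, by bare recursors (fast in the kernel) -/

/-- `P 0 && ... && P (n-1)`, evaluated from the top. -/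
def allLt (P : ℕ → Bool) (n : ℕ) : Bool :=
  Nat.rec (motive := fun _ => Bool) true (fun k ih => and (P k) ih) n

theorem allLt_spec {P : ℕ → Bool} : ∀ {n : ℕ}, allLt P n = true → ∀ k < n, P k = true
  | 0, _, k, hk => absurd hk (Nat.not_lt_zero k)
  | n + 1, h, k, hk => by
    have h' : (P n && allLt P n) = true := h
    rw [Bool.and_eq_true] at h'
    rcases Nat.lt_succ_iff_lt_or_eq.1 hk with hk | rfl
    · exact allLt_spec h'.2 k hk
    · exact h'.1

/-- `P 0 || ... || P (n-1)`, evaluated from the top. -/
def anyLt (P : ℕ → Bool) (n : ℕ) : Bool :=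
  Nat.rec (motive := fun _ => Bool) false (fun k ih => or (P k) ih) n

theorem anyLt_spec {P : ℕ → Bool} : ∀ {n : ℕ}, anyLt P n = true → ∃ k < n, P k = true
  | 0, h => by cases h
  | n + 1, h => by
    have h' : (P n || anyLt P n) = true := h
    rw [Bool.or_eq_true] at h'
    rcases h' with h' | h'
    · exact ⟨n, Nat.lt_succ_self n, h'⟩
    · obtain ⟨k, hk, h''⟩ := anyLt_spec h'
      exact ⟨k, Nat.lt_succ_of_lt hk, h''⟩

/-- Traversal of a list with a running index; at the end the index must be `n`. -/
def trav {α : Type} (f : ℕ → α → Bool) (n : ℕ) (l : List α) : ℕ → Bool :=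
  List.rec (motive := fun _ => ℕ → Bool) (fun k => Nat.beq k n)
    (fun a _ ih k => and (f k a) (ih (Nat.succ k))) l

theorem trav_spec {α : Type} {f : ℕ → α → Bool} {n : ℕ} : ∀ {l : List α} {k : ℕ},
    trav f n l k = true → k + l.length = n ∧ ∀ (j : ℕ) (hj : j < l.length), f (k + j) l[j] = true
  | [], k, h => by
    have h' : Nat.beq k n = true := h
    exact ⟨by simpa using Nat.eq_of_beq_eq_true h', fun j hj => absurd hj (Nat.not_lt_zero j)⟩
  | a :: l, k, h => by
    have h' : (f k a && trav f n l (k + 1)) = true := h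
    rw [Bool.and_eq_true] at h'
    obtain ⟨h1, h2⟩ := trav_spec h'.2
    refine ⟨by rw [List.length_cons]; omega, fun j hj => ?_⟩
    cases j with
    | zero => exact h'.1
    | succ j =>
      have hj' : j < l.length := by simpa using hj
      have := h2 j hj'
      rw [show k + 1 + j = k + (j + 1) by omega] at this
      simpa using this

/-- Traversal of a list: every entry satisfies `f`. -/
def allL {α : Type} (f : α → Bool) (l : List α) : Bool :=
  List.rec (motive := fun _ => Bool) true (fun a _ ih => and (f a) ih) l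

theorem allL_spec {α : Type} {f : α → Bool} : ∀ {l : List α}, allL f l = true → ∀ a ∈ l, f a = true
  | [], _, a, ha => by cases ha
  | b :: l, h, a, ha => by
    have h' : (f b && allL f l) = true := h
    rw [Bool.and_eq_true] at h'
    rcases List.mem_cons.1 ha with rfl | ha
    · exact h'.1
    · exact allL_spec h'.2 a ha

theorem getD_toList {α : Type} (A : Array α) (i : ℕ) (d : α) : A.getD i d = A.toList.getD i d := by
  simp [Array.getD_eq_getD_getElem?]

theorem arr_spec {α : Type} {A : Array α} {f : ℕ → α → Bool} {n : ℕ} (d : α)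
    (h : trav f n A.toList 0 = true) : A.size = n ∧ ∀ i < n, f i (A.getD i d) = true := by
  obtain ⟨h1, h2⟩ := trav_spec h
  have hsz : A.size = n := by
    have : A.toList.length = n := by omega
    simpa using this
  refine ⟨hsz, fun i hi => ?_⟩
  have hi' : i < A.toList.length := by
    have : A.toList.length = A.size := by simp
    omega
  have := h2 i hi'
  rw [Nat.zero_add] at this
  rw [getD_toList, List.getD_eq_getElem _ _ hi']
  exact this

/-- Boolean equality of integers. -/
def ieq (a b : ℤ) : Bool :=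
  match a, b with
  | Int.ofNat m, Int.ofNat n => Nat.beq m n
  | Int.ofNat _, Int.negSucc _ => false
  | Int.negSucc _, Int.ofNat _ => false
  | Int.negSucc m, Int.negSucc n => Nat.beq m n

theorem ieq_spec {a b : ℤ} (h : ieq a b = true) : a = b := by
  cases a with
  | ofNat m =>
    cases b with
    | ofNat n => exact congrArg Int.ofNat (Nat.eq_of_beq_eq_true h)
    | negSucc n => cases h
  | negSucc m =>
    cases b with
    | ofNat n => cases h
    | negSucc n => exact congrArg Int.negSucc (Nat.eq_of_beq_eq_true h)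

/-- `f 0 + ... + f (n-1)`. -/
def isum (f : ℕ → ℤ) (n : ℕ) : ℤ :=
  Nat.rec (motive := fun _ => ℤ) 0 (fun k ih => Int.add ih (f k)) n

theorem isum_eq (f : ℕ → ℤ) : ∀ n : ℕ, isum f n = ∑ k ∈ Finset.range n, f k
  | 0 => rfl
  | n + 1 => by
    rw [Finset.sum_range_succ, ← isum_eq f n]
    rfl

/-! ### Packed tables -/

/-- Packed tables: `simp` (8 bits per simple root), `cart` (4 bits, `A_{i,s} + 8` at `i * n + s`), `coro`
(4 bits, `c_j(r) + 8` at `r * l + j`), `refl` (8 bits, `w_i(s)` at `i * n + s`). -/
structure Tab where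
  l : ℕ
  n : ℕ
  simp : ℕ
  cart : ℕ
  coro : ℕ
  refl : ℕ

def get4 (T k : ℕ) : ℕ := Nat.land (Nat.shiftRight T (Nat.mul 4 k)) 15
def get8 (T k : ℕ) : ℕ := Nat.land (Nat.shiftRight T (Nat.mul 8 k)) 255

namespace Tab

variable (T : Tab)

def simpN (i : ℕ) : ℕ := get8 T.simp i
def negN (r : ℕ) : ℕ := Nat.sub (Nat.sub T.n 1) r
def cartN (i s : ℕ) : ℕ := get4 T.cart (Nat.add (Nat.mul i T.n) s)
def coroN (r j : ℕ) : ℕ := get4 T.coro (Nat.add (Nat.mul r T.l) j)
def reflN (i s : ℕ) : ℕ := get8 T.refl (Nat.add (Nat.mul i T.n) s)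
def cartZ (i s : ℕ) : ℤ := Int.subNatNat (T.cartN i s) 8
def coroZ (r j : ℕ) : ℤ := Int.subNatNat (T.coroN r j) 8
/-- `s` is a positive root. -/
def posB (s : ℕ) : Bool := Nat.ble T.n (Nat.mul 2 s)

/-- simple roots: in range, positive, coroot = unit vector, `A_{i,i} = 2`. -/
def chkSimple : Bool := allLt (fun i =>
  and (Nat.ble (Nat.succ (T.simpN i)) T.n) <| and (T.posB (T.simpN i)) <|
  and (Nat.beq (T.cartN i (T.simpN i)) 10) <|
  allLt (fun j => Nat.beq (T.coroN (T.simpN i) j) (bif Nat.beq i j then 9 else 8)) T.l) T.l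

/-- negatives: `coro (-r) = - coro r`, `cart i (-r) = - cart i r`. -/
def chkNeg : Bool := allLt (fun r => and
  (allLt (fun j => Nat.beq (Nat.add (T.coroN (T.negN r) j) (T.coroN r j)) 16) T.l)
  (allLt (fun i => Nat.beq (Nat.add (T.cartN i (T.negN r)) (T.cartN i r)) 16) T.l)) T.n

/-- positive roots have non-negative coroot coefficients, one of them positive; negative ones the opposite. -/
def chkPos : Bool := allLt (fun r => bif T.posB r
  then and (allLt (fun j => Nat.ble 8 (T.coroN r j)) T.l) (anyLt (fun j => Nat.ble 9 (T.coroN r j)) T.l)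
  else and (allLt (fun j => Nat.ble (T.coroN r j) 8) T.l) (anyLt (fun j => Nat.ble (T.coroN r j) 7) T.l)) T.n

/-- reflections: in range, involutive, compatible with negation, the simple root goes to its negative, other
positive roots stay positive, `w_i s = s` if `A_{i,s} = 0`. -/
def chkRefl : Bool := allLt (fun i => and (Nat.beq (T.reflN i (T.simpN i)) (T.negN (T.simpN i))) <|
  allLt (fun s =>
    and (Nat.ble (Nat.succ (T.reflN i s)) T.n) <| and (Nat.beq (T.reflN i (T.reflN i s)) s) <|
    and (Nat.beq (T.reflN i (T.negN s)) (T.negN (T.reflN i s))) <|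
    and (or (or (Nat.beq s (T.simpN i)) (not (T.posB s))) (T.posB (T.reflN i s)))
      (or (not (Nat.beq (T.cartN i s) 8)) (Nat.beq (T.reflN i s) s))) T.n) T.l

/-- effect of reflections on coroots. -/
def chkCoRefl : Bool := allLt (fun i => allLt (fun s => and
    (ieq (T.coroZ (T.reflN i s) i)
      (Int.sub (T.coroZ s i) (isum (fun k => Int.mul (T.coroZ s k) (T.cartZ k (T.simpN i))) T.l)))
    (allLt (fun j => or (Nat.beq j i) (Nat.beq (T.coroN (T.reflN i s) j) (T.coroN s j))) T.l)) T.n) T.l

/-- effect of reflections on the Cartan integers. -/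
def chkCartRefl : Bool := allLt (fun i => allLt (fun s => allLt (fun j =>
    ieq (T.cartZ j (T.reflN i s)) (Int.sub (T.cartZ j s) (Int.mul (T.cartZ i s) (T.cartZ j (T.simpN i))))) T.l) T.n) T.l

/-- `∑ c_i(r) A_{i,r} = 2`. -/
def chkTwo : Bool := allLt (fun r =>
    ieq (isum (fun k => Int.mul (T.coroZ r k) (T.cartZ k r)) T.l) 2) T.n

/-- the coroots are pairwise different. -/
def chkInj : Bool := allLt (fun r => allLt (fun s => not (Nat.beq
    (Nat.land (Nat.shiftRight T.coro (Nat.mul (Nat.mul 4 T.l) r)) (Nat.sub (Nat.pow 16 T.l) 1))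
    (Nat.land (Nat.shiftRight T.coro (Nat.mul (Nat.mul 4 T.l) s)) (Nat.sub (Nat.pow 16 T.l) 1)))) r) T.n

/-- `w_i s < s` exactly if `0 < A_{i,s}`, and `w_i s = s` exactly if `A_{i,s} = 0`. -/
def chkOrd : Bool := allLt (fun i => allLt (fun s =>
    bif Nat.ble 9 (T.cartN i s) then Nat.ble (Nat.succ (T.reflN i s)) s
    else bif Nat.ble 8 (T.cartN i s) then Nat.beq (T.reflN i s) s
    else Nat.ble (Nat.succ s) (T.reflN i s)) T.n) T.l

/-- the largest root is dominant. -/
def chkHigh : Bool := allLt (fun i => Nat.ble 8 (T.cartN i (Nat.sub T.n 1))) T.l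

/-- sizes -/
def chkSize : Bool := and (Nat.ble 1 T.l) (and (Nat.beq T.n (Nat.mul 2 (Nat.div T.n 2))) (Nat.ble 1 T.n))

/-- all checks. -/
def chkAll : Bool := and T.chkSize <| and T.chkSimple <| and T.chkNeg <| and T.chkPos <| and T.chkRefl <|
  and T.chkCoRefl <| and T.chkCartRefl <| and T.chkTwo <| and T.chkInj <| and T.chkOrd T.chkHigh

end Tab

end Cfsg.Agent.ChevalleyStructure.RootCombBase
end

-- part: ChevalleyStructure/RootCombBridge
section
/-!
Bridge between the arrays of a `ChevalleyDatum` and packed tables (one traversal of every array).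
-/

set_option autoImplicit false

namespace Cfsg.Agent.ChevalleyStructure.RootCombBridge

open Cfsg.Lie Cfsg.Agent.ChevalleyStructure.RootCombBase

/-- the `k`-th entry of the list exists and has first component `v`. -/
def nthFst (v : ℕ) (l : List (ℕ × ℤ)) : ℕ → Bool :=
  List.rec (motive := fun _ => ℕ → Bool) (fun _ => false)
    (fun e _ ih k => Nat.rec (motive := fun _ => Bool) (Nat.beq e.1 v) (fun k' _ => ih k') k) l

theorem nthFst_spec {v : ℕ} : ∀ {l : List (ℕ × ℤ)} {k : ℕ}, nthFst v l k = true →
    (l[k]?).map Prod.fst = some v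
  | [], k, h => by
    have h' : false = true := h
    cases h'
  | e :: l, 0, h => by
    have h' : Nat.beq e.1 v = true := h
    have := Nat.eq_of_beq_eq_true h'
    simp [this]
  | e :: l, k + 1, h => by
    have h' : nthFst v l k = true := h
    simpa using nthFst_spec h'

/-- bit mask of the keys of a row. -/
def mask {α : Type} (l : List (ℕ × α)) : ℕ :=
  List.rec (motive := fun _ => ℕ) 0 (fun e _ ih => Nat.lor (Nat.shiftLeft 1 e.1) ih) l

def bit (m s : ℕ) : Bool := Nat.beq (Nat.land (Nat.shiftRight m s) 1) 1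

theorem bit_eq (m s : ℕ) : bit m s = true → m.testBit s = true := by
  intro h
  have h1 : Nat.land (Nat.shiftRight m s) 1 = 1 := Nat.eq_of_beq_eq_true h
  have h2 : (m >>> s) &&& 1 = 1 := h1
  have h3 : (m >>> s) % 2 = 1 := by rwa [Nat.and_one_is_mod] at h2
  rw [Nat.testBit]
  rw [Nat.and_comm, h2]
  rfl

theorem mask_spec {α : Type} {s : ℕ} : ∀ {l : List (ℕ × α)}, (mask l).testBit s = true → ∃ e ∈ l, e.1 = s
  | [], h => by
    have h' : (0 : ℕ).testBit s = true := h
    simp at h'
  | e :: l, h => by
    have h' : ((1 <<< e.1) ||| mask l : ℕ).testBit s = true := h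
    rw [Nat.testBit_or, Bool.or_eq_true] at h'
    rcases h' with h' | h'
    · refine ⟨e, by simp, ?_⟩
      rw [Nat.one_shiftLeft, Nat.testBit_two_pow] at h'
      exact of_decide_eq_true h'
    · obtain ⟨e', he', h''⟩ := mask_spec h'
      exact ⟨e', by simp [he'], h''⟩

namespace Tab

/-- checks on the row of the fundamental root `p_i`: for the keys with negative Cartan integer -/
def rowP (T : Tab) (i : ℕ) (L : List (ℕ × Array (ℕ × ℤ))) : Bool :=
  and (allL (fun e => or (Nat.ble 8 (T.cartN i e.1)) (nthFst (T.reflN i e.1) e.2.toList (Nat.sub 7 (T.cartN i e.1)))) L)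
    (allLt (fun s => or (or (Nat.ble 8 (T.cartN i s)) (Nat.beq s (T.negN (T.simpN i)))) (bit (mask L) s)) T.n)

/-- checks on the row of the negative of the fundamental root `p_i`: for the keys with positive Cartan integer -/
def rowM (T : Tab) (i : ℕ) (L : List (ℕ × Array (ℕ × ℤ))) : Bool :=
  and (allL (fun e => or (Nat.ble (T.cartN i e.1) 8) (nthFst (T.reflN i e.1) e.2.toList (Nat.sub (T.cartN i e.1) 9))) L)
    (allLt (fun s => or (or (Nat.ble (T.cartN i s) 8) (Nat.beq s (T.simpN i))) (bit (mask L) s)) T.n)

end Tab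

/-- the bridge check. -/
def chkBridge (D : ChevalleyDatum) (T : Tab) : Bool :=
  and (Nat.beq D.rank T.l) <| and (Nat.beq D.nroots T.n) <|
  and (trav (fun i a => Nat.beq a (T.simpN i)) T.l D.simpleIdx.toList 0) <|
  and (trav (fun r a => Nat.beq a (T.negN r)) T.n D.negIdx.toList 0) <|
  and (trav (fun r row => trav (fun j c => ieq c (T.coroZ r j)) T.l row.toList 0) T.n D.coroot.toList 0) <|
  and (trav (fun i row => trav (fun s c => ieq c (T.cartZ i s)) T.n row.toList 0) T.l D.cartanSR.toList 0) <|
  trav (fun r row => allLt (fun i =>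
    bif Nat.beq r (T.simpN i) then Tab.rowP T i row.toList
    else bif Nat.beq r (T.negN (T.simpN i)) then Tab.rowM T i row.toList else true) T.l) T.n D.chain.toList 0

structure Bridged (D : ChevalleyDatum) (T : Tab) : Prop where
  rank : D.rank = T.l
  nroots : D.nroots = T.n
  simple : ∀ i < T.l, D.simple i = T.simpN i
  neg : ∀ r < T.n, D.neg r = T.negN r
  size : ∀ r < T.n, (D.coroot.getD r #[]).size = T.l
  co : ∀ r < T.n, ∀ j < T.l, (D.coroot.getD r #[]).getD j 0 = T.coroZ r j
  cartan : ∀ i < T.l, ∀ s < T.n, D.cartan i s = T.cartZ i s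
  refl : ∀ i < T.l, ∀ s < T.n, D.reflectRoot i s = T.reflN i s

theorem cartN_lt (T : Tab) (i s : ℕ) : T.cartN i s < 16 := by
  have : ∀ m k : ℕ, get4 m k < 16 := by
    intro m k
    have h : (m >>> (4 * k)) &&& 15 = (m >>> (4 * k)) % 16 := by
      rw [show (15 : ℕ) = 2 ^ 4 - 1 by norm_num, Nat.and_two_pow_sub_one_eq_mod]
    show (m >>> (4 * k)) &&& 15 < 16
    rw [h]
    exact Nat.mod_lt _ (by norm_num)
  exact this _ _

theorem cartZ_eq (T : Tab) (i s : ℕ) : T.cartZ i s = (T.cartN i s : ℤ) - 8 := by
  show Int.subNatNat _ _ = _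
  rw [Int.subNatNat_eq_coe]
  norm_num

theorem coroZ_eq (T : Tab) (r j : ℕ) : T.coroZ r j = (T.coroN r j : ℤ) - 8 := by
  show Int.subNatNat _ _ = _
  rw [Int.subNatNat_eq_coe]
  norm_num

theorem chainRoot_of_row {D : ChevalleyDatum} {r s k v : ℕ}
    (hkey : ∃ e ∈ (D.chain.getD r #[]).toList, e.1 = s)
    (hval : ∀ e ∈ (D.chain.getD r #[]).toList, e.1 = s → (e.2.toList[k - 1]?).map Prod.fst = some v) :
    D.chainRoot r s k = some v := by
  have hf : ∃ e, (D.chain.getD r #[]).toList.find? (fun e => e.1 = s) = some e := by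
    rw [← Option.isSome_iff_exists, List.find?_isSome]
    obtain ⟨e, he, h⟩ := hkey
    exact ⟨e, he, by simpa using h⟩
  obtain ⟨e, he⟩ := hf
  have hmem := List.mem_of_find?_eq_some he
  have hp := List.find?_some he
  have hp' : e.1 = s := by simpa using hp
  show ((D.chainEntry r s)[k - 1]?).map Prod.fst = some v
  have hce : D.chainEntry r s = e.2.toList := by
    unfold ChevalleyDatum.chainEntry
    rw [he]
  rw [hce]
  exact hval e hmem hp'

theorem bridged_of_check {D : ChevalleyDatum} {T : Tab} (h : chkBridge D T = true)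
    (h1 : T.chkSimple = true) (h2 : T.chkRefl = true)
    (hn : ∀ i < T.l, T.simpN i ≠ T.negN (T.simpN i)) : Bridged D T := by
  unfold chkBridge at h
  simp only [Bool.and_eq_true] at h
  obtain ⟨hrank, hnroots, hsimple, hneg, hco, hcart, hchain⟩ := h
  have hrank := Nat.eq_of_beq_eq_true hrank
  have hnroots := Nat.eq_of_beq_eq_true hnroots
  have hsimple := (arr_spec 0 hsimple).2
  have hneg := (arr_spec 0 hneg).2
  have hco := (arr_spec #[] hco).2
  have hcart := (arr_spec #[] hcart).2
  have hchain := (arr_spec #[] hchain).2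
  have hsimple' : ∀ i < T.l, D.simple i = T.simpN i := fun i hi => Nat.eq_of_beq_eq_true (hsimple i hi)
  have hneg' : ∀ r < T.n, D.neg r = T.negN r := fun r hr => Nat.eq_of_beq_eq_true (hneg r hr)
  have hcart' : ∀ i < T.l, ∀ s < T.n, D.cartan i s = T.cartZ i s := fun i hi s hs =>
    ieq_spec ((arr_spec 0 (hcart i hi)).2 s hs)
  have hsl : ∀ i < T.l, T.simpN i < T.n := by
    intro i hi
    have := allLt_spec h1 i hi
    simp only [Bool.and_eq_true] at this
    exact Nat.lt_of_succ_le (Nat.le_of_ble_eq_true this.1)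
  have hnl : ∀ i < T.l, T.negN (T.simpN i) < T.n := by
    intro i hi
    have := hsl i hi
    show T.n - 1 - T.simpN i < T.n
    omega
  refine ⟨hrank, hnroots, hsimple', hneg', fun r hr => (arr_spec 0 (hco r hr)).1,
    fun r hr j hj => ieq_spec ((arr_spec 0 (hco r hr)).2 j hj), hcart', ?_⟩
  intro i hi s hs
  have hR := allLt_spec h2 i hi
  rw [Bool.and_eq_true] at hR
  obtain ⟨hR1, hR2⟩ := hR
  have hR1 : T.reflN i (T.simpN i) = T.negN (T.simpN i) := Nat.eq_of_beq_eq_true hR1
  have hR3 : T.reflN i (T.reflN i (T.simpN i)) = T.simpN i := by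
    have := allLt_spec hR2 _ (hsl i hi)
    simp only [Bool.and_eq_true] at this
    exact Nat.eq_of_beq_eq_true this.2.1
  rw [hR1] at hR3
  have hRs := allLt_spec hR2 s hs
  simp only [Bool.and_eq_true] at hRs
  obtain ⟨-, -, -, -, hR4⟩ := hRs
  unfold ChevalleyDatum.reflectRoot
  simp only [hsimple' i hi, hneg' _ (hsl i hi), hcart' i hi s hs]
  have hP : Tab.rowP T i (D.chain.getD (T.simpN i) #[]).toList = true := by
    have := allLt_spec (hchain _ (hsl i hi)) i hi
    rw [show Nat.beq (T.simpN i) (T.simpN i) = true from Nat.beq_refl _] at this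
    simpa using this
  have hM : Tab.rowM T i (D.chain.getD (T.negN (T.simpN i)) #[]).toList = true := by
    have := allLt_spec (hchain _ (hnl i hi)) i hi
    have hne : Nat.beq (T.negN (T.simpN i)) (T.simpN i) = false := by
      cases hb : Nat.beq (T.negN (T.simpN i)) (T.simpN i) with
      | false => rfl
      | true => exact absurd (Nat.eq_of_beq_eq_true hb).symm (hn i hi)
    rw [hne, show Nat.beq (T.negN (T.simpN i)) (T.negN (T.simpN i)) = true from Nat.beq_refl _] at this
    simpa using this
  unfold Tab.rowP at hP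
  unfold Tab.rowM at hM
  rw [Bool.and_eq_true] at hP hM
  by_cases hsp : s = T.simpN i
  · rw [if_pos hsp, hsp, hR1]
  rw [if_neg hsp]
  by_cases hsn : s = T.negN (T.simpN i)
  · rw [if_pos hsn, hsn, hR3]
  rw [if_neg hsn]
  have hcz := cartZ_eq T i s
  rcases lt_trichotomy (T.cartN i s) 8 with hlt | heq | hgt
  · have hneg : T.cartZ i s < 0 := by omega
    rw [if_neg (by omega), if_pos hneg]
    have hk : (-T.cartZ i s).toNat = 8 - T.cartN i s := by omega
    have : D.chainRoot (T.simpN i) s (-T.cartZ i s).toNat = some (T.reflN i s) := by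
      apply chainRoot_of_row
      · have := allLt_spec hP.2 s hs
        rw [Bool.or_eq_true, Bool.or_eq_true] at this
        rcases this with (h | h) | h
        · exact absurd (Nat.le_of_ble_eq_true h) (by omega)
        · exact absurd (Nat.eq_of_beq_eq_true h) hsn
        · exact mask_spec (bit_eq _ _ h)
      · intro e he hes
        have := allL_spec hP.1 e he
        rw [Bool.or_eq_true, hes] at this
        rcases this with h | h
        · exact absurd (Nat.le_of_ble_eq_true h) (by omega)
        · have := nthFst_spec h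
          rw [hk, show 8 - T.cartN i s - 1 = Nat.sub 7 (T.cartN i s) by
            show _ = 7 - T.cartN i s
            omega]
          exact this
    rw [this]
    rfl
  · have h0 : T.cartZ i s = 0 := by omega
    rw [h0]
    simp only [lt_irrefl, if_false]
    rw [Bool.or_eq_true] at hR4
    rcases hR4 with h | h
    · rw [show Nat.beq (T.cartN i s) 8 = true by rw [heq]; rfl] at h
      cases h
    · exact (Nat.eq_of_beq_eq_true h).symm
  · have hpos : 0 < T.cartZ i s := by omega
    rw [if_pos hpos]
    have hk : (T.cartZ i s).toNat = T.cartN i s - 8 := by omega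
    have : D.chainRoot (T.negN (T.simpN i)) s (T.cartZ i s).toNat = some (T.reflN i s) := by
      apply chainRoot_of_row
      · have := allLt_spec hM.2 s hs
        rw [Bool.or_eq_true, Bool.or_eq_true] at this
        rcases this with (h | h) | h
        · exact absurd (Nat.le_of_ble_eq_true h) (by omega)
        · exact absurd (Nat.eq_of_beq_eq_true h) hsp
        · exact mask_spec (bit_eq _ _ h)
      · intro e he hes
        have := allL_spec hM.1 e he
        rw [Bool.or_eq_true, hes] at this
        rcases this with h | h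
        · exact absurd (Nat.le_of_ble_eq_true h) (by omega)
        · have := nthFst_spec h
          rw [hk, show T.cartN i s - 8 - 1 = Nat.sub (T.cartN i s) 9 by
            show _ = T.cartN i s - 9
            omega]
          exact this
    rw [this]
    rfl

end Cfsg.Agent.ChevalleyStructure.RootCombBridge
end

-- part: ChevalleyStructure/RootCombGood
section
/-!
The combinatorial layer of a `ChevalleyDatum` as a structure `Good D` (facts about `neg`, `reflectRoot`, coroot
coefficients `co`, Cartan integers `cartan`, positive roots), and its first consequences.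
-/

set_option autoImplicit false

namespace Cfsg.Agent.ChevalleyStructure.RootCombGood

open Cfsg.Lie Cfsg.Agent.ChevalleyStructure.RootCombBase Cfsg.Agent.ChevalleyStructure.RootCombBridge

/-- coefficient of the coroot `h_r` on the fundamental coroot `h_{p_{j+1}}`. -/
def co (D : ChevalleyDatum) (r j : ℕ) : ℤ := (D.coroot.getD r #[]).getD j 0

/-- the general Cartan integer `A_{r,s} = 2 (r,s)/(r,r) = ∑ c_i(r) A_{p_i,s}`. -/
def car (D : ChevalleyDatum) (r s : ℕ) : ℤ := ∑ k ∈ Finset.range D.rank, co D r k * D.cartan k s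

/-- The combinatorial facts about a datum. All quantifiers run over indices below `rank` / `nroots`. -/
structure Good (D : ChevalleyDatum) : Prop where
  rank_pos : 0 < D.rank
  nroots_pos : 0 < D.nroots
  nroots_eq : D.nroots = 2 * (D.nroots / 2)
  neg_eq : ∀ {r : ℕ}, r < D.nroots → D.neg r = D.nroots - 1 - r
  /-- the positive roots are exactly the upper half of the indices -/
  isPosRoot_iff : ∀ {r : ℕ}, D.IsPosRoot r ↔ D.nroots / 2 ≤ r ∧ r < D.nroots
  isNegRoot_iff : ∀ {r : ℕ}, D.IsNegRoot r ↔ r < D.nroots / 2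
  isPosRoot_iff_co : ∀ {r : ℕ}, D.IsPosRoot r ↔ r < D.nroots ∧ ∀ j < D.rank, 0 ≤ co D r j
  isNegRoot_iff_co : ∀ {r : ℕ}, D.IsNegRoot r ↔ r < D.nroots ∧ ∀ j < D.rank, co D r j ≤ 0
  co_ne_zero : ∀ {r : ℕ}, r < D.nroots → ∃ j < D.rank, co D r j ≠ 0
  co_neg : ∀ {r j : ℕ}, r < D.nroots → j < D.rank → co D (D.neg r) j = - co D r j
  co_inj : ∀ {r s : ℕ}, r < D.nroots → s < D.nroots → (∀ j < D.rank, co D r j = co D s j) → r = s
  cartan_neg : ∀ {i r : ℕ}, i < D.rank → r < D.nroots → D.cartan i (D.neg r) = - D.cartan i r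
  simple_lt : ∀ {i : ℕ}, i < D.rank → D.simple i < D.nroots
  simple_pos : ∀ {i : ℕ}, i < D.rank → D.IsPosRoot (D.simple i)
  co_simple : ∀ {i j : ℕ}, i < D.rank → j < D.rank → co D (D.simple i) j = if i = j then 1 else 0
  cartan_simple : ∀ {i : ℕ}, i < D.rank → D.cartan i (D.simple i) = 2
  reflect_lt : ∀ {i s : ℕ}, i < D.rank → s < D.nroots → D.reflectRoot i s < D.nroots
  reflect_reflect : ∀ {i s : ℕ}, i < D.rank → s < D.nroots → D.reflectRoot i (D.reflectRoot i s) = s
  reflect_neg : ∀ {i s : ℕ}, i < D.rank → s < D.nroots → D.reflectRoot i (D.neg s) = D.neg (D.reflectRoot i s)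
  reflect_simple : ∀ {i : ℕ}, i < D.rank → D.reflectRoot i (D.simple i) = D.neg (D.simple i)
  reflect_pos : ∀ {i s : ℕ}, i < D.rank → D.IsPosRoot s → s ≠ D.simple i → D.IsPosRoot (D.reflectRoot i s)
  /-- `c_j(w_i s) = c_j(s) - δ_{ij} ∑ c_k(s) A_{k,i}` -/
  co_reflect : ∀ {i s j : ℕ}, i < D.rank → s < D.nroots → j < D.rank →
    co D (D.reflectRoot i s) j = co D s j - if j = i then car D s (D.simple i) else 0
  /-- `A_{j, w_i s} = A_{j,s} - A_{i,s} A_{j,i}` -/
  cartan_reflect : ∀ {i s j : ℕ}, i < D.rank → s < D.nroots → j < D.rank →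
    D.cartan j (D.reflectRoot i s) = D.cartan j s - D.cartan i s * D.cartan j (D.simple i)
  /-- `A_{r,r} = 2` -/
  car_self : ∀ {r : ℕ}, r < D.nroots → car D r r = 2
  /-- the index order is compatible with the reflections -/
  reflect_lt_iff : ∀ {i s : ℕ}, i < D.rank → s < D.nroots → (D.reflectRoot i s < s ↔ 0 < D.cartan i s)
  reflect_eq_iff : ∀ {i s : ℕ}, i < D.rank → s < D.nroots → (D.reflectRoot i s = s ↔ D.cartan i s = 0)
  /-- the largest root is dominant -/
  cartan_high : ∀ {i : ℕ}, i < D.rank → 0 ≤ D.cartan i (D.nroots - 1)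

theorem good_of_check {D : ChevalleyDatum} {T : Tab} (hb : chkBridge D T = true) (ha : T.chkAll = true) :
    Good D := by
  unfold Tab.chkAll at ha
  simp only [Bool.and_eq_true] at ha
  obtain ⟨cSize, cSimple, cNeg, cPos, cRefl, cCoRefl, cCartRefl, cTwo, cInj, cOrd, cHigh⟩ := ha
  -- sizes
  unfold Tab.chkSize at cSize
  simp only [Bool.and_eq_true] at cSize
  obtain ⟨hl, hn2, hn⟩ := cSize
  have hl : 0 < T.l := Nat.le_of_ble_eq_true hl
  have hn : 0 < T.n := Nat.le_of_ble_eq_true hn
  have hn2 : T.n = 2 * (T.n / 2) := Nat.eq_of_beq_eq_true hn2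
  have hposB : ∀ s, T.posB s = true ↔ T.n / 2 ≤ s := by
    intro s
    have h : T.posB s = true ↔ T.n ≤ 2 * s := by
      show Nat.ble T.n (2 * s) = true ↔ _
      exact Iff.of_eq Nat.ble_eq
    rw [h]
    omega
  have hsl : ∀ i < T.l, T.simpN i < T.n ∧ T.posB (T.simpN i) = true ∧ T.cartN i (T.simpN i) = 10 ∧
      ∀ j < T.l, T.coroN (T.simpN i) j = if i = j then 9 else 8 := by
    intro i hi
    have := allLt_spec cSimple i hi
    simp only [Bool.and_eq_true] at this
    obtain ⟨h1, h2, h3, h4⟩ := this
    refine ⟨Nat.le_of_ble_eq_true h1, h2, Nat.eq_of_beq_eq_true h3, fun j hj => ?_⟩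
    have h := Nat.eq_of_beq_eq_true (allLt_spec h4 j hj)
    rw [h]
    by_cases hij : i = j
    · subst hij
      rw [Nat.beq_refl]
      simp
    · have : Nat.beq i j = false := by
        cases hb : Nat.beq i j with
        | false => rfl
        | true => exact absurd (Nat.eq_of_beq_eq_true hb) hij
      rw [this]
      simp [hij]
  have hne : ∀ i < T.l, T.simpN i ≠ T.negN (T.simpN i) := by
    intro i hi heq
    have h1 := hsl i hi
    have h2 : T.negN (T.simpN i) = T.n - 1 - T.simpN i := rfl
    omega
  have B := bridged_of_check hb cSimple cRefl hne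
  have hnegN : ∀ r, T.negN r = T.n - 1 - r := fun r => rfl
  have hneg : ∀ {r : ℕ}, r < D.nroots → D.neg r = D.nroots - 1 - r := by
    intro r hr
    rw [B.nroots] at hr ⊢
    exact B.neg r hr
  have hco : ∀ {r j : ℕ}, r < T.n → j < T.l → co D r j = (T.coroN r j : ℤ) - 8 := by
    intro r j hr hj
    rw [← coroZ_eq]
    exact B.co r hr j hj
  have hcart : ∀ {i s : ℕ}, i < T.l → s < T.n → D.cartan i s = (T.cartN i s : ℤ) - 8 := by
    intro i s hi hs
    rw [← cartZ_eq]
    exact B.cartan i hi s hs
  have hcar : ∀ {r s : ℕ}, r < T.n → s < T.n →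
      car D r s = isum (fun k => Int.mul (T.coroZ r k) (T.cartZ k s)) T.l := by
    intro r s hr hs
    rw [isum_eq]
    unfold car
    rw [B.rank]
    refine Finset.sum_congr rfl fun k hk => ?_
    have hk := Finset.mem_range.1 hk
    rw [B.cartan k hk s hs]
    show (D.coroot.getD r #[]).getD k 0 * _ = T.coroZ r k * _
    rw [B.co r hr k hk]
  -- positivity
  have hposco : ∀ r < T.n, (T.posB r = true ↔ ∀ j < T.l, 8 ≤ T.coroN r j) ∧
      (T.posB r = false ↔ ∀ j < T.l, T.coroN r j ≤ 8) ∧ ∃ j < T.l, T.coroN r j ≠ 8 := by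
    intro r hr
    have h := allLt_spec cPos r hr
    cases hp : T.posB r with
    | true =>
      rw [hp] at h
      simp only [cond_true, Bool.and_eq_true] at h
      obtain ⟨h1, h2⟩ := h
      obtain ⟨j, hj, h3⟩ := anyLt_spec h2
      have h3 := Nat.le_of_ble_eq_true h3
      refine ⟨⟨fun _ j hj => Nat.le_of_ble_eq_true (allLt_spec h1 j hj), fun _ => rfl⟩,
        ⟨fun h => (by cases h), fun h => absurd (h j hj) (by omega)⟩, j, hj, by omega⟩
    | false =>
      rw [hp] at h
      simp only [cond_false, Bool.and_eq_true] at h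
      obtain ⟨h1, h2⟩ := h
      obtain ⟨j, hj, h3⟩ := anyLt_spec h2
      have h3 := Nat.le_of_ble_eq_true h3
      refine ⟨⟨fun h => (by cases h), fun h => absurd (h j hj) (by omega)⟩,
        ⟨fun _ j hj => Nat.le_of_ble_eq_true (allLt_spec h1 j hj), fun _ => rfl⟩, j, hj, by omega⟩
  have hpco : ∀ {r : ℕ}, D.IsPosRoot r ↔ r < T.n ∧ ∀ j < T.l, 0 ≤ co D r j := by
    intro r
    show (r < D.nroots ∧ ∀ c ∈ (D.coroot.getD r #[]).toList, 0 ≤ c) ↔ _
    rw [B.nroots]
    refine and_congr_right fun hr => ?_
    constructor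
    · intro h j hj
      apply h
      show (D.coroot.getD r #[]).getD j 0 ∈ _
      have hlen : j < (D.coroot.getD r #[]).toList.length := by
        rw [Array.length_toList, B.size r hr]
        exact hj
      rw [getD_toList (D.coroot.getD r #[]) j 0, List.getD_eq_getElem _ _ hlen]
      exact List.getElem_mem _
    · intro h c hc
      obtain ⟨j, hj, rfl⟩ := List.mem_iff_getElem.1 hc
      have hj' : j < T.l := by
        rw [← B.size r hr]
        simpa using hj
      have := h j hj'
      rwa [show co D r j = (D.coroot.getD r #[]).getD j 0 from rfl, getD_toList (D.coroot.getD r #[]) j 0,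
        List.getD_eq_getElem _ _ hj] at this
  have hnco : ∀ {r : ℕ}, D.IsNegRoot r ↔ r < T.n ∧ ∀ j < T.l, co D r j ≤ 0 := by
    intro r
    show (r < D.nroots ∧ ∀ c ∈ (D.coroot.getD r #[]).toList, c ≤ 0) ↔ _
    rw [B.nroots]
    refine and_congr_right fun hr => ?_
    constructor
    · intro h j hj
      apply h
      show (D.coroot.getD r #[]).getD j 0 ∈ _
      have hlen : j < (D.coroot.getD r #[]).toList.length := by
        rw [Array.length_toList, B.size r hr]
        exact hj
      rw [getD_toList (D.coroot.getD r #[]) j 0, List.getD_eq_getElem _ _ hlen]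
      exact List.getElem_mem _
    · intro h c hc
      obtain ⟨j, hj, rfl⟩ := List.mem_iff_getElem.1 hc
      have hj' : j < T.l := by
        rw [← B.size r hr]
        simpa using hj
      have := h j hj'
      rwa [show co D r j = (D.coroot.getD r #[]).getD j 0 from rfl, getD_toList (D.coroot.getD r #[]) j 0,
        List.getD_eq_getElem _ _ hj] at this
  have hpos : ∀ {r : ℕ}, D.IsPosRoot r ↔ T.n / 2 ≤ r ∧ r < T.n := by
    intro r
    rw [hpco]
    constructor
    · rintro ⟨hr, h⟩
      refine ⟨?_, hr⟩
      rw [← hposB, (hposco r hr).1]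
      intro j hj
      have := h j hj
      rw [hco hr hj] at this
      omega
    · rintro ⟨h, hr⟩
      refine ⟨hr, fun j hj => ?_⟩
      rw [← hposB, (hposco r hr).1] at h
      have := h j hj
      rw [hco hr hj]
      omega
  have hnegr : ∀ {r : ℕ}, D.IsNegRoot r ↔ r < T.n / 2 := by
    intro r
    rw [hnco]
    constructor
    · rintro ⟨hr, h⟩
      have h1 : T.posB r = false := by
        rw [(hposco r hr).2.1]
        intro j hj
        have := h j hj
        rw [hco hr hj] at this
        omega
      by_contra hcon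
      have := (hposB r).2 (by omega)
      rw [h1] at this
      cases this
    · intro h
      have hr : r < T.n := by omega
      refine ⟨hr, fun j hj => ?_⟩
      have h1 : T.posB r = false := by
        cases hp : T.posB r with
        | false => rfl
        | true => exact absurd ((hposB r).1 hp) (by omega)
      have := (hposco r hr).2.1.1 h1 j hj
      rw [hco hr hj]
      omega
  -- reflections
  have hrefl : ∀ i < T.l, ∀ s < T.n, T.reflN i s < T.n ∧ T.reflN i (T.reflN i s) = s ∧
      T.reflN i (T.negN s) = T.negN (T.reflN i s) ∧ (s ≠ T.simpN i → T.posB s = true → T.posB (T.reflN i s) = true) := by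
    intro i hi s hs
    have := allLt_spec cRefl i hi
    rw [Bool.and_eq_true] at this
    have := allLt_spec this.2 s hs
    simp only [Bool.and_eq_true] at this
    obtain ⟨h1, h2, h3, h4, -⟩ := this
    refine ⟨Nat.le_of_ble_eq_true h1, Nat.eq_of_beq_eq_true h2, Nat.eq_of_beq_eq_true h3, fun hsi hp => ?_⟩
    simp only [Bool.or_eq_true] at h4
    rcases h4 with (h | h) | h
    · exact absurd (Nat.eq_of_beq_eq_true h) hsi
    · rw [hp] at h
      cases h
    · exact h
  have hrs : ∀ i < T.l, T.reflN i (T.simpN i) = T.negN (T.simpN i) := by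
    intro i hi
    have := allLt_spec cRefl i hi
    rw [Bool.and_eq_true] at this
    exact Nat.eq_of_beq_eq_true this.1
  have hord : ∀ i < T.l, ∀ s < T.n, (T.reflN i s < s ↔ 8 < T.cartN i s) ∧ (T.reflN i s = s ↔ T.cartN i s = 8) := by
    intro i hi s hs
    have h := allLt_spec (allLt_spec cOrd i hi) s hs
    cases h9 : Nat.ble 9 (T.cartN i s) with
    | true =>
      rw [h9] at h
      have h := Nat.le_of_ble_eq_true h
      have h9 := Nat.le_of_ble_eq_true h9
      have h : T.reflN i s + 1 ≤ s := h
      constructor <;> constructor <;> intro _ <;> omega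
    | false =>
      rw [h9] at h
      simp only [cond_false] at h
      have h9 : ¬ 9 ≤ T.cartN i s := fun h' => by
        have := Nat.ble_eq_true_of_le h'
        rw [h9] at this
        cases this
      cases h8 : Nat.ble 8 (T.cartN i s) with
      | true =>
        rw [h8] at h
        have h := Nat.eq_of_beq_eq_true h
        have h8 := Nat.le_of_ble_eq_true h8
        constructor <;> constructor <;> intro _ <;> omega
      | false =>
        rw [h8] at h
        simp only [cond_false] at h
        have h8 : ¬ 8 ≤ T.cartN i s := fun h' => by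
          have := Nat.ble_eq_true_of_le h'
          rw [h8] at this
          cases this
        have h := Nat.le_of_ble_eq_true h
        have h : s + 1 ≤ T.reflN i s := h
        constructor <;> constructor <;> intro _ <;> omega
  have hnlt : ∀ {r : ℕ}, r < T.n → T.negN r < T.n := by
    intro r hr
    rw [hnegN]
    omega
  refine
    { rank_pos := by rw [B.rank]; exact hl
      nroots_pos := by rw [B.nroots]; exact hn
      nroots_eq := by rw [B.nroots]; exact hn2
      neg_eq := hneg
      isPosRoot_iff := by rw [B.nroots]; exact hpos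
      isNegRoot_iff := by rw [B.nroots]; exact hnegr
      isPosRoot_iff_co := by rw [B.nroots, B.rank]; exact hpco
      isNegRoot_iff_co := by rw [B.nroots, B.rank]; exact hnco
      co_ne_zero := ?_
      co_neg := ?_
      co_inj := ?_
      cartan_neg := ?_
      simple_lt := ?_
      simple_pos := ?_
      co_simple := ?_
      cartan_simple := ?_
      reflect_lt := ?_
      reflect_reflect := ?_
      reflect_neg := ?_
      reflect_simple := ?_
      reflect_pos := ?_
      co_reflect := ?_
      cartan_reflect := ?_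
      car_self := ?_
      reflect_lt_iff := ?_
      reflect_eq_iff := ?_
      cartan_high := ?_ }
  · intro r hr
    rw [B.nroots] at hr
    obtain ⟨j, hj, h⟩ := (hposco r hr).2.2
    refine ⟨j, by rw [B.rank]; exact hj, ?_⟩
    rw [hco hr hj]
    omega
  · intro r j hr hj
    rw [B.nroots] at hr
    rw [B.rank] at hj
    have h := allLt_spec cNeg r hr
    rw [Bool.and_eq_true] at h
    have h := Nat.eq_of_beq_eq_true (allLt_spec h.1 j hj)
    have h : T.coroN (T.negN r) j + T.coroN r j = 16 := h
    rw [B.neg r hr, hco (hnlt hr) hj, hco hr hj]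
    omega
  · intro r s hr hs h
    rw [B.nroots] at hr hs
    rw [B.rank] at h
    -- equal packed rows
    have key : ∀ r s, r < T.n → s < T.n → (∀ j < T.l, T.coroN r j = T.coroN s j) → s < r → False := by
      intro r s hr hs h hsr
      have h1 := allLt_spec (allLt_spec cInj r hr) s hsr
      rw [Bool.not_eq_true'] at h1
      have h2 : (Nat.land (Nat.shiftRight T.coro (Nat.mul (Nat.mul 4 T.l) r)) (Nat.sub (Nat.pow 16 T.l) 1)) =
          (Nat.land (Nat.shiftRight T.coro (Nat.mul (Nat.mul 4 T.l) s)) (Nat.sub (Nat.pow 16 T.l) 1)) := by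
        show (T.coro >>> (4 * T.l * r)) &&& (16 ^ T.l - 1) = (T.coro >>> (4 * T.l * s)) &&& (16 ^ T.l - 1)
        rw [show (16 : ℕ) ^ T.l = 2 ^ (4 * T.l) by rw [pow_mul]; norm_num]
        rw [Nat.and_two_pow_sub_one_eq_mod, Nat.and_two_pow_sub_one_eq_mod]
        apply Nat.eq_of_testBit_eq
        intro k
        rw [Nat.testBit_mod_two_pow, Nat.testBit_mod_two_pow]
        by_cases hk : k < 4 * T.l
        · simp only [hk, decide_true, Bool.true_and, Nat.testBit_shiftRight]
          have hj : k / 4 < T.l := by omega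
          have h3 := h (k / 4) hj
          have h4 : ∀ r, (T.coroN r (k / 4)).testBit (k % 4) = T.coro.testBit (4 * T.l * r + k) := by
            intro r
            show ((T.coro >>> (4 * (r * T.l + k / 4))) &&& 15).testBit (k % 4) = _
            rw [show (15 : ℕ) = 2 ^ 4 - 1 by norm_num, Nat.and_two_pow_sub_one_eq_mod, Nat.testBit_mod_two_pow]
            have : k % 4 < 4 := Nat.mod_lt _ (by norm_num)
            simp only [this, decide_true, Bool.true_and, Nat.testBit_shiftRight]
            congr 1
            have : 4 * T.l * r = 4 * (r * T.l) := by ring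
            rw [this]
            omega
          rw [← h4, ← h4, h3]
        · simp [hk]
      rw [h2, Nat.beq_refl] at h1
      cases h1
    have h' : ∀ j < T.l, T.coroN r j = T.coroN s j := by
      intro j hj
      have := h j hj
      rw [hco hr hj, hco hs hj] at this
      omega
    rcases lt_trichotomy r s with hlt | heq | hgt
    · exact (key s r hs hr (fun j hj => (h' j hj).symm) hlt).elim
    · exact heq
    · exact (key r s hr hs h' hgt).elim
  · intro i r hi hr
    rw [B.nroots] at hr
    rw [B.rank] at hi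
    have h := allLt_spec cNeg r hr
    rw [Bool.and_eq_true] at h
    have h := Nat.eq_of_beq_eq_true (allLt_spec h.2 i hi)
    have h : T.cartN i (T.negN r) + T.cartN i r = 16 := h
    rw [B.neg r hr, hcart hi (hnlt hr), hcart hi hr]
    omega
  · intro i hi
    rw [B.rank] at hi
    rw [B.simple i hi, B.nroots]
    exact (hsl i hi).1
  · intro i hi
    rw [B.rank] at hi
    rw [B.simple i hi, hpos, ← hposB]
    exact ⟨(hsl i hi).2.1, (hsl i hi).1⟩
  · intro i j hi hj
    rw [B.rank] at hi hj
    rw [B.simple i hi, hco (hsl i hi).1 hj, (hsl i hi).2.2.2 j hj]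
    split <;> norm_num
  · intro i hi
    rw [B.rank] at hi
    rw [B.simple i hi, hcart hi (hsl i hi).1, (hsl i hi).2.2.1]
    norm_num
  · intro i s hi hs
    rw [B.rank] at hi
    rw [B.nroots] at hs ⊢
    rw [B.refl i hi s hs]
    exact (hrefl i hi s hs).1
  · intro i s hi hs
    rw [B.rank] at hi
    rw [B.nroots] at hs
    rw [B.refl i hi s hs, B.refl i hi _ (hrefl i hi s hs).1]
    exact (hrefl i hi s hs).2.1
  · intro i s hi hs
    rw [B.rank] at hi
    rw [B.nroots] at hs
    rw [B.refl i hi s hs, B.neg s hs, B.refl i hi _ (hnlt hs), B.neg _ (hrefl i hi s hs).1]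
    exact (hrefl i hi s hs).2.2.1
  · intro i hi
    rw [B.rank] at hi
    rw [B.simple i hi, B.refl i hi _ (hsl i hi).1, B.neg _ (hsl i hi).1]
    exact hrs i hi
  · intro i s hi hs hsi
    rw [B.rank] at hi
    rw [hpos] at hs ⊢
    rw [B.simple i hi] at hsi
    rw [B.refl i hi s hs.2, ← hposB]
    exact ⟨(hrefl i hi s hs.2).2.2.2 hsi ((hposB s).2 hs.1), (hrefl i hi s hs.2).1⟩
  · intro i s j hi hs hj
    rw [B.rank] at hi hj
    rw [B.nroots] at hs
    have h := allLt_spec (allLt_spec cCoRefl i hi) s hs
    rw [Bool.and_eq_true] at h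
    rw [B.simple i hi, B.refl i hi s hs]
    by_cases hji : j = i
    · rw [if_pos hji, hji, hcar hs (hsl i hi).1]
      have h1 := ieq_spec h.1
      have e1 : co D (T.reflN i s) i = T.coroZ (T.reflN i s) i := B.co _ (hrefl i hi s hs).1 i hi
      have e2 : co D s i = T.coroZ s i := B.co _ hs i hi
      rw [e1, e2, h1]
      rfl
    · rw [if_neg hji, hco (hrefl i hi s hs).1 hj, hco hs hj]
      have h1 := allLt_spec h.2 j hj
      rw [Bool.or_eq_true] at h1
      rcases h1 with h1 | h1
      · exact absurd (Nat.eq_of_beq_eq_true h1) hji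
      · rw [Nat.eq_of_beq_eq_true h1]
        ring
  · intro i s j hi hs hj
    rw [B.rank] at hi hj
    rw [B.nroots] at hs
    have h := ieq_spec (allLt_spec (allLt_spec (allLt_spec cCartRefl i hi) s hs) j hj)
    rw [B.simple i hi, B.refl i hi s hs, B.cartan j hj _ (hrefl i hi s hs).1, B.cartan j hj s hs,
      B.cartan i hi s hs, B.cartan j hj _ (hsl i hi).1, h]
    rfl
  · intro r hr
    rw [B.nroots] at hr
    rw [hcar hr hr]
    exact ieq_spec (allLt_spec cTwo r hr)
  · intro i s hi hs
    rw [B.rank] at hi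
    rw [B.nroots] at hs
    rw [B.refl i hi s hs, hcart hi hs, (hord i hi s hs).1]
    omega
  · intro i s hi hs
    rw [B.rank] at hi
    rw [B.nroots] at hs
    rw [B.refl i hi s hs, hcart hi hs, (hord i hi s hs).2]
    omega
  · intro i hi
    rw [B.rank] at hi
    have h : 8 ≤ T.cartN i (T.n - 1) := Nat.le_of_ble_eq_true (allLt_spec cHigh i hi)
    rw [B.nroots, hcart hi (by omega)]
    omega

end Cfsg.Agent.ChevalleyStructure.RootCombGood
end
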