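import Cfsg.Prelude.Def_ChevStructure
import Cfsg.Prelude.Def_LieTypes
import Cfsg.Prelude.Def_ChevB2
set_option linter.all false

-- part: ChevalleyStructure/SimpleComplement
section
/-!
Table facts about fundamental roots `p` and positive roots `s ≠ p`: the roots occurring in the commutator
formula for the pairs `(p, s)` and `(-p, s)` are positive and different from `p`.
Consequence (from additivity and the commutator formula, taken as hypotheses): `X_{±p}` normalises
`U_p = ⟨X_s : s > 0, s ≠ p⟩` and `U = U_p X_p`.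
-/

set_option autoImplicit false

namespace Cfsg.Agent.ChevalleyStructure.SimpleComplement

open Cfsg.Lie

/-- The list of the seven data. -/
def types : List ChevalleyDatum :=
  [Cfsg.Lie.chevG2, Cfsg.Lie.chevB2, Cfsg.Lie.chevD4, Cfsg.Lie.chevF4, Cfsg.Lie.chevE6, Cfsg.Lie.chevE7, Cfsg.Lie.chevE8]

/-- Boolean form of `IsPosRoot`. -/
def posB (D : ChevalleyDatum) (r : ℕ) : Bool :=
  decide (r < D.nroots) && ((D.coroot.getD r #[]).toList.all fun c => decide (0 ≤ c))

theorem posB_iff (D : ChevalleyDatum) (r : ℕ) : posB D r = true ↔ D.IsPosRoot r := by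
  show (decide (r < D.nroots) && ((D.coroot.getD r #[]).toList.all fun c => decide (0 ≤ c))) = true ↔
    (r < D.nroots ∧ ∀ c ∈ (D.coroot.getD r #[]).toList, 0 ≤ c)
  rw [Bool.and_eq_true, List.all_eq_true]
  simp only [decide_eq_true_eq]

/-- Boolean check of the terms of the commutator formula for `(±p_i, s)`. -/
def chkAt (D : ChevalleyDatum) (i : ℕ) : Bool :=
    (posB D (D.simple i) && decide (D.neg (D.simple i) < D.nroots) &&
      (D.neg (D.neg (D.simple i)) == D.simple i) && !(D.neg (D.simple i) == D.simple i)) &&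
    (List.range D.nroots).all fun s =>
      !(posB D s) || s == D.simple i ||
        (!(s == D.neg (D.simple i)) &&
          (D.commTerms (D.simple i) s).all (fun c => posB D c.1 && !(c.1 == D.simple i)) &&
          (D.commTerms (D.neg (D.simple i)) s).all (fun c => posB D c.1 && !(c.1 == D.simple i)))

/-- Boolean check of the terms of the commutator formula for `(±p, s)`, all fundamental `p`. -/
def chk (D : ChevalleyDatum) : Bool :=
  (List.range D.rank).all fun i => chkAt D i

theorem chk_of_at {D : ChevalleyDatum} (h : ∀ i < D.rank, chkAt D i = true) : chk D = true := by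
  unfold chk
  rw [List.all_eq_true]
  exact fun i hi => h i (List.mem_range.1 hi)

set_option maxRecDepth 100000 in
theorem chk_G2 : chk chevG2 = true := by decide +kernel
set_option maxRecDepth 100000 in
theorem chk_B2 : chk chevB2 = true := by decide +kernel
set_option maxRecDepth 100000 in
theorem chk_D4 : chk chevD4 = true := by decide +kernel
set_option maxRecDepth 100000 in
theorem chk_F4 : chk chevF4 = true := by decide +kernel
set_option maxRecDepth 100000 in
theorem chkAt_E6_0 : chkAt chevE6 0 = true := by decide +kernel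
set_option maxRecDepth 100000 in
theorem chkAt_E6_1 : chkAt chevE6 1 = true := by decide +kernel
set_option maxRecDepth 100000 in
theorem chkAt_E6_2 : chkAt chevE6 2 = true := by decide +kernel
set_option maxRecDepth 100000 in
theorem chkAt_E6_3 : chkAt chevE6 3 = true := by decide +kernel
set_option maxRecDepth 100000 in
theorem chkAt_E6_4 : chkAt chevE6 4 = true := by decide +kernel
set_option maxRecDepth 100000 in
theorem chkAt_E6_5 : chkAt chevE6 5 = true := by decide +kernel
theorem chk_E6 : chk chevE6 = true := by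
  refine chk_of_at fun i hi => ?_
  have hi8 : i < 6 := hi
  clear hi
  interval_cases i
  exacts [chkAt_E6_0, chkAt_E6_1, chkAt_E6_2, chkAt_E6_3, chkAt_E6_4, chkAt_E6_5]
set_option maxRecDepth 100000 in
theorem chkAt_E7_0 : chkAt chevE7 0 = true := by decide +kernel
set_option maxRecDepth 100000 in
theorem chkAt_E7_1 : chkAt chevE7 1 = true := by decide +kernel
set_option maxRecDepth 100000 in
theorem chkAt_E7_2 : chkAt chevE7 2 = true := by decide +kernel
set_option maxRecDepth 100000 in
theorem chkAt_E7_3 : chkAt chevE7 3 = true := by decide +kernel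
set_option maxRecDepth 100000 in
theorem chkAt_E7_4 : chkAt chevE7 4 = true := by decide +kernel
set_option maxRecDepth 100000 in
theorem chkAt_E7_5 : chkAt chevE7 5 = true := by decide +kernel
set_option maxRecDepth 100000 in
theorem chkAt_E7_6 : chkAt chevE7 6 = true := by decide +kernel
theorem chk_E7 : chk chevE7 = true := by
  refine chk_of_at fun i hi => ?_
  have hi8 : i < 7 := hi
  clear hi
  interval_cases i
  exacts [chkAt_E7_0, chkAt_E7_1, chkAt_E7_2, chkAt_E7_3, chkAt_E7_4, chkAt_E7_5, chkAt_E7_6]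
set_option maxRecDepth 100000 in
theorem chkAt_E8_0 : chkAt chevE8 0 = true := by decide +kernel
set_option maxRecDepth 100000 in
theorem chkAt_E8_1 : chkAt chevE8 1 = true := by decide +kernel
set_option maxRecDepth 100000 in
theorem chkAt_E8_2 : chkAt chevE8 2 = true := by decide +kernel
set_option maxRecDepth 100000 in
theorem chkAt_E8_3 : chkAt chevE8 3 = true := by decide +kernel
set_option maxRecDepth 100000 in
theorem chkAt_E8_4 : chkAt chevE8 4 = true := by decide +kernel
set_option maxRecDepth 100000 in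
theorem chkAt_E8_5 : chkAt chevE8 5 = true := by decide +kernel
set_option maxRecDepth 100000 in
theorem chkAt_E8_6 : chkAt chevE8 6 = true := by decide +kernel
set_option maxRecDepth 100000 in
theorem chkAt_E8_7 : chkAt chevE8 7 = true := by decide +kernel
theorem chk_E8 : chk chevE8 = true := by
  refine chk_of_at fun i hi => ?_
  have hi8 : i < 8 := hi
  clear hi
  interval_cases i
  exacts [chkAt_E8_0, chkAt_E8_1, chkAt_E8_2, chkAt_E8_3, chkAt_E8_4, chkAt_E8_5, chkAt_E8_6, chkAt_E8_7]

theorem chk_of_mem (D : ChevalleyDatum)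
    (hD : D ∈ [Cfsg.Lie.chevG2, Cfsg.Lie.chevB2, Cfsg.Lie.chevD4, Cfsg.Lie.chevF4, Cfsg.Lie.chevE6, Cfsg.Lie.chevE7, Cfsg.Lie.chevE8]) :
    chk D = true := by
  simp only [List.mem_cons, List.not_mem_nil, or_false] at hD
  rcases hD with rfl | rfl | rfl | rfl | rfl | rfl | rfl
  exacts [chk_G2, chk_B2, chk_D4, chk_F4, chk_E6, chk_E7, chk_E8]

/-- What the check says. -/
structure SimpleFacts (D : ChevalleyDatum) (i : ℕ) : Prop where
  pos : D.IsPosRoot (D.simple i)
  neg_lt : D.neg (D.simple i) < D.nroots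
  neg_neg : D.neg (D.neg (D.simple i)) = D.simple i
  neg_ne : D.neg (D.simple i) ≠ D.simple i
  ne_neg : ∀ s, D.IsPosRoot s → s ≠ D.simple i → s ≠ D.neg (D.simple i)
  comm_pos : ∀ s, D.IsPosRoot s → s ≠ D.simple i → ∀ c ∈ D.commTerms (D.simple i) s,
    D.IsPosRoot c.1 ∧ c.1 ≠ D.simple i
  comm_neg : ∀ s, D.IsPosRoot s → s ≠ D.simple i → ∀ c ∈ D.commTerms (D.neg (D.simple i)) s,
    D.IsPosRoot c.1 ∧ c.1 ≠ D.simple i

theorem simpleFacts_of_chk {D : ChevalleyDatum} (h : chk D = true) {i : ℕ} (hi : i < D.rank) :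
    SimpleFacts D i := by
  unfold chk at h
  rw [List.all_eq_true] at h
  have h1 := h i (List.mem_range.2 hi)
  unfold chkAt at h1
  rw [Bool.and_eq_true, List.all_eq_true] at h1
  obtain ⟨h2, h3⟩ := h1
  simp only [Bool.and_eq_true, decide_eq_true_eq, beq_iff_eq, Bool.not_eq_true',
    beq_eq_false_iff_ne, posB_iff] at h2
  obtain ⟨⟨⟨ha, hb⟩, hc⟩, hd⟩ := h2
  have key : ∀ s, D.IsPosRoot s → s ≠ D.simple i → s ≠ D.neg (D.simple i) ∧
      (∀ c ∈ D.commTerms (D.simple i) s, D.IsPosRoot c.1 ∧ c.1 ≠ D.simple i) ∧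
      (∀ c ∈ D.commTerms (D.neg (D.simple i)) s, D.IsPosRoot c.1 ∧ c.1 ≠ D.simple i) := by
    intro s hs hne
    have h4 := h3 s (List.mem_range.2 hs.1)
    rw [Bool.or_eq_true, Bool.or_eq_true] at h4
    rcases h4 with (h4 | h4) | h4
    · exfalso
      rw [(posB_iff D s).2 hs] at h4
      simp at h4
    · exfalso
      exact hne (by simpa using h4)
    · rw [Bool.and_eq_true, Bool.and_eq_true, List.all_eq_true, List.all_eq_true] at h4
      obtain ⟨⟨h5, h6⟩, h7⟩ := h4
      refine ⟨by simpa using h5, fun c hc' => ?_, fun c hc' => ?_⟩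
      · have := h6 c hc'
        rw [Bool.and_eq_true, posB_iff] at this
        exact ⟨this.1, by simpa using this.2⟩
      · have := h7 c hc'
        rw [Bool.and_eq_true, posB_iff] at this
        exact ⟨this.1, by simpa using this.2⟩
  exact ⟨ha, hb, hc, hd, fun s hs hne => (key s hs hne).1, fun s hs hne => (key s hs hne).2.1,
    fun s hs hne => (key s hs hne).2.2⟩

theorem simpleFacts (D : ChevalleyDatum)
    (hD : D ∈ [Cfsg.Lie.chevG2, Cfsg.Lie.chevB2, Cfsg.Lie.chevD4, Cfsg.Lie.chevF4, Cfsg.Lie.chevE6, Cfsg.Lie.chevE7, Cfsg.Lie.chevE8])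
    {i : ℕ} (hi : i < D.rank) : SimpleFacts D i :=
  simpleFacts_of_chk (chk_of_mem D hD) hi

end Cfsg.Agent.ChevalleyStructure.SimpleComplement
end

-- part: ChevalleyStructure/SimpleComplementNorm
section
/-!
From additivity (`S1023`) and the commutator formula (`S1025`), taken as hypotheses: `X_{±p}` normalises
`U_p = ⟨X_s : s > 0, s ≠ p⟩` and `U = U_p X_p`.
-/

set_option autoImplicit false

namespace Cfsg.Agent.ChevalleyStructure.SimpleComplementNorm

open Cfsg.Lie
open Cfsg.Agent.ChevalleyStructure.SimpleComplement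

variable {F : Type*} [Field F] {D : ChevalleyDatum}

/-- `x_r(0) = 1` for every datum. -/
theorem x_zero (D : ChevalleyDatum) (r : ℕ) : D.x F r (0 : F) = 1 := by
  unfold ChevalleyDatum.x
  split_ifs with h
  · ext a b
    rcases b with j | s
    · rcases a with j' | u
      · simp [ChevalleyDatum.xMat, Matrix.one_apply]
      · simp [ChevalleyDatum.xMat, Matrix.one_apply]
    · have hsum : ∀ u : ℕ, ((D.chainCoeff r s.val u).map
          fun km => ((km.2 : ℤ) : F) * (0 : F) ^ km.1).sum = 0 := by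
        intro u
        apply List.sum_eq_zero
        intro y hy
        rw [List.mem_map] at hy
        obtain ⟨km, hkm, rfl⟩ := hy
        have : km.1 ≠ 0 := by
          unfold ChevalleyDatum.chainCoeff at hkm
          rw [List.mem_flatMap] at hkm
          obtain ⟨e, -, he⟩ := hkm
          rw [List.mem_map] at he
          obtain ⟨q, -, rfl⟩ := he
          exact Nat.succ_ne_zero _
        rw [zero_pow this, mul_zero]
      rcases a with j' | u
      · simp only [ChevalleyDatum.xMat, Matrix.of_apply, Matrix.one_apply]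
        split_ifs <;> simp_all
      · simp only [ChevalleyDatum.xMat, Matrix.of_apply, Matrix.one_apply, hsum, Sum.inr.injEq]
        split_ifs <;> simp_all
  · rfl

/-- Additivity of the root elements as a hypothesis. -/
def Additive (F : Type*) [Field F] (D : ChevalleyDatum) : Prop :=
  ∀ r < D.nroots, ∀ t₁ t₂ : F, D.x F r t₁ * D.x F r t₂ = D.x F r (t₁ + t₂)

/-- Commutator formula as a hypothesis. -/
def CommFormula (F : Type*) [Field F] (D : ChevalleyDatum) : Prop :=
  ∀ r s : ℕ, r < D.nroots → s < D.nroots → s ≠ r → s ≠ D.neg r → ∀ t u : F,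
    D.x F s u * D.x F r t = D.x F r t * D.x F s u * D.wordMat F (D.commWord F r s t u)

theorem x_add (hadd : Additive F D) (r : ℕ) (t₁ t₂ : F) :
    D.x F r t₁ * D.x F r t₂ = D.x F r (t₁ + t₂) := by
  by_cases h : r < D.nroots
  · exact hadd r h t₁ t₂
  · simp [ChevalleyDatum.x, h]

theorem x_mul_x_neg (hadd : Additive F D) (r : ℕ) (t : F) : D.x F r t * D.x F r (-t) = 1 := by
  rw [x_add hadd, add_neg_cancel, x_zero]

theorem x_neg_mul_x (hadd : Additive F D) (r : ℕ) (t : F) : D.x F r (-t) * D.x F r t = 1 := by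
  rw [x_add hadd, neg_add_cancel, x_zero]

/-- The root element as an element of the general linear group. -/
def xU (hadd : Additive F D) (r : ℕ) (t : F) : GL D.Idx F :=
  ⟨D.x F r t, D.x F r (-t), x_mul_x_neg hadd r t, x_neg_mul_x hadd r t⟩

theorem coe_xU (hadd : Additive F D) (r : ℕ) (t : F) :
    ((xU hadd r t : GL D.Idx F) : Matrix D.Idx D.Idx F) = D.x F r t := rfl

theorem eq_xU (hadd : Additive F D) {g : GL D.Idx F} {r : ℕ} {t : F}
    (h : (g : Matrix D.Idx D.Idx F) = D.x F r t) : g = xU hadd r t := Units.ext h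

theorem xU_mul (hadd : Additive F D) (r : ℕ) (t₁ t₂ : F) :
    xU hadd r t₁ * xU hadd r t₂ = xU hadd r (t₁ + t₂) := Units.ext (x_add hadd r t₁ t₂)

theorem xU_zero (hadd : Additive F D) (r : ℕ) : xU hadd r 0 = 1 := Units.ext (x_zero D r)

theorem xU_inv (hadd : Additive F D) (r : ℕ) (t : F) : (xU hadd r t)⁻¹ = xU hadd r (-t) := by
  rw [inv_eq_iff_mul_eq_one, xU_mul, add_neg_cancel, xU_zero]

/-- The element of the general linear group given by a word. -/
def wU (hadd : Additive F D) (w : List (ℕ × F)) : GL D.Idx F := (w.map fun p => xU hadd p.1 p.2).prod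

theorem coe_wU (hadd : Additive F D) (w : List (ℕ × F)) :
    ((wU hadd w : GL D.Idx F) : Matrix D.Idx D.Idx F) = D.wordMat F w := by
  unfold wU ChevalleyDatum.wordMat
  induction w with
  | nil => rfl
  | cons a w ih => simp [coe_xU, ← ih]

theorem wU_mem (hadd : Additive F D) (w : List (ℕ × F)) (K : Subgroup (GL D.Idx F))
    (h : ∀ p ∈ w, xU hadd p.1 p.2 ∈ K) : wU hadd w ∈ K := by
  apply Subgroup.list_prod_mem
  intro y hy
  rw [List.mem_map] at hy
  obtain ⟨p, hp, rfl⟩ := hy
  exact h p hp

theorem mem_rootSubgroup (hadd : Additive F D) {r : ℕ} {g : GL D.Idx F} :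
    g ∈ D.rootSubgroup F r ↔ ∃ t : F, g = xU hadd r t := by
  constructor
  · intro hg
    unfold ChevalleyDatum.rootSubgroup at hg
    induction hg using Subgroup.closure_induction with
    | mem y hy => obtain ⟨t, ht⟩ := hy; exact ⟨t, eq_xU hadd ht⟩
    | one => exact ⟨0, (xU_zero hadd r).symm⟩
    | mul a b _ _ ha hb =>
      obtain ⟨t, rfl⟩ := ha
      obtain ⟨u, rfl⟩ := hb
      exact ⟨t + u, xU_mul hadd r t u⟩
    | inv a _ ha => obtain ⟨t, rfl⟩ := ha; exact ⟨-t, xU_inv hadd r t⟩
  · rintro ⟨t, rfl⟩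
    exact Subgroup.subset_closure ⟨t, rfl⟩

/-- The generating set of `U_p`. -/
def complSet (F : Type*) [Field F] (D : ChevalleyDatum) (i : ℕ) : Set (GL D.Idx F) :=
  {g : GL D.Idx F | ∃ (s : ℕ) (t : F), D.IsPosRoot s ∧ s ≠ D.simple i ∧
          (g : Matrix D.Idx D.Idx F) = D.x F s t}

theorem xU_mem_compl (hadd : Additive F D) {i s : ℕ} (hs : D.IsPosRoot s) (hne : s ≠ D.simple i) (t : F) :
    xU hadd s t ∈ Subgroup.closure (complSet F D i) :=
  Subgroup.subset_closure ⟨s, t, hs, hne, rfl⟩

theorem wU_commWord_mem (hadd : Additive F D) {i r s : ℕ} (t u : F)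
    (h : ∀ c ∈ D.commTerms r s, D.IsPosRoot c.1 ∧ c.1 ≠ D.simple i) :
    wU hadd (D.commWord F r s t u) ∈ Subgroup.closure (complSet F D i) := by
  apply wU_mem
  intro p hp
  unfold ChevalleyDatum.commWord at hp
  rw [List.mem_map] at hp
  obtain ⟨c, hc, rfl⟩ := hp
  exact xU_mem_compl hadd (h c hc).1 (h c hc).2 _

theorem xU_conj (hadd : Additive F D) (hcomm : CommFormula F D) {r s : ℕ} (hr : r < D.nroots)
    (hs : s < D.nroots) (h1 : s ≠ r) (h2 : s ≠ D.neg r) (t u : F) :
    xU hadd r t * xU hadd s u * (xU hadd r t)⁻¹ = xU hadd s u * wU hadd (D.commWord F r s (-t) u) := by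
  have h : xU hadd s u * xU hadd r (-t) = xU hadd r (-t) * xU hadd s u * wU hadd (D.commWord F r s (-t) u) := by
    apply Units.ext
    have := hcomm r s hr hs h1 h2 (-t) u
    rw [Units.val_mul, Units.val_mul, Units.val_mul, coe_wU]
    exact this
  rw [mul_assoc, xU_inv, h, ← xU_inv]
  group

theorem rootSubgroup_le_normalizer (hadd : Additive F D) (hcomm : CommFormula F D) {i r : ℕ}
    (hr : r < D.nroots)
    (h1 : ∀ s, D.IsPosRoot s → s ≠ D.simple i → s ≠ r)
    (h2 : ∀ s, D.IsPosRoot s → s ≠ D.simple i → s ≠ D.neg r)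
    (h : ∀ s, D.IsPosRoot s → s ≠ D.simple i → ∀ c ∈ D.commTerms r s, D.IsPosRoot c.1 ∧ c.1 ≠ D.simple i) :
    D.rootSubgroup F r ≤ Subgroup.normalizer (Subgroup.closure (complSet F D i) : Set (GL D.Idx F)) := by
  rw [Subgroup.le_normalizer_closure_iff]
  intro g hg k hk
  obtain ⟨t, rfl⟩ := (mem_rootSubgroup hadd).1 hg
  obtain ⟨s, u, hs, hne, hk⟩ := hk
  obtain rfl := eq_xU hadd hk
  rw [xU_conj hadd hcomm hr hs.1 (h1 s hs hne) (h2 s hs hne)]
  exact mul_mem (xU_mem_compl hadd hs hne u) (wU_commWord_mem hadd _ _ (h s hs hne))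

theorem main (hadd : Additive F D) (hcomm : CommFormula F D) {i : ℕ} (hf : SimpleFacts D i) :
    D.rootSubgroup F (D.simple i) ⊔ D.rootSubgroup F (D.neg (D.simple i)) ≤
        Subgroup.normalizer (Subgroup.closure (complSet F D i) : Set (GL D.Idx F)) ∧
      Subgroup.closure (complSet F D i) ⊔ D.rootSubgroup F (D.simple i) = D.posUnipotent F := by
  refine ⟨sup_le ?_ ?_, le_antisymm (sup_le ?_ ?_) ?_⟩
  · exact rootSubgroup_le_normalizer hadd hcomm hf.pos.1 (fun s _ hne => hne) hf.ne_neg hf.comm_pos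
  · refine rootSubgroup_le_normalizer hadd hcomm hf.neg_lt hf.ne_neg (fun s _ hne => ?_) hf.comm_neg
    rw [hf.neg_neg]; exact hne
  · apply Subgroup.closure_mono
    rintro g ⟨s, t, hs, -, hg⟩
    exact ⟨s, t, hs, hg⟩
  · apply Subgroup.closure_mono
    rintro g ⟨t, hg⟩
    exact ⟨D.simple i, t, hf.pos, hg⟩
  · unfold ChevalleyDatum.posUnipotent
    rw [Subgroup.closure_le]
    rintro g ⟨s, t, hs, hg⟩
    by_cases hne : s = D.simple i
    · subst hne
      exact (le_sup_right : _ ≤ Subgroup.closure (complSet F D i) ⊔ _) (Subgroup.subset_closure ⟨t, hg⟩)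
    · exact (le_sup_left : _ ≤ Subgroup.closure (complSet F D i) ⊔ _) (Subgroup.subset_closure ⟨s, t, hs, hne, hg⟩)

end Cfsg.Agent.ChevalleyStructure.SimpleComplementNorm
end
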