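import Cfsg.Prelude.Def_ChevStructure
set_option linter.all false

/-!
Transport of Chevalley's commutator formula under a reflection `w = w_{p_i}` in a fundamental root, for data
without chains of length three (all types but `G₂`).
-/

set_option autoImplicit false

namespace Cfsg.Agent.ChevalleyStructure.CommTransport

open Cfsg.Lie

/-- The commutator formula for the pair `(r, s)`. -/
def CommAt (F : Type*) [Field F] (D : ChevalleyDatum) (r s : ℕ) : Prop :=
  ∀ t u : F, D.x F s u * D.x F r t = D.x F r t * D.x F s u * D.wordMat F (D.commWord F r s t u)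

/-- No chain of length three starts at the pair `(r, s)`. -/
def NoLong (D : ChevalleyDatum) (r s : ℕ) : Prop := (D.chainEntry r s).length ≤ 2

/-- Compatibility of the chain table with a permutation `w` of the roots and signs `e`. -/
def ChainCompat (D : ChevalleyDatum) (w : ℕ → ℕ) (e : ℕ → ℤ) (r s : ℕ) : Prop :=
  D.chainEntry (w r) (w s) =
    (D.chainEntry r s).mapIdx fun k c => (w c.1, e r ^ (k + 1) * e s * e c.1 * c.2)

variable {D : ChevalleyDatum}

theorem chainEntry_getElem? {w : ℕ → ℕ} {e : ℕ → ℤ} {r s : ℕ} (h : ChainCompat D w e r s) (k : ℕ) :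
    (D.chainEntry (w r) (w s))[k]? =
      ((D.chainEntry r s)[k]?).map fun c => (w c.1, e r ^ (k + 1) * e s * e c.1 * c.2) := by
  rw [h, List.getElem?_mapIdx]

theorem chainRoot_none_of_noLong {r s k : ℕ} (h : NoLong D r s) (hk : 3 ≤ k) : D.chainRoot r s k = none := by
  unfold ChevalleyDatum.chainRoot
  rw [List.getElem?_eq_none (by unfold NoLong at h; omega)]
  rfl

/-- The commutator terms, for pairs without long chains, as a filtered list of three candidates. -/
def cands3 (D : ChevalleyDatum) (r s : ℕ) : List (Option ℕ × ℤ × ℕ × ℕ) :=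
  [ (D.chainRoot r s 1, D.chainM r s 1, 1, 1),
    (D.chainRoot r s 2, D.chainM r s 2, 2, 1),
    (D.chainRoot s r 2, D.chainM s r 2, 1, 2) ]

theorem commTerms_eq {r s : ℕ} (h1 : NoLong D r s) (h2 : NoLong D s r) :
    D.commTerms r s = (cands3 D r s).filterMap fun c => c.1.map fun k => (k, c.2) := by
  unfold ChevalleyDatum.commTerms cands3
  simp only [chainRoot_none_of_noLong h1 (le_refl 3), chainRoot_none_of_noLong h2 (le_refl 3),
    Option.bind_none]
  simp [List.filterMap_cons]

/-- `chainRoot` and `chainM` read off an entry. -/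
theorem chainRoot_def' (r s k : ℕ) : D.chainRoot r s (k + 1) = ((D.chainEntry r s)[k]?).map Prod.fst := rfl

theorem chainM_def' (r s k : ℕ) : D.chainM r s (k + 1) = (((D.chainEntry r s)[k]?).map Prod.snd).getD 0 := rfl

theorem noLong_map {w : ℕ → ℕ} {e : ℕ → ℤ} {r s : ℕ} (h : ChainCompat D w e r s) (hl : NoLong D r s) :
    NoLong D (w r) (w s) := by
  unfold NoLong at *
  rw [h, List.length_mapIdx]
  exact hl

/-- Equivariance of the terms of the commutator formula. -/
theorem commTerms_map {w : ℕ → ℕ} {e : ℕ → ℤ} {r s : ℕ} (h1 : ChainCompat D w e r s)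
    (h2 : ChainCompat D w e s r) (hl1 : NoLong D r s) (hl2 : NoLong D s r) :
    D.commTerms (w r) (w s) =
      (D.commTerms r s).map fun c => (w c.1, e r ^ c.2.2.1 * e s ^ c.2.2.2 * e c.1 * c.2.1, c.2.2) := by
  rw [commTerms_eq hl1 hl2, commTerms_eq (noLong_map h1 hl1) (noLong_map h2 hl2)]
  have a0 := chainEntry_getElem? h1 0
  have a1 := chainEntry_getElem? h1 1
  have b1 := chainEntry_getElem? h2 1
  unfold cands3
  have e1 : ∀ r s, D.chainRoot r s 1 = ((D.chainEntry r s)[0]?).map Prod.fst := fun r s => rfl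
  have e2 : ∀ r s, D.chainRoot r s 2 = ((D.chainEntry r s)[1]?).map Prod.fst := fun r s => rfl
  have e3 : ∀ r s, D.chainM r s 1 = (((D.chainEntry r s)[0]?).map Prod.snd).getD 0 := fun r s => rfl
  have e4 : ∀ r s, D.chainM r s 2 = (((D.chainEntry r s)[1]?).map Prod.snd).getD 0 := fun r s => rfl
  simp only [e1, e2, e3, e4, a0, a1, b1]
  rcases (D.chainEntry r s)[0]? with _ | ⟨k0, m0⟩ <;> rcases (D.chainEntry r s)[1]? with _ | ⟨k1, m1⟩ <;>
    rcases (D.chainEntry s r)[1]? with _ | ⟨k2, m2⟩ <;>
    simp [mul_comm, mul_left_comm, mul_assoc]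

variable {F : Type*} [Field F]

theorem wordMat_conj {w : ℕ → ℕ} {e : ℕ → ℤ} {N : Matrix D.Idx D.Idx F} (l : List (ℕ × F))
    (hN : ∀ p ∈ l, ∀ t : F, N * D.x F p.1 t = D.x F (w p.1) ((e p.1 : F) * t) * N) :
    N * D.wordMat F l = D.wordMat F (l.map fun p => (w p.1, (e p.1 : F) * p.2)) * N := by
  unfold ChevalleyDatum.wordMat
  induction l with
  | nil => simp
  | cons a l ih =>
    have h1 := hN a (List.mem_cons_self) a.2
    have h2 := ih fun p hp => hN p (List.mem_cons_of_mem _ hp)
    simp only [List.map_cons, List.prod_cons]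
    rw [← mul_assoc, h1, mul_assoc, h2, ← mul_assoc]

/-- **Transport of the commutator formula.** -/
theorem commAt_map {w : ℕ → ℕ} {e : ℕ → ℤ} {r s : ℕ} {N N' : Matrix D.Idx D.Idx F} (hNN : N * N' = 1)
    (hN : ∀ k : ℕ, (k = r ∨ k = s ∨ ∃ c ∈ D.commTerms r s, c.1 = k) →
      ∀ t : F, N * D.x F k t = D.x F (w k) ((e k : F) * t) * N)
    (he : ∀ k : ℕ, e k = 1 ∨ e k = -1)
    (h1 : ChainCompat D w e r s) (h2 : ChainCompat D w e s r) (hl1 : NoLong D r s) (hl2 : NoLong D s r)
    (h : CommAt F D r s) : CommAt F D (w r) (w s) := by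
  have he2 : ∀ k : ℕ, (e k : F) * (e k : F) = 1 := by
    intro k
    rcases he k with h | h <;> simp [h]
  intro t u
  -- use the formula at (e r * t, e s * u)
  have key := h ((e r : F) * t) ((e s : F) * u)
  have hr := hN r (Or.inl rfl)
  have hs := hN s (Or.inr (Or.inl rfl))
  have hw : N * D.wordMat F (D.commWord F r s ((e r : F) * t) ((e s : F) * u)) =
      D.wordMat F (D.commWord F (w r) (w s) t u) * N := by
    rw [wordMat_conj (w := w) (e := e)]
    · congr 2
      unfold ChevalleyDatum.commWord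
      rw [commTerms_map h1 h2 hl1 hl2, List.map_map, List.map_map]
      apply List.map_congr_left
      intro c _
      simp only [Function.comp_apply, Prod.mk.injEq, true_and]
      have hpow : ∀ (k n : ℕ), ((e k : F)) ^ n = ((e k ^ n : ℤ) : F) := by intro k n; push_cast; rfl
      push_cast
      rw [neg_mul_eq_mul_neg, mul_pow, mul_pow]
      ring
    · intro p hp t
      unfold ChevalleyDatum.commWord at hp
      rw [List.mem_map] at hp
      obtain ⟨c, hc, rfl⟩ := hp
      exact hN c.1 (Or.inr (Or.inr ⟨c, hc, rfl⟩)) t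
  have hr' : N * D.x F r ((e r : F) * t) = D.x F (w r) t * N := by
    rw [hr, ← mul_assoc, he2, one_mul]
  have hs' : N * D.x F s ((e s : F) * u) = D.x F (w s) u * N := by
    rw [hs, ← mul_assoc, he2, one_mul]
  have L : N * (D.x F s ((e s : F) * u) * D.x F r ((e r : F) * t)) = D.x F (w s) u * D.x F (w r) t * N := by
    rw [← mul_assoc, hs', mul_assoc, hr', ← mul_assoc]
  have R : N * (D.x F r ((e r : F) * t) * D.x F s ((e s : F) * u) *
      D.wordMat F (D.commWord F r s ((e r : F) * t) ((e s : F) * u))) =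
      D.x F (w r) t * D.x F (w s) u * D.wordMat F (D.commWord F (w r) (w s) t u) * N := by
    rw [← mul_assoc, ← mul_assoc, hr', mul_assoc (D.x F (w r) t), hs', ← mul_assoc, mul_assoc _ N, hw,
      ← mul_assoc]
  have fin : D.x F (w s) u * D.x F (w r) t * N =
      D.x F (w r) t * D.x F (w s) u * D.wordMat F (D.commWord F (w r) (w s) t u) * N := by
    rw [← L, ← R, key]
  have := congrArg (· * N') fin
  simp only [mul_assoc, hNN, mul_one] at this
  rw [this, mul_assoc]

end Cfsg.Agent.ChevalleyStructure.CommTransport
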