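import Cfsg.Prelude.Def_ChevG2
import Cfsg.Prelude.Def_ChevB2
import Cfsg.Prelude.Def_ChevD4
import Cfsg.Prelude.Def_ChevF4
import Cfsg.Agent.ChevalleyStructure.W0Core
set_option linter.all false

/-!
Packed reflection tables and the longest element for the types G2, B2, D4, F4.
-/

set_option autoImplicit false
set_option maxRecDepth 100000

namespace Cfsg.Agent.ChevalleyStructure.W0Small

open Cfsg.Lie
open Cfsg.Agent.ChevalleyStructure.W0Core

/-! ### Type G2 -/

/-- packed table of the 0-th reflection of type G2 -/
def tabG2_0 : ℕ := 0xb060809040a010702030500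

theorem rowG2_0 : rowOK chevG2 0 tabG2_0 = true := by decide +kernel

/-- packed table of the 1-th reflection of type G2 -/
def tabG2_1 : ℕ := 0xa0b09070805060304020001

theorem rowG2_1 : rowOK chevG2 1 tabG2_1 = true := by decide +kernel

/-- the packed reflection tables of type G2 -/
def tabG2 : ℕ → ℕ
  | 0 => tabG2_0
  | 1 => tabG2_1
  | _ => 0

theorem tabG2_ok : ∀ i < chevG2.rank, ∀ s < chevG2.nroots, chevG2.reflectRoot i s = look (tabG2 i) s := by
  intro i hi s hs
  have hi : i < 2 := hi
  interval_cases i
  · exact rowOK_spec rowG2_0 hs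
  · exact rowOK_spec rowG2_1 hs

theorem rangeG2 : ∀ i < 2, rangeOK (tabG2 i) 12 = true := by decide +kernel

/-- a word for the longest element of type G2: a power of a Coxeter element -/
def wordG2 : List ℕ := (List.replicate 3 [0, 1]).flatten

/-- the packed table of the longest element of type G2 -/
def w0G2 : ℕ := 0x102030405060708090a0b

theorem wordG2_lt : ∀ i ∈ wordG2, i < 2 := by decide +kernel

theorem wordG2_simple : ∀ i ∈ wordG2, chevG2.simple i < 12 := by decide +kernel

theorem wordG2_ok : wordOK tabG2 wordG2 w0G2 12 = true := by decide +kernel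

theorem flipG2 : flipOK w0G2 6 12 = true := by decide +kernel

theorem signG2 : signOK chevG2 6 = true := by decide +kernel

/-! ### Type B2 -/

/-- packed table of the 0-th reflection of type B2 -/
def tabB2_0 : ℕ := 0x406020700050103

theorem rowB2_0 : rowOK chevB2 0 tabB2_0 = true := by decide +kernel

/-- packed table of the 1-th reflection of type B2 -/
def tabB2_1 : ℕ := 0x705060304010200

theorem rowB2_1 : rowOK chevB2 1 tabB2_1 = true := by decide +kernel

/-- the packed reflection tables of type B2 -/
def tabB2 : ℕ → ℕ
  | 0 => tabB2_0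
  | 1 => tabB2_1
  | _ => 0

theorem tabB2_ok : ∀ i < chevB2.rank, ∀ s < chevB2.nroots, chevB2.reflectRoot i s = look (tabB2 i) s := by
  intro i hi s hs
  have hi : i < 2 := hi
  interval_cases i
  · exact rowOK_spec rowB2_0 hs
  · exact rowOK_spec rowB2_1 hs

theorem rangeB2 : ∀ i < 2, rangeOK (tabB2 i) 8 = true := by decide +kernel

/-- a word for the longest element of type B2: a power of a Coxeter element -/
def wordB2 : List ℕ := (List.replicate 2 [0, 1]).flatten

/-- the packed table of the longest element of type B2 -/
def w0B2 : ℕ := 0x1020304050607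

theorem wordB2_lt : ∀ i ∈ wordB2, i < 2 := by decide +kernel

theorem wordB2_simple : ∀ i ∈ wordB2, chevB2.simple i < 8 := by decide +kernel

theorem wordB2_ok : wordOK tabB2 wordB2 w0B2 8 = true := by decide +kernel

theorem flipB2 : flipOK w0B2 4 8 = true := by decide +kernel

theorem signB2 : signOK chevB2 4 = true := by decide +kernel

/-! ### Type D4 -/

/-- packed table of the 0-th reflection of type D4 -/
def tabD4_0 : ℕ := 0x1711100f0e05161514130d0c0b0a04030201120908070600

theorem rowD4_0 : rowOK chevD4 0 tabD4_0 = true := by decide +kernel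

/-- packed table of the 1-th reflection of type D4 -/
def tabD4_1 : ℕ := 0x161715141213110d0c09100f08070e0b0a06040503020001

theorem rowD4_1 : rowOK chevD4 1 tabD4_1 = true := by decide +kernel

/-- packed table of the 2-th reflection of type D4 -/
def tabD4_2 : ℕ := 0x1714131615120f0e11100a0c0b0d07060908050201040300

theorem rowD4_2 : rowOK chevD4 2 tabD4_2 = true := by decide +kernel

/-- packed table of the 3-th reflection of type D4 -/
def tabD4_3 : ℕ := 0x17151613141210110e0f0d0b0c0a08090607050304010200

theorem rowD4_3 : rowOK chevD4 3 tabD4_3 = true := by decide +kernel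

/-- the packed reflection tables of type D4 -/
def tabD4 : ℕ → ℕ
  | 0 => tabD4_0
  | 1 => tabD4_1
  | 2 => tabD4_2
  | 3 => tabD4_3
  | _ => 0

theorem tabD4_ok : ∀ i < chevD4.rank, ∀ s < chevD4.nroots, chevD4.reflectRoot i s = look (tabD4 i) s := by
  intro i hi s hs
  have hi : i < 4 := hi
  interval_cases i
  · exact rowOK_spec rowD4_0 hs
  · exact rowOK_spec rowD4_1 hs
  · exact rowOK_spec rowD4_2 hs
  · exact rowOK_spec rowD4_3 hs

theorem rangeD4 : ∀ i < 4, rangeOK (tabD4 i) 24 = true := by decide +kernel

/-- a word for the longest element of type D4: a power of a Coxeter element -/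
def wordD4 : List ℕ := (List.replicate 3 [0, 1, 2, 3]).flatten

/-- the packed table of the longest element of type D4 -/
def w0D4 : ℕ := 0x102030405060708090a0b0c0d0e0f1011121314151617

theorem wordD4_lt : ∀ i ∈ wordD4, i < 4 := by decide +kernel

theorem wordD4_simple : ∀ i ∈ wordD4, chevD4.simple i < 24 := by decide +kernel

theorem wordD4_ok : wordOK tabD4 wordD4 w0D4 24 = true := by decide +kernel

theorem flipD4 : flipOK w0D4 12 24 = true := by decide +kernel

theorem signD4 : signOK chevD4 12 = true := by decide +kernel

/-! ### Type F4 -/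

/-- packed table of the 0-th reflection of type F4 -/
def tabF4_0 : ℕ := 0x2f2e2d28201f1e2c2726251d1c1b0e2b2a292423221a19181716150d0c0b060504211413120a09080311100f07020100

theorem rowF4_0 : rowOK chevF4 0 tabF4_0 = true := by decide +kernel

/-- packed table of the 1-th reflection of type F4 -/
def tabF4_1 : ℕ := 0x2f2e2b2c2d2a292728242326252122201a191d1c141f1e181711101b131216150f0d0e0a090c0b070806050203040100

theorem rowF4_1 : rowOK chevF4 1 tabF4_1 = true := by decide +kernel

/-- packed table of the 2-th reflection of type F4 -/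
def tabF4_2 : ℕ := 0x2f2d2e2c2a2b2928262725242223211f201e1d1b1c18161a151917131412110f100e0c0d0b0a08090706040503010200

theorem rowF4_2 : rowOK chevF4 2 tabF4_2 = true := by decide +kernel

/-- packed table of the 3-th reflection of type F4 -/
def tabF4_3 : ℕ := 0x2e2f2d2c2b292a2827252623242221201e1f1c1d1b191a1718151614121310110f0e0d0b0c090a080705060403020001

theorem rowF4_3 : rowOK chevF4 3 tabF4_3 = true := by decide +kernel

/-- the packed reflection tables of type F4 -/
def tabF4 : ℕ → ℕ
  | 0 => tabF4_0
  | 1 => tabF4_1
  | 2 => tabF4_2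
  | 3 => tabF4_3
  | _ => 0

theorem tabF4_ok : ∀ i < chevF4.rank, ∀ s < chevF4.nroots, chevF4.reflectRoot i s = look (tabF4 i) s := by
  intro i hi s hs
  have hi : i < 4 := hi
  interval_cases i
  · exact rowOK_spec rowF4_0 hs
  · exact rowOK_spec rowF4_1 hs
  · exact rowOK_spec rowF4_2 hs
  · exact rowOK_spec rowF4_3 hs

theorem rangeF4 : ∀ i < 4, rangeOK (tabF4 i) 48 = true := by decide +kernel

/-- a word for the longest element of type F4: a power of a Coxeter element -/
def wordF4 : List ℕ := (List.replicate 6 [0, 1, 2, 3]).flatten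

/-- the packed table of the longest element of type F4 -/
def w0F4 : ℕ := 0x102030405060708090a0b0c0d0e0f101112131415161718191a1b1c1d1e1f202122232425262728292a2b2c2d2e2f

theorem wordF4_lt : ∀ i ∈ wordF4, i < 4 := by decide +kernel

theorem wordF4_simple : ∀ i ∈ wordF4, chevF4.simple i < 48 := by decide +kernel

theorem wordF4_ok : wordOK tabF4 wordF4 w0F4 48 = true := by decide +kernel

theorem flipF4 : flipOK w0F4 24 48 = true := by decide +kernel

theorem signF4 : signOK chevF4 24 = true := by decide +kernel

end Cfsg.Agent.ChevalleyStructure.W0Small
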