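import Cfsg.Agent.ChevalleyStructure.SL2TabSmall
import Cfsg.Prelude.Def_ChevD4
import Cfsg.Prelude.Def_ChevE6
import Cfsg.Prelude.Def_ChevE7
import Cfsg.Prelude.Def_ChevE8
set_option linter.all false

-- part: ChevalleyStructure/SL2Quick
section
/-!
The quick check implies `Good` for all roots.
-/

set_option autoImplicit false

namespace Cfsg.Agent.ChevalleyStructure.SL2Quick

open Cfsg Cfsg.Lie Cfsg.Agent.ChevalleyStructure.SL2Rep Cfsg.Agent.ChevalleyStructure.SL2Match
  Cfsg.Agent.ChevalleyStructure.SL2Check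

theorem nodup_facts {n r nr : ℕ} {l l' : List (ℕ × Array (ℕ × ℤ))} (h : Rows n r nr l l') :
    (l.map Prod.fst).Nodup ∧ (l'.map Prod.fst).Nodup ∧
    (∀ a ∈ l.map Prod.fst, a < n ∧ a ≠ r ∧ a ≠ nr ∧ a ∉ l'.map Prod.fst) ∧
    (∀ a ∈ l'.map Prod.fst, a < n ∧ a ≠ r ∧ a ≠ nr ∧ a ∉ l.map Prod.fst) := by
  have h1 := h.nodup
  rw [List.nodup_cons, List.nodup_cons, List.nodup_append'] at h1
  obtain ⟨a1, a2, a3, a4, a5⟩ := h1
  have a5' : ∀ a ∈ l.map Prod.fst, a ∉ l'.map Prod.fst := fun a ha ha' => a5 ha ha'
  refine ⟨a3, a4, fun a ha => ⟨h.lt a ?_, ?_, ?_, a5' a ha⟩, fun a ha => ⟨h.lt a ?_, ?_, ?_, ?_⟩⟩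
  · exact List.mem_cons_of_mem _ (List.mem_cons_of_mem _ (List.mem_append_left _ ha))
  · rintro rfl
    exact a1 (List.mem_cons_of_mem _ (List.mem_append_left _ ha))
  · rintro rfl
    exact a2 (List.mem_append_left _ ha)
  · exact List.mem_cons_of_mem _ (List.mem_cons_of_mem _ (List.mem_append_right _ ha))
  · rintro rfl
    exact a1 (List.mem_cons_of_mem _ (List.mem_append_right _ ha))
  · rintro rfl
    exact a2 (List.mem_append_right _ ha)
  · intro ha'
    exact a5' a ha' ha

/-- The lookups along one-step strings. -/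
def Step (n r nr : ℕ) (l l' : List (ℕ × Array (ℕ × ℤ))) (s : ℕ) : Prop :=
  ∃ (u : ℕ) (m : ℤ), (m = 1 ∨ m = -1) ∧ u < n ∧ u ≠ r ∧ u ≠ nr ∧
    look l s = [(u, m)] ∧ look l' s = [] ∧ look l u = [] ∧ look l' u = [(s, m)]

theorem step_of_mem {n r nr : ℕ} {l l' : List (ℕ × Array (ℕ × ℤ))} (h : Rows n r nr l l') (s : ℕ)
    (hs : s ∈ l.map Prod.fst) : Step n r nr l l' s := by
  obtain ⟨n1, n2, n3, n4⟩ := nodup_facts h
  obtain ⟨e, he, rfl⟩ := List.mem_map.1 hs
  obtain ⟨u, m, hm, k1, e', he', k2, k3⟩ := h.right e he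
  have hu : u ∈ l'.map Prod.fst := by
    rw [← k2]
    exact List.mem_map_of_mem he'
  obtain ⟨q1, q2, q3, q4⟩ := n4 u hu
  refine ⟨u, m, hm, q1, q2, q3, ?_, ?_, ?_, ?_⟩
  · rw [look_of_mem n1 he, k1]
  · exact look_of_not_mem (n3 e.1 hs).2.2.2
  · exact look_of_not_mem q4
  · have := look_of_mem n2 he'
    rw [k2] at this
    rw [this, k3]

theorem trichotomy {n r nr : ℕ} {l l' : List (ℕ × Array (ℕ × ℤ))} (h : Rows n r nr l l') (s : ℕ) :
    (look l s = [] ∧ look l' s = []) ∨ Step n r nr l l' s ∨ Step n nr r l' l s := by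
  by_cases h1 : s ∈ l.map Prod.fst
  · exact Or.inr (Or.inl (step_of_mem h s h1))
  · by_cases h2 : s ∈ l'.map Prod.fst
    · exact Or.inr (Or.inr (step_of_mem h.symm s h2))
    · exact Or.inl ⟨look_of_not_mem h1, look_of_not_mem h2⟩

theorem getElem?_singleton {α : Type*} {a x : α} {i : ℕ} (h : [a][i]? = some x) : i = 0 ∧ x = a := by
  rcases i with _ | i
  · simp at h
    exact ⟨rfl, h.symm⟩
  · simp at h

theorem getElem?_pair {α : Type*} {a b x : α} {i : ℕ} (h : [a, b][i]? = some x) :
    (i = 0 ∧ x = a) ∨ (i = 1 ∧ x = b) := by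
  rcases i with _ | _ | i
  · simp at h
    exact Or.inl ⟨rfl, h.symm⟩
  · simp at h
    exact Or.inr ⟨rfl, h.symm⟩
  · simp at h

theorem good_of_rows {D : ChevalleyDatum} (hb : Basic D) (r : ℕ) (hr : r < D.nroots)
    (h : Rows D.nroots r (D.nroots - 1 - r) (D.chain.getD r #[]).toList
      (D.chain.getD (D.nroots - 1 - r) #[]).toList) : Good D r := by
  have hneg := hb.neg_eq r hr
  have hnlt : D.neg r < D.nroots := by omega
  have hev := hb.even
  rw [← hneg] at h
  obtain ⟨n1, n2, -, -⟩ := nodup_facts h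
  have tri := trichotomy h
  have key : ∀ s : ℕ, s < D.nroots → s ≠ r → s ≠ D.neg r →
      (len D r s ≤ 3) ∧
      (∀ x ∈ str D r s, x.1 < D.nroots ∧ x.1 ≠ r ∧ x.1 ≠ D.neg r ∧ (x.2 = 1 ∨ x.2 = -1)) ∧
      (∀ (i : ℕ) (x : ℕ × ℤ), (str D r s)[i]? = some x →
        str D r x.1 = (str D r s).map (fun y => (y.1, x.2 * y.2)) ∧ pos D r x.1 = i) ∧
      (∀ (i : ℕ) (x : ℕ × ℤ), (D.chainEntry r s)[i]? = some x →
        x.2 = Int.sign x.2 * ((Nat.choose (pos D r s + i + 1) (i + 1) : ℕ) : ℤ)) ∧
      (∀ (i : ℕ) (x : ℕ × ℤ), (D.chainEntry (D.neg r) s)[i]? = some x →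
        x.2 = Int.sign x.2 * ((Nat.choose ((D.chainEntry r s).length + i + 1) (i + 1) : ℕ) : ℤ)) := by
    intro s hs h1 h2
    rcases tri s with ⟨t1, t2⟩ | ⟨u, m, hm, u1, u2, u3, t1, t2, t3, t4⟩ |
      ⟨u, m, hm, u1, u2, u3, t1, t2, t3, t4⟩
    · have e1 : str D r s = [(s, 1)] := by
        rw [str, chainEntry_eq_look, chainEntry_eq_look, t1, t2]
        rfl
      have e2 : pos D r s = 0 := by
        rw [pos, chainEntry_eq_look, t2]
        rfl
      have e3 : D.chainEntry r s = [] := t1
      have e4 : D.chainEntry (D.neg r) s = [] := t2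
      refine ⟨?_, ?_, ?_, ?_, ?_⟩
      · rw [len, e3, e4]
        simp
      · intro x hx
        rw [e1, List.mem_singleton] at hx
        subst hx
        exact ⟨hs, h1, h2, Or.inl rfl⟩
      · intro i x hx
        rw [e1] at hx
        obtain ⟨rfl, rfl⟩ := getElem?_singleton hx
        exact ⟨by rw [e1]; simp, e2⟩
      · intro i x hx
        rw [e3] at hx
        simp at hx
      · intro i x hx
        rw [e4] at hx
        simp at hx
    · have hsg : Int.sign m = m := by rcases hm with rfl | rfl <;> rfl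
      have hmm : m * m = 1 := by rcases hm with rfl | rfl <;> rfl
      have e1 : str D r s = [(s, 1), (u, m)] := by
        rw [str, chainEntry_eq_look, chainEntry_eq_look, t1, t2]
        simp [sg, hsg]
      have e2 : pos D r s = 0 := by
        rw [pos, chainEntry_eq_look, t2]
        rfl
      have e3 : D.chainEntry r s = [(u, m)] := t1
      have e4 : D.chainEntry (D.neg r) s = [] := t2
      have e5 : str D r u = [(s, m), (u, 1)] := by
        rw [str, chainEntry_eq_look, chainEntry_eq_look, t3, t4]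
        simp [sg, hsg]
      have e6 : pos D r u = 1 := by
        rw [pos, chainEntry_eq_look, t4]
        rfl
      refine ⟨?_, ?_, ?_, ?_, ?_⟩
      · rw [len, e3, e4]
        simp
      · intro x hx
        rw [e1, List.mem_cons, List.mem_singleton] at hx
        rcases hx with rfl | rfl
        · exact ⟨hs, h1, h2, Or.inl rfl⟩
        · exact ⟨u1, u2, u3, hm⟩
      · intro i x hx
        rw [e1] at hx
        rcases getElem?_pair hx with ⟨rfl, rfl⟩ | ⟨rfl, rfl⟩
        · exact ⟨by rw [e1]; simp, e2⟩
        · exact ⟨by rw [e5, e1]; simp [hmm], e6⟩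
      · intro i x hx
        rw [e3] at hx
        obtain ⟨rfl, rfl⟩ := getElem?_singleton hx
        rw [e2]
        simp [hsg]
      · intro i x hx
        rw [e4] at hx
        simp at hx
    · have hsg : Int.sign m = m := by rcases hm with rfl | rfl <;> rfl
      have hmm : m * m = 1 := by rcases hm with rfl | rfl <;> rfl
      have e1 : str D r s = [(u, m), (s, 1)] := by
        rw [str, chainEntry_eq_look, chainEntry_eq_look, t1, t2]
        simp [sg, hsg]
      have e2 : pos D r s = 1 := by
        rw [pos, chainEntry_eq_look, t1]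
        rfl
      have e3 : D.chainEntry r s = [] := t2
      have e4 : D.chainEntry (D.neg r) s = [(u, m)] := t1
      have e5 : str D r u = [(u, 1), (s, m)] := by
        rw [str, chainEntry_eq_look, chainEntry_eq_look, t3, t4]
        simp [sg, hsg]
      have e6 : pos D r u = 0 := by
        rw [pos, chainEntry_eq_look, t3]
        rfl
      refine ⟨?_, ?_, ?_, ?_, ?_⟩
      · rw [len, e3, e4]
        simp
      · intro x hx
        rw [e1, List.mem_cons, List.mem_singleton] at hx
        rcases hx with rfl | rfl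
        · exact ⟨u1, u3, u2, hm⟩
        · exact ⟨hs, h1, h2, Or.inl rfl⟩
      · intro i x hx
        rw [e1] at hx
        rcases getElem?_pair hx with ⟨rfl, rfl⟩ | ⟨rfl, rfl⟩
        · exact ⟨by rw [e5, e1]; simp [hmm], e6⟩
        · exact ⟨by rw [e1]; simp, e2⟩
      · intro i x hx
        rw [e3] at hx
        simp at hx
      · intro i x hx
        rw [e4] at hx
        obtain ⟨rfl, rfl⟩ := getElem?_singleton hx
        rw [e3]
        simp [hsg]
  refine ⟨hr, hnlt, by omega, ?_, ?_, ?_, hb.pairing r hr, n1, n2,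
    fun s a b c => (key s a b c).1, fun s a b c => (key s a b c).2.1,
    fun s a b c => (key s a b c).2.2.1, fun s a b c => (key s a b c).2.2.2.1,
    fun s a b c => (key s a b c).2.2.2.2⟩
  · rw [hb.neg_eq _ hnlt]; omega
  · intro i _
    rw [hneg]
    exact hb.cor_neg r hr i
  · intro i hi
    rw [hneg]
    exact hb.cartan_neg r hr i hi

theorem good_of_quickCheck {D : ChevalleyDatum} (hb : Basic D) (h : quickCheck D = true)
    (r : ℕ) (hr : r < D.nroots) : Good D r := by
  rw [quickCheck, Bool.and_eq_true, decide_eq_true_eq] at h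
  obtain ⟨hl, hq⟩ := h
  have hev := hb.even
  have key : ∀ r < D.nroots / 2, Rows D.nroots r (D.nroots - 1 - r) (D.chain.getD r #[]).toList
      (D.chain.getD (D.nroots - 1 - r) #[]).toList := by
    intro r hr
    have := quickHalf_spec _ _ _ _ _ hq r hr
    rw [zero_add, ← getD_reverse _ _ (by rw [hl]; omega), hl, ← getD_toList, ← getD_toList] at this
    exact rows_of_quickRow this
  by_cases h2 : r < D.nroots / 2
  · exact good_of_rows hb r hr (key r h2)
  · have h3 := (key (D.nroots - 1 - r) (by omega)).symm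
    rw [show D.nroots - 1 - (D.nroots - 1 - r) = r by omega] at h3
    exact good_of_rows hb r hr h3

end Cfsg.Agent.ChevalleyStructure.SL2Quick
end

-- part: ChevalleyStructure/SL2TabDE
section
/-! The table checks for the types `D₄`, `E₆`, `E₇`, `E₈`. -/

set_option autoImplicit false

namespace Cfsg.Agent.ChevalleyStructure.SL2TabDE

open Cfsg Cfsg.Lie Cfsg.Agent.ChevalleyStructure.SL2Check

theorem basicD4 : basicCheck chevD4 = true := by decide +kernel
theorem basicE6 : basicCheck chevE6 = true := by decide +kernel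
theorem basicE7 : basicCheck chevE7 = true := by decide +kernel
theorem basicE8 : basicCheck chevE8 = true := by decide +kernel

theorem quickD4 : quickCheck chevD4 = true := by decide +kernel
theorem quickE6 : quickCheck chevE6 = true := by decide +kernel
theorem quickE7 : quickCheck chevE7 = true := by decide +kernel
theorem quickE8 : quickCheck chevE8 = true := by decide +kernel

end Cfsg.Agent.ChevalleyStructure.SL2TabDE
end

-- part: ChevalleyStructure/SL2All
section
/-! All seven tabulated Chevalley data are consistent along the root strings of every root. -/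

set_option autoImplicit false

namespace Cfsg.Agent.ChevalleyStructure.SL2All

open Cfsg Cfsg.Lie Cfsg.Agent.ChevalleyStructure.SL2Rep Cfsg.Agent.ChevalleyStructure.SL2Check
  Cfsg.Agent.ChevalleyStructure.SL2Quick Cfsg.Agent.ChevalleyStructure.SL2TabSmall
  Cfsg.Agent.ChevalleyStructure.SL2TabDE

theorem basic_of_mem (D : ChevalleyDatum)
    (hD : D ∈ [chevG2, chevB2, chevD4, chevF4, chevE6, chevE7, chevE8]) : Basic D := by
  simp only [List.mem_cons, List.not_mem_nil, or_false] at hD
  rcases hD with rfl | rfl | rfl | rfl | rfl | rfl | rfl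
  · exact basic_of_check basicG2
  · exact basic_of_check basicB2
  · exact basic_of_check basicD4
  · exact basic_of_check basicF4
  · exact basic_of_check basicE6
  · exact basic_of_check basicE7
  · exact basic_of_check basicE8

/-- For every tabulated type and every root `r` the tables are consistent along the `r`-strings. -/
theorem good_of_mem (D : ChevalleyDatum)
    (hD : D ∈ [chevG2, chevB2, chevD4, chevF4, chevE6, chevE7, chevE8]) (r : ℕ)
    (hr : r < D.nroots) : Good D r := by
  have hb := basic_of_mem D hD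
  simp only [List.mem_cons, List.not_mem_nil, or_false] at hD
  rcases hD with rfl | rfl | rfl | rfl | rfl | rfl | rfl
  · exact good_of_generalCheck hb generalG2 r hr
  · exact good_of_generalCheck hb generalB2 r hr
  · exact good_of_quickCheck hb quickD4 r hr
  · exact good_of_generalCheck hb generalF4 r hr
  · exact good_of_quickCheck hb quickE6 r hr
  · exact good_of_quickCheck hb quickE7 r hr
  · exact good_of_quickCheck hb quickE8 r hr

end Cfsg.Agent.ChevalleyStructure.SL2All
end
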