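import Mathlib
import Cfsg.Prelude.Def_ChevStructure
set_option linter.all false

-- part: ChevalleyStructure/SL2Weyl
section
/-!
The representations of `SL₂` on the modules with basis `v_0, …, v_q` (`q ≤ 3`) on which the upper
unitriangular matrix with entry `t` acts by `v_j ↦ ∑ i, (j+i choose i) t^i v_{j+i}` and the lower one by
`v_j ↦ ∑ i, (q-j+i choose i) t^i v_{j-i}`, as 4×4 matrices (padded by zeros).
-/

set_option autoImplicit false

namespace Cfsg.Agent.ChevalleyStructure.SL2Weyl

variable {F : Type*} [CommRing F]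

/-- The matrix of `!![a, b; c, d]` on the `(q+1)`-dimensional module, padded by zeros. -/
def W (a b c d : F) (q : ℕ) : Matrix (Fin 4) (Fin 4) F :=
  match q with
  | 0 => !![1, 0, 0, 0; 0, 0, 0, 0; 0, 0, 0, 0; 0, 0, 0, 0]
  | 1 => !![d, c, 0, 0; b, a, 0, 0; 0, 0, 0, 0; 0, 0, 0, 0]
  | 2 => !![d ^ 2, 2 * c * d, c ^ 2, 0; b * d, a * d + b * c, a * c, 0; b ^ 2, 2 * a * b, a ^ 2, 0;
            0, 0, 0, 0]
  | 3 => !![d ^ 3, 3 * c * d ^ 2, 3 * c ^ 2 * d, c ^ 3;
            b * d ^ 2, a * d ^ 2 + 2 * b * c * d, 2 * a * c * d + b * c ^ 2, a * c ^ 2;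
            b ^ 2 * d, 2 * a * b * d + b ^ 2 * c, a ^ 2 * d + 2 * a * b * c, a ^ 2 * c;
            b ^ 3, 3 * a * b ^ 2, 3 * a ^ 2 * b, a ^ 3]
  | _ => 0

theorem W_zero (a b c d : F) :
    W a b c d 0 = !![1, 0, 0, 0; 0, 0, 0, 0; 0, 0, 0, 0; 0, 0, 0, 0] := rfl

theorem W_one (a b c d : F) :
    W a b c d 1 = !![d, c, 0, 0; b, a, 0, 0; 0, 0, 0, 0; 0, 0, 0, 0] := rfl

theorem W_two (a b c d : F) :
    W a b c d 2 = !![d ^ 2, 2 * c * d, c ^ 2, 0; b * d, a * d + b * c, a * c, 0;
      b ^ 2, 2 * a * b, a ^ 2, 0; 0, 0, 0, 0] := rfl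

theorem W_three (a b c d : F) :
    W a b c d 3 = !![d ^ 3, 3 * c * d ^ 2, 3 * c ^ 2 * d, c ^ 3;
            b * d ^ 2, a * d ^ 2 + 2 * b * c * d, 2 * a * c * d + b * c ^ 2, a * c ^ 2;
            b ^ 2 * d, 2 * a * b * d + b ^ 2 * c, a ^ 2 * d + 2 * a * b * c, a ^ 2 * c;
            b ^ 3, 3 * a * b ^ 2, 3 * a ^ 2 * b, a ^ 3] := rfl

/-- The matrices `W` are multiplicative. -/
theorem W_mul (a b c d a' b' c' d' : F) (q : ℕ) (k j : Fin 4) :
    ∑ i : Fin 4, W a b c d q k i * W a' b' c' d' q i j =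
      W (a * a' + b * c') (a * b' + b * d') (c * a' + d * c') (c * b' + d * d') q k j := by
  rw [Fin.sum_univ_four]
  match q with
  | 0 => fin_cases k <;> fin_cases j <;> simp [W_zero]
  | 1 => fin_cases k <;> fin_cases j <;> simp [W_one] <;> ring
  | 2 => fin_cases k <;> fin_cases j <;> simp [W_two] <;> ring
  | 3 => fin_cases k <;> fin_cases j <;> simp [W_three] <;> ring
  | _ + 4 => simp [W]

end Cfsg.Agent.ChevalleyStructure.SL2Weyl
end

-- part: ChevalleyStructure/SL2Rep
section
/-!
For a root `r` of a Chevalley datum whose chain table is consistent along the `r`-strings (predicate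
`Good D r`), the explicit matrices `Phi D r a b c d` (with `a d - b c = 1`) of the representation of `SL₂(F)`
on the coordinate module for which `!![1, t; 0, 1]` acts as `x_r(t)` and `!![1, 0; t, 1]` as `x_{-r}(t)`.
-/

set_option autoImplicit false

namespace Cfsg.Agent.ChevalleyStructure.SL2Rep

open Cfsg Cfsg.Lie Cfsg.Agent.ChevalleyStructure.SL2Weyl

/-- the coefficient `c_i(r)` of the coroot table -/
def cor (D : ChevalleyDatum) (r i : ℕ) : ℤ := (D.coroot.getD r #[]).getD i 0

/-- replace the coefficient by its sign -/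
def sg (x : ℕ × ℤ) : ℕ × ℤ := (x.1, Int.sign x.2)

/-- The `r`-string through `s`, from bottom to top, with signs relative to `s`. -/
def str (D : ChevalleyDatum) (r s : ℕ) : List (ℕ × ℤ) :=
  ((D.chainEntry (D.neg r) s).map sg).reverse ++ (s, 1) :: (D.chainEntry r s).map sg

/-- The number of steps below `s` in its `r`-string. -/
def pos (D : ChevalleyDatum) (r s : ℕ) : ℕ := (D.chainEntry (D.neg r) s).length

/-- The number of steps of the `r`-string through `s`. -/
def len (D : ChevalleyDatum) (r s : ℕ) : ℕ :=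
  (D.chainEntry (D.neg r) s).length + (D.chainEntry r s).length

/-- The `i`-th member of the `r`-string through `s`, with its sign relative to `s`. -/
def T (D : ChevalleyDatum) (r s : ℕ) (i : Fin 4) : ℕ × ℤ := (str D r s).getD i (0, 0)

/-- `pos` as an element of `Fin 4`. -/
def posF (D : ChevalleyDatum) (r s : ℕ) : Fin 4 := Fin.ofNat 4 (pos D r s)

theorem length_str (D : ChevalleyDatum) (r s : ℕ) : (str D r s).length = len D r s + 1 := by
  simp only [str, len, List.length_append, List.length_reverse, List.length_map, List.length_cons]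
  omega

/-- Consistency of the tables of the datum along the `r`-strings. -/
structure Good (D : ChevalleyDatum) (r : ℕ) : Prop where
  lt : r < D.nroots
  neg_lt : D.neg r < D.nroots
  neg_ne : D.neg r ≠ r
  neg_neg : D.neg (D.neg r) = r
  cor_neg : ∀ i < D.rank, cor D (D.neg r) i = - cor D r i
  cartan_neg : ∀ i < D.rank, D.cartan i (D.neg r) = - D.cartan i r
  pairing : ∑ i : Fin D.rank, cor D r i * D.cartan i r = 2
  keys : ((D.chain.getD r #[]).toList.map Prod.fst).Nodup
  keys_neg : ((D.chain.getD (D.neg r) #[]).toList.map Prod.fst).Nodup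
  len_le : ∀ s < D.nroots, s ≠ r → s ≠ D.neg r → len D r s ≤ 3
  mem : ∀ s < D.nroots, s ≠ r → s ≠ D.neg r → ∀ x ∈ str D r s,
    x.1 < D.nroots ∧ x.1 ≠ r ∧ x.1 ≠ D.neg r ∧ (x.2 = 1 ∨ x.2 = -1)
  str_eq : ∀ s < D.nroots, s ≠ r → s ≠ D.neg r → ∀ (i : ℕ) (x : ℕ × ℤ), (str D r s)[i]? = some x →
    str D r x.1 = (str D r s).map (fun y => (y.1, x.2 * y.2)) ∧ pos D r x.1 = i
  up : ∀ s < D.nroots, s ≠ r → s ≠ D.neg r → ∀ (i : ℕ) (x : ℕ × ℤ), (D.chainEntry r s)[i]? = some x →
    x.2 = Int.sign x.2 * ((Nat.choose (pos D r s + i + 1) (i + 1) : ℕ) : ℤ)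
  down : ∀ s < D.nroots, s ≠ r → s ≠ D.neg r → ∀ (i : ℕ) (x : ℕ × ℤ),
    (D.chainEntry (D.neg r) s)[i]? = some x →
    x.2 = Int.sign x.2 * ((Nat.choose ((D.chainEntry r s).length + i + 1) (i + 1) : ℕ) : ℤ)

variable {F : Type*} [Field F]

/-- The basis vector `e_u` (zero if `u` is out of range). -/
def eV (D : ChevalleyDatum) (F : Type*) [Field F] (u : ℕ) : D.Idx → F :=
  Sum.elim (fun _ => 0) (fun v => if v.val = u then 1 else 0)

/-- The basis vector `h_{p_i}`. -/
def hV (D : ChevalleyDatum) (F : Type*) [Field F] (i : Fin D.rank) : D.Idx → F :=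
  Sum.elim (fun j => if j = i then 1 else 0) (fun _ => 0)

/-- The coroot vector `h_r`. -/
def hR (D : ChevalleyDatum) (F : Type*) [Field F] (r : ℕ) : D.Idx → F :=
  Sum.elim (fun j => ((cor D r j : ℤ) : F)) (fun _ => 0)

theorem hR_eq (D : ChevalleyDatum) (r : ℕ) :
    hR D F r = ∑ i : Fin D.rank, ((cor D r i : ℤ) : F) • hV D F i := by
  funext x
  rw [Finset.sum_apply]
  rcases x with j | u
  · simp [hR, hV]
  · simp [hR, hV]

/-- The image of `h_{p_i}`. -/
def colH (D : ChevalleyDatum) (r : ℕ) (a b c d : F) (i : Fin D.rank) : D.Idx → F :=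
  hV D F i + ((D.cartan i r : ℤ) : F) •
    ((b * c) • hR D F r - (a * b) • eV D F r + (c * d) • eV D F (D.neg r))

/-- The image of `e_s`. -/
def colE (D : ChevalleyDatum) (r : ℕ) (a b c d : F) (s : ℕ) : D.Idx → F :=
  if s = r then a ^ 2 • eV D F r - (a * c) • hR D F r - c ^ 2 • eV D F (D.neg r)
  else if s = D.neg r then - b ^ 2 • eV D F r + (b * d) • hR D F r + d ^ 2 • eV D F (D.neg r)
  else ∑ i : Fin 4, ((((T D r s i).2 : ℤ) : F) * W a b c d (len D r s) i (posF D r s)) •
    eV D F (T D r s i).1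

/-- The matrix of `!![a, b; c, d]` in the representation attached to the root `r`. -/
def Phi (D : ChevalleyDatum) (r : ℕ) (a b c d : F) : Matrix D.Idx D.Idx F :=
  Matrix.of fun row col =>
    Sum.elim (fun i => colH D r a b c d i row) (fun s => colE D r a b c d s.val row) col

theorem Phi_mulVec_hV (D : ChevalleyDatum) (r : ℕ) (a b c d : F) (i : Fin D.rank) :
    (Phi D r a b c d).mulVec (hV D F i) = colH D r a b c d i := by
  funext row
  simp [Matrix.mulVec, dotProduct, hV, Phi]

theorem Phi_mulVec_eV (D : ChevalleyDatum) (r : ℕ) (a b c d : F) (u : ℕ) (hu : u < D.nroots) :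
    (Phi D r a b c d).mulVec (eV D F u) = colE D r a b c d u := by
  funext row
  simp only [Matrix.mulVec, dotProduct, eV, Phi, Matrix.of_apply, Fintype.sum_sum_type, Sum.elim_inl,
    Sum.elim_inr, mul_zero, Finset.sum_const_zero, zero_add, mul_ite, mul_one]
  rw [Finset.sum_eq_single (⟨u, hu⟩ : Fin D.nroots)]
  · simp
  · intro v _ hv
    rw [if_neg]
    intro h
    exact hv (Fin.ext h)
  · simp

theorem Phi_mulVec_hR {D : ChevalleyDatum} {r : ℕ} (hG : Good D r) (a b c d : F) :
    (Phi D r a b c d).mulVec (hR D F r) = hR D F r + (2 : F) •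
      ((b * c) • hR D F r - (a * b) • eV D F r + (c * d) • eV D F (D.neg r)) := by
  have h2 : (2 : F) = ∑ i : Fin D.rank, ((cor D r i : ℤ) : F) * ((D.cartan i r : ℤ) : F) := by
    have := congrArg (fun z : ℤ => (z : F)) hG.pairing
    simp only [Int.cast_sum, Int.cast_mul, Int.cast_ofNat] at this
    exact this.symm
  rw [h2, Finset.sum_smul]
  conv_lhs => rw [hR_eq]
  rw [Matrix.mulVec_sum]
  conv_rhs => rw [hR_eq, ← Finset.sum_add_distrib]
  refine Finset.sum_congr rfl fun i _ => ?_
  rw [Matrix.mulVec_smul, Phi_mulVec_hV, colH, smul_add, smul_smul, ← hR_eq]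

theorem T_of_str_eq {D : ChevalleyDatum} {r s u : ℕ} {σ : ℤ}
    (h : str D r u = (str D r s).map (fun y => (y.1, σ * y.2))) (k : Fin 4) :
    T D r u k = ((T D r s k).1, σ * (T D r s k).2) := by
  have hd : ((0 : ℕ), (0 : ℤ)) = (fun y : ℕ × ℤ => (y.1, σ * y.2)) (0, 0) := by simp
  rw [T, T, h, List.getD_eq_getElem?_getD, List.getD_eq_getElem?_getD, List.getElem?_map]
  rcases (str D r s)[(k : ℕ)]? with _ | y
  · simp
  · simp

theorem Phi_mulVec_colE {D : ChevalleyDatum} {r : ℕ} (hG : Good D r) (a b c d a' b' c' d' : F)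
    (s : ℕ) (hs : s < D.nroots) (h1 : s ≠ r) (h2 : s ≠ D.neg r) :
    (Phi D r a b c d).mulVec (colE D r a' b' c' d' s) =
      colE D r (a * a' + b * c') (a * b' + b * d') (c * a' + d * c') (c * b' + d * d') s := by
  rw [colE, if_neg h1, if_neg h2, colE, if_neg h1, if_neg h2, Matrix.mulVec_sum]
  have hcol : ∀ i : Fin 4,
      (Phi D r a b c d).mulVec ((((((T D r s i).2 : ℤ) : F)) * W a' b' c' d' (len D r s) i (posF D r s)) •
        eV D F (T D r s i).1) =
      ∑ k : Fin 4, ((((T D r s k).2 : ℤ) : F) * (W a b c d (len D r s) k i *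
        W a' b' c' d' (len D r s) i (posF D r s))) • eV D F (T D r s k).1 := by
    intro i
    rw [Matrix.mulVec_smul]
    by_cases hi : (i : ℕ) < (str D r s).length
    · set x := (str D r s)[(i : ℕ)] with hx
      have hTi : T D r s i = x := by
        rw [T, List.getD_eq_getElem?_getD, List.getElem?_eq_getElem hi, Option.getD_some]
      have hxm : x ∈ str D r s := List.getElem_mem hi
      obtain ⟨m1, m2, m3, m4⟩ := hG.mem s hs h1 h2 x hxm
      obtain ⟨q1, q2⟩ := hG.str_eq s hs h1 h2 i x (List.getElem?_eq_getElem hi)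
      have hlen : len D r x.1 = len D r s := by
        have := congrArg List.length q1
        rw [List.length_map, length_str, length_str] at this
        omega
      have hpos : posF D r x.1 = i := by
        rw [posF, q2]
        exact Fin.ext (Nat.mod_eq_of_lt i.2)
      have hσ : ((x.2 : ℤ) : F) * ((x.2 : ℤ) : F) = 1 := by
        rcases m4 with h | h <;> rw [h] <;> simp
      rw [hTi, Phi_mulVec_eV _ _ _ _ _ _ _ m1, colE, if_neg m2, if_neg m3, Finset.smul_sum]
      refine Finset.sum_congr rfl fun k _ => ?_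
      rw [T_of_str_eq q1, hlen, hpos, smul_smul]
      congr 1
      push_cast
      linear_combination (((T D r s k).2 : ℤ) : F) * W a b c d (len D r s) k i *
        W a' b' c' d' (len D r s) i (posF D r s) * hσ
    · have hT0 : T D r s i = (0, 0) := by
        rw [T, List.getD_eq_getElem?_getD, List.getElem?_eq_none (by omega), Option.getD_none]
      have hz : ∀ (k : Fin 4), W a b c d (len D r s) k i = 0 := by
        intro k
        have hl : len D r s < i := by rw [length_str] at hi; omega
        have h3 := i.2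
        generalize len D r s = q at hl
        have hq : q = 0 ∨ q = 1 ∨ q = 2 := by omega
        rcases hq with rfl | rfl | rfl
        · fin_cases i <;> fin_cases k <;> simp_all [W_zero]
        · fin_cases i <;> fin_cases k <;> simp_all [W_one]
        · fin_cases i <;> fin_cases k <;> simp_all [W_two]
      rw [hT0]
      simp [hz]
  rw [Finset.sum_congr rfl fun i _ => hcol i, Finset.sum_comm]
  refine Finset.sum_congr rfl fun k _ => ?_
  rw [← Finset.sum_smul, ← Finset.mul_sum, W_mul]

/-- The matrices `Phi` are multiplicative. -/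
theorem Phi_mul {D : ChevalleyDatum} {r : ℕ} (hG : Good D r) (a b c d a' b' c' d' : F)
    (h : a * d - b * c = 1) (h' : a' * d' - b' * c' = 1) :
    Phi D r a b c d * Phi D r a' b' c' d' =
      Phi D r (a * a' + b * c') (a * b' + b * d') (c * a' + d * c') (c * b' + d * d') := by
  have key : ∀ col : D.Idx, (Phi D r a b c d).mulVec ((Phi D r a' b' c' d').col col) =
      (Phi D r (a * a' + b * c') (a * b' + b * d') (c * a' + d * c') (c * b' + d * d')).col col := by
    rintro (i | s)
    · show (Phi D r a b c d).mulVec (colH D r a' b' c' d' i) = colH D r _ _ _ _ i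
      simp only [colH]
      rw [Matrix.mulVec_add, Phi_mulVec_hV, Matrix.mulVec_smul, Matrix.mulVec_add, Matrix.mulVec_sub,
        Matrix.mulVec_smul, Matrix.mulVec_smul, Matrix.mulVec_smul, Phi_mulVec_hR hG,
        Phi_mulVec_eV _ _ _ _ _ _ _ hG.lt, Phi_mulVec_eV _ _ _ _ _ _ _ hG.neg_lt, colE, if_pos rfl,
        colE, if_neg hG.neg_ne, if_pos rfl, colH, add_assoc, ← smul_add]
      congr 2
      ext x
      simp only [Pi.add_apply, Pi.sub_apply, Pi.smul_apply, smul_eq_mul]
      linear_combination (-(b * c) * hR D F r x + a * b * eV D F r x - c * d * eV D F (D.neg r) x) * h'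
        - (b' * c') * hR D F r x * h
    · show (Phi D r a b c d).mulVec (colE D r a' b' c' d' s) = colE D r _ _ _ _ s
      by_cases hsr : s.val = r
      · rw [colE, if_pos hsr, colE, if_pos hsr, Matrix.mulVec_sub, Matrix.mulVec_sub,
          Matrix.mulVec_smul, Matrix.mulVec_smul, Matrix.mulVec_smul, Phi_mulVec_hR hG,
          Phi_mulVec_eV _ _ _ _ _ _ _ hG.lt, Phi_mulVec_eV _ _ _ _ _ _ _ hG.neg_lt, colE, if_pos rfl,
          colE, if_neg hG.neg_ne, if_pos rfl]
        ext x
        simp only [Pi.add_apply, Pi.sub_apply, Pi.smul_apply, smul_eq_mul]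
        linear_combination (a' * c') * hR D F r x * h
      · by_cases hsn : s.val = D.neg r
        · rw [colE, if_neg hsr, if_pos hsn, colE, if_neg hsr, if_pos hsn, Matrix.mulVec_add,
            Matrix.mulVec_add, Matrix.mulVec_smul, Matrix.mulVec_smul, Matrix.mulVec_smul,
            Phi_mulVec_hR hG, Phi_mulVec_eV _ _ _ _ _ _ _ hG.lt,
            Phi_mulVec_eV _ _ _ _ _ _ _ hG.neg_lt, colE, if_pos rfl,
            colE, if_neg hG.neg_ne, if_pos rfl]
          ext x
          simp only [Pi.add_apply, Pi.sub_apply, Pi.smul_apply, smul_eq_mul]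
          linear_combination -(b' * d') * hR D F r x * h
        · exact Phi_mulVec_colE hG _ _ _ _ _ _ _ _ s s.2 hsr hsn
  ext row col
  have := congrFun (key col) row
  exact this

end Cfsg.Agent.ChevalleyStructure.SL2Rep
end

-- part: ChevalleyStructure/SL2Match
section
/-!
The matrices `Phi D r 1 t 0 1` and `Phi D r 1 0 t 1` are the root elements `x_r(t)` and `x_{-r}(t)`.
-/

set_option autoImplicit false

namespace Cfsg.Agent.ChevalleyStructure.SL2Match

open Cfsg Cfsg.Lie Cfsg.Agent.ChevalleyStructure.SL2Weyl Cfsg.Agent.ChevalleyStructure.SL2Rep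

variable {F : Type*} [Field F]

/-- `chainEntry` as a lookup in the row of the table. -/
def look (l : List (ℕ × Array (ℕ × ℤ))) (s : ℕ) : List (ℕ × ℤ) :=
  match l.find? (fun e => e.1 = s) with
  | none => []
  | some e => e.2.toList

theorem chainEntry_eq_look (D : ChevalleyDatum) (r s : ℕ) :
    D.chainEntry r s = look (D.chain.getD r #[]).toList s := rfl

theorem look_nil (s : ℕ) : look [] s = [] := rfl

theorem look_cons (e : ℕ × Array (ℕ × ℤ)) (l : List (ℕ × Array (ℕ × ℤ))) (s : ℕ) :
    look (e :: l) s = if e.1 = s then e.2.toList else look l s := by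
  by_cases h : e.1 = s <;> simp [look, h]

theorem look_of_not_mem {l : List (ℕ × Array (ℕ × ℤ))} {s : ℕ} (h : s ∉ l.map Prod.fst) :
    look l s = [] := by
  induction l with
  | nil => rfl
  | cons e l ih =>
    rw [List.map_cons, List.mem_cons, not_or] at h
    rw [look_cons, if_neg (fun h' => h.1 h'.symm), ih h.2]

theorem look_of_mem {l : List (ℕ × Array (ℕ × ℤ))} (hl : (l.map Prod.fst).Nodup)
    {e : ℕ × Array (ℕ × ℤ)} (he : e ∈ l) : look l e.1 = e.2.toList := by
  induction l with
  | nil => simp at he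
  | cons e' l ih =>
    rw [List.map_cons, List.nodup_cons] at hl
    rw [look_cons]
    rcases List.mem_cons.1 he with rfl | he
    · rw [if_pos rfl]
    · rw [if_neg, ih hl.2 he]
      intro h
      exact hl.1 (h ▸ List.mem_map_of_mem he)

/-- The coefficient of `e_u` contributed by the list `[(u_1, m_1), …]`, starting with exponent `k + 1`. -/
def coefL (F : Type*) [Field F] (t : F) (u : ℕ) : List (ℕ × ℤ) → ℕ → F
  | [], _ => 0
  | x :: L, k => (if x.1 = u then ((x.2 : ℤ) : F) * t ^ (k + 1) else 0) + coefL F t u L (k + 1)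

theorem coefL_nil (t : F) (u k : ℕ) : coefL F t u [] k = 0 := rfl

theorem coefL_cons (t : F) (u : ℕ) (x : ℕ × ℤ) (L : List (ℕ × ℤ)) (k : ℕ) :
    coefL F t u (x :: L) k =
      (if x.1 = u then ((x.2 : ℤ) : F) * t ^ (k + 1) else 0) + coefL F t u L (k + 1) := rfl

theorem coefL_eq (t : F) (u : ℕ) (L : List (ℕ × ℤ)) (k : ℕ) :
    ((((L.zipIdx k).filter (fun q => q.1.1 = u)).map fun q => (q.2 + 1, q.1.2)).map
      fun km => ((km.2 : ℤ) : F) * t ^ km.1).sum = coefL F t u L k := by
  induction L generalizing k with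
  | nil => simp [coefL_nil]
  | cons x L ih =>
    rw [List.zipIdx_cons, List.filter_cons, coefL_cons, ← ih (k + 1)]
    by_cases h : x.1 = u
    · simp [h]
    · simp [h]

theorem flatMap_filter_eq {l : List (ℕ × Array (ℕ × ℤ))} (hl : (l.map Prod.fst).Nodup) (s : ℕ)
    (f : List (ℕ × ℤ) → List (ℕ × ℤ)) (hf : f [] = []) :
    ((l.filter (fun e => e.1 = s)).flatMap fun e => f e.2.toList) = f (look l s) := by
  induction l with
  | nil => simp [look_nil, hf]
  | cons e l ih =>
    rw [List.map_cons, List.nodup_cons] at hl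
    rw [look_cons, List.filter_cons]
    by_cases h : e.1 = s
    · have hnil : l.filter (fun e => decide (e.1 = s)) = [] := by
        rw [List.filter_eq_nil_iff]
        intro x hx hx'
        rw [decide_eq_true_eq] at hx'
        exact hl.1 (by rw [h, ← hx']; exact List.mem_map_of_mem hx)
      simp [h, hnil]
    · rw [if_neg h, if_neg (by simpa using h)]
      exact ih hl.2

theorem chainCoeff_sum {D : ChevalleyDatum} {r : ℕ}
    (hk : ((D.chain.getD r #[]).toList.map Prod.fst).Nodup) (s u : ℕ) (t : F) :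
    ((D.chainCoeff r s u).map fun km => ((km.2 : ℤ) : F) * t ^ km.1).sum =
      coefL F t u (D.chainEntry r s) 0 := by
  have h : D.chainCoeff r s u =
      ((fun L : List (ℕ × ℤ) => ((L.zipIdx).filter (fun q => q.1.1 = u)).map
        fun q => (q.2 + 1, q.1.2)) (look (D.chain.getD r #[]).toList s)) :=
    flatMap_filter_eq hk s (fun L : List (ℕ × ℤ) => ((L.zipIdx).filter (fun q => q.1.1 = u)).map
        fun q : (ℕ × ℤ) × ℕ => (q.2 + 1, q.1.2)) rfl
  rw [h, chainEntry_eq_look]
  exact coefL_eq t u _ 0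

theorem sign_cast_mul {x : ℤ} {m : ℤ} (h : x = Int.sign x * m) :
    ((x : ℤ) : F) = ((Int.sign x : ℤ) : F) * ((m : ℤ) : F) := by
  conv_lhs => rw [h]
  push_cast
  ring

/-- The string list from the two half strings. -/
def strL (dn : List (ℕ × ℤ)) (s : ℕ) (up : List (ℕ × ℤ)) : List (ℕ × ℤ) :=
  (dn.map sg).reverse ++ (s, 1) :: up.map sg

theorem ite_eq_comm (u v : ℕ) (x : F) : (if u = v then x else 0) = (if v = u then x else 0) := by
  by_cases h : u = v
  · rw [if_pos h, if_pos h.symm]
  · rw [if_neg h, if_neg (fun h' => h h'.symm)]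

theorem ofNat_zero : Fin.ofNat 4 0 = 0 := rfl
theorem ofNat_one : Fin.ofNat 4 1 = 1 := rfl
theorem ofNat_two : Fin.ofNat 4 2 = 2 := rfl
theorem ofNat_three : Fin.ofNat 4 3 = 3 := rfl

theorem upper_case (t : F) (s u : ℕ) (dn up : List (ℕ × ℤ)) (hl : dn.length + up.length ≤ 3)
    (hup : ∀ (i : ℕ) (x : ℕ × ℤ), up[i]? = some x →
      x.2 = Int.sign x.2 * ((Nat.choose (dn.length + i + 1) (i + 1) : ℕ) : ℤ)) :
    ∑ i : Fin 4, (((((strL dn s up).getD i (0, 0)).2 : ℤ) : F) *
      W 1 t 0 1 (dn.length + up.length) i (Fin.ofNat 4 dn.length)) *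
        (if u = ((strL dn s up).getD i (0, 0)).1 then (1 : F) else 0) =
      (if u = s then (1 : F) else 0) + coefL F t u up 0 := by
  have h0 := fun x hx => sign_cast_mul (F := F) (hup 0 x hx)
  have h1 := fun x hx => sign_cast_mul (F := F) (hup 1 x hx)
  have h2 := fun x hx => sign_cast_mul (F := F) (hup 2 x hx)
  clear hup
  have c3 : Nat.choose 3 1 = 3 := rfl
  rcases dn with _ | ⟨⟨a1, m1⟩, _ | ⟨⟨a2, m2⟩, _ | ⟨⟨a3, m3⟩, _ | ⟨a4, dn⟩⟩⟩⟩ <;>
  rcases up with _ | ⟨⟨b1, n1⟩, _ | ⟨⟨b2, n2⟩, _ | ⟨⟨b3, n3⟩, _ | ⟨b4, up⟩⟩⟩⟩ <;>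
  simp only [List.length_cons, List.length_nil] at hl <;>
  first
  | omega
  | skip
  all_goals
    simp only [strL, coefL_cons, coefL_nil, List.length_cons, List.length_nil]
    rw [Fin.sum_univ_four]
    simp [c3] at h0 h1 h2
    simp [sg, W_zero, W_one, W_two, W_three, -Fin.ofNat_eq_cast, ofNat_one, ofNat_two, ofNat_three]
    try
      simp only [ite_eq_comm u]
      try rw [h0]
      try rw [h1]
      try rw [h2]
      try (split_ifs <;> ring)

theorem lower_case (t : F) (s u : ℕ) (dn up : List (ℕ × ℤ)) (hl : dn.length + up.length ≤ 3)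
    (hdn : ∀ (i : ℕ) (x : ℕ × ℤ), dn[i]? = some x →
      x.2 = Int.sign x.2 * ((Nat.choose (up.length + i + 1) (i + 1) : ℕ) : ℤ)) :
    ∑ i : Fin 4, (((((strL dn s up).getD i (0, 0)).2 : ℤ) : F) *
      W 1 0 t 1 (dn.length + up.length) i (Fin.ofNat 4 dn.length)) *
        (if u = ((strL dn s up).getD i (0, 0)).1 then (1 : F) else 0) =
      (if u = s then (1 : F) else 0) + coefL F t u dn 0 := by
  have h0 := fun x hx => sign_cast_mul (F := F) (hdn 0 x hx)
  have h1 := fun x hx => sign_cast_mul (F := F) (hdn 1 x hx)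
  have h2 := fun x hx => sign_cast_mul (F := F) (hdn 2 x hx)
  clear hdn
  have c3 : Nat.choose 3 1 = 3 := rfl
  rcases dn with _ | ⟨⟨a1, m1⟩, _ | ⟨⟨a2, m2⟩, _ | ⟨⟨a3, m3⟩, _ | ⟨a4, dn⟩⟩⟩⟩ <;>
  rcases up with _ | ⟨⟨b1, n1⟩, _ | ⟨⟨b2, n2⟩, _ | ⟨⟨b3, n3⟩, _ | ⟨b4, up⟩⟩⟩⟩ <;>
  simp only [List.length_cons, List.length_nil] at hl <;>
  first
  | omega
  | skip
  all_goals
    simp only [strL, coefL_cons, coefL_nil, List.length_cons, List.length_nil]
    rw [Fin.sum_univ_four]
    simp [c3] at h0 h1 h2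
    simp [sg, W_zero, W_one, W_two, W_three, -Fin.ofNat_eq_cast, ofNat_one, ofNat_two, ofNat_three]
    try
      simp only [ite_eq_comm u]
      try rw [h0]
      try rw [h1]
      try rw [h2]
      try (split_ifs <;> ring)

theorem str_eq_strL (D : ChevalleyDatum) (r s : ℕ) :
    str D r s = strL (D.chainEntry (D.neg r) s) s (D.chainEntry r s) := rfl

theorem colE_upper {D : ChevalleyDatum} {r : ℕ} (hG : Good D r) (t : F) (s : ℕ) (hs : s < D.nroots)
    (h1 : s ≠ r) (h2 : s ≠ D.neg r) (u : Fin D.nroots) :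
    colE D r 1 t 0 1 s (Sum.inr u) =
      (if u.val = s then (1 : F) else 0) + coefL F t u (D.chainEntry r s) 0 := by
  rw [colE, if_neg h1, if_neg h2, Finset.sum_apply]
  exact upper_case t s u _ _ (hG.len_le s hs h1 h2) (hG.up s hs h1 h2)

theorem colE_lower {D : ChevalleyDatum} {r : ℕ} (hG : Good D r) (t : F) (s : ℕ) (hs : s < D.nroots)
    (h1 : s ≠ r) (h2 : s ≠ D.neg r) (u : Fin D.nroots) :
    colE D r 1 0 t 1 s (Sum.inr u) =
      (if u.val = s then (1 : F) else 0) + coefL F t u (D.chainEntry (D.neg r) s) 0 := by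
  rw [colE, if_neg h1, if_neg h2, Finset.sum_apply]
  exact lower_case t s u _ _ (hG.len_le s hs h1 h2) (hG.down s hs h1 h2)

theorem colE_inl {D : ChevalleyDatum} {r : ℕ} (a b c d : F) (s : ℕ)
    (h1 : s ≠ r) (h2 : s ≠ D.neg r) (u : Fin D.rank) :
    colE D r a b c d s (Sum.inl u) = 0 := by
  rw [colE, if_neg h1, if_neg h2, Finset.sum_apply]
  refine Finset.sum_eq_zero fun i _ => ?_
  rw [Pi.smul_apply, eV, Sum.elim_inl, smul_zero]

theorem Phi_upper {D : ChevalleyDatum} {r : ℕ} (hG : Good D r) (t : F) :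
    Phi D r 1 t 0 1 = D.x F r t := by
  rw [ChevalleyDatum.x, dif_pos hG.lt]
  ext row col
  rcases col with i | s
  · show colH D r 1 t 0 1 i row = (match row with
       | Sum.inl i' => if i' = i then (1 : F) else 0
       | Sum.inr u => if u = ⟨r, hG.lt⟩ then - (((D.cartanSR.getD i.val #[]).getD r 0 : ℤ) : F) * t else 0)
    rcases row with j | u
    · simp [colH, hV, eV, hR]
    · by_cases hu : u.val = r
      · have hu' : u = ⟨r, hG.lt⟩ := Fin.ext hu
        subst hu'
        simp [colH, hV, eV, hR, ChevalleyDatum.cartan]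
      · have hu' : ¬ (u = ⟨r, hG.lt⟩) := fun h => hu (congrArg Fin.val h)
        simp [colH, hV, eV, hR, hu, hu']
  · show colE D r 1 t 0 1 s row = (if s = ⟨r, hG.lt⟩ then
        (match row with | Sum.inr u => if u = ⟨r, hG.lt⟩ then (1 : F) else 0 | Sum.inl _ => 0)
      else if s.val = D.negIdx.getD r 0 then
        (match row with
         | Sum.inl i => (((D.coroot.getD r #[]).getD i.val 0 : ℤ) : F) * t
         | Sum.inr u => if u = s then 1 else if u = ⟨r, hG.lt⟩ then -(t ^ 2) else 0)
      else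
        (match row with
         | Sum.inl _ => 0
         | Sum.inr u => (if u = s then 1 else 0) +
             ((D.chainCoeff r s.val u.val).map fun km => ((km.2 : ℤ) : F) * t ^ km.1).sum))
    by_cases hs : s.val = r
    · have hs' : s = ⟨r, hG.lt⟩ := Fin.ext hs
      subst hs'
      rw [if_pos rfl, colE, if_pos rfl]
      rcases row with j | u
      · simp [hR, eV]
      · simp [hR, eV, Fin.ext_iff]
    · have hs' : ¬ (s = ⟨r, hG.lt⟩) := fun h => hs (congrArg Fin.val h)
      rw [if_neg hs']
      by_cases hn : s.val = D.neg r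
      · have hn' : s.val = D.negIdx.getD r 0 := hn
        rw [if_pos hn', colE, if_neg hs, if_pos hn]
        rcases row with j | u
        · simp [hR, eV, cor, mul_comm]
        · by_cases hus : u = s
          · subst hus
            simp [hR, eV, hn, hG.neg_ne]
          · have hus' : u.val ≠ D.neg r := fun h => hus (Fin.ext (h.trans hn.symm))
            by_cases hur : u.val = r
            · simp [hR, eV, hus, hur, Fin.ext_iff, Ne.symm hG.neg_ne]
            · simp [hR, eV, hus, hur, Fin.ext_iff, hus']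
      · have hn' : ¬ (s.val = D.negIdx.getD r 0) := hn
        rw [if_neg hn']
        rcases row with j | u
        · exact colE_inl 1 t 0 1 s hs hn j
        · rw [colE_upper hG t s s.2 hs hn u]
          show _ = (if u = s then 1 else 0) +
             ((D.chainCoeff r s.val u.val).map fun km => ((km.2 : ℤ) : F) * t ^ km.1).sum
          rw [chainCoeff_sum hG.keys]
          simp only [Fin.ext_iff]

theorem Phi_lower {D : ChevalleyDatum} {r : ℕ} (hG : Good D r) (t : F) :
    Phi D r 1 0 t 1 = D.x F (D.neg r) t := by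
  rw [ChevalleyDatum.x, dif_pos hG.neg_lt]
  ext row col
  rcases col with i | s
  · show colH D r 1 0 t 1 i row = (match row with
       | Sum.inl i' => if i' = i then (1 : F) else 0
       | Sum.inr u => if u = ⟨D.neg r, hG.neg_lt⟩ then
          - (((D.cartanSR.getD i.val #[]).getD (D.neg r) 0 : ℤ) : F) * t else 0)
    have hc : (((D.cartanSR.getD i.val #[]).getD (D.neg r) 0 : ℤ)) = - D.cartan i r :=
      hG.cartan_neg i i.2
    rcases row with j | u
    · simp [colH, hV, eV, hR]
    · by_cases hu : u.val = D.neg r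
      · have hu' : u = ⟨D.neg r, hG.neg_lt⟩ := Fin.ext hu
        subst hu'
        simp only [hc]
        simp [colH, hV, eV, hR]
      · have hu' : ¬ (u = ⟨D.neg r, hG.neg_lt⟩) := fun h => hu (congrArg Fin.val h)
        simp [colH, hV, eV, hR, hu, hu']
  · show colE D r 1 0 t 1 s row = (if s = ⟨D.neg r, hG.neg_lt⟩ then
        (match row with | Sum.inr u => if u = ⟨D.neg r, hG.neg_lt⟩ then (1 : F) else 0 | Sum.inl _ => 0)
      else if s.val = D.neg (D.neg r) then
        (match row with
         | Sum.inl i => ((cor D (D.neg r) i.val : ℤ) : F) * t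
         | Sum.inr u => if u = s then 1 else if u = ⟨D.neg r, hG.neg_lt⟩ then -(t ^ 2) else 0)
      else
        (match row with
         | Sum.inl _ => 0
         | Sum.inr u => (if u = s then 1 else 0) +
             ((D.chainCoeff (D.neg r) s.val u.val).map fun km => ((km.2 : ℤ) : F) * t ^ km.1).sum))
    rw [hG.neg_neg]
    by_cases hn : s.val = D.neg r
    · have hs' : s = ⟨D.neg r, hG.neg_lt⟩ := Fin.ext hn
      subst hs'
      rw [if_pos rfl, colE, if_neg hG.neg_ne, if_pos rfl]
      rcases row with j | u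
      · simp [hR, eV]
      · simp [hR, eV, Fin.ext_iff]
    · have hn' : ¬ (s = ⟨D.neg r, hG.neg_lt⟩) := fun h => hn (congrArg Fin.val h)
      rw [if_neg hn']
      by_cases hs : s.val = r
      · rw [if_pos hs, colE, if_pos hs]
        rcases row with j | u
        · simp [hR, eV, hG.cor_neg j j.2, mul_comm]
        · by_cases hus : u = s
          · subst hus
            simp [hR, eV, hs, Ne.symm hG.neg_ne]
          · have hus' : u.val ≠ r := fun h => hus (Fin.ext (h.trans hs.symm))
            by_cases hur : u.val = D.neg r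
            · simp [hR, eV, hus, hur, Fin.ext_iff, hG.neg_ne]
            · simp [hR, eV, hus, hur, Fin.ext_iff, hus']
      · rw [if_neg hs]
        rcases row with j | u
        · exact colE_inl 1 0 t 1 s hs hn j
        · rw [colE_lower hG t s s.2 hs hn u]
          show _ = (if u = s then 1 else 0) +
             ((D.chainCoeff (D.neg r) s.val u.val).map fun km => ((km.2 : ℤ) : F) * t ^ km.1).sum
          rw [chainCoeff_sum hG.keys_neg]
          simp only [Fin.ext_iff]

theorem Phi_one {D : ChevalleyDatum} {r : ℕ} (hG : Good D r) :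
    Phi D r (1 : F) 0 0 1 = 1 := by
  ext row col
  have h : ∀ (s : ℕ), s < D.nroots → s ≠ r → s ≠ D.neg r → ∀ u : Fin D.nroots,
      colE D r (1 : F) 0 0 1 s (Sum.inr u) = if u.val = s then 1 else 0 := by
    intro s hs h1 h2 u
    rw [colE_upper hG 0 s hs h1 h2 u]
    have hz : ∀ (L : List (ℕ × ℤ)) (k : ℕ), coefL F 0 u.val L k = 0 := by
      intro L
      induction L with
      | nil => intro k; rfl
      | cons x L ih => intro k; rw [coefL_cons, ih]; simp
    rw [hz, add_zero]
  rcases col with i | s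
  · show colH D r (1 : F) 0 0 1 i row = _
    rcases row with j | u
    · simp [colH, hV, Matrix.one_apply]
    · simp [colH, hV]
  · show colE D r (1 : F) 0 0 1 s row = _
    by_cases hs : s.val = r
    · rw [colE, if_pos hs]
      rcases row with j | u
      · simp [eV]
      · simp [eV, Matrix.one_apply, Fin.ext_iff, hs]
    · by_cases hn : s.val = D.neg r
      · rw [colE, if_neg hs, if_pos hn]
        rcases row with j | u
        · simp [eV]
        · simp [eV, Matrix.one_apply, Fin.ext_iff, hn]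
      · rcases row with j | u
        · rw [colE_inl 1 0 0 1 s hs hn j]
          simp
        · rw [h s s.2 hs hn u]
          simp [Matrix.one_apply, Fin.ext_iff]

end Cfsg.Agent.ChevalleyStructure.SL2Match
end
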