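import Cfsg.Prelude.Def_ChevStructure
import Cfsg.Prelude.Def_ChevB2
import Cfsg.Prelude.Def_ChevD4
import Cfsg.Prelude.Def_LieTypes
set_option linter.all false

/-!
# Order facts of the chain tables

In every tabulated datum the roots are indexed in an order compatible with addition: negative roots first
(`r < n/2`), positive roots last, `neg r = n - 1 - r`; if `r` is positive then the roots `s + r, s + 2r, …` of the
`r`-chain through `s` come after `s`, they are positive as soon as `s > -r`, and they come after `r` as soon as `s` is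
positive. All of this is one linear pass over the tables, checked in the kernel. Consequences for `chainEntry`,
`chainRoot`, `commTerms` and `chainCoeff`.
-/

set_option autoImplicit false

namespace Cfsg.Agent.ChevalleyStructure.UnipOrd

open Cfsg.Lie

/-- Boolean check of the order facts of the chain table. -/
def chainOrd (D : ChevalleyDatum) : Bool :=
  D.chain.toList.zipIdx.all fun a =>
    Nat.blt a.2 (D.nroots / 2) || a.1.toList.all fun e => e.2.toList.all fun q =>
      Nat.blt e.1 q.1 && Nat.blt q.1 D.nroots &&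
      (Nat.blt (e.1 + a.2) D.nroots || Nat.ble (D.nroots / 2) q.1) &&
      (Nat.blt e.1 (D.nroots / 2) || Nat.blt a.2 q.1)

/-- Boolean check of `neg r = n - 1 - r` and of the positive roots. -/
def negOrd (D : ChevalleyDatum) : Bool :=
  (List.range D.nroots).all fun r =>
    Nat.beq (D.neg r + r + 1) D.nroots &&
    (decide (D.IsPosRoot r) == Nat.ble (D.nroots / 2) r) &&
    (decide (D.IsNegRoot r) == Nat.blt r (D.nroots / 2))

/-- Boolean check that the coroot coefficients of every root generate the unit ideal. -/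
def corootPrim (D : ChevalleyDatum) : Bool :=
  (List.range D.nroots).all fun r =>
    Nat.beq (((List.range D.rank).map fun i => ((D.coroot.getD r #[]).getD i 0).natAbs).foldr Nat.gcd 0) 1

theorem chainOrd_B2 : chainOrd chevB2 = true := by decide +kernel
theorem chainOrd_G2 : chainOrd chevG2 = true := by decide +kernel
theorem chainOrd_D4 : chainOrd chevD4 = true := by decide +kernel
theorem chainOrd_F4 : chainOrd chevF4 = true := by decide +kernel
theorem chainOrd_E6 : chainOrd chevE6 = true := by decide +kernel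
theorem chainOrd_E7 : chainOrd chevE7 = true := by decide +kernel
theorem chainOrd_E8 : chainOrd chevE8 = true := by decide +kernel

theorem negOrd_B2 : negOrd chevB2 = true := by decide +kernel
theorem negOrd_G2 : negOrd chevG2 = true := by decide +kernel
theorem negOrd_D4 : negOrd chevD4 = true := by decide +kernel
theorem negOrd_F4 : negOrd chevF4 = true := by decide +kernel
theorem negOrd_E6 : negOrd chevE6 = true := by decide +kernel
theorem negOrd_E7 : negOrd chevE7 = true := by decide +kernel
theorem negOrd_E8 : negOrd chevE8 = true := by decide +kernel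

theorem corootPrim_B2 : corootPrim chevB2 = true := by decide +kernel
theorem corootPrim_G2 : corootPrim chevG2 = true := by decide +kernel
theorem corootPrim_D4 : corootPrim chevD4 = true := by decide +kernel
theorem corootPrim_F4 : corootPrim chevF4 = true := by decide +kernel
theorem corootPrim_E6 : corootPrim chevE6 = true := by decide +kernel
theorem corootPrim_E7 : corootPrim chevE7 = true := by decide +kernel
theorem corootPrim_E8 : corootPrim chevE8 = true := by decide +kernel

/-- `D` is one of the seven tabulated data. -/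
abbrev InList (D : ChevalleyDatum) : Prop := D ∈ [chevG2, chevB2, chevD4, chevF4, chevE6, chevE7, chevE8]

theorem chainOrd_of_mem {D : ChevalleyDatum} (hD : InList D) : chainOrd D = true := by
  simp only [InList, List.mem_cons, List.not_mem_nil, or_false] at hD
  rcases hD with rfl | rfl | rfl | rfl | rfl | rfl | rfl
  exacts [chainOrd_G2, chainOrd_B2, chainOrd_D4, chainOrd_F4, chainOrd_E6, chainOrd_E7, chainOrd_E8]

theorem negOrd_of_mem {D : ChevalleyDatum} (hD : InList D) : negOrd D = true := by
  simp only [InList, List.mem_cons, List.not_mem_nil, or_false] at hD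
  rcases hD with rfl | rfl | rfl | rfl | rfl | rfl | rfl
  exacts [negOrd_G2, negOrd_B2, negOrd_D4, negOrd_F4, negOrd_E6, negOrd_E7, negOrd_E8]

theorem corootPrim_of_mem {D : ChevalleyDatum} (hD : InList D) : corootPrim D = true := by
  simp only [InList, List.mem_cons, List.not_mem_nil, or_false] at hD
  rcases hD with rfl | rfl | rfl | rfl | rfl | rfl | rfl
  exacts [corootPrim_G2, corootPrim_B2, corootPrim_D4, corootPrim_F4, corootPrim_E6, corootPrim_E7, corootPrim_E8]

variable {D : ChevalleyDatum}

theorem nroots_even (hD : InList D) : D.nroots % 2 = 0 := by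
  simp only [InList, List.mem_cons, List.not_mem_nil, or_false] at hD
  rcases hD with rfl | rfl | rfl | rfl | rfl | rfl | rfl <;> rfl

theorem neg_add (hD : InList D) {r : ℕ} (hr : r < D.nroots) : D.neg r + r + 1 = D.nroots := by
  have h := List.all_eq_true.1 (negOrd_of_mem hD) r (List.mem_range.2 hr)
  simp only [Bool.and_eq_true] at h
  exact Nat.eq_of_beq_eq_true h.1.1

theorem isPosRoot_iff (hD : InList D) (r : ℕ) : D.IsPosRoot r ↔ D.nroots / 2 ≤ r ∧ r < D.nroots := by
  by_cases hr : r < D.nroots
  · have h := List.all_eq_true.1 (negOrd_of_mem hD) r (List.mem_range.2 hr)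
    simp only [Bool.and_eq_true, beq_iff_eq] at h
    have h2 := h.1.2
    constructor
    · intro hp
      rw [decide_eq_true hp] at h2
      exact ⟨Nat.le_of_ble_eq_true h2.symm, hr⟩
    · rintro ⟨h3, _⟩
      rw [Nat.ble_eq_true_of_le h3] at h2
      exact of_decide_eq_true h2
  · constructor
    · intro hp
      exact absurd hp.1 hr
    · intro hp
      exact absurd hp.2 hr

theorem isNegRoot_iff (hD : InList D) (r : ℕ) : D.IsNegRoot r ↔ r < D.nroots / 2 := by
  by_cases hr : r < D.nroots
  · have h := List.all_eq_true.1 (negOrd_of_mem hD) r (List.mem_range.2 hr)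
    simp only [Bool.and_eq_true, beq_iff_eq] at h
    have h2 := h.2
    constructor
    · intro hp
      rw [decide_eq_true hp] at h2
      exact Nat.le_of_ble_eq_true h2.symm
    · intro h3
      have : Nat.blt r (D.nroots / 2) = true := Nat.ble_eq_true_of_le h3
      rw [this] at h2
      exact of_decide_eq_true h2
  · constructor
    · intro hp
      exact absurd hp.1 hr
    · intro hp
      exact absurd (lt_of_lt_of_le hp (Nat.div_le_self _ _)) hr

/-- If `m * t = 0` for the coroot coefficients `m` of a root then `t = 0`. -/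
theorem eq_zero_of_coroot {F : Type*} [Field F] (hD : InList D) {r : ℕ} (hr : r < D.nroots) {t : F}
    (h : ∀ i < D.rank, (((D.coroot.getD r #[]).getD i 0 : ℤ) : F) * t = 0) : t = 0 := by
  have h1 := List.all_eq_true.1 (corootPrim_of_mem hD) r (List.mem_range.2 hr)
  have h2 := Nat.eq_of_beq_eq_true h1
  have key : ∀ l : List ℕ, (∀ i ∈ l, (((D.coroot.getD r #[]).getD i 0 : ℤ) : F) * t = 0) →
      (((l.map fun i => ((D.coroot.getD r #[]).getD i 0).natAbs).foldr Nat.gcd 0 : ℕ) : F) * t = 0 := by
    intro l
    induction l with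
    | nil => intro _; simp
    | cons a l ih =>
      intro hl
      have ha := hl a List.mem_cons_self
      have hl' := ih fun i hi => hl i (List.mem_cons_of_mem _ hi)
      rw [List.map_cons, List.foldr_cons]
      generalize ((l.map fun i => ((D.coroot.getD r #[]).getD i 0).natAbs).foldr Nat.gcd 0) = m at hl' ⊢
      generalize (D.coroot.getD r #[]).getD a 0 = z at ha ⊢
      have hz : ((z.natAbs : ℕ) : F) * t = 0 := by
        rcases Int.natAbs_eq z with h | h
        · rw [h] at ha
          simpa using ha
        · rw [h] at ha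
          simpa using ha
      show ((Nat.gcd z.natAbs m : ℕ) : F) * t = 0
      generalize z.natAbs = a at hz ⊢
      have hb : ((Nat.gcd a m : ℕ) : ℤ) = a * Nat.gcdA a m + m * Nat.gcdB a m :=
        Nat.gcd_eq_gcd_ab _ _
      have hb' : ((Nat.gcd a m : ℕ) : F) = (a : F) * (Nat.gcdA a m : F) + (m : F) * (Nat.gcdB a m : F) := by
        have := congrArg (Int.cast : ℤ → F) hb
        push_cast at this
        exact this
      rw [hb']
      linear_combination (Nat.gcdA a m : F) * hz + (Nat.gcdB a m : F) * hl'
  have h3 := key (List.range D.rank) fun i hi => h i (List.mem_range.1 hi)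
  rw [h2] at h3
  simpa using h3

/-! ### The chain tables -/

theorem chain_mem (hD : InList D) {r : ℕ} (hr : D.nroots / 2 ≤ r) {e : ℕ × Array (ℕ × ℤ)}
    (he : e ∈ (D.chain.getD r #[]).toList) {q : ℕ × ℤ} (hq : q ∈ e.2.toList) :
    e.1 < q.1 ∧ q.1 < D.nroots ∧ (D.nroots ≤ e.1 + r → D.nroots / 2 ≤ q.1) ∧ (D.nroots / 2 ≤ e.1 → r < q.1) := by
  have h := chainOrd_of_mem hD
  by_cases hr' : r < D.chain.size
  · have hmem : ((D.chain.getD r #[]), r) ∈ D.chain.toList.zipIdx := by
      rw [List.mem_zipIdx_iff_getElem?]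
      simp [Array.getD, hr']
    have h1 := List.all_eq_true.1 h _ hmem
    simp only [Bool.or_eq_true] at h1
    rcases h1 with h1 | h1
    · exact absurd (Nat.le_of_ble_eq_true h1) (by simpa using hr)
    · have h2 := List.all_eq_true.1 (List.all_eq_true.1 h1 e he) q hq
      simp only [Bool.and_eq_true, Bool.or_eq_true] at h2
      obtain ⟨⟨⟨h3, h4⟩, h5⟩, h6⟩ := h2
      refine ⟨Nat.le_of_ble_eq_true h3, Nat.le_of_ble_eq_true h4, ?_, ?_⟩
      · intro h7
        rcases h5 with h5 | h5
        · have := Nat.le_of_ble_eq_true h5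
          omega
        · exact Nat.le_of_ble_eq_true h5
      · intro h7
        rcases h6 with h6 | h6
        · have := Nat.le_of_ble_eq_true h6
          omega
        · exact Nat.le_of_ble_eq_true h6
  · have : D.chain.getD r #[] = #[] := by
      simp [Array.getD, hr']
    rw [this] at he
    simp at he

theorem mem_chainEntry {r s : ℕ} {q : ℕ × ℤ} (hq : q ∈ D.chainEntry r s) :
    ∃ e ∈ (D.chain.getD r #[]).toList, e.1 = s ∧ q ∈ e.2.toList := by
  change q ∈ (match (D.chain.getD r #[]).toList.find? (fun e => e.1 = s) with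
    | none => []
    | some e => e.2.toList) at hq
  cases h : (D.chain.getD r #[]).toList.find? (fun e => e.1 = s) with
  | none =>
    rw [h] at hq
    simp at hq
  | some e =>
    rw [h] at hq
    refine ⟨e, List.mem_of_find?_eq_some h, ?_, hq⟩
    have := List.find?_some h
    exact of_decide_eq_true this

theorem chainEntry_ord (hD : InList D) {r s : ℕ} (hr : D.nroots / 2 ≤ r) {q : ℕ × ℤ} (hq : q ∈ D.chainEntry r s) :
    s < q.1 ∧ q.1 < D.nroots ∧ (D.nroots ≤ s + r → D.nroots / 2 ≤ q.1) ∧ (D.nroots / 2 ≤ s → r < q.1) := by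
  obtain ⟨e, he, rfl, hq'⟩ := mem_chainEntry hq
  exact chain_mem hD hr he hq'

theorem chainRoot_ord (hD : InList D) {r s i k : ℕ} (hr : D.nroots / 2 ≤ r) (hs : D.nroots / 2 ≤ s)
    (h : D.chainRoot r s i = some k) : r < k ∧ s < k ∧ k < D.nroots := by
  change ((D.chainEntry r s)[i - 1]?).map Prod.fst = some k at h
  rw [Option.map_eq_some_iff] at h
  obtain ⟨q, hq, rfl⟩ := h
  have := chainEntry_ord hD hr (List.mem_of_getElem? hq)
  exact ⟨this.2.2.2 hs, this.1, this.2.1⟩

/-- The roots `i r + j s` occurring in the commutator formula of two positive roots come after both. -/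
theorem commTerms_ord (hD : InList D) {r s : ℕ} (hr : D.nroots / 2 ≤ r) (hs : D.nroots / 2 ≤ s)
    {c : ℕ × ℤ × ℕ × ℕ} (hc : c ∈ D.commTerms r s) : r < c.1 ∧ s < c.1 ∧ c.1 < D.nroots := by
  obtain ⟨a, ha, hac⟩ := List.mem_filterMap.1 hc
  rw [Option.map_eq_some_iff] at hac
  obtain ⟨k, hk, rfl⟩ := hac
  show r < k ∧ s < k ∧ k < D.nroots
  simp only [List.mem_cons, List.not_mem_nil, or_false] at ha
  rcases ha with rfl | rfl | rfl | rfl | rfl | rfl | rfl
  · exact chainRoot_ord hD hr hs hk
  · exact chainRoot_ord hD hr hs hk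
  · obtain ⟨h1, h2, h3⟩ := chainRoot_ord hD hs hr hk
    exact ⟨h2, h1, h3⟩
  · exact chainRoot_ord hD hr hs hk
  · obtain ⟨h1, h2, h3⟩ := chainRoot_ord hD hs hr hk
    exact ⟨h2, h1, h3⟩
  · obtain ⟨m, hm, hk⟩ := Option.bind_eq_some_iff.1 hk
    obtain ⟨h1, h2, h3⟩ := chainRoot_ord hD hr hs hm
    obtain ⟨h4, h5, h6⟩ := chainRoot_ord hD (hr.trans h1.le) hs hk
    exact ⟨h1.trans h4, h5, h6⟩
  · obtain ⟨m, hm, hk⟩ := Option.bind_eq_some_iff.1 hk
    obtain ⟨h1, h2, h3⟩ := chainRoot_ord hD hs hr hm
    obtain ⟨h4, h5, h6⟩ := chainRoot_ord hD (hs.trans h1.le) hr hk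
    exact ⟨h5, h1.trans h4, h6⟩

theorem mem_commWord {F : Type*} [Field F] {r s : ℕ} {t u : F} {p : ℕ × F} (hp : p ∈ D.commWord F r s t u) :
    ∃ c ∈ D.commTerms r s, p.1 = c.1 := by
  obtain ⟨c, hc, rfl⟩ := List.mem_map.1 hp
  exact ⟨c, hc, rfl⟩

/-- The roots occurring in the chain coefficients. -/
theorem mem_chainCoeff {r s u : ℕ} {km : ℕ × ℤ} (h : km ∈ D.chainCoeff r s u) :
    ∃ e ∈ (D.chain.getD r #[]).toList, e.1 = s ∧ ∃ q ∈ e.2.toList, q.1 = u := by
  obtain ⟨e, he, hkm⟩ := List.mem_flatMap.1 h
  obtain ⟨he1, he2⟩ := List.mem_filter.1 he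
  obtain ⟨q, hq, _⟩ := List.mem_map.1 hkm
  obtain ⟨hq1, hq2⟩ := List.mem_filter.1 hq
  refine ⟨e, he1, of_decide_eq_true he2, q.1, ?_, of_decide_eq_true hq2⟩
  exact (List.mem_zipIdx' hq1).2 ▸ List.getElem_mem _

end Cfsg.Agent.ChevalleyStructure.UnipOrd
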