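import Mathlib
set_option linter.all false

/-!
Abstract fixed point computation in unipotent groups with an ordered product decomposition.

`Γ` is any group, `x : ι → K → Γ` a family of one-parameter subgroups. For a list `l` of roots,
`rspan x {k | k ∈ l}` is the subgroup generated by the `x k v`, `k ∈ l`, and `lprod x l t` the ordered
product `∏_{r ∈ l} x_r(t_r)`.
-/

set_option autoImplicit false

namespace Cfsg.Agent.ChevalleyStructure.TwistedU

open scoped commutatorElement

set_option linter.unusedSectionVars false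

variable {Γ ι K : Type*} [Group Γ] [AddGroup K]

/-- The subgroup generated by the root elements with root in `S`. -/
def rspan (x : ι → K → Γ) (S : Set ι) : Subgroup Γ :=
  Subgroup.closure {g | ∃ r ∈ S, ∃ t, g = x r t}

/-- Ordered product of root elements. -/
def lprod (x : ι → K → Γ) (l : List ι) (t : ι → K) : Γ := (l.map fun r => x r (t r)).prod

theorem lprod_nil (x : ι → K → Γ) (t : ι → K) : lprod x [] t = 1 := rfl

theorem lprod_cons (x : ι → K → Γ) (r : ι) (l : List ι) (t : ι → K) :
    lprod x (r :: l) t = x r (t r) * lprod x l t := by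
  simp [lprod]

theorem lprod_append (x : ι → K → Γ) (l l' : List ι) (t : ι → K) :
    lprod x (l ++ l') t = lprod x l t * lprod x l' t := by
  simp [lprod]

theorem lprod_congr (x : ι → K → Γ) {l : List ι} {t t' : ι → K} (h : ∀ r ∈ l, t r = t' r) :
    lprod x l t = lprod x l t' := by
  unfold lprod
  congr 1
  exact List.map_congr_left fun r hr => by rw [h r hr]

theorem mem_rspan (x : ι → K → Γ) {S : Set ι} {r : ι} (hr : r ∈ S) (t : K) :
    x r t ∈ rspan x S := Subgroup.subset_closure ⟨r, hr, t, rfl⟩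

theorem rspan_le (x : ι → K → Γ) {S : Set ι} {H : Subgroup Γ} (h : ∀ r ∈ S, ∀ t, x r t ∈ H) :
    rspan x S ≤ H := by
  refine (Subgroup.closure_le H).2 ?_
  rintro _ ⟨r, hr, t, rfl⟩
  exact h r hr t

theorem rspan_mono (x : ι → K → Γ) {S T : Set ι} (h : S ⊆ T) : rspan x S ≤ rspan x T :=
  rspan_le x fun _ hr t => mem_rspan x (h hr) t

theorem lprod_mem (x : ι → K → Γ) {l : List ι} {H : Subgroup Γ} {t : ι → K}
    (h : ∀ r ∈ l, x r (t r) ∈ H) : lprod x l t ∈ H := by
  refine Subgroup.list_prod_mem H ?_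
  intro g hg
  obtain ⟨r, hr, rfl⟩ := List.mem_map.1 hg
  exact h r hr

theorem lprod_mem_rspan (x : ι → K → Γ) {l : List ι} {S : Set ι} (h : ∀ r ∈ l, r ∈ S) (t : ι → K) :
    lprod x l t ∈ rspan x S :=
  lprod_mem x fun r hr => mem_rspan x (h r hr) (t r)

/-- The commutator condition: for `r` before `s` in the list, `[X_r, X_s]` lies in the group generated
by the root subgroups of the roots after `r`. -/
def Good (x : ι → K → Γ) : List ι → Prop
  | [] => True
  | r :: l => (∀ s ∈ l, ∀ t u, ⁅x r t, x s u⁆ ∈ rspan x {k | k ∈ l}) ∧ Good x l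

theorem good_nil (x : ι → K → Γ) : Good x [] := trivial

theorem good_cons (x : ι → K → Γ) {r : ι} {l : List ι} :
    Good x (r :: l) ↔ (∀ s ∈ l, ∀ t u, ⁅x r t, x s u⁆ ∈ rspan x {k | k ∈ l}) ∧ Good x l := Iff.rfl

variable {x : ι → K → Γ}

theorem x_zero (hadd : ∀ r t u, x r (t + u) = x r t * x r u) (r : ι) : x r 0 = 1 := by
  have h := hadd r 0 0
  rw [add_zero] at h
  exact (mul_eq_left (a := x r 0)).1 h.symm

theorem x_neg (hadd : ∀ r t u, x r (t + u) = x r t * x r u) (r : ι) (t : K) :
    x r (-t) = (x r t)⁻¹ := by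
  rw [eq_inv_iff_mul_eq_one, ← hadd, neg_add_cancel, x_zero hadd]

theorem conj_mem {r : ι} {l : List ι}
    (h : ∀ s ∈ l, ∀ t u, ⁅x r t, x s u⁆ ∈ rspan x {k | k ∈ l}) (t : K) {g : Γ}
    (hg : g ∈ rspan x {k | k ∈ l}) : x r t * g * (x r t)⁻¹ ∈ rspan x {k | k ∈ l} := by
  have key : rspan x {k | k ∈ l} ≤ (rspan x {k | k ∈ l}).comap (MulAut.conj (x r t)).toMonoidHom := by
    refine rspan_le x fun s hs u => ?_
    have h1 := h s hs t u
    have h2 := (rspan x {k | k ∈ l}).mul_mem h1 (mem_rspan x (S := {k | k ∈ l}) hs u)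
    rw [commutatorElement_def, inv_mul_cancel_right] at h2
    exact h2
  exact key hg

/-- Existence of the ordered product decomposition. -/
theorem exists_lprod (hadd : ∀ r t u, x r (t + u) = x r t * x r u) :
    ∀ {l : List ι}, l.Nodup → Good x l → ∀ {g : Γ}, g ∈ rspan x {k | k ∈ l} → ∃ t, g = lprod x l t := by
  classical
  intro l
  induction l with
  | nil =>
    intro _ _ g hg
    have : rspan x {k | k ∈ ([] : List ι)} ≤ ⊥ := rspan_le x (by simp)
    exact ⟨fun _ => 0, by rw [lprod_nil]; exact (Subgroup.mem_bot).1 (this hg)⟩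
  | cons r l ih =>
    intro hnd hgood g hg
    obtain ⟨hr, hnd'⟩ := List.nodup_cons.1 hnd
    obtain ⟨hc, hgood'⟩ := hgood
    have key : ∃ t : K, ∃ h ∈ rspan x {k | k ∈ l}, g = x r t * h := by
      refine Subgroup.closure_induction (p := fun g _ => ∃ t : K, ∃ h ∈ rspan x {k | k ∈ l}, g = x r t * h)
        ?_ ?_ ?_ ?_ hg
      · rintro _ ⟨s, hs, t, rfl⟩
        rcases List.mem_cons.1 hs with rfl | hs
        · exact ⟨t, 1, Subgroup.one_mem _, (mul_one _).symm⟩
        · exact ⟨0, x s t, mem_rspan x hs t, by rw [x_zero hadd, one_mul]⟩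
      · exact ⟨0, 1, Subgroup.one_mem _, by rw [x_zero hadd, one_mul]⟩
      · rintro _ _ _ _ ⟨t, h, hh, rfl⟩ ⟨t', h', hh', rfl⟩
        refine ⟨t + t', (x r (-t') * h * (x r (-t'))⁻¹) * h', Subgroup.mul_mem _ (conj_mem hc _ hh) hh', ?_⟩
        rw [hadd, x_neg hadd]
        group
      · rintro _ _ ⟨t, h, hh, rfl⟩
        refine ⟨-t, x r t * h⁻¹ * (x r t)⁻¹, conj_mem hc _ (Subgroup.inv_mem _ hh), ?_⟩
        rw [x_neg hadd]
        group
    obtain ⟨t, h, hh, rfl⟩ := key
    obtain ⟨t', rfl⟩ := ih hnd' hgood' hh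
    refine ⟨Function.update t' r t, ?_⟩
    rw [lprod_cons, Function.update_self]
    congr 1
    refine lprod_congr x fun s hs => ?_
    rw [Function.update_of_ne]
    rintro rfl
    exact hr hs

/-- Uniqueness of the ordered product decomposition, from the order of the group. -/
theorem lprod_inj_of_card [Finite K] (hadd : ∀ r t u, x r (t + u) = x r t * x r u)
    {l : List ι} (hnd : l.Nodup) (hgood : Good x l)
    (hcard : Nat.card (rspan x {k | k ∈ l}) = Nat.card K ^ l.length) {t t' : ι → K}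
    (h : lprod x l t = lprod x l t') : ∀ r ∈ l, t r = t' r := by
  classical
  have hfin : Finite {r // r ∈ l} := by
    have : Fintype {r // r ∈ l} := List.Subtype.fintype l
    infer_instance
  let ext : ({r // r ∈ l} → K) → ι → K := fun f r => if hr : r ∈ l then f ⟨r, hr⟩ else 0
  let G : ({r // r ∈ l} → K) → rspan x {k | k ∈ l} := fun f =>
    ⟨lprod x l (ext f), lprod_mem_rspan x (fun _ hr => hr) _⟩
  have hsurj : Function.Surjective G := by
    rintro ⟨g, hg⟩
    obtain ⟨t, rfl⟩ := exists_lprod hadd hnd hgood hg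
    refine ⟨fun r => t r.1, Subtype.ext (lprod_congr x fun r hr => ?_)⟩
    simp only [ext]
    rw [dif_pos hr]
  have hc : Nat.card ({r // r ∈ l} → K) ≤ Nat.card (rspan x {k | k ∈ l}) := by
    rw [hcard, Nat.card_fun]
    apply le_of_eq
    congr 1
    have e := (hnd.getEquiv l).symm
    rw [Nat.card_congr e, Nat.card_eq_fintype_card, Fintype.card_fin]
  have hbij := hsurj.bijective_of_nat_card_le hc
  have hG : G (fun r : {r // r ∈ l} => t r.1) = G (fun r : {r // r ∈ l} => t' r.1) := by
    apply Subtype.ext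
    show lprod x l _ = lprod x l _
    rw [lprod_congr x (t' := t) (fun r hr => by simp only [ext]; rw [dif_pos hr]),
      lprod_congr x (t := ext fun r => t' r.1) (t' := t') (fun r hr => by simp only [ext]; rw [dif_pos hr]), h]
  intro r hr
  have h3 : (fun r : {r // r ∈ l} => t r.1) = (fun r : {r // r ∈ l} => t' r.1) := hbij.1 hG
  exact congrFun h3 ⟨r, hr⟩

end Cfsg.Agent.ChevalleyStructure.TwistedU
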