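import Mathlib
import Cfsg.Agent.ChevalleyStructure.TwistedFix
set_option linter.all false

/-!
Coordinates of the elements of one relative root group (see `TwistedFix`).
-/

set_option autoImplicit false

namespace Cfsg.Agent.ChevalleyStructure.TwistedFixOrbit

open scoped commutatorElement
open Cfsg.Agent.ChevalleyStructure.TwistedU
open Cfsg.Agent.ChevalleyStructure.TwistedFix

variable {Γ ι K : Type*} [Group Γ] [AddGroup K] {x : ι → K → Γ}

theorem lprod_filter (hadd : ∀ r t u, x r (t + u) = x r t * x r u) (S : ι → Prop) [DecidablePred S]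
    (l : List ι) (t : ι → K) :
    lprod x l (fun r => if S r then t r else 0) = lprod x (l.filter fun r => decide (S r)) t := by
  induction l with
  | nil => rfl
  | cons r l ih =>
    rw [lprod_cons, ih]
    by_cases h : S r
    · rw [if_pos h, List.filter_cons_of_pos (by simpa using h), lprod_cons]
    · rw [if_neg h, List.filter_cons_of_neg (by simpa using h), x_zero hadd, one_mul]

theorem good_of_commute : ∀ {o : List ι},
    (o.Pairwise fun r s => ∀ t u, Commute (x r t) (x s u)) → Good x o := by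
  intro o
  induction o with
  | nil => intro _; exact good_nil x
  | cons r l ih =>
    intro h
    rw [List.pairwise_cons] at h
    refine (good_cons x).2 ⟨fun s hs t u => ?_, ih h.2⟩
    have h1 : ⁅x r t, x s u⁆ = 1 := commutatorElement_eq_one_iff_commute.2 (h.1 s hs t u)
    rw [h1]
    exact Subgroup.one_mem _

variable {L : List (List ι)} {σ : Γ →* Γ} {ρ ρ' : ι → ι} {f : ι → K → K}

/-- Coordinates of an element of a relative root group. -/
theorem orbit_coords [DecidableEq ι] (S : Setup x L σ ρ ρ' f) {o : List ι} (ho : o ∈ L) (hnd : o.Nodup)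
    (hfil : (L.flatten.filter fun r => decide (r ∈ o)) = o) {g : Γ}
    (hg : g ∈ rspan x {k | k ∈ o} ⊓ fixS σ) :
    ∃ t : ι → K, (∀ r ∈ o, t (ρ r) = f r (t r)) ∧ g = lprod x o t := by
  obtain ⟨hg1, hg2⟩ := hg
  have hL : ∀ r ∈ o, r ∈ L.flatten := fun r hr => List.mem_flatten.2 ⟨o, ho, hr⟩
  obtain ⟨t, rfl⟩ := exists_lprod S.hadd hnd (good_of_commute (S.comm o ho)) hg1
  refine ⟨t, ?_, rfl⟩
  have h1 : σ (lprod x o t) = lprod x o fun s => f (ρ' s) (t (ρ' s)) := by
    refine map_lprod_orbit (fun r hr => S.hσ r (hL r hr)) (S.perm o ho) (S.comm o ho) fun r hr => ?_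
    show f (ρ' (ρ r)) (t (ρ' (ρ r))) = _
    rw [S.left_inv r (hL r hr)]
  have h2 : σ (lprod x o t) = lprod x o t := hg2
  have h3 : ∀ t' : ι → K, lprod x L.flatten (fun r => if r ∈ o then t' r else 0) = lprod x o t' := by
    intro t'
    rw [lprod_filter S.hadd (fun r => r ∈ o) L.flatten t']
    congr 1
  have h4 := S.inj _ _ (((h3 (fun s => f (ρ' s) (t (ρ' s)))).trans (h1.symm.trans h2)).trans (h3 t).symm)
  intro r hr
  have hρ : ρ r ∈ o := (S.perm o ho).subset (List.mem_map_of_mem hr)
  have h5 := h4 (ρ r) (hL _ hρ)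
  rw [if_pos hρ, if_pos hρ, S.left_inv r (hL r hr)] at h5
  exact h5.symm

end Cfsg.Agent.ChevalleyStructure.TwistedFixOrbit
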