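import Cfsg.Agent.ChevalleyStructure.TwE6Basic
import Cfsg.Agent.ChevalleyStructure.TwistedBN
import Cfsg.Agent.S1036
import Cfsg.Agent.S1037
import Cfsg.Agent.S1038
import Cfsg.Agent.S1040
import Cfsg.Agent.S1042
import Cfsg.Agent.S1043
import Cfsg.Agent.S1048
import Cfsg.Agent.S1032
import Cfsg.Agent.S1034
import Cfsg.Agent.S0309
set_option linter.all false

/-!
The (B,N)-pair of ²E₆(q), with its distinguished generators, and its irreducibility.
-/

set_option autoImplicit false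

namespace Cfsg.Agent.ChevalleyStructure.TwE6BN

open scoped Pointwise
open Cfsg.Lie
open Cfsg.Agent.ChevalleyStructure.Elts hiding x_add x_zero x_eq_one_iff
open Cfsg.Agent.ChevalleyStructure.TwE6Basic
open Cfsg.Agent.ChevalleyStructure.TwistedBN

universe u

variable {K : Type u} [Field K]

/-- The subgroup generated by the root elements with root in a list. -/
def rs (K : Type u) [Field K] (A : List ℕ) : Subgroup (GL chevE6.Idx K) :=
  Subgroup.closure {g | ∃ r ∈ A, ∃ t : K, g = x r t}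

theorem x_mem_rs {A : List ℕ} {r : ℕ} (hr : r ∈ A) (t : K) : x r t ∈ rs K A :=
  Subgroup.subset_closure ⟨r, hr, t, rfl⟩

theorem rs_le {A : List ℕ} {M : Subgroup (GL chevE6.Idx K)} (h : ∀ r ∈ A, ∀ t : K, x r t ∈ M) :
    rs K A ≤ M := by
  refine (Subgroup.closure_le M).2 ?_
  rintro _ ⟨r, hr, t, rfl⟩
  exact h r hr t

theorem rs_single {r : ℕ} {g : GL chevE6.Idx K} (hg : g ∈ rs K [r]) : ∃ t : K, g = x r t := by
  have h : rs K [r] ≤ chevE6.rootSubgroup K r :=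
    rs_le fun s hs t => by
      rw [List.mem_singleton] at hs
      subst hs
      exact mem_X.2 ⟨t, rfl⟩
  exact mem_X.1 (h hg)

theorem rs_pair {r s : ℕ} (hc : ∀ t u : K, x s u * x r t = x r t * x s u) {g : GL chevE6.Idx K}
    (hg : g ∈ rs K [r, s]) : ∃ t u : K, g = x r t * x s u := by
  refine Subgroup.closure_induction (p := fun g _ => ∃ t u : K, g = x r t * x s u) ?_ ?_ ?_ ?_ hg
  · rintro _ ⟨k, hk, t, rfl⟩
    simp only [List.mem_cons, List.not_mem_nil, or_false] at hk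
    rcases hk with rfl | rfl
    · exact ⟨t, 0, by rw [x_zero, mul_one]⟩
    · exact ⟨0, t, by rw [x_zero, one_mul]⟩
  · exact ⟨0, 0, by rw [x_zero, x_zero, mul_one]⟩
  · rintro _ _ _ _ ⟨t, u, rfl⟩ ⟨t', u', rfl⟩
    refine ⟨t + t', u + u', ?_⟩
    rw [← x_add, ← x_add, mul_assoc, ← mul_assoc (x s u), hc]
    group
  · rintro _ _ ⟨t, u, rfl⟩
    refine ⟨-t, -u, ?_⟩
    rw [mul_inv_rev, x_inv, x_inv, hc]

/-! ### Elements of `U`, `V` -/

theorem mem_V {r : Fin 72} (hr : r.val < 36) (t : K) : x r.val t ∈ chevE6.negUnipotent K :=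
  xG_mem_negUnipotent hE6 ((negRoot_iff r).2 hr) t

theorem mem_U {r : Fin 72} (hr : 36 ≤ r.val) (t : K) : x r.val t ∈ chevE6.posUnipotent K :=
  xG_mem_posUnipotent hE6 ((pos_iff r).2 hr) t

theorem V_inf_B {g : GL chevE6.Idx K} (h1 : g ∈ chevE6.negUnipotent K) (h2 : g ∈ chevE6.borelSubgroup K) :
    g = 1 := by
  have h := (Cfsg.Agent.S1037.result (F := K) chevE6 hE6).1
  exact Subgroup.mem_bot.1 (h ▸ Subgroup.mem_inf.2 ⟨h2, h1⟩)

theorem U_le_B : chevE6.posUnipotent K ≤ chevE6.borelSubgroup K := le_sup_left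
theorem H_le_B : chevE6.diagonalSubgroup K ≤ chevE6.borelSubgroup K := le_sup_right

/-- A positive root subgroup is not a negative one. -/
theorem X_ne {r s : Fin 72} (hr : 36 ≤ r.val) (hs : s.val < 36)
    (h : ∀ g, g ∈ chevE6.rootSubgroup K r.val → g ∈ chevE6.rootSubgroup K s.val) : False := by
  have h1 : x r.val (1 : K) ∈ chevE6.rootSubgroup K s.val := h _ (mem_X.2 ⟨1, rfl⟩)
  obtain ⟨t, ht⟩ := mem_X.1 h1
  have h2 : x r.val (1 : K) = 1 := V_inf_B (by rw [ht]; exact mem_V hs t) (U_le_B (mem_U hr 1))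
  exact one_ne_zero ((x_eq_one_iff r.isLt (1 : K)).1 h2)

theorem mem_diag_conj {h : GL chevE6.Idx K} (hh : h ∈ chevE6.diagonalSubgroup K) (r : Fin 72)
    (g : GL chevE6.Idx K) : g ∈ chevE6.rootSubgroup K r.val ↔ h * g * h⁻¹ ∈ chevE6.rootSubgroup K r.val := by
  have key : ∀ h ∈ chevE6.diagonalSubgroup K, ∀ g ∈ chevE6.rootSubgroup K r.val,
      h * g * h⁻¹ ∈ chevE6.rootSubgroup K r.val := by
    intro h hh g hg
    obtain ⟨c, hc, e⟩ := Cfsg.Agent.S1034.result (F := K) chevE6 hE6 h hh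
    have e' : h = wordG hE6 ((List.range chevE6.rank).flatMap fun i => chevE6.hWord (chevE6.simple i) (c i)) :=
      (eq_wordG_iff hE6 _ _).2 e
    have step : ∀ L : List ℕ, (∀ i ∈ L, i < chevE6.rank) → ∀ g ∈ chevE6.rootSubgroup K r.val,
        wordG hE6 (L.flatMap fun i => chevE6.hWord (chevE6.simple i) (c i)) * g *
          (wordG hE6 (L.flatMap fun i => chevE6.hWord (chevE6.simple i) (c i)))⁻¹ ∈
          chevE6.rootSubgroup K r.val := by
      intro L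
      induction L with
      | nil => intro _ g hg; simpa [wordG_nil] using hg
      | cons i L ih =>
        intro hL g hg
        have hi := hL i List.mem_cons_self
        have h1 := ih (fun j hj => hL j (List.mem_cons_of_mem _ hj)) g hg
        rw [List.flatMap_cons, wordG_append]
        obtain ⟨t, ht⟩ := mem_X.1 h1
        have e1 : ∀ a b g : GL chevE6.Idx K, a * b * g * (a * b)⁻¹ = a * (b * g * b⁻¹) * a⁻¹ := by
          intro a b g; group
        rw [e1, ht]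
        refine mem_X.2 ⟨c i ^ (chevE6.cartan i r.val) * t, ?_⟩
        rw [mul_inv_eq_iff_eq_mul]
        exact Units.ext (Cfsg.Agent.S1032.result (F := K) chevE6 hE6 i r.val hi r.isLt (c i) (hc i hi) t)
    rw [e']
    exact step _ (fun i hi => List.mem_range.1 hi) g hg
  refine ⟨key h hh g, fun h1 => ?_⟩
  have h2 := key h⁻¹ (inv_mem hh) _ h1
  have e : h⁻¹ * (h * g * h⁻¹) * h⁻¹⁻¹ = g := by group
  rwa [e] at h2

/-! ### Action of monomial elements on roots -/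

/-- `m` permutes the root subgroups through `w`, and `w` commutes with the symmetry and negation. -/
def Acts (m : GL chevE6.Idx K) (w : Equiv.Perm (Fin 72)) : Prop :=
  (∀ r : Fin 72, ∀ g, g ∈ chevE6.rootSubgroup K r.val ↔ m * g * m⁻¹ ∈ chevE6.rootSubgroup K (w r).val) ∧
  (∀ r, rho (w r) = w (rho r)) ∧ (∀ r, Fin.rev (w r) = w (Fin.rev r))

theorem Acts.mul {m m' : GL chevE6.Idx K} {w w' : Equiv.Perm (Fin 72)} (h : Acts m w) (h' : Acts m' w') :
    Acts (m * m') (w * w') := by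
  refine ⟨fun r g => ?_, fun r => ?_, fun r => ?_⟩
  · rw [h'.1 r g, h.1 (w' r)]
    have e : m * (m' * g * m'⁻¹) * m⁻¹ = m * m' * g * (m * m')⁻¹ := by group
    rw [e]; rfl
  · show rho (w (w' r)) = w (w' (rho r))
    rw [h.2.1, h'.2.1]
  · show Fin.rev (w (w' r)) = w (w' (Fin.rev r))
    rw [h.2.2, h'.2.2]

theorem Acts.inv {m : GL chevE6.Idx K} {w : Equiv.Perm (Fin 72)} (h : Acts m w) : Acts m⁻¹ w⁻¹ := by
  refine ⟨fun r g => ?_, fun r => ?_, fun r => ?_⟩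
  · rw [h.1 (w⁻¹ r)]
    have e : m * (m⁻¹ * g * m⁻¹⁻¹) * m⁻¹ = g := by group
    rw [e]; simp
  · apply w.injective
    rw [← h.2.1]; simp
  · apply w.injective
    rw [← h.2.2]; simp

theorem acts_n (i : Fin 4) : Acts (n (K := K) i) (wP i) :=
  ⟨fun r g => n_conj_mem_iff i r g, fun r => rho_wP i r, fun r => rev_wP i r⟩

theorem acts_H {h : GL chevE6.Idx K} (hh : h ∈ chevE6.diagonalSubgroup K) : Acts h 1 :=
  ⟨fun r g => mem_diag_conj hh r g, fun _ => rfl, fun _ => rfl⟩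

theorem exists_acts {M : Subgroup (GL chevE6.Idx K)} {m : GL chevE6.Idx K}
    (hm : m ∈ Subgroup.closure (Set.range (n (K := K))) ⊔ (chevE6.diagonalSubgroup K ⊓ M)) :
    ∃ w, Acts m w := by
  rw [← Subgroup.closure_eq (chevE6.diagonalSubgroup K ⊓ M), ← Subgroup.closure_union] at hm
  refine Subgroup.closure_induction (p := fun m _ => ∃ w, Acts m w) ?_ ?_ ?_ ?_ hm
  · rintro _ (⟨i, rfl⟩ | h)
    · exact ⟨_, acts_n i⟩
    · exact ⟨1, acts_H (Subgroup.mem_inf.1 h).1⟩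
  · exact ⟨1, acts_H (Subgroup.one_mem _)⟩
  · rintro _ _ _ _ ⟨w, hw⟩ ⟨w', hw'⟩
    exact ⟨_, hw.mul hw'⟩
  · rintro _ _ ⟨w, hw⟩
    exact ⟨_, hw.inv⟩

theorem conj_rs {m : GL chevE6.Idx K} {w : Equiv.Perm (Fin 72)} (h : Acts m w) {A B : List ℕ}
    (hA : ∀ r ∈ A, ∃ hr : r < 72, (w ⟨r, hr⟩).val ∈ B) {g : GL chevE6.Idx K} (hg : g ∈ rs K A) :
    m * g * m⁻¹ ∈ rs K B := by
  have key : rs K A ≤ (rs K B).comap (MulAut.conj m).toMonoidHom := by
    refine rs_le fun r hr t => ?_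
    obtain ⟨hlt, hB⟩ := hA r hr
    have h1 := (h.1 ⟨r, hlt⟩ (x r t)).1 (mem_X.2 ⟨t, rfl⟩)
    obtain ⟨t', ht'⟩ := mem_X.1 h1
    show m * x r t * m⁻¹ ∈ rs K B
    rw [ht']
    exact x_mem_rs hB t'
  exact key hg

theorem conj_rs_le {m : GL chevE6.Idx K} {w : Equiv.Perm (Fin 72)} (h : Acts m w) {A : List ℕ}
    {M : Subgroup (GL chevE6.Idx K)}
    (hA : ∀ r ∈ A, ∃ hr : r < 72, ∀ t : K, x (w ⟨r, hr⟩).val t ∈ M) {g : GL chevE6.Idx K} (hg : g ∈ rs K A) :
    m * g * m⁻¹ ∈ M := by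
  have key : rs K A ≤ M.comap (MulAut.conj m).toMonoidHom := by
    refine rs_le fun r hr t => ?_
    obtain ⟨hlt, hB⟩ := hA r hr
    have h1 := (h.1 ⟨r, hlt⟩ (x r t)).1 (mem_X.2 ⟨t, rfl⟩)
    obtain ⟨t', ht'⟩ := mem_X.1 h1
    show m * x r t * m⁻¹ ∈ M
    rw [ht']
    exact hB t'
  exact key hg

theorem rs_posE_le (i : Fin 4) : rs K (posE i) ≤ chevE6.posUnipotent K :=
  rs_le fun r hr t => mem_U (r := ⟨r, (wp_posE i r hr).2.1⟩) (wp_posE i r hr).2.2.1 t

theorem rs_negE_le (i : Fin 4) : rs K (negE i) ≤ chevE6.negUnipotent K :=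
  rs_le fun r hr t => mem_V (r := ⟨r, (wp_negE i r hr).2.1⟩) (wp_negE i r hr).2.2.1 t

theorem conj_X (i : Fin 4) {g : GL chevE6.Idx K} (hg : g ∈ rs K (posE i)) :
    n (K := K) i * g * (n (K := K) i)⁻¹ ∈ rs K (negE i) :=
  conj_rs (acts_n i) (fun r hr => ⟨(wp_posE i r hr).2.1, (wp_posE i r hr).1⟩) hg

theorem conj_Y (i : Fin 4) {g : GL chevE6.Idx K} (hg : g ∈ rs K (negE i)) :
    n (K := K) i * g * (n (K := K) i)⁻¹ ∈ rs K (posE i) :=
  conj_rs (acts_n i) (fun r hr => ⟨(wp_negE i r hr).2.1, (wp_negE i r hr).1⟩) hg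

theorem wP_inv (i : Fin 4) : (wP i)⁻¹ = wP i := by
  ext r
  rw [Equiv.Perm.inv_def]
  rfl

theorem conj_inv_X (i : Fin 4) {g : GL chevE6.Idx K} (hg : g ∈ rs K (posE i)) :
    (n (K := K) i)⁻¹ * g * n (K := K) i ∈ rs K (negE i) := by
  have h := (acts_n (K := K) i).inv
  rw [wP_inv] at h
  have h1 := conj_rs h (B := negE i) (fun r hr => ⟨(wp_posE i r hr).2.1, (wp_posE i r hr).1⟩) hg
  rwa [inv_inv] at h1

theorem conj_inv_Y (i : Fin 4) {g : GL chevE6.Idx K} (hg : g ∈ rs K (negE i)) :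
    (n (K := K) i)⁻¹ * g * n (K := K) i ∈ rs K (posE i) := by
  have h := (acts_n (K := K) i).inv
  rw [wP_inv] at h
  have h1 := conj_rs h (B := posE i) (fun r hr => ⟨(wp_negE i r hr).2.1, (wp_negE i r hr).1⟩) hg
  rwa [inv_inv] at h1

/-! ### `n_r`, `h_r` -/

theorem nG_one_inv (r : ℕ) : (nG hE6 r (1 : K))⁻¹ = nG hE6 r (-1 : K) := by
  rw [inv_eq_iff_mul_eq_one, nG_def, nG_def]
  have e1 : -(1 : K)⁻¹ = -1 := by rw [inv_one]
  have e2 : -(-1 : K)⁻¹ = 1 := by rw [inv_neg_one, neg_neg]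
  rw [e1, e2]
  have h1 : xG hE6 r (1 : K) * xG hE6 r (-1) = 1 := by rw [xG_add, add_neg_cancel, xG_zero]
  have h2 : xG hE6 (chevE6.neg r) (-1 : K) * xG hE6 (chevE6.neg r) 1 = 1 := by
    rw [xG_add, neg_add_cancel, xG_zero]
  calc xG hE6 r (1 : K) * (xG hE6 (chevE6.neg r) (-1) * xG hE6 r 1) *
        (xG hE6 r (-1) * (xG hE6 (chevE6.neg r) 1 * xG hE6 r (-1)))
      = xG hE6 r (1 : K) * (xG hE6 (chevE6.neg r) (-1) * (xG hE6 r 1 * xG hE6 r (-1)) *
          xG hE6 (chevE6.neg r) 1) * xG hE6 r (-1) := by group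
    _ = 1 := by rw [h1, mul_one, h2, mul_one, h1]

/-- `n_r(c) n_r(1)⁻¹ = h_r(c)`. -/
theorem nG_mul_inv (r : ℕ) (c : K) : nG hE6 r c * (nG hE6 r (1 : K))⁻¹ = hG hE6 r c := by
  rw [nG_one_inv, hG_def]

/-- `x_{-r}(t) = x_r(t⁻¹) n_r(-t⁻¹) x_r(t⁻¹)`. -/
theorem x_neg_eq (r : ℕ) (t : K) :
    x (chevE6.neg r) t = x r t⁻¹ * nG hE6 r (-t⁻¹) * x r t⁻¹ := by
  rw [nG_def]
  have e1 : -(-t⁻¹)⁻¹ = t := by rw [inv_neg, inv_inv, neg_neg]
  rw [e1]
  have h1 : xG hE6 r t⁻¹ * xG hE6 r (-t⁻¹) = 1 := by rw [xG_add, add_neg_cancel, xG_zero]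
  have h2 : xG hE6 r (-t⁻¹) * xG hE6 r t⁻¹ = 1 := by rw [xG_add, neg_add_cancel, xG_zero]
  calc xG hE6 (chevE6.neg r) t = (xG hE6 r t⁻¹ * xG hE6 r (-t⁻¹)) * xG hE6 (chevE6.neg r) t *
        (xG hE6 r (-t⁻¹) * xG hE6 r t⁻¹) := by rw [h1, h2]; group
    _ = _ := by group

theorem neg_neg_root : ∀ r : Fin 72, chevE6.neg (chevE6.neg r.val) = r.val := by decide +kernel

/-! ### The pair classes -/

/-- Data of a pair class: `j`, `j'` positive, all of `x_{±j}` commute with all of `x_{±j'}`. -/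
structure PairOK (i : Fin 4) (j j' : ℕ) : Prop where
  pos : posE i = [j, j']
  neg : negE i = [chevE6.neg j, chevE6.neg j']
  Jn : ∀ K : Type u, ∀ [Field K], n (K := K) i = nE j * nE j'
  rho : ∃ (h : j < 72) (h' : j' < 72), TwE6Basic.rho ⟨j, h⟩ = ⟨j', h'⟩ ∧ TwE6Basic.rho ⟨j', h'⟩ = ⟨j, h⟩
  words : (j, j') ∈ [(56, 36), (15, 35), (42, 37), (29, 34)] ∧
    (chevE6.neg j, chevE6.neg j') ∈ [(56, 36), (15, 35), (42, 37), (29, 34)]

theorem pair2 : PairOK.{u} 2 42 37 where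
  pos := rfl
  neg := by decide +kernel
  Jn := fun K _ => by
    rw [n_def]
    have h1 : J 2 = [2, 4] := rfl
    have h2 : chevE6.simple 2 = 42 := by decide +kernel
    have h3 : chevE6.simple 4 = 37 := by decide +kernel
    rw [h1, List.map_cons, List.map_cons, List.map_nil, List.prod_cons, List.prod_cons, List.prod_nil, mul_one,
      h2, h3]
  rho := ⟨by norm_num, by norm_num, by decide +kernel, by decide +kernel⟩
  words := by decide +kernel

theorem pair3 : PairOK.{u} 3 56 36 where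
  pos := rfl
  neg := by decide +kernel
  Jn := fun K _ => by
    rw [n_def]
    have h1 : J 3 = [0, 5] := rfl
    have h2 : chevE6.simple 0 = 56 := by decide +kernel
    have h3 : chevE6.simple 5 = 36 := by decide +kernel
    rw [h1, List.map_cons, List.map_cons, List.map_nil, List.prod_cons, List.prod_cons, List.prod_nil, mul_one,
      h2, h3]
  rho := ⟨by norm_num, by norm_num, by decide +kernel, by decide +kernel⟩
  words := by decide +kernel

/-- Data of a single class. -/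
structure SingleOK (i : Fin 4) (j : ℕ) : Prop where
  pos : posE i = [j]
  neg : negE i = [chevE6.neg j]
  Jn : ∀ K : Type u, ∀ [Field K], n (K := K) i = nE j
  rho : ∃ (h : j < 72), TwE6Basic.rho ⟨j, h⟩ = ⟨j, h⟩
  words : j ∈ [46, 25, 39, 32] ∧ chevE6.neg j ∈ [46, 25, 39, 32]

theorem single0 : SingleOK.{u} 0 46 where
  pos := rfl
  neg := by decide +kernel
  Jn := fun K _ => by
    rw [n_def]
    have h1 : J 0 = [1] := rfl
    have h2 : chevE6.simple 1 = 46 := by decide +kernel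
    rw [h1, List.map_cons, List.map_nil, List.prod_cons, List.prod_nil, mul_one, h2]
  rho := ⟨by norm_num, by decide +kernel⟩
  words := by decide +kernel

theorem single1 : SingleOK.{u} 1 39 where
  pos := rfl
  neg := by decide +kernel
  Jn := fun K _ => by
    rw [n_def]
    have h1 : J 1 = [3] := rfl
    have h2 : chevE6.simple 3 = 39 := by decide +kernel
    rw [h1, List.map_cons, List.map_nil, List.prod_cons, List.prod_nil, mul_one, h2]
  rho := ⟨by norm_num, by decide +kernel⟩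
  words := by decide +kernel

theorem classes (i : Fin 4) : (∃ j, SingleOK.{u} i j) ∨ ∃ j j', PairOK.{u} i j j' := by
  have : i = 0 ∨ i = 1 ∨ i = 2 ∨ i = 3 := by fin_cases i <;> simp
  rcases this with rfl | rfl | rfl | rfl
  · exact Or.inl ⟨_, single0⟩
  · exact Or.inl ⟨_, single1⟩
  · exact Or.inr ⟨_, _, pair2⟩
  · exact Or.inr ⟨_, _, pair3⟩

namespace PairOK

variable {i : Fin 4} {j j' : ℕ} (C : PairOK.{u} i j j')
include C

theorem mem_all : j ∈ posE i ++ negE i ∧ j' ∈ posE i ++ negE i ∧ chevE6.neg j ∈ posE i ++ negE i ∧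
    chevE6.neg j' ∈ posE i ++ negE i := by
  rw [C.pos, C.neg]; simp

theorem lt : j < 72 := C.rho.1
theorem lt' : j' < 72 := C.rho.2.1

theorem pos_le : 36 ≤ j := (wp_posE i j (by rw [C.pos]; simp)).2.2.1
theorem pos_le' : 36 ≤ j' := (wp_posE i j' (by rw [C.pos]; simp)).2.2.1
theorem neg_lt : chevE6.neg j < 36 := (wp_negE i _ (by rw [C.neg]; simp)).2.2.1
theorem neg_lt' : chevE6.neg j' < 36 := (wp_negE i _ (by rw [C.neg]; simp)).2.2.1

theorem ne : j' ≠ j := by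
  have h := C.words.1
  simp only [List.mem_cons, List.not_mem_nil, or_false, Prod.mk.injEq] at h
  omega

theorem neg_ne : chevE6.neg j' ≠ chevE6.neg j := by
  intro h
  have h1 := neg_neg_root ⟨j, C.lt⟩
  have h2 := neg_neg_root ⟨j', C.lt'⟩
  simp only at h1 h2
  rw [← h, h2] at h1
  exact C.ne h1

theorem comm1 (t u : K) : x j' u * x j t = x j t * x j' u :=
  comm_class C.mem_all.1 C.mem_all.2.1 C.ne (by have := C.neg_lt; have := C.pos_le'; omega) t u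

theorem comm2 (t u : K) : x (chevE6.neg j') u * x j t = x j t * x (chevE6.neg j') u :=
  comm_class C.mem_all.1 C.mem_all.2.2.2 (by have := C.neg_lt'; have := C.pos_le; omega) C.neg_ne t u

theorem comm3 (t u : K) : x j' u * x (chevE6.neg j) t = x (chevE6.neg j) t * x j' u :=
  comm_class C.mem_all.2.2.1 C.mem_all.2.1 (by have := C.neg_lt; have := C.pos_le'; omega)
    (by have h := neg_neg_root ⟨j, C.lt⟩; simp only at h; rw [h]; exact C.ne) t u

theorem comm4 (t u : K) :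
    x (chevE6.neg j') u * x (chevE6.neg j) t = x (chevE6.neg j) t * x (chevE6.neg j') u :=
  comm_class C.mem_all.2.2.1 C.mem_all.2.2.2 C.neg_ne
    (by have h := neg_neg_root ⟨j, C.lt⟩; simp only at h; rw [h]; have := C.neg_lt'; have := C.pos_le; omega) t u

theorem commN (a b : K) : Commute (nG hE6 j' b) (nG hE6 j a) := by
  rw [nG_def, nG_def]
  have c1 : ∀ t u : K, Commute (xG hE6 j' u) (xG hE6 j t) := fun t u => C.comm1 t u
  have c2 : ∀ t u : K, Commute (xG hE6 (chevE6.neg j') u) (xG hE6 j t) := fun t u => C.comm2 t u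
  have c3 : ∀ t u : K, Commute (xG hE6 j' u) (xG hE6 (chevE6.neg j) t) := fun t u => C.comm3 t u
  have c4 : ∀ t u : K, Commute (xG hE6 (chevE6.neg j') u) (xG hE6 (chevE6.neg j) t) :=
    fun t u => C.comm4 t u
  refine Commute.mul_left ?_ (Commute.mul_left ?_ ?_)
  · exact ((c1 _ _).mul_right ((c3 _ _).mul_right (c1 _ _)))
  · exact ((c2 _ _).mul_right ((c4 _ _).mul_right (c2 _ _)))
  · exact ((c1 _ _).mul_right ((c3 _ _).mul_right (c1 _ _)))

theorem commXN (t c : K) : Commute (x j' t) (nG hE6 j c) := by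
  rw [nG_def]
  have c1 : ∀ t u : K, Commute (xG hE6 j' u) (xG hE6 j t) := fun t u => C.comm1 t u
  have c3 : ∀ t u : K, Commute (xG hE6 j' u) (xG hE6 (chevE6.neg j) t) := fun t u => C.comm3 t u
  exact ((c1 _ _).mul_right ((c3 _ _).mul_right (c1 _ _)))

theorem commNX (t c : K) : Commute (nG hE6 j' c) (x j t) := by
  rw [nG_def]
  have c1 : ∀ t u : K, Commute (xG hE6 j' u) (xG hE6 j t) := fun t u => C.comm1 t u
  have c2 : ∀ t u : K, Commute (xG hE6 (chevE6.neg j') u) (xG hE6 j t) := fun t u => C.comm2 t u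
  exact Commute.mul_left (c1 _ _) (Commute.mul_left (c2 _ _) (c1 _ _))

/-- Triviality of `X_j ∩ X_{j'}` (and the negatives): if `x_a(t) = x_b(s)` then `t = 0`. -/
theorem x_eq_zero {t s : K} (h : x j t = x j' s) : t = 0 := by
  -- conjugate by `n_j`, which commutes with `x_{j'}` and sends `X_j` to `X_{-j}`
  obtain ⟨k, hk, hkj⟩ : ∃ k, k < 6 ∧ chevE6.simple k = j := by
    have h := C.words.1
    have h5 := (J_mem i)
    have hJ : ∀ i : Fin 4, ∀ r ∈ posE i, ∃ k < 6, chevE6.simple k = r := by decide +kernel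
    exact hJ i j (by rw [C.pos]; simp)
  obtain ⟨η, hη, hc⟩ := nE_conj (K := K) hk C.lt
  have hr : chevE6.reflectRoot k j = chevE6.neg j := by
    have : ∀ k : Fin 6, chevE6.reflectRoot k.val (chevE6.simple k.val) = chevE6.neg (chevE6.simple k.val) := by
      decide +kernel
    have h := this ⟨k, hk⟩
    simp only [hkj] at h
    exact h
  have h1 := hc t
  rw [hr, hkj, h] at h1
  have h2 : nE (K := K) j * x j' s * (nE (K := K) j)⁻¹ = x j' s := by
    rw [mul_inv_eq_iff_eq_mul]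
    exact (C.commXN s 1).eq.symm
  rw [h2] at h1
  have h3 : x (chevE6.neg j) (η * t) = 1 := by
    apply V_inf_B (mem_V (r := ⟨_, lt_trans C.neg_lt (by norm_num)⟩) C.neg_lt _)
    rw [← h1]
    exact U_le_B (mem_U (r := ⟨j', C.lt'⟩) C.pos_le' s)
  have h4 := (x_eq_one_iff (lt_trans C.neg_lt (by norm_num : 36 < 72)) (η * t)).1 h3
  exact (mul_eq_zero.1 h4).resolve_left hη

theorem x_pair_inj {t s t' s' : K} (h : x j t * x j' s = x j t' * x j' s') : t = t' ∧ s = s' := by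
  have h1 : x j (-t' + t) = x j' (s' + -s) := by
    have e1 : x j (-t' + t) = (x j t')⁻¹ * (x j t * x j' s) * (x j' s)⁻¹ := by
      rw [x_inv, ← x_add]; group
    rw [e1, h, ← x_add j' s' (-s), ← x_inv]; group
  have h2 := C.x_eq_zero h1
  have h3 : t = t' := (neg_add_eq_zero.1 h2).symm
  refine ⟨h3, ?_⟩
  rw [h3] at h
  exact xG_injective hE6 C.lt' (mul_left_cancel h)

theorem x_pair_inj_neg {t s t' s' : K}
    (h : x (chevE6.neg j) t * x (chevE6.neg j') s = x (chevE6.neg j) t' * x (chevE6.neg j') s') :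
    t = t' ∧ s = s' := by
  obtain ⟨η, hη, hc⟩ := n_conj (K := K) i (lt_trans C.neg_lt (by norm_num : 36 < 72))
  obtain ⟨η', hη', hc'⟩ := n_conj (K := K) i (lt_trans C.neg_lt' (by norm_num : 36 < 72))
  have hw : ∀ i : Fin 4, ∀ r ∈ posE i, wp i (chevE6.neg r) = r := by decide +kernel
  rw [hw i j (by rw [C.pos]; simp)] at hc
  rw [hw i j' (by rw [C.pos]; simp)] at hc'
  have e : ∀ a b : K, n (K := K) i * (x (chevE6.neg j) a * x (chevE6.neg j') b) * (n (K := K) i)⁻¹ =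
      x j (η * a) * x j' (η' * b) := by
    intro a b
    rw [← hc, ← hc']; group
  have h1 := e t s
  rw [h, e t' s'] at h1
  obtain ⟨h2, h3⟩ := C.x_pair_inj h1
  exact ⟨(mul_left_cancel₀ hη h2).symm, (mul_left_cancel₀ hη' h3).symm⟩

theorem mem_pos {g : GL chevE6.Idx K} (hg : g ∈ rs K (posE i)) : ∃ t s : K, g = x j t * x j' s := by
  rw [C.pos] at hg
  exact rs_pair (fun t u => C.comm1 t u) hg

theorem mem_neg {g : GL chevE6.Idx K} (hg : g ∈ rs K (negE i)) :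
    ∃ t s : K, g = x (chevE6.neg j) t * x (chevE6.neg j') s := by
  rw [C.neg] at hg
  exact rs_pair (fun t u => C.comm4 t u) hg

theorem rho_neg : ∃ (h : chevE6.neg j < 72) (h' : chevE6.neg j' < 72),
    TwE6Basic.rho ⟨chevE6.neg j, h⟩ = ⟨chevE6.neg j', h'⟩ ∧
    TwE6Basic.rho ⟨chevE6.neg j', h'⟩ = ⟨chevE6.neg j, h⟩ := by
  obtain ⟨h, h', e1, e2⟩ := C.rho
  have h3 : chevE6.neg j < 72 := lt_trans C.neg_lt (by norm_num)
  have h4 : chevE6.neg j' < 72 := lt_trans C.neg_lt' (by norm_num)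
  have e3 : (⟨chevE6.neg j, h3⟩ : Fin 72) = Fin.rev ⟨j, h⟩ := Fin.ext (neg_eq ⟨j, h⟩)
  have e4 : (⟨chevE6.neg j', h4⟩ : Fin 72) = Fin.rev ⟨j', h'⟩ := Fin.ext (neg_eq ⟨j', h'⟩)
  refine ⟨h3, h4, ?_, ?_⟩
  · rw [e3, e4, rho_rev, e1]
  · rw [e3, e4, rho_rev, e2]

theorem sg_pos (φ : K →+* K) (t s : K) : sg φ (x j t * x j' s) = x j (φ s) * x j' (φ t) := by
  obtain ⟨h, h', e1, e2⟩ := C.rho
  rw [map_mul]
  have h3 := sg_x_class φ (i := i) (r := ⟨j, h⟩) C.mem_all.1 t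
  have h4 := sg_x_class φ (i := i) (r := ⟨j', h'⟩) C.mem_all.2.1 s
  rw [e1] at h3
  rw [e2] at h4
  simp only at h3 h4
  rw [h3, h4, C.comm1]

theorem sg_neg (φ : K →+* K) (t s : K) :
    sg φ (x (chevE6.neg j) t * x (chevE6.neg j') s) = x (chevE6.neg j) (φ s) * x (chevE6.neg j') (φ t) := by
  obtain ⟨h, h', e1, e2⟩ := C.rho_neg
  rw [map_mul]
  have h3 := sg_x_class φ (i := i) (r := ⟨_, h⟩) C.mem_all.2.2.1 t
  have h4 := sg_x_class φ (i := i) (r := ⟨_, h'⟩) C.mem_all.2.2.2 s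
  rw [e1] at h3
  rw [e2] at h4
  simp only at h3 h4
  rw [h3, h4, C.comm4]

theorem fix_pos {φ : K →+* K} {t s : K} (h : x j t * x j' s ∈ fix φ) : s = φ t := by
  rw [mem_fix, C.sg_pos] at h
  exact (C.x_pair_inj h).2.symm

theorem fix_neg {φ : K →+* K} {t s : K} (h : x (chevE6.neg j) t * x (chevE6.neg j') s ∈ fix φ) : s = φ t := by
  rw [mem_fix, C.sg_neg] at h
  exact (C.x_pair_inj_neg h).2.symm

variable {q : ℕ}

theorem pos_mem_G (t : K) : x j t * x j' (t ^ q) ∈ twistedE6 K q := pair_mem t C.words.1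
theorem neg_mem_G (t : K) : x (chevE6.neg j) t * x (chevE6.neg j') (t ^ q) ∈ twistedE6 K q :=
  pair_mem t C.words.2

theorem n_eq_prod : n (K := K) i = (x j 1 * x j' 1) * (x (chevE6.neg j) (-1) * x (chevE6.neg j') (-1)) *
    (x j 1 * x j' 1) := by
  rw [C.Jn K]
  have c1 : ∀ t u : K, Commute (x j' u) (x j t) := fun t u => C.comm1 t u
  have c2 : ∀ t u : K, Commute (x (chevE6.neg j') u) (x j t) := fun t u => C.comm2 t u
  have c3 : ∀ t u : K, Commute (x j' u) (x (chevE6.neg j) t) := fun t u => C.comm3 t u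
  show nG hE6 j (1 : K) * nG hE6 j' (1 : K) = _
  rw [nG_def, nG_def]
  have e1 : -(1 : K)⁻¹ = -1 := by rw [inv_one]
  rw [e1]
  show x j 1 * (x (chevE6.neg j) (-1) * x j 1) * (x j' 1 * (x (chevE6.neg j') (-1) * x j' 1)) = _
  have h1 : x j (1 : K) * x j' 1 = x j' 1 * x j 1 := (c1 1 1).eq.symm
  have h2 : x j (1 : K) * x (chevE6.neg j') (-1) = x (chevE6.neg j') (-1) * x j 1 := (c2 1 (-1)).eq.symm
  have h3 : x (chevE6.neg j) (-1 : K) * x j' 1 = x j' 1 * x (chevE6.neg j) (-1) := (c3 (-1) 1).eq.symm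
  calc x j (1 : K) * (x (chevE6.neg j) (-1) * x j 1) * (x j' 1 * (x (chevE6.neg j') (-1) * x j' 1))
      = x j 1 * x (chevE6.neg j) (-1) * (x j 1 * x j' 1) * x (chevE6.neg j') (-1) * x j' 1 := by group
    _ = x j 1 * x (chevE6.neg j) (-1) * (x j' 1 * x j 1) * x (chevE6.neg j') (-1) * x j' 1 := by rw [h1]
    _ = x j 1 * (x (chevE6.neg j) (-1) * x j' 1) * (x j 1 * x (chevE6.neg j') (-1)) * x j' 1 := by group
    _ = x j 1 * (x j' 1 * x (chevE6.neg j) (-1)) * (x (chevE6.neg j') (-1) * x j 1) * x j' 1 := by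
        rw [h2, h3]
    _ = _ := by group

theorem n_mem_G (φ : K →+* K) (hφ : ∀ t, φ t = t ^ q) : n (K := K) i ∈ twistedE6 K q := by
  rw [C.n_eq_prod]
  have h1 : (1 : K) = 1 ^ q := (one_pow q).symm
  have h2 : (-1 : K) = (-1) ^ q := by rw [← hφ, map_neg, map_one]
  have h3 := C.pos_mem_G (q := q) (1 : K)
  have h4 := C.neg_mem_G (q := q) (-1 : K)
  rw [← h1] at h3
  rw [← h2] at h4
  exact mul_mem (mul_mem h3 h4) h3

theorem rank_one (φ : K →+* K) (hφ : ∀ t, φ t = t ^ q) (hqq : ∀ t : K, (t ^ q) ^ q = t)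
    {y : GL chevE6.Idx K} (hy : y ∈ rs K (negE i)) (hyG : y ∈ twistedE6 K q) (hy1 : y ≠ 1) :
    ∃ u ∈ rs K (posE i), u ∈ twistedE6 K q ∧ ∃ h ∈ chevE6.diagonalSubgroup K, h ∈ twistedE6 K q ∧
      y = u * h * n (K := K) i * u := by
  obtain ⟨t, s, rfl⟩ := C.mem_neg hy
  have hs : s = φ t := C.fix_neg (twisted_le_fix φ hφ hqq hyG)
  have ht0 : t ≠ 0 := by
    rintro rfl
    apply hy1
    rw [hs, map_zero, x_zero, x_zero, mul_one]
  have hs0 : s ≠ 0 := by rw [hs]; exact (map_ne_zero φ).2 ht0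
  have huG : x j t⁻¹ * x j' s⁻¹ ∈ twistedE6 K q := by
    have h := C.pos_mem_G (q := q) t⁻¹
    have e : (t⁻¹) ^ q = s⁻¹ := by rw [← hφ, map_inv₀, ← hs]
    rwa [e] at h
  have hu : x j t⁻¹ * x j' s⁻¹ ∈ rs K (posE i) :=
    mul_mem (x_mem_rs (by rw [C.pos]; simp) _) (x_mem_rs (by rw [C.pos]; simp) _)
  -- the formula
  have hform : x (chevE6.neg j) t * x (chevE6.neg j') s =
      (x j t⁻¹ * x j' s⁻¹) * (hG hE6 j (-t⁻¹) * hG hE6 j' (-s⁻¹)) * n (K := K) i * (x j t⁻¹ * x j' s⁻¹) := by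
    rw [C.Jn K, x_neg_eq j t, x_neg_eq j' s, ← nG_mul_inv j, ← nG_mul_inv j']
    have c1 : x j t⁻¹ * x j' s⁻¹ = x j' s⁻¹ * x j t⁻¹ := (C.comm1 _ _).symm
    have c2 : nG hE6 j (-t⁻¹) * x j' s⁻¹ = x j' s⁻¹ * nG hE6 j (-t⁻¹) := (C.commXN s⁻¹ (-t⁻¹)).eq.symm
    have c3 : x j t⁻¹ * nG hE6 j' (-s⁻¹) = nG hE6 j' (-s⁻¹) * x j t⁻¹ := (C.commNX t⁻¹ (-s⁻¹)).eq.symm
    have c4 : nG hE6 j' (-s⁻¹) * (nG hE6 j' (1 : K))⁻¹ * nG hE6 j (1 : K) =
        nG hE6 j (1 : K) * (nG hE6 j' (-s⁻¹) * (nG hE6 j' (1 : K))⁻¹) := by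
      have h1 : Commute (nG hE6 j' (-s⁻¹)) (nG hE6 j (1 : K)) := C.commN _ _
      have h2 : Commute (nG hE6 j' (1 : K)) (nG hE6 j (1 : K)) := C.commN _ _
      exact (h1.mul_left h2.inv_left).eq
    show _ = _ * _ * (nG hE6 j (1 : K) * nG hE6 j' (1 : K)) * _
    calc x j t⁻¹ * nG hE6 j (-t⁻¹) * x j t⁻¹ * (x j' s⁻¹ * nG hE6 j' (-s⁻¹) * x j' s⁻¹)
        = x j t⁻¹ * nG hE6 j (-t⁻¹) * (x j t⁻¹ * x j' s⁻¹) * nG hE6 j' (-s⁻¹) * x j' s⁻¹ := by group
      _ = x j t⁻¹ * nG hE6 j (-t⁻¹) * (x j' s⁻¹ * x j t⁻¹) * nG hE6 j' (-s⁻¹) * x j' s⁻¹ := by rw [c1]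
      _ = x j t⁻¹ * (nG hE6 j (-t⁻¹) * x j' s⁻¹) * (x j t⁻¹ * nG hE6 j' (-s⁻¹)) * x j' s⁻¹ := by group
      _ = x j t⁻¹ * (x j' s⁻¹ * nG hE6 j (-t⁻¹)) * (nG hE6 j' (-s⁻¹) * x j t⁻¹) * x j' s⁻¹ := by rw [c2, c3]
      _ = (x j t⁻¹ * x j' s⁻¹) * (nG hE6 j (-t⁻¹) * (nG hE6 j (1 : K))⁻¹) *
            (nG hE6 j (1 : K) * (nG hE6 j' (-s⁻¹) * (nG hE6 j' (1 : K))⁻¹)) * nG hE6 j' (1 : K) *
            (x j t⁻¹ * x j' s⁻¹) := by group
      _ = (x j t⁻¹ * x j' s⁻¹) * (nG hE6 j (-t⁻¹) * (nG hE6 j (1 : K))⁻¹) *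
            (nG hE6 j' (-s⁻¹) * (nG hE6 j' (1 : K))⁻¹ * nG hE6 j (1 : K)) * nG hE6 j' (1 : K) *
            (x j t⁻¹ * x j' s⁻¹) := by rw [c4]
      _ = _ := by group
  have hH : hG hE6 j (-t⁻¹) * hG hE6 j' (-s⁻¹) ∈ chevE6.diagonalSubgroup K :=
    mul_mem (hG_mem_diagonal hE6 C.lt (neg_ne_zero.2 (inv_ne_zero ht0)))
      (hG_mem_diagonal hE6 C.lt' (neg_ne_zero.2 (inv_ne_zero hs0)))
  refine ⟨_, hu, huG, _, hH, ?_, hform⟩
  have e : hG hE6 j (-t⁻¹) * hG hE6 j' (-s⁻¹) = (x j t⁻¹ * x j' s⁻¹)⁻¹ *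
      (x (chevE6.neg j) t * x (chevE6.neg j') s) * (x j t⁻¹ * x j' s⁻¹)⁻¹ * (n (K := K) i)⁻¹ := by
    rw [hform]; group
  rw [e]
  exact mul_mem (mul_mem (mul_mem (inv_mem huG) hyG) (inv_mem huG)) (inv_mem (C.n_mem_G φ hφ))

theorem X_fix_le (φ : K →+* K) (hφ : ∀ t, φ t = t ^ q) {g : GL chevE6.Idx K} (hg : g ∈ rs K (posE i))
    (hf : g ∈ fix φ) : g ∈ twistedE6 K q := by
  obtain ⟨t, s, rfl⟩ := C.mem_pos hg
  have hs := C.fix_pos hf
  rw [hs, hφ]
  exact C.pos_mem_G t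

theorem exists_ne_one : ∃ g ∈ rs K (posE i), g ∈ twistedE6 K q ∧ g ≠ 1 := by
  refine ⟨x j 1 * x j' 1, mul_mem (x_mem_rs (by rw [C.pos]; simp) _) (x_mem_rs (by rw [C.pos]; simp) _),
    ?_, fun h => ?_⟩
  · have h := C.pos_mem_G (q := q) (1 : K)
    rwa [one_pow] at h
  · have h1 : x j (1 : K) * x j' 1 = x j 0 * x j' 0 := by rw [h, x_zero, x_zero, mul_one]
    exact one_ne_zero (C.x_pair_inj h1).1

end PairOK

namespace SingleOK

variable {i : Fin 4} {j : ℕ} (C : SingleOK.{u} i j)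
include C

theorem mem_all : j ∈ posE i ++ negE i ∧ chevE6.neg j ∈ posE i ++ negE i := by
  rw [C.pos, C.neg]; simp

theorem lt : j < 72 := C.rho.1
theorem neg_lt : chevE6.neg j < 36 := (wp_negE i _ (by rw [C.neg]; simp)).2.2.1

theorem sg_pos (φ : K →+* K) (t : K) : sg φ (x j t) = x j (φ t) := by
  obtain ⟨h, e1⟩ := C.rho
  have h3 := sg_x_class φ (i := i) (r := ⟨j, h⟩) C.mem_all.1 t
  rw [e1] at h3
  exact h3

theorem sg_neg (φ : K →+* K) (t : K) : sg φ (x (chevE6.neg j) t) = x (chevE6.neg j) (φ t) := by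
  obtain ⟨h, e1⟩ := C.rho
  have h3 : chevE6.neg j < 72 := lt_trans C.neg_lt (by norm_num)
  have e3 : (⟨chevE6.neg j, h3⟩ : Fin 72) = Fin.rev ⟨j, h⟩ := Fin.ext (neg_eq ⟨j, h⟩)
  have h4 := sg_x_class φ (i := i) (r := ⟨_, h3⟩) C.mem_all.2 t
  rw [e3, rho_rev, e1, ← e3] at h4
  exact h4

theorem fix_pos {φ : K →+* K} {t : K} (h : x j t ∈ fix φ) : φ t = t := by
  rw [mem_fix, C.sg_pos] at h
  exact x_injective C.lt h

theorem fix_neg {φ : K →+* K} {t : K} (h : x (chevE6.neg j) t ∈ fix φ) : φ t = t := by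
  rw [mem_fix, C.sg_neg] at h
  exact x_injective (lt_trans C.neg_lt (by norm_num)) h

variable {q : ℕ}

theorem pos_mem_G {t : K} (ht : t ^ q = t) : x j t ∈ twistedE6 K q := single_mem ht C.words.1
theorem neg_mem_G {t : K} (ht : t ^ q = t) : x (chevE6.neg j) t ∈ twistedE6 K q := single_mem ht C.words.2

theorem n_mem_G (φ : K →+* K) (hφ : ∀ t, φ t = t ^ q) : n (K := K) i ∈ twistedE6 K q := by
  rw [C.Jn K]
  show nG hE6 j (1 : K) ∈ _
  rw [nG_def]
  have e1 : -(1 : K)⁻¹ = -1 := by rw [inv_one]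
  rw [e1]
  have h3 := C.pos_mem_G (q := q) (one_pow q : (1 : K) ^ q = 1)
  have h4 := C.neg_mem_G (q := q) (t := (-1 : K)) (by rw [← hφ, map_neg, map_one])
  exact mul_mem h3 (mul_mem h4 h3)

theorem rank_one (φ : K →+* K) (hφ : ∀ t, φ t = t ^ q) (hqq : ∀ t : K, (t ^ q) ^ q = t)
    {y : GL chevE6.Idx K} (hy : y ∈ rs K (negE i)) (hyG : y ∈ twistedE6 K q) (hy1 : y ≠ 1) :
    ∃ u ∈ rs K (posE i), u ∈ twistedE6 K q ∧ ∃ h ∈ chevE6.diagonalSubgroup K, h ∈ twistedE6 K q ∧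
      y = u * h * n (K := K) i * u := by
  have hy' := hy
  rw [C.neg] at hy'
  obtain ⟨t, rfl⟩ := rs_single hy'
  have hs : φ t = t := C.fix_neg (twisted_le_fix φ hφ hqq hyG)
  have ht0 : t ≠ 0 := by
    rintro rfl
    apply hy1
    rw [x_zero]
  have huG : x j t⁻¹ ∈ twistedE6 K q := C.pos_mem_G (by rw [← hφ, map_inv₀, hs])
  have hu : x j t⁻¹ ∈ rs K (posE i) := x_mem_rs (by rw [C.pos]; simp) _
  have hform : x (chevE6.neg j) t = x j t⁻¹ * hG hE6 j (-t⁻¹) * n (K := K) i * x j t⁻¹ := by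
    rw [C.Jn K, x_neg_eq j t, ← nG_mul_inv j]
    show _ = _ * _ * nG hE6 j (1 : K) * _
    group
  refine ⟨_, hu, huG, _, hG_mem_diagonal hE6 C.lt (neg_ne_zero.2 (inv_ne_zero ht0)), ?_, hform⟩
  have e : hG hE6 j (-t⁻¹) = (x j t⁻¹)⁻¹ * (x (chevE6.neg j) t) * (x j t⁻¹)⁻¹ * (n (K := K) i)⁻¹ := by
    rw [hform]; group
  rw [e]
  exact mul_mem (mul_mem (mul_mem (inv_mem huG) hyG) (inv_mem huG)) (inv_mem (C.n_mem_G φ hφ))

theorem X_fix_le (φ : K →+* K) (hφ : ∀ t, φ t = t ^ q) {g : GL chevE6.Idx K} (hg : g ∈ rs K (posE i))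
    (hf : g ∈ fix φ) : g ∈ twistedE6 K q := by
  rw [C.pos] at hg
  obtain ⟨t, rfl⟩ := rs_single hg
  exact C.pos_mem_G (by rw [← hφ]; exact C.fix_pos hf)

theorem exists_ne_one : ∃ g ∈ rs K (posE i), g ∈ twistedE6 K q ∧ g ≠ 1 :=
  ⟨x j 1, x_mem_rs (by rw [C.pos]; simp) _, C.pos_mem_G (one_pow q),
    fun h => one_ne_zero ((x_eq_one_iff C.lt (1 : K)).1 h)⟩

end SingleOK

/-! ### All classes together -/

section Classes

variable {q : ℕ} (φ : K →+* K) (hφ : ∀ t, φ t = t ^ q)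

include hφ in
theorem n_mem_G (i : Fin 4) : n (K := K) i ∈ twistedE6 K q := by
  rcases classes.{u} i with ⟨j, C⟩ | ⟨j, j', C⟩
  · exact C.n_mem_G φ hφ
  · exact C.n_mem_G φ hφ

include hφ in
theorem rank_one (hqq : ∀ t : K, (t ^ q) ^ q = t) (i : Fin 4)
    {y : GL chevE6.Idx K} (hy : y ∈ rs K (negE i)) (hyG : y ∈ twistedE6 K q) (hy1 : y ≠ 1) :
    ∃ u ∈ rs K (posE i), u ∈ twistedE6 K q ∧ ∃ h ∈ chevE6.diagonalSubgroup K, h ∈ twistedE6 K q ∧
      y = u * h * n (K := K) i * u := by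
  rcases classes.{u} i with ⟨j, C⟩ | ⟨j, j', C⟩
  · exact C.rank_one φ hφ hqq hy hyG hy1
  · exact C.rank_one φ hφ hqq hy hyG hy1

include hφ in
theorem X_fix_le (i : Fin 4) {g : GL chevE6.Idx K} (hg : g ∈ rs K (posE i))
    (hf : g ∈ fix φ) : g ∈ twistedE6 K q := by
  rcases classes.{u} i with ⟨j, C⟩ | ⟨j, j', C⟩
  · exact C.X_fix_le φ hφ hg hf
  · exact C.X_fix_le φ hφ hg hf

theorem exists_ne_one (q : ℕ) (i : Fin 4) : ∃ g ∈ rs K (posE i), g ∈ twistedE6 K q ∧ g ≠ 1 := by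
  rcases classes.{u} i with ⟨j, C⟩ | ⟨j, j', C⟩
  · exact C.exists_ne_one
  · exact C.exists_ne_one

end Classes

/-! ### The complements `U_J` -/

/-- The complement `U_J` of the root subgroups of the `i`-th class. -/
def VJ (K : Type u) [Field K] (i : Fin 4) : Subgroup (GL chevE6.Idx K) :=
  chevE6.unipotentRadical K {j | j ∈ J i}

theorem x_mem_VJ (i : Fin 4) {r : Fin 72} (hr : 36 ≤ r.val) (hr' : r.val ∉ posE i) (t : K) :
    x r.val t ∈ VJ K i := by
  refine Subgroup.subset_closure ⟨r.val, t, (pos_iff r).2 hr, fun h => ?_, rfl⟩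
  rcases (inRootSub_iff i r).1 h with h | h
  · exact hr' h
  · have := (wp_negE i _ h).2.2.1
    omega

theorem VJ_le {i : Fin 4} {M : Subgroup (GL chevE6.Idx K)}
    (h : ∀ r : Fin 72, 36 ≤ r.val → r.val ∉ posE i → ∀ t : K, x r.val t ∈ M) : VJ K i ≤ M := by
  refine (Subgroup.closure_le M).2 ?_
  rintro g ⟨r, t, hr, hr', hg⟩
  have hlt : r < 72 := hr.1
  rw [(eq_xG_iff hE6 g r t).2 hg]
  exact h ⟨r, hlt⟩ ((pos_iff ⟨r, hlt⟩).1 hr) (fun h => hr' ((inRootSub_iff i ⟨r, hlt⟩).2 (Or.inl h))) t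

theorem VJ_le_U (i : Fin 4) : VJ K i ≤ chevE6.posUnipotent K := VJ_le fun _ hr _ t => mem_U hr t

theorem par_le_normalizer (i : Fin 4) :
    chevE6.parabolicSubgroup K {j | j ∈ J i} ≤ Subgroup.normalizer (VJ K i : Set (GL chevE6.Idx K)) :=
  (Cfsg.Agent.S1048.result (F := K) chevE6 hE6 {j | j ∈ J i}).1

theorem n_mem_par (i : Fin 4) : n (K := K) i ∈ chevE6.parabolicSubgroup K {j | j ∈ J i} := by
  rw [n_def]
  refine Subgroup.list_prod_mem _ ?_
  intro g hg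
  obtain ⟨j, hj, rfl⟩ := List.mem_map.1 hg
  refine (le_sup_right : _ ≤ chevE6.parabolicSubgroup K {j | j ∈ J i}) (Subgroup.subset_closure ?_)
  exact ⟨j, hj, (J_mem i j hj).1, coe_nG hE6 _ _⟩

theorem B_le_par (i : Fin 4) : chevE6.borelSubgroup K ≤ chevE6.parabolicSubgroup K {j | j ∈ J i} :=
  le_sup_left

theorem conj_VJ {i : Fin 4} {m v : GL chevE6.Idx K} (hm : m ∈ chevE6.parabolicSubgroup K {j | j ∈ J i})
    (hv : v ∈ VJ K i) : m * v * m⁻¹ ∈ VJ K i :=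
  (Subgroup.mem_normalizer_iff.1 (par_le_normalizer i hm) v).1 hv

theorem VJ_inf_X (i : Fin 4) {g : GL chevE6.Idx K} (h1 : g ∈ VJ K i) (h2 : g ∈ rs K (posE i)) : g = 1 := by
  have h := (Cfsg.Agent.S1048.result (F := K) chevE6 hE6 {j | j ∈ J i}).2.2
  have h3 : rs K (posE i) ≤ chevE6.leviSubgroup K {j | j ∈ J i} := by
    refine rs_le fun r hr t => ?_
    refine (le_sup_right : _ ≤ chevE6.leviSubgroup K {j | j ∈ J i}) (Subgroup.subset_closure ?_)
    exact ⟨r, t, (inRootSub_iff i ⟨r, (wp_posE i r hr).2.1⟩).2 (Or.inl hr), rfl⟩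
  exact Subgroup.mem_bot.1 (h ▸ Subgroup.mem_inf.2 ⟨h1, h3 h2⟩)

theorem exists_decomp (i : Fin 4) {g : GL chevE6.Idx K} (hg : g ∈ chevE6.posUnipotent K) :
    ∃ v ∈ VJ K i, ∃ y ∈ rs K (posE i), g = v * y := by
  have hle : chevE6.posUnipotent K ≤ VJ K i ⊔ rs K (posE i) := by
    refine (posUnipotent_le_iff hE6 _).2 fun r hr t => ?_
    have hlt : r < 72 := hr.1
    by_cases hr' : r ∈ posE i
    · exact Subgroup.mem_sup_right (x_mem_rs hr' t)
    · exact Subgroup.mem_sup_left (x_mem_VJ i (r := ⟨r, hlt⟩) ((pos_iff ⟨r, hlt⟩).1 hr) hr' t)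
  have hn : rs K (posE i) ≤ Subgroup.normalizer (VJ K i : Set (GL chevE6.Idx K)) :=
    ((rs_posE_le i).trans U_le_B).trans ((B_le_par i).trans (par_le_normalizer i))
  have h1 : ((VJ K i ⊔ rs K (posE i) : Subgroup _) : Set (GL chevE6.Idx K)) =
      (VJ K i : Set (GL chevE6.Idx K)) * (rs K (posE i) : Set (GL chevE6.Idx K)) :=
    Subgroup.coe_mul_of_right_le_normalizer_left _ _ hn
  have h2 : g ∈ ((VJ K i ⊔ rs K (posE i) : Subgroup _) : Set (GL chevE6.Idx K)) := hle hg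
  rw [h1] at h2
  obtain ⟨v, hv, y, hy, rfl⟩ := h2
  exact ⟨v, hv, y, hy, rfl⟩

theorem sg_VJ (φ : K →+* K) (i : Fin 4) {v : GL chevE6.Idx K} (hv : v ∈ VJ K i) : sg φ v ∈ VJ K i := by
  have h : VJ K i ≤ (VJ K i).comap (sg φ) := by
    refine VJ_le fun r hr hr' t => ?_
    show sg φ (x r.val t) ∈ VJ K i
    rw [sg_x]
    refine x_mem_VJ i ((rho_pos r).2 hr) (fun h => hr' ?_) _
    have h2 := posE_rho i (rho r) h
    rwa [rho_rho] at h2
  exact h hv

theorem sg_rs (φ : K →+* K) (i : Fin 4) {v : GL chevE6.Idx K} (hv : v ∈ rs K (posE i)) :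
    sg φ v ∈ rs K (posE i) := by
  have h : rs K (posE i) ≤ (rs K (posE i)).comap (sg φ) := by
    refine rs_le fun r hr t => ?_
    show sg φ (x (⟨r, (wp_posE i r hr).2.1⟩ : Fin 72).val t) ∈ rs K (posE i)
    rw [sg_x]
    exact x_mem_rs (posE_rho i _ hr) _
  exact h hv

theorem decomp (φ : K →+* K) {q : ℕ} (hφ : ∀ t, φ t = t ^ q) (hqq : ∀ t : K, (t ^ q) ^ q = t) (i : Fin 4)
    {g : GL chevE6.Idx K} (hg : g ∈ chevE6.posUnipotent K) (hG : g ∈ twistedE6 K q) :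
    ∃ v ∈ VJ K i, ∃ y ∈ rs K (posE i), y ∈ twistedE6 K q ∧ g = v * y := by
  obtain ⟨v, hv, y, hy, rfl⟩ := exists_decomp i hg
  refine ⟨v, hv, y, hy, X_fix_le φ hφ i hy ?_, rfl⟩
  have h1 : sg φ (v * y) = v * y := twisted_le_fix φ hφ hqq hG
  rw [map_mul] at h1
  have h2 : v⁻¹ * sg φ v = y * (sg φ y)⁻¹ := by
    have : sg φ v = v * y * (sg φ y)⁻¹ := by rw [← h1]; group
    rw [this]; group
  have h3 : v⁻¹ * sg φ v = 1 := VJ_inf_X i (mul_mem (inv_mem hv) (sg_VJ φ i hv))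
    (h2 ▸ mul_mem hy (inv_mem (sg_rs φ i hy)))
  rw [h3] at h2
  rw [mem_fix]
  exact (mul_inv_eq_one.1 h2.symm).symm

/-! ### The remaining fields -/

theorem root_cases {M : Subgroup (GL chevE6.Idx K)} {m : GL chevE6.Idx K}
    (hm : m ∈ Subgroup.closure (Set.range (n (K := K))) ⊔ (chevE6.diagonalSubgroup K ⊓ M)) (i : Fin 4) :
    (∀ y ∈ rs K (posE i), m⁻¹ * y * m ∈ chevE6.posUnipotent K) ∨
      (∀ y ∈ rs K (negE i), m⁻¹ * y * m ∈ chevE6.posUnipotent K) := by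
  obtain ⟨w, hw⟩ := exists_acts hm
  have hw' := hw.inv
  obtain ⟨r0, hr0⟩ : ∃ r0 : Fin 72, r0.val ∈ posE i := by
    have : ∀ i : Fin 4, ∃ r0 : Fin 72, r0.val ∈ posE i := by decide +kernel
    exact this i
  by_cases hp : 36 ≤ (w⁻¹ r0).val
  · left
    intro y hy
    have h1 := conj_rs_le hw' (M := chevE6.posUnipotent K) (A := posE i) (fun r hr => by
      refine ⟨(wp_posE i r hr).2.1, fun t => mem_U ?_ t⟩
      rcases posE_pair i r0 ⟨r, (wp_posE i r hr).2.1⟩ hr0 hr with h | h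
      · rw [h]; exact hp
      · rw [h, ← hw'.2.1]; exact (rho_pos _).2 hp) hy
    rwa [inv_inv] at h1
  · right
    intro y hy
    have h1 := conj_rs_le hw' (M := chevE6.posUnipotent K) (A := negE i) (fun r hr => by
      refine ⟨(wp_negE i r hr).2.1, fun t => mem_U ?_ t⟩
      have hlt := (wp_negE i r hr).2.1
      have hrev : (Fin.rev (⟨r, hlt⟩ : Fin 72)).val ∈ posE i := by
        rw [← neg_eq]; exact (wp_negE i r hr).2.2.2
      have h2 : ¬ 36 ≤ (w⁻¹ (Fin.rev ⟨r, hlt⟩)).val := by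
        rcases posE_pair i r0 _ hr0 hrev with h | h
        · rw [h]; exact hp
        · rw [h, ← hw'.2.1]; exact fun h' => hp ((rho_pos _).1 h')
      rw [← hw'.2.2, Fin.val_rev] at h2
      omega) hy
    rwa [inv_inv] at h1

theorem bruhat {m m' b b' : GL chevE6.Idx K} (hm : m ∈ chevE6.monomialSubgroup K)
    (hm' : m' ∈ chevE6.monomialSubgroup K) (hb : b ∈ chevE6.borelSubgroup K)
    (hb' : b' ∈ chevE6.borelSubgroup K) (h : m = b * m' * b') : m⁻¹ * m' ∈ chevE6.borelSubgroup K := by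
  obtain ⟨P, hPB, hPN, _⟩ := Cfsg.Agent.S1042.result (F := K) chevE6 hE6
  obtain ⟨hBG, hNG, _⟩ := Cfsg.Agent.S1043.result (F := K) chevE6 hE6
  have h1 : (⟨m, hNG hm⟩ : ↥(chevE6.group K)) ∈ P.N := by rw [hPN]; exact hm
  have h2 : (⟨m', hNG hm'⟩ : ↥(chevE6.group K)) ∈ P.N := by rw [hPN]; exact hm'
  have h3 := (Cfsg.Agent.S0309.result P h1 h2).1 (DoubleCoset.doubleCoset_eq_of_mem (by
    rw [DoubleCoset.mem_doubleCoset]
    refine ⟨⟨b, hBG hb⟩, ?_, ⟨b', hBG hb'⟩, ?_, Subtype.ext h⟩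
    · rw [hPB]; exact hb
    · rw [hPB]; exact hb'))
  rw [hPB] at h3
  exact h3

theorem nj_not_mem {i j : Fin 4} (hij : i ≠ j) :
    (n (K := K) i)⁻¹ * n (K := K) j ∉ chevE6.diagonalSubgroup K := by
  intro h
  have a1 := (acts_n (K := K) i).mul (acts_H h)
  have e : n (K := K) i * ((n (K := K) i)⁻¹ * n (K := K) j) = n (K := K) j := by group
  rw [e] at a1
  have a2 := acts_n (K := K) j
  obtain ⟨r0, hr0⟩ : ∃ r0 : Fin 72, r0.val ∈ posE j := by
    have : ∀ i : Fin 4, ∃ r0 : Fin 72, r0.val ∈ posE i := by decide +kernel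
    exact this j
  have hp : 36 ≤ ((wP i * 1) r0).val := wp_posE_pos i j hij _ hr0
  have hn : ((wP j) r0).val < 36 := (wp_negE j _ (wp_posE j _ hr0).1).2.2.1
  refine X_ne (K := K) hp hn fun g hg => ?_
  have h1 : (n (K := K) j)⁻¹ * g * n (K := K) j ∈ chevE6.rootSubgroup K r0.val := by
    rw [a1.1 r0]
    have e2 : n (K := K) j * ((n (K := K) j)⁻¹ * g * n (K := K) j) * (n (K := K) j)⁻¹ = g := by group
    rw [e2]; exact hg
  have h2 := (a2.1 r0 _).1 h1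
  have e2 : n (K := K) j * ((n (K := K) j)⁻¹ * g * n (K := K) j) * (n (K := K) j)⁻¹ = g := by group
  rwa [e2] at h2

/-! ### The (B,N)-pair -/

/-- The data of `TwistedBN` for ²E₆(q). -/
def T (φ : K →+* K) (q : ℕ) (hφ : ∀ t, φ t = t ^ q) (hqq : ∀ t : K, (t ^ q) ^ q = t) :
    TwistedData (GL chevE6.Idx K) (Fin 4) where
  U := chevE6.posUnipotent K
  H := chevE6.diagonalSubgroup K
  N := chevE6.monomialSubgroup K
  G := twistedE6 K q
  n := n (K := K)
  X := fun i => (rs K (posE i) : Set (GL chevE6.Idx K))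
  Y := fun i => (rs K (negE i) : Set (GL chevE6.Idx K))
  V := fun i => (VJ K i : Set (GL chevE6.Idx K))
  H_le_N := diagonal_le_monomial chevE6 K
  conj_H_U := fun h hh u hu =>
    (Subgroup.mem_normalizer_iff.1 ((Cfsg.Agent.S1036.result (F := K) chevE6 hE6).1 hh) u).1 hu
  conj_N_H := fun m hm h hh => by
    have h1 := (Cfsg.Agent.S1038.result (F := K) chevE6 hE6).conj_mem
      (⟨h, diagonal_le_monomial chevE6 K hh⟩ : ↥(chevE6.monomialSubgroup K)) hh ⟨m, hm⟩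
    exact h1
  inf_le := (Cfsg.Agent.S1040.result (F := K) chevE6 hE6).2.le
  U_inf_H := fun g hU hH => by
    have h := (Cfsg.Agent.S1036.result (F := K) chevE6 hE6).2
    exact Subgroup.mem_bot.1 (h ▸ Subgroup.mem_inf.2 ⟨hU, hH⟩)
  n_mem_N := fun i => by
    rw [n_def]
    refine Subgroup.list_prod_mem _ ?_
    intro g hg
    obtain ⟨j, hj, rfl⟩ := List.mem_map.1 hg
    exact nG_one_mem_monomial hE6 (wp_posE i _ (J_mem i j hj).2).2.1
  n_mem_G := fun i => n_mem_G φ hφ i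
  sq_mem := fun i => by
    have hnn : ∀ r < 72, nG hE6 r (1 : K) * nG hE6 r (1 : K) ∈ chevE6.diagonalSubgroup K := by
      intro r hr
      have h1 := hG_mem_diagonal hE6 hr (neg_ne_zero.2 (one_ne_zero (α := K)))
      rw [hG_def, ← nG_one_inv, ← mul_inv_rev] at h1
      have h2 := inv_mem h1
      rwa [inv_inv] at h2
    rcases classes.{u} i with ⟨j, C⟩ | ⟨j, j', C⟩
    · rw [C.Jn K]
      exact hnn j C.lt
    · rw [C.Jn K]
      have h1 : Commute (nG hE6 j' (1 : K)) (nG hE6 j (1 : K)) := C.commN _ _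
      have h2 : nG hE6 j (1 : K) * nG hE6 j' (1 : K) * (nG hE6 j (1 : K) * nG hE6 j' (1 : K)) =
          (nG hE6 j (1 : K) * nG hE6 j (1 : K)) * (nG hE6 j' (1 : K) * nG hE6 j' (1 : K)) := by
        calc nG hE6 j (1 : K) * nG hE6 j' (1 : K) * (nG hE6 j (1 : K) * nG hE6 j' (1 : K))
            = nG hE6 j (1 : K) * (nG hE6 j' (1 : K) * nG hE6 j (1 : K)) * nG hE6 j' (1 : K) := by group
          _ = nG hE6 j (1 : K) * (nG hE6 j (1 : K) * nG hE6 j' (1 : K)) * nG hE6 j' (1 : K) := by rw [h1.eq]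
          _ = _ := by group
      show nG hE6 j (1 : K) * nG hE6 j' (1 : K) * (nG hE6 j (1 : K) * nG hE6 j' (1 : K)) ∈ _
      rw [h2]
      exact mul_mem (hnn j C.lt) (hnn j' C.lt')
  decomp := fun i u hu huG => by
    obtain ⟨v, hv, y, hy, hyG, e⟩ := decomp φ hφ hqq i hu huG
    exact ⟨v, hv, y, hy, hyG, e⟩
  conj_V := fun i v hv => VJ_le_U i (conj_VJ (n_mem_par i) hv)
  conj_X := fun i y hy => conj_X i hy
  conj_inv_X := fun i y hy => conj_inv_X i hy
  rank_one := fun i y hy hyG hy1 => by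
    obtain ⟨u, hu, huG, h, hh, hhG, e⟩ := rank_one φ hφ hqq i hy hyG hy1
    exact ⟨u, rs_posE_le i hu, huG, h, hh, hhG, u, hu, huG, e⟩
  root_cases := fun m hm i => by
    rcases root_cases hm i with h | h
    · exact Or.inl fun y hy _ => h y hy
    · exact Or.inr fun y hy _ => h y hy
  gen := by
    -- positive elements are in the first set, negative ones are conjugate to positive ones
    have hpos : ∀ i : Fin 4, ∀ g ∈ rs K (posE i), g ∈ twistedE6 K q →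
        g ∈ Subgroup.closure ({g | g ∈ chevE6.posUnipotent K ∧ g ∈ twistedE6 K q} ∪ Set.range (n (K := K))) :=
      fun i g hg hgG => Subgroup.subset_closure (Or.inl ⟨rs_posE_le i hg, hgG⟩)
    have hn : ∀ i : Fin 4, n (K := K) i ∈
        Subgroup.closure ({g | g ∈ chevE6.posUnipotent K ∧ g ∈ twistedE6 K q} ∪ Set.range (n (K := K))) :=
      fun i => Subgroup.subset_closure (Or.inr ⟨i, rfl⟩)
    have hneg : ∀ i : Fin 4, ∀ g ∈ rs K (negE i), g ∈ twistedE6 K q →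
        g ∈ Subgroup.closure ({g | g ∈ chevE6.posUnipotent K ∧ g ∈ twistedE6 K q} ∪ Set.range (n (K := K))) := by
      intro i g hg hgG
      have h1 := conj_Y i hg
      have h2 : n (K := K) i * g * (n (K := K) i)⁻¹ ∈ twistedE6 K q :=
        mul_mem (mul_mem (n_mem_G φ hφ i) hgG) (inv_mem (n_mem_G φ hφ i))
      have h3 := mul_mem (mul_mem (inv_mem (hn i)) (hpos i _ h1 h2)) (hn i)
      have e : (n (K := K) i)⁻¹ * (n (K := K) i * g * (n (K := K) i)⁻¹) * n (K := K) i = g := by group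
      rwa [e] at h3
    rw [twisted_le_iff]
    constructor
    · intro t ht r hr
      have hG := single_mem (K := K) ht hr
      simp only [List.mem_cons, List.not_mem_nil, or_false] at hr
      rcases hr with rfl | rfl | rfl | rfl
      · exact hpos 0 _ (x_mem_rs (by decide +kernel) t) hG
      · exact hneg 0 _ (x_mem_rs (by decide +kernel) t) hG
      · exact hpos 1 _ (x_mem_rs (by decide +kernel) t) hG
      · exact hneg 1 _ (x_mem_rs (by decide +kernel) t) hG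
    · intro t rs' hr
      have hG := pair_mem (K := K) (q := q) t hr
      simp only [List.mem_cons, List.not_mem_nil, or_false] at hr
      rcases hr with rfl | rfl | rfl | rfl
      · exact hpos 3 _ (mul_mem (x_mem_rs (by decide +kernel) t) (x_mem_rs (by decide +kernel) _)) hG
      · exact hneg 3 _ (mul_mem (x_mem_rs (by decide +kernel) t) (x_mem_rs (by decide +kernel) _)) hG
      · exact hpos 2 _ (mul_mem (x_mem_rs (by decide +kernel) t) (x_mem_rs (by decide +kernel) _)) hG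
      · exact hneg 2 _ (mul_mem (x_mem_rs (by decide +kernel) t) (x_mem_rs (by decide +kernel) _)) hG
  bruhat := fun m hm m' hm' b hb b' hb' h => bruhat hm hm' hb hb' h
  n_ne := fun i j hij => nj_not_mem (fun h => hij (by rw [h]))
  not_le := fun i => by
    obtain ⟨g, hg, hgG, hg1⟩ := exists_ne_one (K := K) q i
    refine ⟨g, rs_posE_le i hg, hgG, fun h => hg1 ?_⟩
    have h1 : n (K := K) i * g * (n (K := K) i)⁻¹ = 1 := V_inf_B (rs_negE_le i (conj_X i hg)) h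
    rw [mul_inv_eq_one] at h1
    exact (mul_eq_left (a := n (K := K) i)).1 h1

/-- Irreducibility of a (B,N)-pair whose generators form a path in the Coxeter diagram. -/
theorem irreducible_of_path {G : Type*} [Group G] (P : Cfsg.BNPair G) (m : Fin 4 → G)
    (hS : P.S = Set.range m)
    (hnc : ∀ i : Fin 3, m i.castSucc * m i.succ * (m i.castSucc)⁻¹ * (m i.succ)⁻¹ ∉ P.B)
    (hnc' : ∀ i : Fin 3, m i.succ * m i.castSucc * (m i.succ)⁻¹ * (m i.castSucc)⁻¹ ∉ P.B) :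
    P.Irreducible := by
  intro J hJ hJne hJc
  by_contra hcon
  push Not at hcon
  have hall : ∀ i, m i ∈ P.S := fun i => hS ▸ ⟨i, rfl⟩
  -- membership in `J` is constant along the path
  have hstep : ∀ i : Fin 3, (m i.castSucc ∈ J ↔ m i.succ ∈ J) := by
    intro i
    constructor
    · intro h
      by_contra h'
      exact hnc i (hcon _ h _ ⟨hall _, h'⟩)
    · intro h
      by_contra h'
      exact hnc' i (hcon _ h _ ⟨hall _, h'⟩)
  have h01 := hstep 0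
  have h12 := hstep 1
  have h23 := hstep 2
  have e : ∀ i : Fin 4, (m i ∈ J ↔ m 0 ∈ J) := by
    intro i
    have : i = 0 ∨ i = 1 ∨ i = 2 ∨ i = 3 := by fin_cases i <;> simp
    rcases this with rfl | rfl | rfl | rfl
    · exact Iff.rfl
    · exact h01.symm
    · exact (h01.trans h12).symm
    · exact ((h01.trans h12).trans h23).symm
  obtain ⟨a, ha⟩ := hJne
  obtain ⟨b, hb, hb'⟩ := hJc
  have ha' := hJ ha
  rw [hS] at ha' hb
  obtain ⟨i, rfl⟩ := ha'
  obtain ⟨j, rfl⟩ := hb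
  exact hb' ((e j).2 ((e i).1 ha))

/-- The commutator of two elements of `N` is not in `B` if its permutation sends some positive root to a
negative one. -/
theorem not_mem_B_of_acts {m : GL chevE6.Idx K} {w : Equiv.Perm (Fin 72)} (hw : Acts m w)
    {r : Fin 72} (hr : 36 ≤ r.val) (hr' : (w r).val < 36) : m ∉ chevE6.borelSubgroup K := by
  intro hm
  have h1 : x r.val (1 : K) ∈ chevE6.rootSubgroup K r.val := mem_X.2 ⟨1, rfl⟩
  have h2 := (hw.1 r _).1 h1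
  obtain ⟨t, ht⟩ := mem_X.1 h2
  have h3 : m * x r.val (1 : K) * m⁻¹ = 1 := by
    apply V_inf_B
    · rw [ht]; exact mem_V hr' t
    · exact mul_mem (mul_mem hm (U_le_B (mem_U hr 1))) (inv_mem hm)
  rw [mul_inv_eq_one] at h3
  exact one_ne_zero ((x_eq_one_iff r.isLt (1 : K)).1 ((mul_eq_left (a := m)).1 h3))

theorem exists_neg_comm : ∀ i : Fin 3, (∃ r : Fin 72, 36 ≤ r.val ∧
      ((wP i.castSucc * wP i.succ * wP i.castSucc * wP i.succ) r).val < 36) ∧
    (∃ r : Fin 72, 36 ≤ r.val ∧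
      ((wP i.succ * wP i.castSucc * wP i.succ * wP i.castSucc) r).val < 36) := by decide +kernel

theorem comm_not_mem_B {i j : Fin 4} {r : Fin 72} (hr : 36 ≤ r.val)
    (hr' : ((wP i * wP j * wP i * wP j) r).val < 36) :
    n (K := K) i * n (K := K) j * (n (K := K) i)⁻¹ * (n (K := K) j)⁻¹ ∉ chevE6.borelSubgroup K := by
  have h := (((acts_n (K := K) i).mul (acts_n j)).mul (acts_n i).inv).mul (acts_n j).inv
  rw [wP_inv, wP_inv] at h
  exact not_mem_B_of_acts h hr hr'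

/-- **The (B,N)-pair of ²E₆(q)**, with explicit distinguished generators; it is irreducible. -/
theorem exists_bnPair [Fintype K] {q : ℕ} (hq : IsPrimePow q) (hK : Fintype.card K = q ^ 2) :
    ∃ P : Cfsg.BNPair ↥(twistedE6 K q),
      P.B = (chevE6.borelSubgroup K ⊓ twistedE6 K q).subgroupOf (twistedE6 K q) ∧
      P.N = (chevE6.monomialSubgroup K ⊓ twistedE6 K q).subgroupOf (twistedE6 K q) ∧
      P.S = {m : ↥(twistedE6 K q) | ∃ i : Fin 4, (m : GL chevE6.Idx K) = n (K := K) i} ∧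
      P.Irreducible := by
  obtain ⟨φ, hφ, hqq⟩ := exists_frob hq hK
  obtain ⟨P, hB, hN, hS⟩ := (T φ q hφ hqq).exists_bnPair
  have hB' : P.B = (chevE6.borelSubgroup K).subgroupOf (twistedE6 K q) := hB
  have hS' : P.S = Set.range fun i : Fin 4 => (⟨n (K := K) i, n_mem_G φ hφ i⟩ : ↥(twistedE6 K q)) := hS
  refine ⟨P, ?_, ?_, ?_, ?_⟩
  · rw [Subgroup.inf_subgroupOf_right]; exact hB
  · rw [Subgroup.inf_subgroupOf_right]; exact hN
  · rw [hS']
    ext m
    constructor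
    · rintro ⟨i, rfl⟩
      exact ⟨i, rfl⟩
    · rintro ⟨i, hi⟩
      exact ⟨i, Subtype.ext hi.symm⟩
  · refine irreducible_of_path P _ hS' (fun i => ?_) (fun i => ?_)
    · rw [hB']
      obtain ⟨r, h1, h2⟩ := (exists_neg_comm i).1
      exact comm_not_mem_B h1 h2
    · rw [hB']
      obtain ⟨r, h1, h2⟩ := (exists_neg_comm i).2
      exact comm_not_mem_B h1 h2

end Cfsg.Agent.ChevalleyStructure.TwE6BN
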