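import Cfsg.Agent.ChevalleyStructure.Elts
import Cfsg.Agent.ChevalleyStructure.UnipOrd
import Cfsg.Agent.S1025
set_option linter.all false

/-!
# Ordered products in the positive unipotent subgroup

For `D` in the list and `k : ℕ` let `unipGE hD F k` be the subgroup generated by the `x_r(t)`, `r` a positive root with
`k ≤ r`. The commutator formula (S1025) and the order facts of the tables (`UnipOrd`) show that `x_k(t)` normalises
`unipGE (k+1)`, so every element of `unipGE k` is an ordered product `∏_{r ≥ k} x_r(t_r)`; the coefficient family is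
unique, because `g.e_{-k}` has `h`-part `t_k h_k`.
-/

set_option autoImplicit false

namespace Cfsg.Agent.ChevalleyStructure.UnipProd

open Cfsg.Lie Cfsg.Agent.ChevalleyStructure.Elts Cfsg.Agent.ChevalleyStructure.UnipOrd

universe u

variable {F : Type u} [Field F] {D : ChevalleyDatum}

/-- The subgroup generated by the root elements of the positive roots `r ≥ k`. -/
def unipGE (D : ChevalleyDatum) (F : Type u) [Field F] (k : ℕ) : Subgroup (GL D.Idx F) :=
  Subgroup.closure {g | ∃ (r : ℕ) (t : F), D.IsPosRoot r ∧ k ≤ r ∧ (g : Matrix D.Idx D.Idx F) = D.x F r t}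

theorem xG_mem_unipGE (hD : UnipOrd.InList D) {k r : ℕ} (hr : D.IsPosRoot r) (hk : k ≤ r) (t : F) :
    xG hD r t ∈ unipGE D F k := Subgroup.subset_closure ⟨r, t, hr, hk, rfl⟩

theorem unipGE_le_iff (hD : UnipOrd.InList D) (k : ℕ) (K : Subgroup (GL D.Idx F)) :
    unipGE D F k ≤ K ↔ ∀ r, D.IsPosRoot r → k ≤ r → ∀ t : F, xG hD r t ∈ K := by
  constructor
  · intro h r hr hk t
    exact h (xG_mem_unipGE hD hr hk t)
  · intro h
    refine (Subgroup.closure_le _).2 ?_
    rintro g ⟨r, t, hr, hk, hg⟩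
    rw [(eq_xG_iff hD g r t).2 hg]
    exact h r hr hk t

theorem unipGE_antitone (D : ChevalleyDatum) (F : Type u) [Field F] {k l : ℕ} (h : k ≤ l) :
    unipGE D F l ≤ unipGE D F k := by
  refine Subgroup.closure_mono ?_
  rintro g ⟨r, t, hr, hk, hg⟩
  exact ⟨r, t, hr, h.trans hk, hg⟩

theorem unipGE_eq_posUnipotent (hD : UnipOrd.InList D) (F : Type u) [Field F] {k : ℕ} (hk : k ≤ D.nroots / 2) :
    unipGE D F k = D.posUnipotent F := by
  apply le_antisymm
  · exact (unipGE_le_iff hD k _).2 fun r hr _ t => xG_mem_posUnipotent hD hr t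
  · exact (posUnipotent_le_iff hD _).2 fun r hr t =>
      xG_mem_unipGE hD hr (hk.trans ((isPosRoot_iff hD r).1 hr).1) t

theorem unipGE_eq_bot (hD : UnipOrd.InList D) (F : Type u) [Field F] {k : ℕ} (hk : D.nroots ≤ k) :
    unipGE D F k = ⊥ := by
  rw [eq_bot_iff]
  exact (unipGE_le_iff hD k _).2 fun r hr h t => absurd hr.1 (by omega)

/-- The commutator formula in `GL`. -/
theorem xG_comm (hD : UnipOrd.InList D) {r s : ℕ} (hr : r < D.nroots) (hs : s < D.nroots) (hrs : s ≠ r)
    (hneg : s ≠ D.neg r) (t u : F) :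
    xG hD s u * xG hD r t = xG hD r t * xG hD s u * wordG hD (D.commWord F r s t u) := by
  refine Units.ext ?_
  rw [Units.val_mul, Units.val_mul, Units.val_mul, coe_xG, coe_xG, coe_wordG]
  exact Cfsg.Agent.S1025.result D hD r s hr hs hrs hneg t u

theorem ne_neg_of_pos (hD : UnipOrd.InList D) {r s : ℕ} (hr : D.IsPosRoot r) (hs : D.IsPosRoot s) :
    s ≠ D.neg r := by
  have h1 := neg_add hD hr.1
  have h2 := (isPosRoot_iff hD r).1 hr
  have h3 := (isPosRoot_iff hD s).1 hs
  have h4 := nroots_even hD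
  omega

/-- The commutator word of two positive roots `r, s` lies in `unipGE (max r s + 1)`. -/
theorem wordG_commWord_mem (hD : UnipOrd.InList D) {r s : ℕ} (hr : D.IsPosRoot r) (hs : D.IsPosRoot s)
    (t u : F) {k : ℕ} (hk : k ≤ r + 1 ∨ k ≤ s + 1) :
    wordG hD (D.commWord F r s t u) ∈ unipGE D F k := by
  refine mem_of_xG_mem hD fun p hp => ?_
  obtain ⟨c, hc, hpc⟩ := mem_commWord hp
  have hr' := (isPosRoot_iff hD r).1 hr
  have hs' := (isPosRoot_iff hD s).1 hs
  obtain ⟨h1, h2, h3⟩ := commTerms_ord hD hr'.1 hs'.1 hc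
  rw [hpc]
  exact xG_mem_unipGE hD ((isPosRoot_iff hD _).2 ⟨by omega, h3⟩) (by omega) _

/-- For positive roots `r`, `s` (also `r = s`), `x_r(t)⁻¹ x_s(u) x_r(t)` lies in `unipGE k` when `k ≤ s`. -/
theorem conj_mem_unipGE (hD : UnipOrd.InList D) {r s : ℕ} (hr : D.IsPosRoot r) (hs : D.IsPosRoot s)
    (t u : F) {k : ℕ} (hk : k ≤ s) :
    xG hD r (-t) * xG hD s u * xG hD r t ∈ unipGE D F k := by
  by_cases hrs : s = r
  · subst hrs
    rw [xG_add, xG_add]
    exact xG_mem_unipGE hD hs hk _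
  · have h := xG_comm hD hr.1 hs.1 hrs (ne_neg_of_pos hD hr hs) t u
    have h2 : xG hD r (-t) * xG hD s u * xG hD r t = xG hD s u * wordG hD (D.commWord F r s t u) := by
      rw [mul_assoc, h, ← mul_assoc, ← mul_assoc, xG_add, neg_add_cancel, xG_zero, one_mul]
    rw [h2]
    exact (unipGE D F k).mul_mem (xG_mem_unipGE hD hs hk _)
      (wordG_commWord_mem hD hr hs t u (Or.inr (by omega)))

/-- Every `x_r(t)`, `r` positive, normalises every `unipGE k`. -/
theorem conj_mem (hD : UnipOrd.InList D) {r : ℕ} (hr : D.IsPosRoot r) (t : F) {k : ℕ} {g : GL D.Idx F}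
    (hg : g ∈ unipGE D F k) : xG hD r (-t) * g * xG hD r t ∈ unipGE D F k := by
  have hle : unipGE D F k ≤ (unipGE D F k).comap (MulAut.conj (xG hD r (-t))).toMonoidHom := by
    refine (unipGE_le_iff hD k _).2 fun s hs hk u => ?_
    show xG hD r (-t) * xG hD s u * (xG hD r (-t))⁻¹ ∈ unipGE D F k
    rw [xG_inv, neg_neg]
    exact conj_mem_unipGE hD hr hs t u hk
  have := hle hg
  change xG hD r (-t) * g * (xG hD r (-t))⁻¹ ∈ unipGE D F k at this
  rwa [xG_inv, neg_neg] at this

/-- `unipGE k` is normal in `U`. -/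
theorem conj_mem_of_mem_posUnipotent (hD : UnipOrd.InList D) {k : ℕ} {g u : GL D.Idx F}
    (hu : u ∈ D.posUnipotent F) (hg : g ∈ unipGE D F k) : u * g * u⁻¹ ∈ unipGE D F k := by
  have hle : D.posUnipotent F ≤ Subgroup.normalizer (unipGE D F k : Set (GL D.Idx F)) := by
    refine (posUnipotent_le_iff hD _).2 fun r hr t => ?_
    rw [Subgroup.mem_normalizer_iff]
    intro h
    constructor
    · intro hh
      have := conj_mem hD hr (-t) hh
      rwa [neg_neg, ← xG_inv] at this
    · intro hh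
      have := conj_mem hD hr t hh
      rw [← xG_inv] at this
      simpa [mul_assoc] using this
  exact (Subgroup.mem_normalizer_iff.1 (hle hu) g).1 hg

/-- One step: every element of `unipGE k`, `k` a positive root, is `x_k(t) v` with `v ∈ unipGE (k+1)`. -/
theorem exists_of_mem_unipGE (hD : UnipOrd.InList D) {k : ℕ} (hk : D.IsPosRoot k) {g : GL D.Idx F}
    (hg : g ∈ unipGE D F k) : ∃ t : F, ∃ v ∈ unipGE D F (k + 1), g = xG hD k t * v := by
  let K : Subgroup (GL D.Idx F) :=
    { carrier := {g | ∃ t : F, ∃ v ∈ unipGE D F (k + 1), g = xG hD k t * v}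
      mul_mem' := by
        rintro _ _ ⟨t, v, hv, rfl⟩ ⟨u, w, hw, rfl⟩
        refine ⟨t + u, (xG hD k (-u) * v * xG hD k u) * w,
          (unipGE D F (k + 1)).mul_mem (conj_mem hD hk u hv) hw, ?_⟩
        rw [← xG_add]
        have h1 : xG hD k u * xG hD k (-u) = 1 := by rw [xG_add, add_neg_cancel, xG_zero]
        calc xG hD k t * v * (xG hD k u * w) = xG hD k t * 1 * v * (xG hD k u * w) := by rw [mul_one]
          _ = xG hD k t * (xG hD k u * xG hD k (-u)) * v * (xG hD k u * w) := by rw [h1]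
          _ = _ := by group
      one_mem' := ⟨0, 1, (unipGE D F (k + 1)).one_mem, by rw [xG_zero, mul_one]⟩
      inv_mem' := by
        rintro _ ⟨t, v, hv, rfl⟩
        refine ⟨-t, xG hD k t * v⁻¹ * xG hD k (-t), ?_, ?_⟩
        · have := conj_mem hD hk (-t) ((unipGE D F (k + 1)).inv_mem hv)
          rwa [neg_neg] at this
        · rw [mul_inv_rev, xG_inv, ← mul_assoc, ← mul_assoc, xG_add, neg_add_cancel, xG_zero, one_mul] }
  have hle : unipGE D F k ≤ K := by
    refine (unipGE_le_iff hD k _).2 fun r hr hkr t => ?_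
    rcases Nat.eq_or_lt_of_le hkr with h | h
    · subst h
      exact ⟨t, 1, Subgroup.one_mem _, (mul_one _).symm⟩
    · exact ⟨0, xG hD r t, xG_mem_unipGE hD hr h t, by rw [xG_zero, one_mul]⟩
  exact hle hg

/-! ### Ordered lists of positive roots -/

/-- The positive roots `r ≥ k` in increasing order. -/
def rootsGE (D : ChevalleyDatum) (k : ℕ) : List ℕ := List.Ico k D.nroots

theorem posRoots_eq (hD : UnipOrd.InList D) : D.posRoots = rootsGE D (D.nroots / 2) := by
  have h1 : D.posRoots = (List.range D.nroots).filter fun r => decide (D.nroots / 2 ≤ r) := by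
    show (List.range D.nroots).filter _ = _
    apply List.filter_congr
    intro r hr
    rw [decide_eq_decide, isPosRoot_iff hD r]
    exact ⟨fun h => h.1, fun h => ⟨h, List.mem_range.1 hr⟩⟩
  rw [h1, rootsGE]
  have h2 : D.nroots / 2 ≤ D.nroots := Nat.div_le_self _ _
  have h3 : List.range D.nroots = List.Ico 0 (D.nroots / 2) ++ List.Ico (D.nroots / 2) D.nroots := by
    rw [List.Ico.append_consecutive (Nat.zero_le _) h2, List.Ico.zero_bot]
  rw [h3, List.filter_append]
  have h4 : (List.Ico 0 (D.nroots / 2)).filter (fun r => decide (D.nroots / 2 ≤ r)) = [] := by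
    rw [List.filter_eq_nil_iff]
    intro a ha
    have := (List.Ico.mem.1 ha).2
    simp only [decide_eq_true_eq]
    omega
  have h5 : (List.Ico (D.nroots / 2) D.nroots).filter (fun r => decide (D.nroots / 2 ≤ r)) =
      List.Ico (D.nroots / 2) D.nroots := by
    rw [List.filter_eq_self]
    intro a ha
    exact decide_eq_true (List.Ico.mem.1 ha).1
  rw [h4, h5, List.nil_append]

theorem rootsGE_cons {k : ℕ} (hk : k < D.nroots) : rootsGE D k = k :: rootsGE D (k + 1) :=
  List.Ico.eq_cons hk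

theorem rootsGE_nil {k : ℕ} (hk : D.nroots ≤ k) : rootsGE D k = [] :=
  List.Ico.eq_nil_of_le hk

/-- Elements of `unipGE k` are ordered products. -/
theorem exists_prod (hD : UnipOrd.InList D) {k : ℕ} (hk : D.nroots / 2 ≤ k) {g : GL D.Idx F}
    (hg : g ∈ unipGE D F k) :
    ∃ t : ℕ → F, (∀ r, ¬ (k ≤ r ∧ r < D.nroots) → t r = 0) ∧
      g = wordG hD ((rootsGE D k).map fun r => (r, t r)) := by
  obtain ⟨m, hm⟩ : ∃ m, m = D.nroots - k := ⟨_, rfl⟩
  induction m generalizing k g with
  | zero =>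
    have hk' : D.nroots ≤ k := by omega
    rw [unipGE_eq_bot hD F hk', Subgroup.mem_bot] at hg
    refine ⟨fun _ => 0, fun _ _ => rfl, ?_⟩
    rw [rootsGE_nil hk', hg]
    rfl
  | succ m ih =>
    have hk' : k < D.nroots := by omega
    obtain ⟨a, v, hv, rfl⟩ := exists_of_mem_unipGE hD ((isPosRoot_iff hD k).2 ⟨hk, hk'⟩) hg
    obtain ⟨t, ht, hvt⟩ := ih (k := k + 1) (by omega) hv (by omega)
    refine ⟨fun r => if r = k then a else t r, ?_, ?_⟩
    · intro r hr
      have h1 : r ≠ k := by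
        rintro rfl
        exact hr ⟨le_rfl, hk'⟩
      show (if r = k then a else t r) = 0
      rw [if_neg h1]
      exact ht r (by omega)
    · rw [rootsGE_cons hk', List.map_cons, wordG_cons]
      show xG hD k a * v = xG hD k (if k = k then a else t k) * _
      rw [if_pos rfl, hvt]
      congr 2
      apply List.map_congr_left
      intro r hr
      have := (List.Ico.mem.1 hr).1
      show (r, t r) = (r, if r = k then a else t r)
      rw [if_neg (by omega)]

theorem wordG_mem_unipGE (hD : UnipOrd.InList D) {k : ℕ} (hk : D.nroots / 2 ≤ k) (t : ℕ → F) :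
    wordG hD ((rootsGE D k).map fun r => (r, t r)) ∈ unipGE D F k := by
  refine mem_of_xG_mem hD fun p hp => ?_
  obtain ⟨r, hr, rfl⟩ := List.mem_map.1 hp
  have := List.Ico.mem.1 hr
  exact xG_mem_unipGE hD ((isPosRoot_iff hD r).2 ⟨hk.trans this.1, this.2⟩) this.1 _

/-! ### Uniqueness -/

/-- The vectors supported on the positive root vectors. -/
def posSpan (D : ChevalleyDatum) (F : Type u) [Field F] : Submodule F (D.Idx → F) where
  carrier := {w | (∀ i, w (Sum.inl i) = 0) ∧ ∀ u : Fin D.nroots, u.1 < D.nroots / 2 → w (Sum.inr u) = 0}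
  add_mem' := by
    rintro a b ⟨ha, ha'⟩ ⟨hb, hb'⟩
    exact ⟨fun i => by simp [ha i, hb i], fun u hu => by simp [ha' u hu, hb' u hu]⟩
  zero_mem' := ⟨fun _ => rfl, fun _ _ => rfl⟩
  smul_mem' := by
    rintro c a ⟨ha, ha'⟩
    exact ⟨fun i => by simp [ha i], fun u hu => by simp [ha' u hu]⟩

theorem chainCoeff_eq_nil (hD : UnipOrd.InList D) {r s u : ℕ} (hr : D.nroots / 2 ≤ r)
    (hs : D.nroots ≤ s + r) (hu : u < D.nroots / 2) : D.chainCoeff r s u = [] := by
  rw [List.eq_nil_iff_forall_not_mem]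
  intro km h
  obtain ⟨e, he, rfl, q, hq, rfl⟩ := mem_chainCoeff h
  have := (chain_mem hD hr he hq).2.2.1 hs
  omega

/-- The column `e_s`, `s > -r`, of `x_r(t)`, `r` positive: no `h`-part, and no negative root but `s`. -/
theorem x_col (hD : UnipOrd.InList D) {r : ℕ} (hr : D.IsPosRoot r) (t : F) (s : Fin D.nroots)
    (hs : D.nroots ≤ s.1 + r) :
    (∀ i, D.x F r t (Sum.inl i) (Sum.inr s) = 0) ∧
      ∀ u : Fin D.nroots, u.1 < D.nroots / 2 →
        D.x F r t (Sum.inr u) (Sum.inr s) = if u = s then 1 else 0 := by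
  have hr' := (isPosRoot_iff hD r).1 hr
  have hneg : s.1 ≠ D.negIdx.getD r 0 := by
    have h1 : D.negIdx.getD r 0 + r + 1 = D.nroots := neg_add hD hr.1
    omega
  rw [x_of_lt hr.1]
  constructor
  · intro i
    show (if s = ⟨r, hr.1⟩ then (0 : F) else if s.val = D.negIdx.getD r 0 then _ else 0) = 0
    rw [if_neg hneg, ite_self]
  · intro u hu
    show (if s = ⟨r, hr.1⟩ then (if u = ⟨r, hr.1⟩ then (1 : F) else 0)
      else if s.val = D.negIdx.getD r 0 then _ else
        (if u = s then 1 else 0) + ((D.chainCoeff r s.val u.val).map fun km => ((km.2 : ℤ) : F) * t ^ km.1).sum) = _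
    by_cases h : s = ⟨r, hr.1⟩
    · rw [if_pos h, h]
    · rw [if_neg h, if_neg hneg, chainCoeff_eq_nil hD hr'.1 hs hu]
      simp

theorem mulVec_mem_posSpan (hD : UnipOrd.InList D) {r : ℕ} (hr : D.IsPosRoot r) (t : F) {w : D.Idx → F}
    (hw : w ∈ posSpan D F) : (D.x F r t).mulVec w ∈ posSpan D F := by
  have hr' := (isPosRoot_iff hD r).1 hr
  have key : ∀ row : D.Idx, (∀ s : Fin D.nroots, D.nroots / 2 ≤ s.1 → D.x F r t row (Sum.inr s) = 0) →
      (D.x F r t).mulVec w row = 0 := by
    intro row h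
    show ∑ j, D.x F r t row j * w j = 0
    apply Finset.sum_eq_zero
    rintro (i | s) _
    · rw [hw.1 i, mul_zero]
    · by_cases hs : D.nroots / 2 ≤ s.1
      · rw [h s hs, zero_mul]
      · rw [hw.2 s (by omega), mul_zero]
  have hpos : ∀ s : Fin D.nroots, D.nroots / 2 ≤ s.1 → D.nroots ≤ s.1 + r ∨ s.1 + r + 1 = D.nroots := by
    intro s hs
    have := neg_add hD hr.1
    omega
  have hpos' : ∀ s : Fin D.nroots, D.nroots / 2 ≤ s.1 → D.nroots ≤ s.1 + r := by
    intro s hs
    rcases hpos s hs with h | h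
    · exact h
    · exfalso
      have h1 := neg_add hD hr.1
      have h2 : D.neg r = s.1 := by omega
      have h3 : D.IsPosRoot s.1 := (isPosRoot_iff hD _).2 ⟨hs, s.2⟩
      exact ne_neg_of_pos hD hr h3 h2.symm
  constructor
  · intro i
    exact key _ fun s hs => (x_col hD hr t s (hpos' s hs)).1 i
  · intro u hu
    refine key _ fun s hs => ?_
    rw [(x_col hD hr t s (hpos' s hs)).2 u hu, if_neg]
    rintro rfl
    omega

theorem mulVec_single_sub_mem (hD : UnipOrd.InList D) {r : ℕ} (hr : D.IsPosRoot r) (t : F) (s : Fin D.nroots)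
    (hs : D.nroots ≤ s.1 + r) :
    (D.x F r t).mulVec (Pi.single (Sum.inr s) 1) - Pi.single (Sum.inr s) 1 ∈ posSpan D F := by
  have h := x_col hD hr t s hs
  rw [Matrix.mulVec_single_one]
  constructor
  · intro i
    show D.x F r t (Sum.inl i) (Sum.inr s) - (Pi.single (Sum.inr s) 1 : D.Idx → F) (Sum.inl i) = 0
    rw [h.1 i, Pi.single_eq_of_ne Sum.inl_ne_inr, sub_zero]
  · intro u hu
    show D.x F r t (Sum.inr u) (Sum.inr s) - (Pi.single (Sum.inr s) 1 : D.Idx → F) (Sum.inr u) = 0
    rw [h.2 u hu]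
    by_cases hus : u = s
    · subst hus
      simp
    · rw [if_neg hus, Pi.single_eq_of_ne (fun h => hus (Sum.inr_injective h)), sub_zero]

theorem wordMat_mulVec (hD : UnipOrd.InList D) (s : Fin D.nroots) (w : List (ℕ × F))
    (hw : ∀ p ∈ w, D.IsPosRoot p.1 ∧ D.nroots ≤ s.1 + p.1) :
    (D.wordMat F w).mulVec (Pi.single (Sum.inr s) 1) - Pi.single (Sum.inr s) 1 ∈ posSpan D F := by
  induction w with
  | nil =>
    rw [wordMat_nil, Matrix.one_mulVec, sub_self]
    exact Submodule.zero_mem _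
  | cons p w ih =>
    have ih' := ih fun q hq => hw q (List.mem_cons_of_mem _ hq)
    have hp := hw p List.mem_cons_self
    rw [wordMat_cons, ← Matrix.mulVec_mulVec]
    have h1 := mulVec_mem_posSpan hD hp.1 p.2 ih'
    have h2 := mulVec_single_sub_mem hD hp.1 p.2 s hp.2
    have h3 := Submodule.add_mem _ h1 h2
    rw [Matrix.mulVec_sub] at h3
    convert h3 using 1
    abel

/-- The `h`-part of `x_k(t) v . e_{-k}` for `v` a word in the positive roots after `k`. -/
theorem x_mul_wordMat_entry (hD : UnipOrd.InList D) {k : ℕ} (hk : D.IsPosRoot k) (t : F) (w : List (ℕ × F))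
    (hw : ∀ p ∈ w, D.IsPosRoot p.1 ∧ k < p.1) (i : Fin D.rank) (hneg : D.neg k < D.nroots) :
    (D.x F k t * D.wordMat F w) (Sum.inl i) (Sum.inr ⟨D.neg k, hneg⟩) =
      (((D.coroot.getD k #[]).getD i.val 0 : ℤ) : F) * t := by
  have h1 := neg_add hD hk.1
  have h := wordMat_mulVec hD ⟨D.neg k, hneg⟩ w fun p hp => ⟨(hw p hp).1, by
    have := (hw p hp).2
    show D.nroots ≤ D.neg k + p.1
    omega⟩
  have h2 := (mulVec_mem_posSpan hD hk t h).1 i
  rw [Matrix.mulVec_sub, Matrix.mulVec_mulVec] at h2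
  have h3 : (D.x F k t * D.wordMat F w) (Sum.inl i) (Sum.inr ⟨D.neg k, hneg⟩) =
      D.x F k t (Sum.inl i) (Sum.inr ⟨D.neg k, hneg⟩) := by
    have h4 := sub_eq_zero.1 h2
    rw [Matrix.mulVec_single_one, Matrix.mulVec_single_one] at h4
    exact h4
  rw [h3, x_of_lt hk.1]
  have h5 : (⟨D.neg k, hneg⟩ : Fin D.nroots) ≠ ⟨k, hk.1⟩ := by
    intro h
    exact ne_neg_of_pos hD hk hk (Fin.mk.inj_iff.1 h).symm
  show (if (⟨D.neg k, hneg⟩ : Fin D.nroots) = ⟨k, hk.1⟩ then (0 : F) else
    if (⟨D.neg k, hneg⟩ : Fin D.nroots).val = D.negIdx.getD k 0 then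
      (((D.coroot.getD k #[]).getD i.val 0 : ℤ) : F) * t else 0) = _
  rw [if_neg h5]
  exact if_pos rfl

/-- Ordered products are equal only if the coefficients are. -/
theorem prod_injective (hD : UnipOrd.InList D) {k : ℕ} (hk : D.nroots / 2 ≤ k) {t t' : ℕ → F}
    (h : wordG hD ((rootsGE D k).map fun r => (r, t r)) = wordG hD ((rootsGE D k).map fun r => (r, t' r))) :
    ∀ r, k ≤ r → r < D.nroots → t r = t' r := by
  obtain ⟨m, hm⟩ : ∃ m, m = D.nroots - k := ⟨_, rfl⟩
  induction m generalizing k with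
  | zero => intro r h1 h2; omega
  | succ m ih =>
    have hk' : k < D.nroots := by omega
    have hpos : D.IsPosRoot k := (isPosRoot_iff hD k).2 ⟨hk, hk'⟩
    have h1 := neg_add hD hk'
    have hneg : D.neg k < D.nroots := by omega
    rw [rootsGE_cons hk', List.map_cons, List.map_cons, wordG_cons, wordG_cons] at h
    have hw : ∀ t : ℕ → F, ∀ p ∈ (rootsGE D (k + 1)).map (fun r => (r, t r)), D.IsPosRoot p.1 ∧ k < p.1 := by
      intro t p hp
      obtain ⟨r, hr, rfl⟩ := List.mem_map.1 hp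
      have := List.Ico.mem.1 hr
      exact ⟨(isPosRoot_iff hD r).2 ⟨by show _ ≤ r; omega, this.2⟩, by show k < r; omega⟩
    have hk0 : t k = t' k := by
      have key : ∀ i < D.rank, (((D.coroot.getD k #[]).getD i 0 : ℤ) : F) * (t k - t' k) = 0 := by
        intro i hi
        have e1 := x_mul_wordMat_entry hD hpos (t k) _ (hw t) ⟨i, hi⟩ hneg
        have e2 := x_mul_wordMat_entry hD hpos (t' k) _ (hw t') ⟨i, hi⟩ hneg
        have e3 := congrArg (fun g : GL D.Idx F => (g : Matrix D.Idx D.Idx F)) h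
        simp only [Units.val_mul, coe_xG, coe_wordG] at e3
        rw [e3, e2] at e1
        rw [mul_sub, sub_eq_zero]
        exact e1.symm
      exact sub_eq_zero.1 (eq_zero_of_coroot hD hk' key)
    have h' : wordG hD ((rootsGE D (k + 1)).map fun r => (r, t r)) =
        wordG hD ((rootsGE D (k + 1)).map fun r => (r, t' r)) := by
      have h2 : xG hD k (t k) * wordG hD ((rootsGE D (k + 1)).map fun r => (r, t r)) =
        xG hD k (t' k) * wordG hD ((rootsGE D (k + 1)).map fun r => (r, t' r)) := h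
      rw [hk0] at h2
      exact mul_left_cancel h2
    intro r hr1 hr2
    rcases Nat.eq_or_lt_of_le hr1 with h3 | h3
    · subst h3
      exact hk0
    · exact ih (k := k + 1) (by omega) h' (by omega) r h3 hr2

end Cfsg.Agent.ChevalleyStructure.UnipProd
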