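import Mathlib
set_option linter.all false

/-!
The number of elements of a field with `q ^ n` elements fixed by `t ↦ t ^ q` is `q`; sizes of the sets
`{x_r(t) | t ^ q = t}` and the like.
-/

set_option autoImplicit false

namespace Cfsg.Agent.ChevalleyStructure.FixedCard

variable {K : Type*} [Field K]

theorem card_fixed_units [Fintype K] {q n : ℕ} (hq : 1 < q) (hK : Fintype.card K = q ^ n) :
    Nat.card {b : Kˣ // b ^ q = b} = q - 1 := by
  classical
  have e : Nat.card {b : Kˣ // b ^ q = b} = Nat.card (powMonoidHom (q - 1) : Kˣ →* Kˣ).ker := by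
    apply Nat.card_congr
    apply Equiv.subtypeEquivRight
    intro b
    rw [MonoidHom.mem_ker, powMonoidHom_apply]
    constructor
    · intro h
      have h2 : b ^ (q - 1) * b = b := by
        rw [← pow_succ, Nat.sub_add_cancel hq.le, h]
      exact mul_eq_right.1 h2
    · intro h
      rw [← Nat.sub_add_cancel hq.le, pow_succ, h, one_mul]
  have hu : Nat.card Kˣ = q ^ n - 1 := by
    rw [Nat.card_eq_fintype_card, Fintype.card_units, hK]
  rw [e, IsCyclic.card_powMonoidHom_ker, hu]
  exact Nat.gcd_eq_right (by simpa using Nat.sub_dvd_pow_sub_pow q 1 n)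

/-- The fixed points of `t ↦ t ^ q`. -/
theorem card_fixed [Fintype K] {q n : ℕ} (hq : 1 < q) (hK : Fintype.card K = q ^ n) :
    Nat.card {t : K // t ^ q = t} = q := by
  classical
  have e : {t : K // t ^ q = t} ≃ Option {b : Kˣ // b ^ q = b} :=
    { toFun := fun t => if h : t.1 = 0 then none else
        some ⟨Units.mk0 t.1 h, Units.ext (by
          rw [Units.val_pow_eq_pow_val, Units.val_mk0, t.2])⟩
      invFun := fun o => match o with
        | none => ⟨0, zero_pow (by omega)⟩
        | some b => ⟨b.1, by rw [← Units.val_pow_eq_pow_val, b.2]⟩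
      left_inv := by
        rintro ⟨t, ht⟩
        by_cases h : t = 0
        · simp [h]
        · simp [h]
      right_inv := by
        rintro (_ | ⟨b, hb⟩)
        · simp
        · simp [b.ne_zero] }
  have h := Nat.card_congr e
  have h2 : Nat.card (Option {b : Kˣ // b ^ q = b}) = Nat.card {b : Kˣ // b ^ q = b} + 1 := by
    rw [Nat.card_eq_fintype_card, Nat.card_eq_fintype_card, Fintype.card_option]
  rw [h, h2, card_fixed_units hq hK]
  omega

/-- a set parametrised injectively -/
theorem card_of_param {α β : Type*} (S : β → Prop) (f : α → β) (hf : Function.Injective f)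
    (hS : ∀ y, S y ↔ ∃ x, f x = y) : Nat.card {y : β // S y} = Nat.card α := by
  symm
  refine Nat.card_congr (Equiv.ofBijective (fun x => ⟨f x, (hS _).2 ⟨x, rfl⟩⟩) ⟨?_, ?_⟩)
  · intro x y h
    exact hf (congrArg Subtype.val h)
  · rintro ⟨y, hy⟩
    obtain ⟨x, rfl⟩ := (hS y).1 hy
    exact ⟨x, rfl⟩

end Cfsg.Agent.ChevalleyStructure.FixedCard
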