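import Cfsg.Agent.ChevalleyStructure.WeylAbstract
import Cfsg.Prelude.Def_ChevStructure
import Cfsg.Prelude.Def_ChevD4
import Cfsg.Prelude.Def_ChevE6
import Cfsg.Agent.ChevalleyStructure.WeylData
import Cfsg.Agent.ChevalleyStructure.BNOrder
set_option linter.all false

-- part: ChevalleyStructure/WeylRelative
section
/-!
Relative Weyl groups: `R` is an ambient root datum, `R'` the relative one, `c : Φ → Φ'` the class map,
`t i` the elements of the ambient Weyl group inducing the reflections of `R'`.  Then the Poincaré sum of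
`⟨t i⟩` (with ambient weights) is the Poincaré sum of the Weyl group of `R'` with the weights
`x a = ∏_{c r = a} z r`.
-/

set_option autoImplicit false

namespace Cfsg.Agent.ChevalleyStructure.WeylRelative

open Cfsg.Agent.ChevalleyStructure.WeylAbstract

variable {ι Φ ι' Φ' : Type*} [Fintype ι] [DecidableEq ι] [Fintype ι'] [DecidableEq ι']

/-- The relative datum. -/
structure Rel (R : RData ι Φ) (R' : RData ι' Φ') where
  c : Φ → Φ'
  c_surj : Function.Surjective c
  pos_iff : ∀ r, R'.pos (c r) ↔ R.pos r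
  t : ι' → Equiv.Perm Φ
  t_mem : ∀ i, t i ∈ R.W Set.univ
  c_t : ∀ i r, c (t i r) = R'.refl i (c r)

namespace Rel

variable {R : RData ι Φ} {R' : RData ι' Φ'} (T : Rel R R')

/-- The relative Weyl group inside the ambient permutation group. -/
def W1 : Subgroup (Equiv.Perm Φ) := Subgroup.closure (Set.range T.t)

theorem W1_le : T.W1 ≤ R.W Set.univ := by
  rw [W1, Subgroup.closure_le]
  rintro _ ⟨i, rfl⟩
  exact T.t_mem i

/-- `w` induces `w'` on the classes. -/
def Over (w : Equiv.Perm Φ) (w' : Equiv.Perm Φ') : Prop := ∀ r, T.c (w r) = w' (T.c r)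

theorem over_one : T.Over 1 1 := fun _ => rfl

variable {T} in
theorem Over.mul {w v : Equiv.Perm Φ} {w' v' : Equiv.Perm Φ'} (h1 : T.Over w w')
    (h2 : T.Over v v') : T.Over (w * v) (w' * v') := fun r => by
  rw [Equiv.Perm.mul_apply, Equiv.Perm.mul_apply, h1, h2]

variable {T} in
theorem Over.inv {w : Equiv.Perm Φ} {w' : Equiv.Perm Φ'} (h1 : T.Over w w') :
    T.Over w⁻¹ w'⁻¹ := fun r => by
  rw [Equiv.Perm.eq_inv_iff_eq, ← h1, Equiv.Perm.inv_def, Equiv.apply_symm_apply]

variable {T} in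
theorem Over.unique {w : Equiv.Perm Φ} {w' v' : Equiv.Perm Φ'} (h1 : T.Over w w')
    (h2 : T.Over w v') : w' = v' := by
  ext a
  obtain ⟨r, rfl⟩ := T.c_surj a
  rw [← h1, ← h2]

theorem over_t (i : ι') : T.Over (T.t i) (R'.refl i) := T.c_t i

theorem exists_over {w : Equiv.Perm Φ} (hw : w ∈ T.W1) :
    ∃ w' ∈ R'.W Set.univ, T.Over w w' := by
  induction hw using Subgroup.closure_induction with
  | mem x hx =>
    obtain ⟨i, rfl⟩ := hx
    exact ⟨_, R'.refl_mem_W (Set.mem_univ i), T.over_t i⟩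
  | one => exact ⟨1, Subgroup.one_mem _, T.over_one⟩
  | mul x y _ _ hx hy =>
    obtain ⟨x', hx1, hx2⟩ := hx
    obtain ⟨y', hy1, hy2⟩ := hy
    exact ⟨_, Subgroup.mul_mem _ hx1 hy1, hx2.mul hy2⟩
  | inv x _ hx =>
    obtain ⟨x', hx1, hx2⟩ := hx
    exact ⟨_, Subgroup.inv_mem _ hx1, hx2.inv⟩

theorem exists_lift {w' : Equiv.Perm Φ'} (hw : w' ∈ R'.W Set.univ) :
    ∃ w ∈ T.W1, T.Over w w' := by
  obtain ⟨l, -, rfl⟩ := R'.mem_W_iff.1 hw
  clear hw
  induction l with
  | nil => exact ⟨1, Subgroup.one_mem _, T.over_one⟩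
  | cons i l ih =>
    obtain ⟨w, hw, h⟩ := ih
    refine ⟨T.t i * w, Subgroup.mul_mem _ (Subgroup.subset_closure ⟨i, rfl⟩) hw, ?_⟩
    rw [R'.wd_cons]
    exact (T.over_t i).mul h

theorem over_injective [Finite Φ] {w v : Equiv.Perm Φ} {w' : Equiv.Perm Φ'} (hw : w ∈ T.W1)
    (hv : v ∈ T.W1) (h1 : T.Over w w') (h2 : T.Over v w') : w = v := by
  have h3 : T.Over (v⁻¹ * w) 1 := by
    have := h2.inv.mul h1
    rwa [inv_mul_cancel] at this
  have h4 : v⁻¹ * w = 1 := by
    apply R.eq_one_of_pos_all (T.W1_le (Subgroup.mul_mem _ (Subgroup.inv_mem _ hv) hw))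
    intro r hr
    rw [← T.pos_iff, h3, Equiv.Perm.one_apply, T.pos_iff]
    exact hr
  exact (inv_mul_eq_one.1 h4).symm

variable [Fintype Φ] [Fintype Φ'] {S : Type*} [CommSemiring S]

open Classical in
/-- The relative weights. -/
noncomputable def wts (z : Φ → S) (a : Φ') : S := ∏ r ∈ Finset.univ.filter (fun r => T.c r = a), z r

theorem Q_eq (z : Φ → S) {w : Equiv.Perm Φ} {w' : Equiv.Perm Φ'} (h : T.Over w w') :
    R.Q z w = R'.Q (T.wts z) w' := by
  classical
  unfold RData.Q wts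
  rw [Finset.prod_filter (s := Finset.univ) (p := fun r => R'.pos r ∧ ¬ R'.pos (w' r))]
  have h1 : ∀ a : Φ', (if R'.pos a ∧ ¬ R'.pos (w' a) then
      ∏ r ∈ Finset.univ.filter (fun r => T.c r = a), z r else 1) =
      ∏ r ∈ Finset.univ.filter (fun r => T.c r = a),
        (if R.pos r ∧ ¬ R.pos (w r) then z r else 1) := by
    intro a
    split_ifs with ha
    · apply Finset.prod_congr rfl
      intro r hr
      rw [Finset.mem_filter] at hr
      rw [if_pos]
      rw [← T.pos_iff, ← T.pos_iff, h, hr.2]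
      exact ha
    · symm
      apply Finset.prod_eq_one
      intro r hr
      rw [Finset.mem_filter] at hr
      rw [if_neg]
      rw [← T.pos_iff, ← T.pos_iff, h, hr.2]
      exact ha
  rw [Finset.prod_congr rfl fun a _ => h1 a]
  rw [Finset.prod_fiberwise Finset.univ T.c (fun r => if R.pos r ∧ ¬ R.pos (w r) then z r else 1),
    Finset.prod_filter]

/-- The Poincaré sum of the relative Weyl group. -/
theorem sum_W1 (z : Φ → S) :
    ∑ᶠ w ∈ (T.W1 : Set (Equiv.Perm Φ)), R.Q z w =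
      ∑ᶠ w ∈ (R'.W Set.univ : Set (Equiv.Perm Φ')), R'.Q (T.wts z) w := by
  classical
  have hf1 : (T.W1 : Set (Equiv.Perm Φ)).Finite := Set.toFinite _
  have hf2 : (R'.W Set.univ : Set (Equiv.Perm Φ')).Finite := Set.toFinite _
  rw [finsum_mem_eq_finite_toFinset_sum _ hf1, finsum_mem_eq_finite_toFinset_sum _ hf2]
  have hch : ∀ w ∈ T.W1, ∃ w' ∈ R'.W Set.univ, T.Over w w' := fun w hw => T.exists_over hw
  choose! f hf hf' using hch
  apply Finset.sum_bij (i := fun w _ => f w)
  · intro w hw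
    rw [Set.Finite.mem_toFinset] at hw ⊢
    exact hf w hw
  · intro w hw v hv heq
    rw [Set.Finite.mem_toFinset] at hw hv
    refine T.over_injective hw hv (hf' w hw) ?_
    rw [heq]
    exact hf' v hv
  · intro w' hw'
    rw [Set.Finite.mem_toFinset] at hw'
    obtain ⟨w, hw, h⟩ := T.exists_lift hw'
    refine ⟨w, (Set.Finite.mem_toFinset _).2 hw, ?_⟩
    exact (hf' w hw).unique h
  · intro w hw
    rw [Set.Finite.mem_toFinset] at hw
    exact T.Q_eq z (hf' w hw)

end Rel

end Cfsg.Agent.ChevalleyStructure.WeylRelative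
end

-- part: ChevalleyStructure/WeylPacked
section
/-!
`RData` from packed tables, for the types E6, D4 (ambient) and F4, G2 (relative).
-/

set_option autoImplicit false

namespace Cfsg.Agent.ChevalleyStructure.WeylPacked

open Cfsg Cfsg.Lie Cfsg.Agent.ChevalleyStructure.WeylAbstract Cfsg.Agent.ChevalleyStructure.WeylData

/-- Packed tables of a root system: `n` roots in index order (negative ones first), rank `l`. -/
structure Tab where
  n : ℕ
  l : ℕ
  P : ℕ → ℕ → ℕ
  co : ℕ → ℕ → ℤ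
  A : ℕ → ℕ → ℤ
  sm : ℕ → ℕ

/-- `∑ k < l, co r k * A i k` -/
def Tab.pair (T : Tab) (i r : ℕ) : ℤ := ((List.range T.l).map fun k => T.co r k * T.A i k).sum

/-- The boolean check. -/
def Tab.ok (T : Tab) : Bool :=
  (Nat.beq T.n (2 * (T.n / 2))) &&
  ((List.range T.n).all fun r => (List.range T.l).all fun j =>
    decide (T.co (T.n - 1 - r) j = - T.co r j)) &&
  ((List.range T.n).all fun r => (List.range r).all fun s => (List.range T.l).any fun j =>
    decide (T.co r j ≠ T.co s j)) &&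
  ((List.range T.n).all fun r => !(Nat.ble (T.n / 2) r) || (List.range T.l).all fun j =>
    decide (0 ≤ T.co r j)) &&
  ((List.range T.l).all fun i => Nat.blt (T.sm i) T.n && (List.range T.l).all fun j =>
    decide (T.co (T.sm i) j = if j = i then 1 else 0)) &&
  ((List.range T.l).all fun i => (List.range T.n).all fun r =>
    !(Nat.ble (T.n / 2) r) || Nat.beq r (T.sm i) || Nat.ble (T.n / 2) (T.P i r)) &&
  ((List.range T.l).all fun i => decide (T.A i i = 2)) &&
  ((List.range T.l).all fun i => (List.range T.n).all fun r => (List.range T.l).all fun j =>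
    decide (T.co (T.P i r) j = T.co r j - if j = i then T.pair i r else 0)) &&
  ((List.range T.l).all fun i => (List.range T.n).all fun r => Nat.blt (T.P i r) T.n)

theorem sum_range_eq (l : ℕ) (f : ℕ → ℤ) : ((List.range l).map f).sum = ∑ k : Fin l, f k := by
  rw [← Finset.sum_range]
  induction l with
  | zero => rfl
  | succ l ih => rw [List.range_succ, List.map_append, List.sum_append, ih, Finset.sum_range_succ]; simp

/-- The spelled-out content of the check. -/
structure Tab.Spec (T : Tab) : Prop where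
  heven : T.n = 2 * (T.n / 2)
  hneg : ∀ r < T.n, ∀ j < T.l, T.co (T.n - 1 - r) j = - T.co r j
  hinj : ∀ r < T.n, ∀ s < r, ∃ j < T.l, T.co r j ≠ T.co s j
  hnn : ∀ r < T.n, T.n / 2 ≤ r → ∀ j < T.l, 0 ≤ T.co r j
  hsm : ∀ i < T.l, T.sm i < T.n
  hsm' : ∀ i < T.l, ∀ j < T.l, T.co (T.sm i) j = if j = i then 1 else 0
  hpos : ∀ i < T.l, ∀ r < T.n, T.n / 2 ≤ r → r ≠ T.sm i → T.n / 2 ≤ T.P i r
  hA : ∀ i < T.l, T.A i i = 2
  hco : ∀ i < T.l, ∀ r < T.n, ∀ j < T.l, T.co (T.P i r) j = T.co r j - if j = i then T.pair i r else 0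
  hP : ∀ i < T.l, ∀ r < T.n, T.P i r < T.n

theorem Tab.spec {T : Tab} (h : T.ok = true) : T.Spec := by
  unfold Tab.ok at h
  simp only [Bool.and_eq_true, List.all_eq_true, List.mem_range, decide_eq_true_eq,
    Bool.or_eq_true, Bool.not_eq_true', List.any_eq_true, Nat.beq_eq, Nat.ble_eq] at h
  obtain ⟨⟨⟨⟨⟨⟨⟨⟨h1, h2⟩, h3⟩, h4⟩, h5⟩, h6⟩, h7⟩, h8⟩, h9⟩ := h
  refine ⟨h1, h2, h3, ?_, ?_, ?_, ?_, h7, h8, ?_⟩
  · intro r hr hr2 j hj
    rcases h4 r hr with h | h
    · rw [Nat.ble_eq_true_of_le hr2] at h; exact absurd h (by decide)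
    · exact h j hj
  · intro i hi
    have := (h5 i hi).1
    unfold Nat.blt at this
    exact Nat.le_of_ble_eq_true this
  · intro i hi j hj
    exact (h5 i hi).2 j hj
  · intro i hi r hr hr2 hne
    rcases h6 i hi r hr with (h | h) | h
    · rw [Nat.ble_eq_true_of_le hr2] at h; exact absurd h (by decide)
    · exact absurd h hne
    · exact h
  · intro i hi r hr
    have := h9 i hi r hr
    unfold Nat.blt at this
    exact Nat.le_of_ble_eq_true this

/-- The root datum of the tables, for given permutations realising them. -/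
def Tab.toRData (T : Tab) (h : T.Spec) (s : Fin T.l → Equiv.Perm (Fin T.n))
    (hs : ∀ i r, ((s i r : Fin T.n) : ℕ) = T.P i r) : RData (Fin T.l) (Fin T.n) where
  pos r := T.n / 2 ≤ r.val
  neg r := ⟨T.n - 1 - r.val, by have := r.2; omega⟩
  simple i := ⟨T.sm i, h.hsm i i.2⟩
  refl := s
  co r i := T.co r i
  A i k := T.A i k
  pos_neg r := by
    have h1 := h.heven
    have h2 := r.2
    show T.n / 2 ≤ T.n - 1 - r.val ↔ ¬ T.n / 2 ≤ r.val
    omega
  co_neg r i := h.hneg r r.2 i i.2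
  co_inj r s' heq := by
    apply Fin.ext
    rcases lt_trichotomy r.val s'.val with h1 | h1 | h1
    · obtain ⟨j, hj, hne⟩ := h.hinj s' s'.2 r h1
      exact absurd (heq ⟨j, hj⟩).symm hne
    · exact h1
    · obtain ⟨j, hj, hne⟩ := h.hinj r r.2 s' h1
      exact absurd (heq ⟨j, hj⟩) hne
  co_nonneg r hr i := h.hnn r r.2 hr i i.2
  co_simple i j := by
    show T.co (T.sm i) j = _
    rw [h.hsm' i i.2 j j.2]
    by_cases hij : j = i
    · rw [if_pos hij, if_pos (by rw [hij])]
    · rw [if_neg hij, if_neg (fun h' => hij (Fin.ext h'))]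
  refl_pos i r hr hne := by
    show T.n / 2 ≤ (s i r).val
    rw [hs]
    exact h.hpos i i.2 r r.2 hr (fun h' => hne (Fin.ext h'))
  A_diag i := h.hA i i.2
  co_refl i r j := by
    show T.co (s i r).val j = T.co r j - _
    rw [hs, h.hco i i.2 r r.2 j j.2]
    congr 1
    by_cases hij : j = i
    · rw [if_pos hij, if_pos (by rw [hij]), Tab.pair, sum_range_eq]
    · rw [if_neg hij, if_neg (fun h' => hij (Fin.ext h'))]

/-- coroot coordinates, packed with offset 64 -/
def coP (l T r j : ℕ) : ℤ := Int.sub (Int.ofNat (Nat.land (Nat.shiftRight T (8 * (j + l * r))) 255)) 64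

/-- Cartan integers, packed with offset 8 -/
def aP (l T i k : ℕ) : ℤ := Int.sub (Int.ofNat (Nat.land (Nat.shiftRight T (4 * (k + l * i))) 15)) 8

/-- bytes -/
def byte (T i : ℕ) : ℕ := Nat.land (Nat.shiftRight T (8 * i)) 255

/-- packed table -/
def coE6 : ℕ := 0x4142434242414142434241414142424241414141424241414041424241414142424141414141424141414041424141414141414141414041414141414040414141414141414140414041414140414040414140414040404140414040404040414142424141404141424141404041424141404141414141404041414141404040414141404141414041404041414041404040414041404040404041404141414140404041414140404040414140404040404140404141414040404041414040404040414040404141404040404041404040404140404040403f4040404040403f404040403f3f4040404040403f404040403f3f4040403f3f3f4040404040403f404040403f3f4040403f3f3f40403f3f3f3f4040404040403f4040403f403f40403f3f403f403f3f3f403f4040403f3f3f40403f3f3f3f403f3f3f3f3f40403f3e3f3f403f3f3e3f3f403f3e3e3f3f4040404040403f4040403f403f40403f3f403f403f3f3f403f3f3f3f3f403f40403f3f3f3f403f3f3f3f3f3f3f3f3f3f3f403f3e3f3f3f3f3f3e3f3f3f3f3e3e3f3f3f403f3e3e3f3f3f3f3e3e3f3f3f3e3e3e3f3f3f3e3d3e3f3f3f3e3d3e3e3f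

/-- packed table -/
def AE6 : ℕ := 0xa788887a788887a778887a878878a888878a

/-- packed table -/
def SE6 : ℕ := 0x2425272a2e38

/-- packed table -/
def coF4 : ℕ := 0x4243424141434241414242414244434241424141414141414041414142444341424442414242424140424241424241414042414140404141404040414142414041414140404141404242414040424140404041404141404040414040414040403f404040403f40403f3f404040403f40403e3f403e3e3f40403f3f403f3f3f403f3e3f404040403f40403f3f403e3f3f3e3e3f3f403e3e3f3e3e3e3f3e3c3e3f3e3c3d3f403f3f3f3f3f3f3f3f3e3f3f3e3c3d3e3f3e3e3f3f3d3e3f3e3d3e3f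

/-- packed table -/
def AF4 : ℕ := 0xa7887a6887a7887a

/-- packed table -/
def SF4 : ℕ := 0x18191b21

/-- packed table -/
def coD4 : ℕ := 0x4141424141414141404141414140414140404141404040414141414040414140414041404040414040414040414040403f404040403f404040403f403f403f40403f3f403f3f3f404040403f40403f3f3f403f3f403f3f3f3f3f3f3f3f3f3e3f

/-- packed table -/
def AD4 : ℕ := 0xa8788a7877a7887a

/-- packed table -/
def SD4 : ℕ := 0xc0d0e12

/-- packed table -/
def coG2 : ℕ := 0x4241414143424341404141403f40403f3d3f3d3e3f3f3e3f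

/-- packed table -/
def AG2 : ℕ := 0xa57a

/-- packed table -/
def SG2 : ℕ := 0x607

/-- packed table -/
def clsE6 : ℕ := 0x2c28272f2e2f262d242b2a1d201f1a182e2d252b23292a292221201c1e191f1e1b1a19181716151411101611130f0e0d0605060c040a02011715100f1205040b0209000100080703

/-- packed table -/
def clsD4 : ℕ := 0xb0a09090807090808060707040405030302040302020100

/-- The tables of type E6. -/
def TE6 : Tab where
  n := 72
  l := 6
  P := tabP 72 tabE6
  co := coP 6 coE6
  A := aP 6 AE6
  sm := byte SE6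

theorem specE6 : TE6.Spec := Tab.spec (by decide +kernel)

/-- The tables of type D4. -/
def TD4 : Tab where
  n := 24
  l := 4
  P := tabP 24 tabD4
  co := coP 4 coD4
  A := aP 4 AD4
  sm := byte SD4

theorem specD4 : TD4.Spec := Tab.spec (by decide +kernel)

/-- The tables of type F4. -/
def TF4 : Tab where
  n := 48
  l := 4
  P := tabP 48 tabF4
  co := coP 4 coF4
  A := aP 4 AF4
  sm := byte SF4

theorem specF4 : TF4.Spec := Tab.spec (by decide +kernel)

/-- The tables of type G2. -/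
def TG2 : Tab where
  n := 12
  l := 2
  P := tabP 12 tabG2
  co := coP 2 coG2
  A := aP 2 AG2
  sm := byte SG2

theorem specG2 : TG2.Spec := Tab.spec (by decide +kernel)

theorem refl_E6 : ((List.range 6).all fun i => (List.range 72).all fun r =>
    Nat.beq (chevE6.reflectRoot i r) (tabP 72 tabE6 i r)) = true := by decide +kernel

theorem pos_E6 : ((List.range 72).all fun r => decide (chevE6.IsPosRoot r) == Nat.ble 36 r) = true := by
  decide +kernel

theorem reflectRoot_E6 {i r : ℕ} (hi : i < 6) (hr : r < 72) :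
    chevE6.reflectRoot i r = tabP 72 tabE6 i r := by
  have h := refl_E6
  simp only [List.all_eq_true, List.mem_range] at h
  exact Nat.eq_of_beq_eq_true (h i hi r hr)

theorem isPosRoot_E6 {r : ℕ} (hr : r < 72) : chevE6.IsPosRoot r ↔ 36 ≤ r := by
  have h := pos_E6
  simp only [List.all_eq_true, List.mem_range, beq_iff_eq] at h
  rw [← Nat.ble_eq, ← h r hr]
  exact decide_eq_true_iff.symm

theorem refl_D4 : ((List.range 4).all fun i => (List.range 24).all fun r =>
    Nat.beq (chevD4.reflectRoot i r) (tabP 24 tabD4 i r)) = true := by decide +kernel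

theorem pos_D4 : ((List.range 24).all fun r => decide (chevD4.IsPosRoot r) == Nat.ble 12 r) = true := by
  decide +kernel

theorem reflectRoot_D4 {i r : ℕ} (hi : i < 4) (hr : r < 24) :
    chevD4.reflectRoot i r = tabP 24 tabD4 i r := by
  have h := refl_D4
  simp only [List.all_eq_true, List.mem_range] at h
  exact Nat.eq_of_beq_eq_true (h i hi r hr)

theorem isPosRoot_D4 {r : ℕ} (hr : r < 24) : chevD4.IsPosRoot r ↔ 12 ≤ r := by
  have h := pos_D4
  simp only [List.all_eq_true, List.mem_range, beq_iff_eq] at h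
  rw [← Nat.ble_eq, ← h r hr]
  exact decide_eq_true_iff.symm

end Cfsg.Agent.ChevalleyStructure.WeylPacked
end

-- part: ChevalleyStructure/WeylOrbit
section
/-!
Kernel-checkable orbit certificates for one step of the parabolic chain (weights powers of `q`).
-/

set_option autoImplicit false

namespace Cfsg.Agent.ChevalleyStructure.WeylOrbit

open Cfsg Cfsg.Lie Cfsg.Agent.ChevalleyStructure.WeylAbstract
  Cfsg.Agent.ChevalleyStructure.WeylPacked

theorem sum_range_eq' {M : Type*} [AddCommMonoid M] (l : ℕ) (f : ℕ → M) :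
    ((List.range l).map f).sum = ∑ k : Fin l, f k := by
  rw [← Finset.sum_range]
  induction l with
  | zero => rfl
  | succ l ih => rw [List.range_succ, List.map_append, List.sum_append, ih, Finset.sum_range_succ]; simp

/-- The reflection on weights, as lists. -/
def actL (T : Tab) (i : ℕ) (m : List ℤ) : List ℤ :=
  (List.range T.l).map fun k => m.getD k 0 - m.getD i 0 * T.A i k

/-- The weight given by a list. -/
def toF (T : Tab) (m : List ℤ) : Fin T.l → ℤ := fun i => m.getD i 0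

theorem toF_actL (T : Tab) (h : T.Spec) (s : Fin T.l → Equiv.Perm (Fin T.n))
    (hs : ∀ i r, ((s i r : Fin T.n) : ℕ) = T.P i r) (i : Fin T.l) (m : List ℤ) :
    toF T (actL T i m) = (T.toRData h s hs).act i (toF T m) := by
  funext k
  show (actL T i m).getD k 0 = m.getD k 0 - m.getD i 0 * T.A i k
  unfold actL
  rw [List.getD_eq_getElem?_getD, List.getElem?_map, List.getElem?_range k.2]
  rfl

/-- The base weight. -/
def baseL (T : Tab) (k : ℕ) : List ℤ := (List.range T.l).map fun i => if i = k then 1 else 0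

theorem toF_baseL (T : Tab) (k : Fin T.l) : toF T (baseL T k) = Pi.single k 1 := by
  funext i
  show (baseL T k).getD i 0 = _
  unfold baseL
  rw [List.getD_eq_getElem?_getD, List.getElem?_map, List.getElem?_range i.2]
  show (if (i : ℕ) = k then (1 : ℤ) else 0) = _
  by_cases h : i = k
  · rw [if_pos (by rw [h]), h, Pi.single_eq_same]
  · rw [if_neg (fun h' => h (Fin.ext h')), Pi.single_eq_of_ne h]

/-- every new element is obtained from an earlier one -/
def reachL (T : Tab) (J : List ℕ) : List (List ℤ) → List (List ℤ) → Bool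
  | _, [] => true
  | acc, m :: rest => (J.any fun j => acc.any fun m' => actL T j m' == m) &&
      reachL T J (m :: acc) rest

/-- The exponent of a weight. -/
def expo (T : Tab) (cl : ℕ → ℕ) (m : List ℤ) : ℕ :=
  ((List.range T.n).map fun s => bif Nat.ble (T.n / 2) s &&
    decide (((List.range T.l).map fun i => T.co s i * m.getD i 0).sum < 0) then cl s else 0).sum

/-- The orbit certificate. -/
def orbitOK (T : Tab) (cl : ℕ → ℕ) (J : List ℕ) (k : ℕ) (L : List (List ℤ)) (E : List ℕ) : Bool :=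
  (J.all fun j => Nat.blt j T.l) &&
  (match L with
    | [] => false
    | m :: rest => m == baseL T k && reachL T J [m] rest) &&
  (L.all fun m => Nat.beq m.length T.l && J.all fun j => L.contains (actL T j m)) &&
  decide L.Nodup &&
  (L.map (expo T cl) == E)

section

variable {T : Tab} (h : T.Spec) (s : Fin T.l → Equiv.Perm (Fin T.n))
  (hs : ∀ i r, ((s i r : Fin T.n) : ℕ) = T.P i r)

theorem reach_of_reachL {J : List ℕ} {Js : Set (Fin T.l)} (hJ : ∀ j : Fin T.l, j ∈ Js ↔ j.val ∈ J)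
    (hJl : ∀ j ∈ J, j < T.l) {k : Fin T.l} :
    ∀ (rest acc : List (List ℤ)), (∀ m ∈ acc, (T.toRData h s hs).Reach Js k (toF T m)) →
      reachL T J acc rest = true → ∀ m ∈ rest, (T.toRData h s hs).Reach Js k (toF T m) := by
  intro rest
  induction rest with
  | nil => intro acc _ _ m hm; simp at hm
  | cons m0 rest ih =>
    intro acc hacc hr
    rw [reachL, Bool.and_eq_true, List.any_eq_true] at hr
    obtain ⟨⟨j, hj, hr1⟩, hr2⟩ := hr
    rw [List.any_eq_true] at hr1
    obtain ⟨m', hm', heq⟩ := hr1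
    rw [beq_iff_eq] at heq
    have h0 : (T.toRData h s hs).Reach Js k (toF T m0) := by
      rw [← heq]
      have := RData.Reach.step (R := T.toRData h s hs) (⟨j, hJl j hj⟩ : Fin T.l) _
        ((hJ _).2 hj) (hacc m' hm')
      rw [← toF_actL T h s hs] at this
      exact this
    intro m hm
    rcases List.mem_cons.1 hm with rfl | hm
    · exact h0
    · refine ih (m0 :: acc) ?_ hr2 m hm
      intro m'' hm''
      rcases List.mem_cons.1 hm'' with rfl | hm''
      · exact h0
      · exact hacc m'' hm''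

theorem toF_injective {m m' : List ℤ} (hm : m.length = T.l) (hm' : m'.length = T.l)
    (heq : toF T m = toF T m') : m = m' := by
  apply List.ext_getElem (by rw [hm, hm'])
  intro i h1 h2
  have := congrFun heq ⟨i, by omega⟩
  simp only [toF, List.getD_eq_getElem?_getD, List.getElem?_eq_getElem h1,
    List.getElem?_eq_getElem h2, Option.getD_some] at this
  exact this

theorem Qw_eq (q : ℕ) (cl : ℕ → ℕ) (m : List ℤ) :
    (T.toRData h s hs).Qw (fun r : Fin T.n => q ^ cl r) (toF T m) = q ^ expo T cl m := by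
  classical
  unfold RData.Qw expo
  rw [sum_range_eq', ← Finset.prod_pow_eq_pow_sum, Finset.prod_filter]
  apply Finset.prod_congr rfl
  intro r _
  have hval : (T.toRData h s hs).val (toF T m) r =
      ((List.range T.l).map fun i => T.co r i * m.getD i 0).sum := by
    rw [sum_range_eq']
    rfl
  have hiff : ((T.toRData h s hs).pos r ∧ (T.toRData h s hs).val (toF T m) r < 0) ↔
      (Nat.ble (T.n / 2) r &&
        decide (((List.range T.l).map fun i => T.co r i * m.getD i 0).sum < 0)) = true := by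
    rw [Bool.and_eq_true, decide_eq_true_iff, ← hval, Nat.ble_eq]
    rfl
  by_cases hc : (T.toRData h s hs).pos r ∧ (T.toRData h s hs).val (toF T m) r < 0
  · rw [if_pos hc, hiff.1 hc]
    rfl
  · rw [if_neg hc]
    have : (Nat.ble (T.n / 2) r &&
        decide (((List.range T.l).map fun i => T.co r i * m.getD i 0).sum < 0)) = false := by
      rw [← Bool.not_eq_true]
      exact fun h' => hc (hiff.2 h')
    rw [this]
    rfl

/-- One step of the chain, with certificate. -/
theorem step (q : ℕ) (cl : ℕ → ℕ)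
    (hcl : ∀ i r, cl ((s i r : Fin T.n) : ℕ) = cl r) (hcn : ∀ r < T.n, cl (T.n - 1 - r) = cl r)
    {J : List ℕ} {Js : Set (Fin T.l)} (hJ : ∀ j : Fin T.l, j ∈ Js ↔ j.val ∈ J) (k : Fin T.l)
    {L : List (List ℤ)} {E : List ℕ} (hok : orbitOK T cl J k L E = true) :
    ∑ᶠ w ∈ ((T.toRData h s hs).W Js : Set (Equiv.Perm (Fin T.n))),
        (T.toRData h s hs).Q (fun r : Fin T.n => q ^ cl r) w =
      (E.map fun e => q ^ e).sum *
        ∑ᶠ w ∈ ((T.toRData h s hs).W (Js \ {k}) : Set (Equiv.Perm (Fin T.n))),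
          (T.toRData h s hs).Q (fun r : Fin T.n => q ^ cl r) w := by
  classical
  unfold orbitOK at hok
  simp only [Bool.and_eq_true] at hok
  obtain ⟨⟨⟨⟨h1, h2⟩, h3⟩, h4⟩, h5⟩ := hok
  have hJl : ∀ j ∈ J, j < T.l := by
    intro j hj
    have := List.all_eq_true.1 h1 j hj
    unfold Nat.blt at this
    exact Nat.le_of_ble_eq_true this
  have h4' : L.Nodup := of_decide_eq_true h4
  have h5' : L.map (expo T cl) = E := by simpa using h5
  have h3' : ∀ m ∈ L, m.length = T.l ∧ ∀ j ∈ J, actL T j m ∈ L := by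
    intro m hm
    have := List.all_eq_true.1 h3 m hm
    rw [Bool.and_eq_true, List.all_eq_true] at this
    refine ⟨Nat.eq_of_beq_eq_true this.1, fun j hj => ?_⟩
    have := this.2 j hj
    simpa using this
  cases L with
  | nil => simp at h2
  | cons m0 rest =>
    simp only [Bool.and_eq_true, beq_iff_eq] at h2
    obtain ⟨h21, h22⟩ := h2
    have hbase : (T.toRData h s hs).Reach Js k (toF T m0) := by
      rw [h21, toF_baseL]
      exact RData.Reach.base
    have hreach : ∀ m ∈ m0 :: rest, (T.toRData h s hs).Reach Js k (toF T m) := by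
      intro m hm
      rcases List.mem_cons.1 hm with rfl | hm
      · exact hbase
      · refine reach_of_reachL h s hs hJ hJl rest [m0] ?_ h22 m hm
        intro m' hm'
        rw [List.mem_singleton] at hm'
        rw [hm']
        exact hbase
    set LF : Finset (Fin T.l → ℤ) := ((m0 :: rest).map (toF T)).toFinset with hLF
    have hnd : ((m0 :: rest).map (toF T)).Nodup := by
      apply List.Nodup.map_on _ h4'
      intro m hm m' hm' heq
      exact toF_injective (h3' m hm).1 (h3' m' hm').1 heq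
    have key := (T.toRData h s hs).sum_step (S := ℕ) (fun r : Fin T.n => q ^ cl r)
      (fun i r => by
        show q ^ cl ((s i r : Fin T.n) : ℕ) = q ^ cl r
        rw [hcl])
      (fun r => by
        show q ^ cl (T.n - 1 - r) = q ^ cl r
        rw [hcn r r.2])
      (J := Js) (k := k) LF
      (by
        rw [hLF, List.mem_toFinset, ← toF_baseL, ← h21]
        simp)
      (by
        intro m hm j hj
        rw [hLF, List.mem_toFinset, List.mem_map] at hm ⊢
        obtain ⟨m', hm', rfl⟩ := hm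
        refine ⟨actL T j m', (h3' m' hm').2 j ((hJ j).1 hj), ?_⟩
        exact toF_actL T h s hs j m')
      (by
        intro m hm
        rw [hLF, List.mem_toFinset, List.mem_map] at hm
        obtain ⟨m', hm', rfl⟩ := hm
        exact hreach m' hm')
    rw [key]
    congr 1
    rw [hLF, List.sum_toFinset _ hnd, List.map_map, ← h5', List.map_map]
    congr 1
    apply List.map_congr_left
    intro m _
    exact Qw_eq h s hs q cl m

end

end Cfsg.Agent.ChevalleyStructure.WeylOrbit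
end

-- part: ChevalleyStructure/TwistedWeylSums
section
/-!
Poincaré sums of the relative Weyl groups of `³D₄` and `²E₆`.
-/

set_option autoImplicit false

namespace Cfsg.Agent.ChevalleyStructure.TwistedWeylSums

open Cfsg Cfsg.Lie Cfsg.Agent.ChevalleyStructure.WeylAbstract
  Cfsg.Agent.ChevalleyStructure.WeylPacked Cfsg.Agent.ChevalleyStructure.WeylOrbit
  Cfsg.Agent.ChevalleyStructure.WeylRelative Cfsg.Agent.ChevalleyStructure.WeylData

/-- Permutation of `Fin n` from an involutive table. -/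
def permOf (n : ℕ) (f : ℕ → ℕ) (h : ∀ r < n, f r < n ∧ f (f r) = r) : Equiv.Perm (Fin n) where
  toFun r := ⟨f r, (h r r.2).1⟩
  invFun r := ⟨f r, (h r r.2).1⟩
  left_inv r := Fin.ext (h r r.2).2
  right_inv r := Fin.ext (h r r.2).2

/-- involution check -/
def involOK (T : Tab) : Bool := (List.range T.l).all fun i => (List.range T.n).all fun r =>
  Nat.blt (T.P i r) T.n && Nat.beq (T.P i (T.P i r)) r

theorem involOK_spec {T : Tab} (h : involOK T = true) (i : Fin T.l) :
    ∀ r < T.n, T.P i r < T.n ∧ T.P i (T.P i r) = r := by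
  unfold involOK at h
  simp only [List.all_eq_true, List.mem_range, Bool.and_eq_true] at h
  intro r hr
  have h1 := h i i.2 r hr
  refine ⟨?_, Nat.eq_of_beq_eq_true h1.2⟩
  have := h1.1
  unfold Nat.blt at this
  exact Nat.le_of_ble_eq_true this

/-- The reflections of a table as permutations. -/
def perms (T : Tab) (h : involOK T = true) (i : Fin T.l) : Equiv.Perm (Fin T.n) :=
  permOf T.n (T.P i) (involOK_spec h i)

theorem perms_apply (T : Tab) (h : involOK T = true) (i : Fin T.l) (r : Fin T.n) :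
    ((perms T h i r : Fin T.n) : ℕ) = T.P i r := rfl

theorem invol_F4 : involOK TF4 = true := by decide +kernel
theorem invol_G2 : involOK TG2 = true := by decide +kernel

/-- The relative root data. -/
def RF4 : RData (Fin 4) (Fin 48) := TF4.toRData specF4 (perms TF4 invol_F4) (perms_apply TF4 invol_F4)

/-- The relative root data. -/
def RG2 : RData (Fin 2) (Fin 12) := TG2.toRData specG2 (perms TG2 invol_G2) (perms_apply TG2 invol_G2)

/-- class sizes for `²E₆` -/
def clF4 (a : ℕ) : ℕ := [2, 2, 2, 1, 2, 2, 2, 1, 1, 1, 1, 1, 1, 1, 1, 2, 2, 2, 1, 1, 1, 2, 2, 2, 2, 2, 2, 1, 1, 1, 2, 2, 2, 1, 1, 1, 1, 1, 1, 1, 1, 2, 2, 2, 1, 2, 2, 2].getD a 0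

/-- class sizes for `³D₄` -/
def clG2 (a : ℕ) : ℕ := [1, 1, 3, 3, 3, 1, 1, 3, 3, 3, 1, 1].getD a 0

/-- check that the weights are invariant -/
def clOK (T : Tab) (cl : ℕ → ℕ) : Bool :=
  ((List.range T.l).all fun i => (List.range T.n).all fun r => Nat.beq (cl (T.P i r)) (cl r)) &&
  ((List.range T.n).all fun r => Nat.beq (cl (T.n - 1 - r)) (cl r))

theorem clOK_spec {T : Tab} {cl : ℕ → ℕ} (h : clOK T cl = true) :
    (∀ i < T.l, ∀ r < T.n, cl (T.P i r) = cl r) ∧ ∀ r < T.n, cl (T.n - 1 - r) = cl r := by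
  unfold clOK at h
  simp only [List.all_eq_true, List.mem_range, Bool.and_eq_true] at h
  exact ⟨fun i hi r hr => Nat.eq_of_beq_eq_true (h.1 i hi r hr),
    fun r hr => Nat.eq_of_beq_eq_true (h.2 r hr)⟩

theorem clOK_F4 : clOK TF4 clF4 = true := by decide +kernel
theorem clOK_G2 : clOK TG2 clG2 = true := by decide +kernel

theorem ok1 : orbitOK TF4 clF4 [0, 1, 2, 3] 0
    [[1, 0, 0, 0], [-1, 1, 0, 0], [0, -1, 1, 0], [0, 1, -1, 1], [1, -1, 0, 1], [0, 1, 0, -1], [-1, 0, 0, 1], [1, -1, 1, -1], [-1, 0, 1, -1], [1, 1, -1, 0], [-1, 2, -1, 0], [2, -1, 0, 0], [1, -2, 1, 0], [-2, 1, 0, 0], [-1, -1, 1, 0], [1, 0, -1, 1], [-1, 1, -1, 1], [1, 0, 0, -1], [0, -1, 0, 1], [-1, 1, 0, -1], [0, -1, 1, -1], [0, 1, -1, 0], [1, -1, 0, 0], [-1, 0, 0, 0]]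
    [0, 1, 2, 4, 5, 6, 6, 7, 8, 9, 10, 10, 11, 11, 12, 13, 14, 15, 15, 16, 17, 19, 20, 21] = true := by
  decide +kernel

theorem ok2 : orbitOK TF4 clF4 [1, 2, 3] 3
    [[0, 0, 0, 1], [0, 0, 1, -1], [0, 2, -1, 0], [2, -2, 1, 0], [2, 0, -1, 1], [2, 0, 0, -1]]
    [0, 2, 4, 5, 7, 9] = true := by decide +kernel

theorem ok3 : orbitOK TF4 clF4 [1, 2] 1
    [[0, 1, 0, 0], [1, -1, 1, 0], [1, 1, -1, 1], [2, -1, 0, 1]] [0, 1, 3, 4] = true := by
  decide +kernel

theorem ok4 : orbitOK TF4 clF4 [2] 2 [[0, 0, 1, 0], [0, 2, -1, 1]] [0, 2] = true := by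
  decide +kernel

theorem ok5 : orbitOK TG2 clG2 [0, 1] 0
    [[1, 0], [-1, 1], [2, -1], [-2, 1], [1, -1], [-1, 0]] [0, 3, 4, 7, 8, 11] = true := by
  decide +kernel

theorem ok6 : orbitOK TG2 clG2 [1] 1 [[0, 1], [3, -1]] [0, 1] = true := by
  decide +kernel

theorem sum_F4 (q : ℕ) :
    ∑ᶠ w ∈ (RF4.W Set.univ : Set (Equiv.Perm (Fin 48))), RF4.Q (fun r : Fin 48 => q ^ clF4 r) w =
      (1 + q + q^2 + q^4 + q^5 + 2 * q^6 + q^7 + q^8 + q^9 + 2 * q^10 + 2 * q^11 + q^12 + q^13
        + q^14 + 2 * q^15 + q^16 + q^17 + q^19 + q^20 + q^21) *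
      (1 + q^2 + q^4 + q^5 + q^7 + q^9) * (1 + q + q^3 + q^4) * (1 + q^2) := by
  have h1 : ∀ (i : Fin 4) (r : Fin 48), clF4 ((perms TF4 invol_F4 i r : Fin 48) : ℕ) = clF4 r :=
    fun i r => (clOK_spec clOK_F4).1 i i.2 r r.2
  have h2 := (clOK_spec clOK_F4).2
  have s1 := step specF4 (perms TF4 invol_F4) (perms_apply TF4 invol_F4) q clF4 h1 h2
    (Js := Set.univ) (by decide) (0 : Fin 4) ok1
  have s2 := step specF4 (perms TF4 invol_F4) (perms_apply TF4 invol_F4) q clF4 h1 h2
    (Js := Set.univ \ {(0 : Fin 4)}) (J := [1, 2, 3])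
    (by show ∀ j : Fin 4, (True ∧ ¬ j = 0) ↔ j.val ∈ [1, 2, 3]; decide) (3 : Fin 4) ok2
  have s3 := step specF4 (perms TF4 invol_F4) (perms_apply TF4 invol_F4) q clF4 h1 h2
    (Js := (Set.univ \ {(0 : Fin 4)}) \ {(3 : Fin 4)}) (J := [1, 2])
    (by show ∀ j : Fin 4, ((True ∧ ¬ j = 0) ∧ ¬ j = 3) ↔ j.val ∈ [1, 2]; decide) (1 : Fin 4) ok3
  have s4 := step specF4 (perms TF4 invol_F4) (perms_apply TF4 invol_F4) q clF4 h1 h2
    (Js := ((Set.univ \ {(0 : Fin 4)}) \ {(3 : Fin 4)}) \ {(1 : Fin 4)}) (J := [2])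
    (by show ∀ j : Fin 4, (((True ∧ ¬ j = 0) ∧ ¬ j = 3) ∧ ¬ j = 1) ↔ j.val ∈ [2]; decide) (2 : Fin 4) ok4
  have hempty : (((Set.univ \ {(0 : Fin 4)}) \ {(3 : Fin 4)}) \ {(1 : Fin 4)}) \ {(2 : Fin 4)} =
      (∅ : Set (Fin 4)) := by
    ext j; fin_cases j <;> simp
  have s5 := RF4.sum_W_empty (S := ℕ) (fun r : Fin 48 => q ^ clF4 r)
  change ∑ᶠ w ∈ (RF4.W Set.univ : Set (Equiv.Perm (Fin 48))),
    RF4.Q (fun r : Fin 48 => q ^ clF4 r) w = _ at s1
  change _ = _ * ∑ᶠ w ∈ (RF4.W ((((Set.univ \ {(0 : Fin 4)}) \ {(3 : Fin 4)}) \ {(1 : Fin 4)}) \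
    {(2 : Fin 4)}) : Set (Equiv.Perm (Fin 48))), RF4.Q (fun r : Fin 48 => q ^ clF4 r) w at s4
  rw [hempty, s5] at s4
  rw [s1]
  erw [s2, s3, s4]
  simp only [List.map_cons, List.map_nil, List.sum_cons, List.sum_nil]
  ring

theorem sum_G2 (q : ℕ) :
    ∑ᶠ w ∈ (RG2.W Set.univ : Set (Equiv.Perm (Fin 12))), RG2.Q (fun r : Fin 12 => q ^ clG2 r) w =
      (1 + q^3 + q^4 + q^7 + q^8 + q^11) * (1 + q) := by
  have h1 : ∀ (i : Fin 2) (r : Fin 12), clG2 ((perms TG2 invol_G2 i r : Fin 12) : ℕ) = clG2 r :=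
    fun i r => (clOK_spec clOK_G2).1 i i.2 r r.2
  have h2 := (clOK_spec clOK_G2).2
  have s1 := step specG2 (perms TG2 invol_G2) (perms_apply TG2 invol_G2) q clG2 h1 h2
    (Js := Set.univ) (by decide) (0 : Fin 2) ok5
  have s2 := step specG2 (perms TG2 invol_G2) (perms_apply TG2 invol_G2) q clG2 h1 h2
    (Js := Set.univ \ {(0 : Fin 2)}) (J := [1])
    (by show ∀ j : Fin 2, (True ∧ ¬ j = 0) ↔ j.val ∈ [1]; decide) (1 : Fin 2) ok6
  have hempty : (Set.univ \ {(0 : Fin 2)}) \ {(1 : Fin 2)} = (∅ : Set (Fin 2)) := by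
    ext j; fin_cases j <;> simp
  have s5 := RG2.sum_W_empty (S := ℕ) (fun r : Fin 12 => q ^ clG2 r)
  change ∑ᶠ w ∈ (RG2.W Set.univ : Set (Equiv.Perm (Fin 12))),
    RG2.Q (fun r : Fin 12 => q ^ clG2 r) w = _ at s1
  change _ = _ * ∑ᶠ w ∈ (RG2.W ((Set.univ \ {(0 : Fin 2)}) \
    {(1 : Fin 2)}) : Set (Equiv.Perm (Fin 12))), RG2.Q (fun r : Fin 12 => q ^ clG2 r) w at s2
  rw [hempty, s5] at s2
  rw [s1]
  erw [s2]
  simp only [List.map_cons, List.map_nil, List.sum_cons, List.sum_nil]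
  ring

/-! ### The class maps -/

theorem cls_E6_lt : ((List.range 72).all fun r => Nat.blt (byte clsE6 r) 48) = true := by
  decide +kernel

theorem cls_D4_lt : ((List.range 24).all fun r => Nat.blt (byte clsD4 r) 12) = true := by
  decide +kernel

theorem lt_of_all {n m : ℕ} {f : ℕ → ℕ} (h : ((List.range n).all fun r => Nat.blt (f r) m) = true)
    (r : Fin n) : f r < m := by
  have := List.all_eq_true.1 h r (List.mem_range.2 r.2)
  unfold Nat.blt at this
  exact Nat.le_of_ble_eq_true this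

/-- class map for `²E₆` -/
def cE6 (r : Fin 72) : Fin 48 := ⟨byte clsE6 r, lt_of_all cls_E6_lt r⟩

/-- class map for `³D₄` -/
def cD4 (r : Fin 24) : Fin 12 := ⟨byte clsD4 r, lt_of_all cls_D4_lt r⟩

theorem cE6_surj : Function.Surjective cE6 := by
  have : ∀ a : Fin 48, ∃ r : Fin 72, cE6 r = a := by decide +kernel
  exact this

theorem cD4_surj : Function.Surjective cD4 := by
  have : ∀ a : Fin 12, ∃ r : Fin 24, cD4 r = a := by decide +kernel
  exact this

theorem cE6_pos : ∀ r : Fin 72, 48 / 2 ≤ (cE6 r).val ↔ 72 / 2 ≤ r.val := by decide +kernel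

theorem cD4_pos : ∀ r : Fin 24, 12 / 2 ≤ (cD4 r).val ↔ 24 / 2 ≤ r.val := by decide +kernel

theorem cE6_t0 : ∀ r : Fin 72, byte clsE6 (TE6.P 1 r) = TF4.P 0 (byte clsE6 r) := by decide +kernel
theorem cE6_t1 : ∀ r : Fin 72, byte clsE6 (TE6.P 3 r) = TF4.P 1 (byte clsE6 r) := by decide +kernel
theorem cE6_t2 : ∀ r : Fin 72, byte clsE6 (TE6.P 2 (TE6.P 4 r)) = TF4.P 2 (byte clsE6 r) := by
  decide +kernel
theorem cE6_t3 : ∀ r : Fin 72, byte clsE6 (TE6.P 0 (TE6.P 5 r)) = TF4.P 3 (byte clsE6 r) := by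
  decide +kernel
theorem cD4_t0 : ∀ r : Fin 24, byte clsD4 (TD4.P 0 (TD4.P 2 (TD4.P 3 r))) =
    TG2.P 0 (byte clsD4 r) := by decide +kernel
theorem cD4_t1 : ∀ r : Fin 24, byte clsD4 (TD4.P 1 r) = TG2.P 1 (byte clsD4 r) := by
  decide +kernel

/-- The relative datum of `²E₆`. -/
def relE6 (s : Fin 6 → Equiv.Perm (Fin 72)) (hs : ∀ i r, ((s i r : Fin 72) : ℕ) = TE6.P i r) :
    Rel (TE6.toRData specE6 s hs) RF4 where
  c := cE6
  c_surj := cE6_surj
  pos_iff := cE6_pos
  t := ![s 1, s 3, s 2 * s 4, s 0 * s 5]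
  t_mem := by
    have h : ∀ i : Fin 6, s i ∈ (TE6.toRData specE6 s hs).W Set.univ := fun i =>
      (TE6.toRData specE6 s hs).refl_mem_W (Set.mem_univ i)
    intro i
    fin_cases i
    · exact h 1
    · exact h 3
    · exact Subgroup.mul_mem _ (h 2) (h 4)
    · exact Subgroup.mul_mem _ (h 0) (h 5)
  c_t := by
    intro i r
    apply Fin.ext
    fin_cases i
    · show byte clsE6 ((s 1 r : Fin 72) : ℕ) = TF4.P 0 (byte clsE6 r)
      exact (congrArg (byte clsE6) (hs 1 r)).trans (cE6_t0 r)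
    · show byte clsE6 ((s 3 r : Fin 72) : ℕ) = TF4.P 1 (byte clsE6 r)
      exact (congrArg (byte clsE6) (hs 3 r)).trans (cE6_t1 r)
    · show byte clsE6 ((s 2 (s 4 r) : Fin 72) : ℕ) = TF4.P 2 (byte clsE6 r)
      exact (congrArg (byte clsE6) ((hs 2 (s 4 r)).trans (congrArg (TE6.P 2) (hs 4 r)))).trans
        (cE6_t2 r)
    · show byte clsE6 ((s 0 (s 5 r) : Fin 72) : ℕ) = TF4.P 3 (byte clsE6 r)
      exact (congrArg (byte clsE6) ((hs 0 (s 5 r)).trans (congrArg (TE6.P 0) (hs 5 r)))).trans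
        (cE6_t3 r)

/-- The relative datum of `³D₄`. -/
def relD4 (s : Fin 4 → Equiv.Perm (Fin 24)) (hs : ∀ i r, ((s i r : Fin 24) : ℕ) = TD4.P i r) :
    Rel (TD4.toRData specD4 s hs) RG2 where
  c := cD4
  c_surj := cD4_surj
  pos_iff := cD4_pos
  t := ![s 0 * s 2 * s 3, s 1]
  t_mem := by
    have h : ∀ i : Fin 4, s i ∈ (TD4.toRData specD4 s hs).W Set.univ := fun i =>
      (TD4.toRData specD4 s hs).refl_mem_W (Set.mem_univ i)
    intro i
    fin_cases i
    · exact Subgroup.mul_mem _ (Subgroup.mul_mem _ (h 0) (h 2)) (h 3)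
    · exact h 1
  c_t := by
    intro i r
    apply Fin.ext
    fin_cases i
    · show byte clsD4 ((s 0 (s 2 (s 3 r)) : Fin 24) : ℕ) = TG2.P 0 (byte clsD4 r)
      exact (congrArg (byte clsD4) ((hs 0 (s 2 (s 3 r))).trans (congrArg (TD4.P 0)
        ((hs 2 (s 3 r)).trans (congrArg (TD4.P 2) (hs 3 r)))))).trans (cD4_t0 r)
    · show byte clsD4 ((s 1 r : Fin 24) : ℕ) = TG2.P 1 (byte clsD4 r)
      exact (congrArg (byte clsD4) (hs 1 r)).trans (cD4_t1 r)

theorem card_cls_E6 : ∀ a : Fin 48, (Finset.univ.filter fun r : Fin 72 => cE6 r = a).card =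
    clF4 a := by decide +kernel

theorem card_cls_D4 : ∀ a : Fin 12, (Finset.univ.filter fun r : Fin 24 => cD4 r = a).card =
    clG2 a := by decide +kernel

theorem wts_E6 (s : Fin 6 → Equiv.Perm (Fin 72)) (hs : ∀ i r, ((s i r : Fin 72) : ℕ) = TE6.P i r)
    (q : ℕ) : (relE6 s hs).wts (fun _ => q) = fun a : Fin 48 => q ^ clF4 a := by
  classical
  funext a
  unfold Rel.wts
  have h := card_cls_E6 a
  rw [Finset.prod_const]
  congr 1
  show Finset.card (@Finset.filter (Fin 72) (fun r => cE6 r = a)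
    (fun r => Classical.propDecidable _) Finset.univ) = clF4 a
  rw [← h]
  congr 1
  exact Finset.filter_congr_decidable _ _ _

theorem wts_D4 (s : Fin 4 → Equiv.Perm (Fin 24)) (hs : ∀ i r, ((s i r : Fin 24) : ℕ) = TD4.P i r)
    (q : ℕ) : (relD4 s hs).wts (fun _ => q) = fun a : Fin 12 => q ^ clG2 a := by
  classical
  funext a
  unfold Rel.wts
  have h := card_cls_D4 a
  rw [Finset.prod_const]
  congr 1
  show Finset.card (@Finset.filter (Fin 24) (fun r => cD4 r = a)
    (fun r => Classical.propDecidable _) Finset.univ) = clG2 a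
  rw [← h]
  congr 1
  exact Finset.filter_congr_decidable _ _ _

theorem sum_E6 (s : Fin 6 → Equiv.Perm (Fin 72)) (hs : ∀ i r, ((s i r : Fin 72) : ℕ) = TE6.P i r)
    (q : ℕ) : ∑ᶠ w ∈ (Subgroup.closure {s 1, s 3, s 2 * s 4, s 0 * s 5} :
        Set (Equiv.Perm (Fin 72))), (TE6.toRData specE6 s hs).Q (fun _ => q) w =
      (1 + q + q^2 + q^4 + q^5 + 2 * q^6 + q^7 + q^8 + q^9 + 2 * q^10 + 2 * q^11 + q^12 + q^13
        + q^14 + 2 * q^15 + q^16 + q^17 + q^19 + q^20 + q^21) *
      (1 + q^2 + q^4 + q^5 + q^7 + q^9) * (1 + q + q^3 + q^4) * (1 + q^2) := by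
  have h1 := (relE6 s hs).sum_W1 (S := ℕ) (fun _ => q)
  rw [wts_E6, sum_F4] at h1
  rw [← h1]
  have h3 : Set.range (relE6 s hs).t = ({s 1, s 3, s 2 * s 4, s 0 * s 5} :
      Set (Equiv.Perm (Fin 72))) := by
    show Set.range (![s 1, s 3, s 2 * s 4, s 0 * s 5] : Fin 4 → Equiv.Perm (Fin 72)) = _
    ext x
    simp only [Set.mem_range, Fin.exists_fin_succ, Set.mem_insert_iff, Set.mem_singleton_iff]
    simp [eq_comm]
  unfold Rel.W1
  rw [h3]
  rfl

theorem sum_D4 (s : Fin 4 → Equiv.Perm (Fin 24)) (hs : ∀ i r, ((s i r : Fin 24) : ℕ) = TD4.P i r)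
    (q : ℕ) : ∑ᶠ w ∈ (Subgroup.closure {s 1, s 0 * s 2 * s 3} :
        Set (Equiv.Perm (Fin 24))), (TD4.toRData specD4 s hs).Q (fun _ => q) w =
      (1 + q^3 + q^4 + q^7 + q^8 + q^11) * (1 + q) := by
  have h1 := (relD4 s hs).sum_W1 (S := ℕ) (fun _ => q)
  rw [wts_D4, sum_G2] at h1
  rw [← h1]
  have h3 : Set.range (relD4 s hs).t = ({s 1, s 0 * s 2 * s 3} :
      Set (Equiv.Perm (Fin 24))) := by
    show Set.range (![s 0 * s 2 * s 3, s 1] : Fin 2 → Equiv.Perm (Fin 24)) = _
    ext x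
    simp only [Set.mem_range, Fin.exists_fin_succ, Set.mem_insert_iff, Set.mem_singleton_iff]
    simp [eq_comm, or_comm]
  unfold Rel.W1
  rw [h3]
  rfl

open Classical in
theorem finsum_subgroup {G : Type*} [Group G] [Fintype G] (K : Subgroup G) (f g : G → ℕ)
    (h : ∀ w, f w = g w) :
    ∑ w ∈ Finset.univ.filter (fun w => w ∈ K), g w = ∑ᶠ w ∈ (K : Set G), f w := by
  have h2 : (K : Set G) = ((Finset.univ.filter (fun w => w ∈ K) : Finset G) : Set G) := by
    ext w
    rw [Finset.mem_coe, Finset.mem_filter]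
    exact (and_iff_right (Finset.mem_univ w)).symm
  rw [h2, finsum_mem_coe_finset]
  exact Finset.sum_congr rfl fun w _ => (h w).symm

theorem Q_eq_wt {n l : ℕ} (R : RData (Fin l) (Fin n)) (pos : Fin n → Prop)
    (h : ∀ r, pos r ↔ R.pos r) (q : ℕ) (w : Equiv.Perm (Fin n)) :
    R.Q (fun _ => q) w = BNOrder.wt pos (fun _ => q) w := by
  classical
  rw [BNOrder.wt_def]
  unfold RData.Q
  apply Finset.prod_congr _ fun _ _ => rfl
  apply Finset.filter_congr
  intro r _
  rw [h, h]

open Classical in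
theorem sum_twistedE6_aux (q : ℕ) (s : ℕ → Equiv.Perm (Fin 72))
    (hs : ∀ i < 6, ∀ r, ((s i r : Fin 72) : ℕ) = chevE6.reflectRoot i r) :
    ∑ w ∈ Finset.univ.filter
        (fun w => w ∈ Subgroup.closure {s 1, s 3, s 2 * s 4, s 0 * s 5}),
      BNOrder.wt (fun r : Fin 72 => chevE6.IsPosRoot r) (fun _ => q) w =
      (1 + q + q^2 + q^4 + q^5 + 2 * q^6 + q^7 + q^8 + q^9 + 2 * q^10 + 2 * q^11 + q^12 + q^13
        + q^14 + 2 * q^15 + q^16 + q^17 + q^19 + q^20 + q^21) *
      (1 + q^2 + q^4 + q^5 + q^7 + q^9) * (1 + q + q^3 + q^4) * (1 + q^2) := by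
  have hs2 : ∀ (i : Fin 6) (r : Fin 72), ((s i r : Fin 72) : ℕ) = TE6.P i r := fun i r =>
    (hs i i.2 r).trans (reflectRoot_E6 i.2 r.2)
  exact (finsum_subgroup _ ((TE6.toRData specE6 (fun i : Fin 6 => s i) hs2).Q (fun _ => q)) _
    (Q_eq_wt (TE6.toRData specE6 (fun i : Fin 6 => s i) hs2) _
      (fun r => isPosRoot_E6 r.2) q)).trans (sum_E6 (fun i : Fin 6 => s i) hs2 q)

open Classical in
theorem sum_twistedD4_aux (q : ℕ) (s : ℕ → Equiv.Perm (Fin 24))
    (hs : ∀ i < 4, ∀ r, ((s i r : Fin 24) : ℕ) = chevD4.reflectRoot i r) :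
    ∑ w ∈ Finset.univ.filter (fun w => w ∈ Subgroup.closure {s 1, s 0 * s 2 * s 3}),
      BNOrder.wt (fun r : Fin 24 => chevD4.IsPosRoot r) (fun _ => q) w =
      (1 + q^3 + q^4 + q^7 + q^8 + q^11) * (1 + q) := by
  have hs2 : ∀ (i : Fin 4) (r : Fin 24), ((s i r : Fin 24) : ℕ) = TD4.P i r := fun i r =>
    (hs i i.2 r).trans (reflectRoot_D4 i.2 r.2)
  exact (finsum_subgroup _ ((TD4.toRData specD4 (fun i : Fin 4 => s i) hs2).Q (fun _ => q)) _
    (Q_eq_wt (TD4.toRData specD4 (fun i : Fin 4 => s i) hs2) _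
      (fun r => isPosRoot_D4 r.2) q)).trans (sum_D4 (fun i : Fin 4 => s i) hs2 q)

open Classical in
/-- The Poincaré sum of the relative Weyl group of `³D₄`. -/
theorem sum_twistedD4 (q : ℕ) (s : ℕ → Equiv.Perm (Fin chevD4.nroots))
    (hs : ∀ i < 4, ∀ r, ((s i r : Fin chevD4.nroots) : ℕ) = chevD4.reflectRoot i r) :
    ∑ w ∈ Finset.univ.filter (fun w => w ∈ Subgroup.closure {s 1, s 0 * s 2 * s 3}),
      BNOrder.wt (fun r : Fin chevD4.nroots => chevD4.IsPosRoot r) (fun _ => q) w =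
      (1 + q) * (1 + q ^ 3) * (1 + q ^ 4 + q ^ 8) := by
  rw [show (1 + q) * (1 + q ^ 3) * (1 + q ^ 4 + q ^ 8) =
    (1 + q^3 + q^4 + q^7 + q^8 + q^11) * (1 + q) by ring]
  exact sum_twistedD4_aux q s hs

open Classical in
/-- The Poincaré sum of the relative Weyl group of `²E₆`. -/
theorem sum_twistedE6 (q : ℕ) (s : ℕ → Equiv.Perm (Fin chevE6.nroots))
    (hs : ∀ i < 6, ∀ r, ((s i r : Fin chevE6.nroots) : ℕ) = chevE6.reflectRoot i r) :
    (∑ w ∈ Finset.univ.filter
        (fun w => w ∈ Subgroup.closure {s 1, s 3, s 2 * s 4, s 0 * s 5}),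
      BNOrder.wt (fun r : Fin chevE6.nroots => chevE6.IsPosRoot r) (fun _ => q) w) *
        ((q - 1) ^ 4 * (q + 1) ^ 2) =
      (q ^ 2 - 1) * (q ^ 5 + 1) * (q ^ 6 - 1) * (q ^ 8 - 1) * (q ^ 9 + 1) * (q ^ 12 - 1) := by
  have h := sum_twistedE6_aux q s hs
  have h' : (∑ w ∈ Finset.univ.filter
        (fun w => w ∈ Subgroup.closure {s 1, s 3, s 2 * s 4, s 0 * s 5}),
      BNOrder.wt (fun r : Fin chevE6.nroots => chevE6.IsPosRoot r) (fun _ => q) w) = _ := h
  rw [h']
  rcases Nat.eq_zero_or_pos q with rfl | hq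
  · norm_num
  · obtain ⟨k, rfl⟩ : ∃ k, q = k + 1 := ⟨q - 1, by omega⟩
    have e : ∀ n : ℕ, (k + 1) ^ n - 1 = k * ∑ i ∈ Finset.range n, (k + 1) ^ i := by
      intro n
      have h1 := mul_geom_sum ((k : ℤ) + 1) n
      apply Nat.sub_eq_of_eq_add
      zify
      have h2 : (k : ℤ) * ∑ i ∈ Finset.range n, ((k : ℤ) + 1) ^ i = ((k : ℤ) + 1) ^ n - 1 := by
        rw [← h1]; ring
      rw [h2]; ring
    rw [e 2, e 6, e 8, e 12, Nat.add_sub_cancel]
    simp only [Finset.sum_range_succ, Finset.sum_range_zero]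
    ring

end Cfsg.Agent.ChevalleyStructure.TwistedWeylSums
end
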