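/-
Sparse-vector engine for words in root elements of a Chevalley datum (generic `D`, kernel-checkable).

Basis vectors of the coordinate module are coded by natural numbers: code `k < rank` is `h_k`, code `rank + s` is `e_s`.
A sparse vector is a list of terms `(k, c, i, j)` standing for `c t^i s^j` times the basis vector with code `k`;
`t`, `s` are two parameters (say `s = t^q`, or `s = t⁻¹` with the flag `inv` set).
-/
import Cfsg.Prelude.Def_ChevWords
set_option linter.all false
set_option autoImplicit false

namespace Cfsg.Agent.ChevalleyStructure.SparseEng

open Cfsg.Lie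

variable (D : ChevalleyDatum)

/-- The basis vector with code `k`. -/
def bvec (F : Type*) [Field F] (k : ℕ) : D.Idx → F
  | Sum.inl i => if i.val = k then 1 else 0
  | Sum.inr s => if D.rank + s.val = k then 1 else 0

/-- Image of the basis vector with code `k` under `x_r(t)`: list of (code, integer coefficient, exponent of `t`). -/
def act (r k : ℕ) : List (ℕ × ℤ × ℕ) :=
  if r < D.nroots then
    if k < D.rank then [(k, 1, 0), (D.rank + r, -((D.cartanSR.getD k #[]).getD r 0), 1)]
    else if k < D.rank + D.nroots then
      if k - D.rank = r then [(k, 1, 0)]
      else if k - D.rank = D.negIdx.getD r 0 then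
        (k, 1, 0) :: (D.rank + r, -1, 2) ::
          (List.range D.rank).map (fun i => (i, (D.coroot.getD r #[]).getD i 0, 1))
      else (k, 1, 0) :: (((D.chain.getD r #[]).toList.filter (fun e => e.1 = k - D.rank)).flatMap
        fun e => (e.2.toList.zipIdx).map fun q => (D.rank + q.1.1, q.1.2, q.2 + 1))
    else []
  else [(k, 1, 0)]

variable {D}
variable {F : Type*} [Field F]

theorem mulVec_bvec_inl (A : Matrix D.Idx D.Idx F) (k : ℕ) (hk : k < D.rank) :
    A.mulVec (bvec D F k) = fun row => A row (Sum.inl ⟨k, hk⟩) := by
  have : bvec D F k = Pi.single (Sum.inl ⟨k, hk⟩) 1 := by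
    ext row
    rcases row with i | s
    · simp only [bvec, Pi.single_apply, Sum.inl.injEq, Fin.ext_iff]
    · have h1 : D.rank + s.val ≠ k := by omega
      simp [bvec, h1]
  rw [this, Matrix.mulVec_single_one]
  rfl

theorem mulVec_bvec_inr (A : Matrix D.Idx D.Idx F) (k : ℕ) (hk : D.rank ≤ k) (hk' : k < D.rank + D.nroots) :
    A.mulVec (bvec D F k) = fun row => A row (Sum.inr ⟨k - D.rank, by omega⟩) := by
  have : bvec D F k = Pi.single (Sum.inr ⟨k - D.rank, by omega⟩) 1 := by
    ext row
    rcases row with i | s
    · have h1 : i.val ≠ k := by have := i.2; omega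
      simp [bvec, h1]
    · have h1 : D.rank + s.val = k ↔ s.val = k - D.rank := by omega
      simp only [bvec, Pi.single_apply, Sum.inr.injEq, Fin.ext_iff, h1]
  rw [this, Matrix.mulVec_single_one]
  rfl

theorem bvec_out (k : ℕ) (hk : D.rank + D.nroots ≤ k) : bvec D F k = 0 := by
  ext row
  rcases row with i | s
  · have h1 : i.val ≠ k := by have := i.2; omega
    simp [bvec, h1]
  · have h1 : D.rank + s.val ≠ k := by have := s.2; omega
    simp [bvec, h1]

/-- Value of a list `(code, coefficient, exponent)`. -/
def evalAct (t : F) (l : List (ℕ × ℤ × ℕ)) : D.Idx → F :=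
  (l.map fun a => (((a.2.1 : ℤ) : F) * t ^ a.2.2) • bvec D F a.1).sum

theorem sum_apply_list {α ι : Type*} (l : List α) (f : α → ι → F) (row : ι) :
    (l.map f).sum row = (l.map fun a => f a row).sum := by
  induction l with
  | nil => simp
  | cons a l ih => simp [ih]

theorem list_sum_map_ite {α : Type*} (l : List α) (p : α → Prop) [DecidablePred p] (f : α → F) :
    (l.map fun a => if p a then f a else 0).sum = ((l.filter fun a => p a).map f).sum := by
  induction l with
  | nil => simp
  | cons a l ih =>
    by_cases h : p a
    · simp [h, ih]
    · simp [h, ih]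

theorem xMat_mulVec (r k : ℕ) (t : F) :
    (D.x F r t).mulVec (bvec D F k) = evalAct t (act D r k) := by
  unfold ChevalleyDatum.x act
  by_cases hr : r < D.nroots
  · rw [dif_pos hr, if_pos hr]
    by_cases hk : k < D.rank
    · rw [if_pos hk, mulVec_bvec_inl _ k hk]
      ext row
      rcases row with i | s
      · have h1 : D.rank + r ≠ i.val := by have := i.2; omega
        by_cases h2 : i.val = k
        · have h3 : i = ⟨k, hk⟩ := Fin.ext h2
          simp [ChevalleyDatum.xMat, evalAct, bvec, h1.symm, h2, h3]
          omega
        · have h3 : i ≠ ⟨k, hk⟩ := fun h => h2 (by rw [h])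
          simp [ChevalleyDatum.xMat, evalAct, bvec, h1.symm, h2, h3]
      · have h1 : D.rank + s.val ≠ k := by omega
        by_cases h2 : s.val = r
        · have h3 : s = ⟨r, hr⟩ := Fin.ext h2
          simp [ChevalleyDatum.xMat, evalAct, bvec, h3]
          omega
        · have h3 : s ≠ ⟨r, hr⟩ := fun h => h2 (by rw [h])
          simp [ChevalleyDatum.xMat, evalAct, bvec, h1, h2, h3]
    · rw [if_neg hk]
      by_cases hk' : k < D.rank + D.nroots
      · rw [if_pos hk', mulVec_bvec_inr _ k (by omega) hk']
        have hks : k - D.rank < D.nroots := by omega
        by_cases h1 : k - D.rank = r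
        · rw [if_pos h1]
          have h2 : (⟨k - D.rank, hks⟩ : Fin D.nroots) = ⟨r, hr⟩ := Fin.ext h1
          ext row
          rcases row with i | s
          · have h3 : i.val ≠ k := by have := i.2; omega
            simp [ChevalleyDatum.xMat, evalAct, bvec, h2, h3]
          · have h3 : (D.rank + s.val = k) ↔ s = ⟨r, hr⟩ := by
              rw [Fin.ext_iff]; constructor
              · intro h; simp only; omega
              · intro h; simp only at h; omega
            simp [ChevalleyDatum.xMat, evalAct, bvec, h2, h3]
        · rw [if_neg h1]
          have h1' : (⟨k - D.rank, hks⟩ : Fin D.nroots) ≠ ⟨r, hr⟩ := fun h => h1 (by simpa using congrArg Fin.val h)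
          by_cases h2 : k - D.rank = D.negIdx.getD r 0
          · rw [if_pos h2]
            have h2n : D.negIdx.getD r 0 < D.nroots := h2 ▸ hks
            have h1'' : (⟨D.negIdx.getD r 0, h2n⟩ : Fin D.nroots) ≠ ⟨r, hr⟩ :=
              fun h => h1 (by simpa [h2] using congrArg Fin.val h)
            ext row
            rcases row with i | s
            · have h3 : i.val ≠ k := by have := i.2; omega
              have h4 : i.val ≠ D.rank + r := by have := i.2; omega
              have h5 : ∀ c : Fin D.rank → F, ((List.range D.rank).map fun (a : ℕ) => if i.val = a then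
                  (((D.coroot.getD r #[]).getD a 0 : ℤ) : F) * t else 0).sum
                  = (((D.coroot.getD r #[]).getD i.val 0 : ℤ) : F) * t := by
                intro _
                have h6 : ∀ n : ℕ, ((List.range n).map fun (a : ℕ) => if i.val = a then
                  (((D.coroot.getD r #[]).getD a 0 : ℤ) : F) * t else 0).sum
                  = if i.val < n then (((D.coroot.getD r #[]).getD i.val 0 : ℤ) : F) * t else 0 := by
                  intro n
                  induction n with
                  | zero => simp
                  | succ n ih =>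
                    rw [List.range_succ, List.map_append, List.sum_append, ih]
                    by_cases h7 : i.val = n
                    · simp [h7]
                    · by_cases h8 : i.val < n
                      · have h9 : i.val < n + 1 := by omega
                        simp [h7, h8, h9]
                      · have h9 : ¬ i.val < n + 1 := by omega
                        simp [h7, h8, h9]
                rw [h6, if_pos i.2]
              have h5' := h5 0
              simp only [ChevalleyDatum.xMat, evalAct, Matrix.of_apply, h1'', if_false, h2, if_true,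
                List.map_cons, List.sum_cons, Pi.add_apply, Pi.smul_apply, smul_eq_mul, bvec, h3, h4,
                List.map_map, mul_zero, zero_add]
              rw [sum_apply_list, ← h5']
              congr 1
              apply List.map_congr_left
              intro a ha
              simp only [Function.comp, Pi.smul_apply, smul_eq_mul, bvec, pow_one, mul_ite, mul_one, mul_zero]
            · have h3 : (D.rank + s.val = k) ↔ s = ⟨k - D.rank, hks⟩ := by
                rw [Fin.ext_iff]; constructor
                · intro h; simp only; omega
                · intro h; simp only at h; omega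
              have h4 : (D.rank + s.val = D.rank + r) ↔ s = ⟨r, hr⟩ := by
                rw [Fin.ext_iff]; simp
              have h5 : ((List.range D.rank).map fun (a : ℕ) =>
                  ((((D.coroot.getD r #[]).getD a 0 : ℤ) : F) * t ^ 1) • bvec D F a).sum (Sum.inr s) = 0 := by
                rw [sum_apply_list]
                apply List.sum_eq_zero
                intro x hx
                rw [List.mem_map] at hx
                obtain ⟨a, ha, rfl⟩ := hx
                rw [List.mem_range] at ha
                have : D.rank + s.val ≠ a := by omega
                simp [bvec, this]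
              simp only [ChevalleyDatum.xMat, evalAct, Matrix.of_apply, h1', if_false, h2, if_true,
                List.map_cons, List.sum_cons, Pi.add_apply, Pi.smul_apply, smul_eq_mul, bvec,
                List.map_map, Function.comp_def, h5, add_zero, h3, h4]
              simp only [← h2]
              by_cases h6 : s = ⟨k - D.rank, hks⟩
              · have h7 : s ≠ ⟨r, hr⟩ := fun h => h1' (h6 ▸ h)
                simp [h6, h1']
              · by_cases h7 : s = ⟨r, hr⟩
                · subst h7
                  simp only [Fin.mk.injEq, if_true, Ne.symm h1, if_false, mul_zero, mul_one, zero_add,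
                    pow_zero, Int.cast_neg, Int.cast_one, neg_mul, one_mul, h1]
                · simp [h6, h7]
          · rw [if_neg h2]
            ext row
            rcases row with i | s
            · have h3 : i.val ≠ k := by have := i.2; omega
              simp only [ChevalleyDatum.xMat, evalAct, Matrix.of_apply, h1', if_false, h2,
                List.map_cons, List.sum_cons, Pi.add_apply, Pi.smul_apply, smul_eq_mul, bvec, h3,
                mul_zero, zero_add]
              rw [sum_apply_list]
              symm
              apply List.sum_eq_zero
              intro x hx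
              rw [List.mem_map] at hx
              obtain ⟨a, ha, rfl⟩ := hx
              rw [List.mem_flatMap] at ha
              obtain ⟨e, he, ha⟩ := ha
              rw [List.mem_map] at ha
              obtain ⟨b, hb, rfl⟩ := ha
              have : i.val ≠ D.rank + b.1.1 := by have := i.2; omega
              simp [bvec, this]
            · have h3 : (D.rank + s.val = k) ↔ s = ⟨k - D.rank, hks⟩ := by
                rw [Fin.ext_iff]; constructor
                · intro h; simp only; omega
                · intro h; simp only at h; omega
              simp only [ChevalleyDatum.xMat, evalAct, Matrix.of_apply, h1', if_false, h2,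
                List.map_cons, List.sum_cons, Pi.add_apply, Pi.smul_apply, smul_eq_mul, bvec, h3]
              congr 1
              · simp
              · rw [sum_apply_list]
                unfold ChevalleyDatum.chainCoeff
                rw [List.map_flatMap, List.map_flatMap]
                rw [List.flatMap_def, List.flatMap_def, List.sum_flatten, List.sum_flatten]
                congr 1
                rw [List.map_map, List.map_map]
                apply List.map_congr_left
                intro e he
                simp only [Function.comp, List.map_map]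
                rw [← list_sum_map_ite]
                congr 1
                apply List.map_congr_left
                intro b hb
                simp only [Function.comp, Pi.smul_apply, bvec, smul_eq_mul, Nat.add_left_cancel_iff]
                by_cases h4 : b.1.1 = s.val
                · simp [h4]
                · simp [h4, Ne.symm h4]
      · rw [if_neg hk', bvec_out k (by omega)]
        simp [evalAct]
  · rw [dif_neg hr, if_neg hr]
    simp [evalAct]

/-! ### Terms with two parameters -/

/-- A term: `c t^i s^j` times the basis vector with code `k`. -/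
structure Term where
  k : ℕ
  c : ℤ
  i : ℕ
  j : ℕ

/-- A monomial parameter `c t^i s^j`. -/
structure Mon where
  c : ℤ
  i : ℕ
  j : ℕ

/-- value of a monomial -/
def Mon.ev (F : Type*) [Field F] (m : Mon) (t s : F) : F := ((m.c : ℤ) : F) * t ^ m.i * s ^ m.j

variable (D)

/-- value of a term -/
def Term.ev (F : Type*) [Field F] (a : Term) (t s : F) : D.Idx → F :=
  (((a.c : ℤ) : F) * t ^ a.i * s ^ a.j) • bvec D F a.k

/-- value of a list of terms -/
def ev (F : Type*) [Field F] (l : List Term) (t s : F) : D.Idx → F := (l.map fun a => a.ev D F t s).sum

variable {D}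

theorem ev_nil (t s : F) : ev D F [] t s = 0 := rfl

theorem ev_cons (a : Term) (l : List Term) (t s : F) : ev D F (a :: l) t s = a.ev D F t s + ev D F l t s := by
  simp [ev]

theorem ev_append (l₁ l₂ : List Term) (t s : F) :
    ev D F (l₁ ++ l₂) t s = ev D F l₁ t s + ev D F l₂ t s := by
  simp [ev]

/-- insert a term, merging like terms, dropping zero terms -/
def ins (x : Term) : List Term → List Term
  | [] => if x.c = 0 then [] else [x]
  | y :: ys =>
    if y.k = x.k ∧ y.i = x.i ∧ y.j = x.j then
      (if y.c + x.c = 0 then ys else ⟨y.k, y.c + x.c, y.i, y.j⟩ :: ys)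
    else y :: ins x ys

theorem ev_ins (x : Term) (l : List Term) (t s : F) :
    ev D F (ins x l) t s = x.ev D F t s + ev D F l t s := by
  induction l with
  | nil =>
    unfold ins
    split
    · rename_i h
      simp [ev, Term.ev, h]
    · simp [ev]
  | cons y ys ih =>
    unfold ins
    split
    · rename_i h
      obtain ⟨h1, h2, h3⟩ := h
      have key : ((((y.c + x.c : ℤ)) : F) * t ^ y.i * s ^ y.j) • bvec D F y.k
          = x.ev D F t s + y.ev D F t s := by
        unfold Term.ev
        rw [← h1, ← h2, ← h3, ← add_smul]
        push_cast
        congr 1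
        ring
      split
      · rename_i h4
        rw [h4] at key
        rw [ev_cons, ← add_assoc, ← key]
        simp
      · rw [ev_cons, ev_cons, ← add_assoc, ← key]
        rfl
    · rw [ev_cons, ih, ev_cons]
      abel

/-- normal form -/
def norm (l : List Term) : List Term := l.foldr ins []

theorem ev_norm (l : List Term) (t s : F) : ev D F (norm l) t s = ev D F l t s := by
  induction l with
  | nil => rfl
  | cons a l ih =>
    unfold norm at *
    rw [List.foldr_cons, ev_ins, ih, ev_cons]

/-- reduce exponents by `t * s = 1` if the flag is set -/
def red (inv : Bool) (a : Term) : Term :=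
  if inv then ⟨a.k, a.c, a.i - a.j, a.j - a.i⟩ else a

theorem ev_red (inv : Bool) (a : Term) (t s : F) (h : inv = true → t * s = 1) :
    (red inv a).ev D F t s = a.ev D F t s := by
  unfold red
  split
  · rename_i hi
    have hts := h hi
    unfold Term.ev
    congr 1
    rcases Nat.le_total a.i a.j with h1 | h1
    · obtain ⟨d, hd⟩ := Nat.exists_eq_add_of_le h1
      have h2 : a.i - (a.i + d) = 0 := by omega
      have h3 : t ^ a.i * s ^ (a.i + d) = s ^ d := by
        rw [pow_add, ← mul_assoc, ← mul_pow, hts, one_pow, one_mul]
      simp only [hd, Nat.add_sub_cancel_left]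
      rw [h2, pow_zero, mul_one, mul_assoc, h3]
    · obtain ⟨d, hd⟩ := Nat.exists_eq_add_of_le h1
      have h2 : a.j - (a.j + d) = 0 := by omega
      have h3 : t ^ (a.j + d) * s ^ a.j = t ^ d := by
        rw [pow_add, mul_comm (t ^ a.j), mul_assoc, ← mul_pow, hts, one_pow, mul_one]
      simp only [hd, Nat.add_sub_cancel_left]
      rw [h2, pow_zero, mul_one, mul_assoc, h3]
  · rfl

variable (D)

/-- `x_r(m)` applied to a term -/
def actTerm (inv : Bool) (r : ℕ) (m : Mon) (a : Term) : List Term :=
  (act D r a.k).map fun b => red inv ⟨b.1, a.c * b.2.1 * m.c ^ b.2.2, a.i + m.i * b.2.2, a.j + m.j * b.2.2⟩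

/-- `x_r(m)` applied to a sparse vector, normalised -/
def actX (inv : Bool) (r : ℕ) (m : Mon) (v : List Term) : List Term := norm (v.flatMap (actTerm D inv r m))

/-- a word (product of root elements, rightmost factor first) applied to a sparse vector -/
def actW (inv : Bool) (w : List (ℕ × Mon)) (v : List Term) : List Term :=
  w.foldr (fun p v => actX D inv p.1 p.2 v) v

variable {D}

theorem ev_actTerm (inv : Bool) (r : ℕ) (m : Mon) (a : Term) (t s : F) (h : inv = true → t * s = 1) :
    ev D F (actTerm D inv r m a) t s = (D.x F r (m.ev F t s)).mulVec (a.ev D F t s) := by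
  unfold actTerm Term.ev
  rw [Matrix.mulVec_smul, xMat_mulVec]
  unfold evalAct
  generalize act D r a.k = l
  induction l with
  | nil => simp [ev]
  | cons b l ih =>
    rw [List.map_cons, ev_cons, ih, List.map_cons, List.sum_cons, smul_add, ev_red _ _ _ _ h]
    congr 1
    unfold Term.ev Mon.ev
    rw [smul_smul]
    congr 1
    push_cast
    rw [pow_add, pow_add, pow_mul, pow_mul, mul_pow, mul_pow]
    ring

theorem ev_flatMap (inv : Bool) (r : ℕ) (m : Mon) (v : List Term) (t s : F) (h : inv = true → t * s = 1) :
    ev D F (v.flatMap (actTerm D inv r m)) t s = (D.x F r (m.ev F t s)).mulVec (ev D F v t s) := by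
  induction v with
  | nil => simp [ev]
  | cons a v ih =>
    rw [List.flatMap_cons, ev_append, ih, ev_actTerm _ _ _ _ _ _ h, ev_cons, Matrix.mulVec_add]

theorem ev_actX (inv : Bool) (r : ℕ) (m : Mon) (v : List Term) (t s : F) (h : inv = true → t * s = 1) :
    ev D F (actX D inv r m v) t s = (D.x F r (m.ev F t s)).mulVec (ev D F v t s) := by
  unfold actX
  rw [ev_norm, ev_flatMap _ _ _ _ _ _ h]

/-- evaluation of a word with monomial parameters -/
def evW (F : Type*) [Field F] (w : List (ℕ × Mon)) (t s : F) : List (ℕ × F) := w.map fun p => (p.1, p.2.ev F t s)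

theorem ev_actW (inv : Bool) (w : List (ℕ × Mon)) (v : List Term) (t s : F) (h : inv = true → t * s = 1) :
    ev D F (actW D inv w v) t s = (D.wordMat F (evW F w t s)).mulVec (ev D F v t s) := by
  induction w with
  | nil => simp [actW, evW, ChevalleyDatum.wordMat]
  | cons p w ih =>
    have h1 : actW D inv (p :: w) v = actX D inv p.1 p.2 (actW D inv w v) := rfl
    rw [h1, ev_actX _ _ _ _ _ _ h, ih]
    simp [evW, ChevalleyDatum.wordMat, Matrix.mulVec_mulVec]

variable (D)

/-- equality test of two words -/
def checkEq (inv : Bool) (w₁ w₂ : List (ℕ × Mon)) : Bool :=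
  (List.range (D.rank + D.nroots)).all fun k =>
    (norm (actW D inv w₁ [⟨k, 1, 0, 0⟩] ++ (actW D inv w₂ [⟨k, -1, 0, 0⟩]))).isEmpty

variable {D}

theorem ev_single (k : ℕ) (t s : F) : ev D F [⟨k, 1, 0, 0⟩] t s = bvec D F k := by
  simp [ev, Term.ev]

theorem ev_single_neg (k : ℕ) (t s : F) : ev D F [⟨k, -1, 0, 0⟩] t s = - bvec D F k := by
  simp [ev, Term.ev]

theorem ext_of_bvec (A B : Matrix D.Idx D.Idx F)
    (h : ∀ k < D.rank + D.nroots, A.mulVec (bvec D F k) = B.mulVec (bvec D F k)) : A = B := by
  ext row col
  rcases col with i | s
  · have := h i.val (by have := i.2; omega)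
    rw [mulVec_bvec_inl _ _ i.2, mulVec_bvec_inl _ _ i.2] at this
    exact congrFun this row
  · have := h (D.rank + s.val) (by have := s.2; omega)
    rw [mulVec_bvec_inr _ _ (by omega) (by have := s.2; omega),
      mulVec_bvec_inr _ _ (by omega) (by have := s.2; omega)] at this
    have h2 := congrFun this row
    simpa using h2

theorem wordMat_eq_of_checkEq (inv : Bool) (w₁ w₂ : List (ℕ × Mon)) (hc : checkEq D inv w₁ w₂ = true)
    (t s : F) (h : inv = true → t * s = 1) :
    D.wordMat F (evW F w₁ t s) = D.wordMat F (evW F w₂ t s) := by
  apply ext_of_bvec
  intro k hk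
  unfold checkEq at hc
  rw [List.all_eq_true] at hc
  have h1 := hc k (List.mem_range.2 hk)
  rw [List.isEmpty_iff] at h1
  have h2 := ev_norm (D := D) (F := F) (actW D inv w₁ [⟨k, 1, 0, 0⟩] ++ (actW D inv w₂ [⟨k, -1, 0, 0⟩])) t s
  rw [h1, ev_nil, ev_append, ev_actW _ _ _ _ _ h, ev_actW _ _ _ _ _ h, ev_single, ev_single_neg,
    Matrix.mulVec_neg, ← sub_eq_add_neg] at h2
  exact (sub_eq_zero.1 h2.symm)

end Cfsg.Agent.ChevalleyStructure.SparseEng
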