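/-
Base file for the twisted group ²E₆(q): the root elements x_{±p_i}(t) of E₆ as elements of GL, words in them,
and the generators of `twistedE6 K q`.
-/
import Cfsg.Agent.ChevalleyStructure.SparseEng
import Cfsg.Prelude.Def_LieTwisted
set_option linter.all false
set_option autoImplicit false

namespace Cfsg.Agent.ChevalleyStructure.TwE6Base

open Cfsg.Lie Cfsg.Agent.ChevalleyStructure.SparseEng
open scoped commutatorElement

/-- indices of the roots ±p_i, and ±(p₁+p₃), ±(p₅+p₆), ±(p₂+p₄) -/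
def good : List ℕ := [56, 46, 42, 39, 37, 36, 15, 25, 29, 32, 34, 35, 57, 38, 47, 14, 33, 24]

set_option maxRecDepth 100000 in
theorem check_inv : (good.all fun r => checkEq chevE6 false [(r, ⟨1, 1, 0⟩), (r, ⟨-1, 1, 0⟩)] []) = true := by
  decide +kernel

variable {K : Type*} [Field K]

theorem x_mul_x_neg {r : ℕ} (hr : r ∈ good) (t : K) : chevE6.x K r t * chevE6.x K r (-t) = 1 := by
  have h1 := List.all_eq_true.1 check_inv r hr
  have h2 := wordMat_eq_of_checkEq (F := K) false _ _ h1 t 0 (by simp)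
  simpa [evW, Mon.ev, ChevalleyDatum.wordMat] using h2

/-- `x_r(t)` as an element of `GL` (the identity if not invertible). -/
noncomputable def X (r : ℕ) (t : K) : GL chevE6.Idx K :=
  open scoped Classical in if h : IsUnit (chevE6.x K r t) then h.unit else 1

theorem coe_X {r : ℕ} (hr : r ∈ good) (t : K) : (X r t : Matrix chevE6.Idx chevE6.Idx K) = chevE6.x K r t := by
  have h : IsUnit (chevE6.x K r t) := IsUnit.of_mul_eq_one _ (x_mul_x_neg hr t)
  unfold X
  rw [dif_pos h]
  rfl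

theorem X_neg {r : ℕ} (hr : r ∈ good) (t : K) : X r (-t) = (X r t)⁻¹ := by
  rw [eq_comm, inv_eq_iff_mul_eq_one]
  apply Units.ext
  rw [Units.val_mul, coe_X hr, coe_X hr, x_mul_x_neg hr]
  rfl

/-- the product of the root elements of a word, in `GL` -/
noncomputable def wordG (w : List (ℕ × K)) : GL chevE6.Idx K := (w.map fun p => X p.1 p.2).prod

theorem coe_wordG {w : List (ℕ × K)} (hw : ∀ p ∈ w, p.1 ∈ good) :
    (wordG w : Matrix chevE6.Idx chevE6.Idx K) = chevE6.wordMat K w := by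
  induction w with
  | nil => simp [wordG, ChevalleyDatum.wordMat]
  | cons p w ih =>
    have h1 : (wordG (p :: w) : Matrix chevE6.Idx chevE6.Idx K) = (X p.1 p.2 : Matrix _ _ K) * (wordG w : Matrix _ _ K) := by
      simp [wordG]
    have h2 : chevE6.wordMat K (p :: w) = chevE6.x K p.1 p.2 * chevE6.wordMat K w := by
      simp [ChevalleyDatum.wordMat]
    rw [h1, h2, coe_X (hw p (by simp)), ih fun p' hp' => hw p' (by simp [hp'])]

theorem wordG_append (w₁ w₂ : List (ℕ × K)) : wordG (w₁ ++ w₂) = wordG w₁ * wordG w₂ := by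
  simp [wordG]

/-- inverse of a word with monomial parameters -/
def invW (w : List (ℕ × Mon)) : List (ℕ × Mon) := w.reverse.map fun p => (p.1, ⟨-p.2.c, p.2.i, p.2.j⟩)

theorem evW_append (w₁ w₂ : List (ℕ × Mon)) (t s : K) : evW K (w₁ ++ w₂) t s = evW K w₁ t s ++ evW K w₂ t s := by
  simp [evW]

theorem wordG_invW {w : List (ℕ × Mon)} (hw : ∀ p ∈ w, p.1 ∈ good) (t s : K) :
    wordG (evW K (invW w) t s) = (wordG (evW K w t s))⁻¹ := by
  induction w with
  | nil => simp [invW, evW, wordG]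
  | cons p w ih =>
    have h1 : invW (p :: w) = invW w ++ [(p.1, ⟨-p.2.c, p.2.i, p.2.j⟩)] := by simp [invW]
    have h2 : evW K (p :: w) t s = (p.1, p.2.ev K t s) :: evW K w t s := by simp [evW]
    have h3 : wordG ((p.1, p.2.ev K t s) :: evW K w t s) = X p.1 (p.2.ev K t s) * wordG (evW K w t s) := by
      simp [wordG]
    have h4 : wordG (evW K [(p.1, ⟨-p.2.c, p.2.i, p.2.j⟩)] t s) = (X p.1 (p.2.ev K t s))⁻¹ := by
      rw [← X_neg (hw p (by simp))]
      simp [evW, wordG, Mon.ev]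
    rw [h1, h2, h3, evW_append, wordG_append, ih fun p' hp' => hw p' (by simp [hp']), h4, mul_inv_rev]

theorem mem_evW {w : List (ℕ × Mon)} {t s : K} {p : ℕ × K} (hp : p ∈ evW K w t s) : ∃ p' ∈ w, p'.1 = p.1 := by
  unfold evW at hp
  rw [List.mem_map] at hp
  obtain ⟨p', h1, h2⟩ := hp
  exact ⟨p', h1, by rw [← h2]⟩

/-- Equality of words in `GL` from the kernel check. -/
theorem wordG_eq_of_checkEq {w₁ w₂ : List (ℕ × Mon)} (h₁ : ∀ p ∈ w₁, p.1 ∈ good) (h₂ : ∀ p ∈ w₂, p.1 ∈ good)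
    (hc : checkEq chevE6 false w₁ w₂ = true) (t s : K) :
    wordG (evW K w₁ t s) = wordG (evW K w₂ t s) := by
  apply Units.ext
  rw [coe_wordG, coe_wordG]
  · exact wordMat_eq_of_checkEq false _ _ hc t s (by simp)
  · intro p hp
    obtain ⟨p', h3, h4⟩ := mem_evW hp
    exact h4 ▸ h₂ p' h3
  · intro p hp
    obtain ⟨p', h3, h4⟩ := mem_evW hp
    exact h4 ▸ h₁ p' h3

/-- the test that all letters of a word are in the list `good` -/
def goodW (w : List (ℕ × Mon)) : Bool := w.all fun p => decide (p.1 ∈ good)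

theorem mem_good_of_goodW {w : List (ℕ × Mon)} (h : goodW w = true) : ∀ p ∈ w, p.1 ∈ good := by
  intro p hp
  exact of_decide_eq_true (List.all_eq_true.1 h p hp)

/-- check of `c = a b a⁻¹ b⁻¹` (as `a b = c b a`) -/
def checkComm (a b c : List (ℕ × Mon)) : Bool :=
  checkEq chevE6 false (a ++ b) (c ++ (b ++ a)) && (goodW a && (goodW b && goodW c))

theorem wordG_eq_commutator {a b c : List (ℕ × Mon)} (hc : checkComm a b c = true) (t s : K) :
    wordG (evW K c t s) = ⁅wordG (evW K a t s), wordG (evW K b t s)⁆ := by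
  unfold checkComm at hc
  rw [Bool.and_eq_true, Bool.and_eq_true, Bool.and_eq_true] at hc
  obtain ⟨h1, h2, h3, h4⟩ := hc
  have ha := mem_good_of_goodW h2
  have hb := mem_good_of_goodW h3
  have hc := mem_good_of_goodW h4
  have h5 := wordG_eq_of_checkEq (K := K) (w₁ := a ++ b) (w₂ := c ++ (b ++ a))
    (by intro p hp; rw [List.mem_append] at hp; exact hp.elim (ha p) (hb p))
    (by
      intro p hp
      rw [List.mem_append, List.mem_append] at hp
      rcases hp with hp | hp | hp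
      · exact hc p hp
      · exact hb p hp
      · exact ha p hp) h1 t s
  rw [evW_append, evW_append, evW_append, wordG_append, wordG_append, wordG_append] at h5
  rw [commutatorElement_def, h5]
  group

theorem wordG_mem {q : ℕ} {w : List (ℕ × K)} (hw : w ∈ e6Words K q) (hg : ∀ p ∈ w, p.1 ∈ good) :
    wordG w ∈ twistedE6 K q :=
  Subgroup.subset_closure ⟨w, hw, coe_wordG hg⟩

/-- the self-conjugate generators -/
theorem single_mem {q : ℕ} {t : K} (ht : t ^ q = t) {r : ℕ} (hr : r ∈ [46, 25, 39, 32]) :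
    wordG (evW K [(r, ⟨1, 1, 0⟩)] t (t ^ q)) ∈ twistedE6 K q := by
  apply wordG_mem
  · left
    refine ⟨t, ht, r, hr, ?_⟩
    simp [evW, Mon.ev]
  · intro p hp
    obtain ⟨p', h1, h2⟩ := mem_evW hp
    rw [List.mem_singleton] at h1
    subst h1
    rw [← h2]
    simp only [good, List.mem_cons, List.not_mem_nil, or_false] at hr ⊢
    rcases hr with h | h | h | h <;> simp [h]

/-- the pair generators -/
theorem pair_mem {q : ℕ} (t : K) {rs : ℕ × ℕ} (hr : rs ∈ [(56, 36), (15, 35), (42, 37), (29, 34)]) :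
    wordG (evW K [(rs.1, ⟨1, 1, 0⟩), (rs.2, ⟨1, 0, 1⟩)] t (t ^ q)) ∈ twistedE6 K q := by
  apply wordG_mem
  · right
    refine ⟨t, rs, hr, ?_⟩
    simp [evW, Mon.ev]
  · intro p hp
    obtain ⟨p', h1, h2⟩ := mem_evW hp
    have h3 : rs.1 ∈ good ∧ rs.2 ∈ good := by
      simp only [good, List.mem_cons, List.not_mem_nil, or_false] at hr ⊢
      rcases hr with h | h | h | h <;> simp [h]
    rw [List.mem_cons, List.mem_singleton] at h1
    rcases h1 with h1 | h1 <;> subst h1 <;> rw [← h2]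
    · exact h3.1
    · exact h3.2

/-- `x_r(1)` lies in the group for the self-conjugate fundamental roots -/
theorem single_one_mem {q : ℕ} (t s : K) {r : ℕ} (hr : r ∈ [46, 25, 39, 32]) :
    wordG (evW K [(r, ⟨1, 0, 0⟩)] t s) ∈ twistedE6 K q := by
  have := single_mem (K := K) (q := q) (t := 1) (one_pow q) hr
  have h2 : evW K [(r, (⟨1, 0, 0⟩ : Mon))] t s = evW K [(r, ⟨1, 1, 0⟩)] 1 (1 ^ q) := by
    simp [evW, Mon.ev]
  rw [h2]
  exact this

theorem pair_one_mem {q : ℕ} (t s : K) {rs : ℕ × ℕ} (hr : rs ∈ [(56, 36), (15, 35), (42, 37), (29, 34)]) :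
    wordG (evW K [(rs.1, ⟨1, 0, 0⟩), (rs.2, ⟨1, 0, 0⟩)] t s) ∈ twistedE6 K q := by
  have := pair_mem (K := K) (q := q) 1 hr
  have h2 : evW K [(rs.1, (⟨1, 0, 0⟩ : Mon)), (rs.2, ⟨1, 0, 0⟩)] t s
      = evW K [(rs.1, ⟨1, 1, 0⟩), (rs.2, ⟨1, 0, 1⟩)] 1 (1 ^ q) := by
    simp [evW, Mon.ev]
  rw [h2]
  exact this

end Cfsg.Agent.ChevalleyStructure.TwE6Base
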