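import Cfsg.Prelude.Def_LieExceptional
import Cfsg.Agent.ChevalleyStructure.Elts
import Cfsg.Agent.S1031
import Cfsg.Agent.S1037
set_option linter.all false

/-!
# The (B,N)-pair of a Chevalley group is irreducible

Let `i`, `j` be adjacent nodes of the Dynkin diagram and `s = -p_i`. Then `w_j w_i s` is positive and
`w_i w_j s` is negative. If `c = n_i n_j n_i⁻¹ n_j⁻¹` were in `B`, then `c` would conjugate the root element
`x_{w_j w_i s}(±1) ∈ U` to `x_{w_i w_j s}(±1) ∈ V`, against `B ∩ V = 1`. Since the Dynkin diagram is connected,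
the (B,N)-pair is irreducible. Uses S1023, S1024, S1031 and S1037.
-/

set_option autoImplicit false

namespace Cfsg.Agent.ChevalleyStructure.Irreducible

open Cfsg.Lie Cfsg.Agent.ChevalleyStructure.Elts

universe u

/-! ### Table facts -/

/-- The check for one ordered pair of nodes: with `s = -p_i`, the roots `w_i s`, `w_j s` are in range,
`w_j w_i s` is positive and `w_i w_j s` is negative. -/
def pairOK (D : ChevalleyDatum) (i j : ℕ) : Bool :=
  let s := D.neg (D.simple i)
  decide (s < D.nroots) && decide (D.reflectRoot i s < D.nroots) && decide (D.reflectRoot j s < D.nroots) &&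
    decide (D.IsPosRoot (D.reflectRoot j (D.reflectRoot i s))) &&
    decide (D.IsNegRoot (D.reflectRoot i (D.reflectRoot j s)))

/-- The table check: `par` is a parent function on the nodes, making the Dynkin diagram a tree with root `root`, and
the pair check holds for every edge, in both directions. -/
def check (D : ChevalleyDatum) (par : List ℕ) (root : ℕ) : Bool :=
  decide (root < D.rank) &&
  (List.range D.rank).all fun k =>
    decide (par.getD k 0 < D.rank) && ((fun x => par.getD x 0)^[D.rank] k == root) &&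
      (k == root || (pairOK D k (par.getD k 0) && pairOK D (par.getD k 0) k))

/-- For each of the seven data there is a parent function for which the check succeeds. -/
theorem exists_check (D : ChevalleyDatum) (hD : InList D) : ∃ (par : List ℕ) (root : ℕ), check D par root = true := by
  simp only [InList, List.mem_cons, List.not_mem_nil, or_false] at hD
  rcases hD with h | h | h | h | h | h | h
  · exact ⟨[0, 0], 0, by subst h; decide +kernel⟩
  · exact ⟨[0, 0], 0, by subst h; decide +kernel⟩
  · exact ⟨[1, 1, 1, 1], 1, by subst h; decide +kernel⟩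
  · exact ⟨[0, 0, 1, 2], 0, by subst h; decide +kernel⟩
  · exact ⟨[2, 3, 3, 3, 3, 4], 3, by subst h; decide +kernel⟩
  · exact ⟨[2, 3, 3, 3, 3, 4, 5], 3, by subst h; decide +kernel⟩
  · exact ⟨[2, 3, 3, 3, 3, 4, 5, 6], 3, by subst h; decide +kernel⟩

/-- A set of nodes that is neither empty nor everything is left by some edge for which the pair check holds. -/
theorem exists_edge {D : ChevalleyDatum} (hD : InList D) (A : ℕ → Prop) (hA : ∃ i < D.rank, A i)
    (hA' : ∃ i < D.rank, ¬ A i) : ∃ i < D.rank, ∃ j < D.rank, A i ∧ ¬ A j ∧ pairOK D i j = true := by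
  obtain ⟨par, root, hc⟩ := exists_check D hD
  simp only [check, Bool.and_eq_true, decide_eq_true_eq, List.all_eq_true, List.mem_range, Bool.or_eq_true,
    beq_iff_eq] at hc
  obtain ⟨hroot, hc⟩ := hc
  by_contra hcon
  push Not at hcon
  have key : ∀ k < D.rank, (A k ↔ A (par.getD k 0)) ∨ k = root := by
    intro k hk
    obtain ⟨⟨h1, -⟩, h2⟩ := hc k hk
    rcases h2 with h2 | h2
    · exact Or.inr h2
    · left
      constructor
      · intro hk'
        by_contra hp
        exact hcon k hk _ h1 hk' hp h2.1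
      · intro hp
        by_contra hk'
        exact hcon _ h1 k hk hp hk' h2.2
  -- membership is constant along parents until the root is reached
  have iter : ∀ m k, k < D.rank → (A k ↔ A root) ∨ ((A k ↔ A ((fun x => par.getD x 0)^[m] k)) ∧
      (fun x => par.getD x 0)^[m] k < D.rank) := by
    intro m
    induction m with
    | zero => intro k hk; exact Or.inr ⟨Iff.rfl, hk⟩
    | succ m ih =>
      intro k hk
      rcases key k hk with h | h
      · have h1 : par.getD k 0 < D.rank := (hc k hk).1.1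
        rcases ih (par.getD k 0) h1 with h' | h'
        · exact Or.inl (h.trans h')
        · right
          rw [Function.iterate_succ_apply]
          exact ⟨h.trans h'.1, h'.2⟩
      · left; rw [h]
  have all : ∀ k < D.rank, (A k ↔ A root) := by
    intro k hk
    rcases iter D.rank k hk with h | ⟨h, -⟩
    · exact h
    · rwa [(hc k hk).1.2] at h
  obtain ⟨i, hi, hAi⟩ := hA
  obtain ⟨j, hj, hAj⟩ := hA'
  exact hAj ((all j hj).2 ((all i hi).1 hAi))

variable {F : Type u} [Field F] {D : ChevalleyDatum}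

/-- S1031 in the general linear group. -/
theorem nG_conj (hD : InList D) (i s : ℕ) (hi : i < D.rank) (hs : s < D.nroots) :
    ∃ η : ℤ, (η = 1 ∨ η = -1) ∧ ∀ t : F, nG hD (D.simple i) (1 : F) * xG hD s t =
      xG hD (D.reflectRoot i s) ((η : F) * t) * nG hD (D.simple i) (1 : F) := by
  obtain ⟨η, h1, h2⟩ := Cfsg.Agent.S1031.result (F := F) D hD i s hi hs
  refine ⟨η, h1, fun t => Units.ext ?_⟩
  rw [Units.val_mul, Units.val_mul, coe_nG, coe_xG, coe_xG]
  exact h2 t

/-- If the pair check holds for `i`, `j` then `n_i n_j n_i⁻¹ n_j⁻¹` is not in `B`. -/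
theorem commutator_not_mem (hD : InList D) {i j : ℕ} (hi : i < D.rank) (hj : j < D.rank)
    (h : pairOK D i j = true) :
    nG hD (D.simple i) (1 : F) * nG hD (D.simple j) (1 : F) * (nG hD (D.simple i) (1 : F))⁻¹ *
      (nG hD (D.simple j) (1 : F))⁻¹ ∉ D.borelSubgroup F := by
  intro hmem
  simp only [pairOK, Bool.and_eq_true, decide_eq_true_eq] at h
  obtain ⟨⟨⟨⟨hs, his⟩, hjs⟩, hpos⟩, hneg⟩ := h
  obtain ⟨η₁, he₁, h₁⟩ := nG_conj (F := F) hD i (D.neg (D.simple i)) hi hs
  obtain ⟨η₂, he₂, h₂⟩ := nG_conj (F := F) hD j (D.reflectRoot i (D.neg (D.simple i))) hj his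
  obtain ⟨η₃, he₃, h₃⟩ := nG_conj (F := F) hD j (D.neg (D.simple i)) hj hs
  obtain ⟨η₄, he₄, h₄⟩ := nG_conj (F := F) hD i (D.reflectRoot j (D.neg (D.simple i))) hi hjs
  set a := nG hD (D.simple i) (1 : F)
  set b := nG hD (D.simple j) (1 : F)
  set x := xG hD (D.neg (D.simple i)) (1 : F)
  set y := xG hD (D.reflectRoot j (D.reflectRoot i (D.neg (D.simple i)))) ((η₂ : F) * ((η₁ : F) * 1)) with hy
  set z := xG hD (D.reflectRoot i (D.reflectRoot j (D.neg (D.simple i)))) ((η₄ : F) * ((η₃ : F) * 1)) with hz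
  have e1 : b * a * x = y * (b * a) := by
    rw [mul_assoc, h₁, ← mul_assoc, h₂, mul_assoc]
  have e2 : a * b * x = z * (a * b) := by
    rw [mul_assoc, h₃, ← mul_assoc, h₄, mul_assoc]
  have e1' : y = b * a * x * (b * a)⁻¹ := by rw [e1, mul_inv_cancel_right]
  have e2' : z = a * b * x * (a * b)⁻¹ := by rw [e2, mul_inv_cancel_right]
  have e3 : (a * b * a⁻¹ * b⁻¹) * y * (a * b * a⁻¹ * b⁻¹)⁻¹ = z := by
    rw [e1', e2']; group
  have hyB : y ∈ D.borelSubgroup F :=
    (le_sup_left : D.posUnipotent F ≤ D.borelSubgroup F) (xG_mem_posUnipotent hD hpos _)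
  have hzB : z ∈ D.borelSubgroup F := by
    rw [← e3]
    exact Subgroup.mul_mem _ (Subgroup.mul_mem _ hmem hyB) (Subgroup.inv_mem _ hmem)
  have hzV : z ∈ D.negUnipotent F := xG_mem_negUnipotent hD hneg _
  have hz1 : z = 1 := by
    have : z ∈ D.borelSubgroup F ⊓ D.negUnipotent F := ⟨hzB, hzV⟩
    rw [(Cfsg.Agent.S1037.result (F := F) D hD).1] at this
    exact Subgroup.mem_bot.1 this
  have hz0 := (xG_eq_one_iff hD hneg.1 _).1 hz1
  rcases he₃ with rfl | rfl <;> rcases he₄ with rfl | rfl <;> simp at hz0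

/-- Any (B,N)-pair of the Chevalley group with `B = UH` and the `n_p` as distinguished elements is irreducible. -/
theorem irreducible (hD : InList D) (P : Cfsg.BNPair ↥(D.group F))
    (hB : P.B = (D.borelSubgroup F).subgroupOf (D.group F))
    (hS : P.S = {n : ↥(D.group F) | ∃ i < D.rank,
      ((n : GL D.Idx F) : Matrix D.Idx D.Idx F) = D.nMat F (D.simple i) 1}) : P.Irreducible := by
  intro J hJ hne hne'
  let e : ℕ → ↥(D.group F) := fun i => ⟨nG hD (D.simple i) 1, nG_mem_group hD _ _⟩
  have hSe : ∀ n, n ∈ P.S ↔ ∃ i < D.rank, n = e i := by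
    intro n
    rw [hS]
    constructor
    · rintro ⟨i, hi, h⟩
      exact ⟨i, hi, Subtype.ext ((eq_nG_iff hD _ _ _).2 h)⟩
    · rintro ⟨i, hi, rfl⟩
      exact ⟨i, hi, coe_nG hD _ _⟩
  obtain ⟨i, hi, j, hj, hAi, hAj, hok⟩ := exists_edge hD (fun i => e i ∈ J)
    (by
      obtain ⟨n, hn⟩ := hne
      obtain ⟨i, hi, rfl⟩ := (hSe n).1 (hJ hn)
      exact ⟨i, hi, hn⟩)
    (by
      obtain ⟨n, hn, hn'⟩ := hne'
      obtain ⟨i, hi, rfl⟩ := (hSe n).1 hn
      exact ⟨i, hi, hn'⟩)
  refine ⟨e i, hAi, e j, ⟨(hSe _).2 ⟨j, hj, rfl⟩, hAj⟩, ?_⟩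
  intro hmem
  rw [hB, Subgroup.mem_subgroupOf] at hmem
  exact commutator_not_mem hD hi hj hok hmem

end Cfsg.Agent.ChevalleyStructure.Irreducible
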