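import Cfsg.Agent.ChevalleyStructure.W0Core
import Cfsg.Agent.ChevalleyStructure.WeylConj
set_option linter.all false

/-!
# From the tables of the longest element to `n U n⁻¹ = V`
-/

set_option autoImplicit false

namespace Cfsg.Agent.ChevalleyStructure.W0Main

open Cfsg.Lie
open Cfsg.Agent.ChevalleyStructure.W0Core
open Cfsg.Agent.ChevalleyStructure.WeylConj
open Cfsg.Agent.ChevalleyStructure.Elts

universe u

theorem actW_eq {D : ChevalleyDatum} {T : ℕ → ℕ}
    (hT : ∀ i < D.rank, ∀ s < D.nroots, D.reflectRoot i s = look (T i) s)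
    (hR : ∀ i < D.rank, rangeOK (T i) D.nroots = true)
    (w : List ℕ) (hw : ∀ i ∈ w, i < D.rank) {s : ℕ} (hs : s < D.nroots) :
    actW D w s = actT T w s ∧ actT T w s < D.nroots := by
  induction w with
  | nil => exact ⟨rfl, hs⟩
  | cons i w ih =>
    obtain ⟨h1, h2⟩ := ih fun j hj => hw j (List.mem_cons_of_mem _ hj)
    have hi := hw i List.mem_cons_self
    refine ⟨?_, rangeOK_spec (hR i hi) h2⟩
    rw [actW_cons, h1, hT i hi _ h2]
    rfl

theorem exists_conj_of_tables {D : ChevalleyDatum} (hD : InList D) (F : Type u) [Field F]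
    (T : ℕ → ℕ) (w : List ℕ) (W m : ℕ) (hm : m ≤ D.nroots)
    (hT : ∀ i < D.rank, ∀ s < D.nroots, D.reflectRoot i s = look (T i) s)
    (hR : ∀ i < D.rank, rangeOK (T i) D.nroots = true)
    (hw : ∀ i ∈ w, i < D.rank) (hw' : ∀ i ∈ w, D.simple i < D.nroots)
    (hW : wordOK T w W D.nroots = true) (hf : flipOK W m D.nroots = true) (hs : signOK D m = true) :
    ∃ n ∈ D.monomialSubgroup F, (D.posUnipotent F).map (MulAut.conj n).toMonoidHom = D.negUnipotent F := by
  have key : ∀ s < D.nroots, actW D w s = look W s := fun s h =>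
    ((actW_eq hT hR w hw h).1).trans (wordOK_spec hW h)
  refine exists_conj_of_word hD F ?_ w hw hw' ?_ ?_
  · intro i hi s h
    rw [hT i hi s h]
    exact rangeOK_spec (hR i hi) h
  · intro s h
    rw [pos_iff hs] at h
    obtain ⟨h1, h2, h3⟩ := flipOK_spec hf h.2
    rw [key s h.2, neg_iff hs hm]
    exact h1.1 h.1
  · intro s h
    rw [neg_iff hs hm] at h
    have hlt := h.trans_le hm
    obtain ⟨h1, h2, h3⟩ := flipOK_spec hf hlt
    rw [key s hlt, key _ h2]
    refine ⟨(pos_iff hs _).2 ⟨?_, h2⟩, h3⟩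
    by_contra h'
    exact absurd (h1.2 (not_le.1 h')) (not_le.2 h)

end Cfsg.Agent.ChevalleyStructure.W0Main
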