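import Cfsg.Agent.ChevalleyStructure.SparseHDiag
import Cfsg.Prelude.Def_ChevG2
set_option linter.all false

/-! # `h_r(t)` is diagonal for all roots of `G₂` -/

set_option autoImplicit false

namespace Cfsg.Agent.ChevalleyStructure.HDiagG2

open Cfsg.Lie Cfsg.Lie.ChevalleyDatum Cfsg.Agent.ChevalleyStructure.SparseHDiag

theorem checkG2 : allRange (fun r => hDiagCheck chevG2 r) 0 12 = true := by decide +kernel

theorem hMat_chevG2 {F : Type*} [Field F] {r : ℕ} (hr : r < chevG2.nroots) {t : F} (ht : t ≠ 0) :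
    chevG2.hMat F r t = Matrix.diagonal (hVal chevG2 r t) :=
  hMat_of_check chevG2 (allRange_spec checkG2 r (Nat.zero_le _) (by have : r < 12 := hr; omega)) ht

end Cfsg.Agent.ChevalleyStructure.HDiagG2
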