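/-
Single entries of words in root elements (supplement to WordCheck) and base change of root elements.
-/
import Cfsg.Agent.ChevalleyStructure.WordCheck
set_option linter.all false

set_option autoImplicit false

namespace Cfsg.Agent.ChevalleyStructure.WordEntry

open Cfsg.Lie Cfsg.Agent.ChevalleyStructure.WordCheck

/-- the polynomials of a sparse vector at coordinate `k` -/
def vfil (k : ℕ) : SVec → List Poly
  | [] => []
  | e :: v => bif Nat.beq e.1 k then e.2 :: vfil k v else vfil k v

/-- Boolean equality of lists of polynomials -/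
def pleq : List Poly → List Poly → Bool
  | [], [] => true
  | p :: l, q :: m => peq p q && pleq l m
  | _, _ => false

theorem pleq_iff : ∀ {a b : List Poly}, pleq a b = true → a = b
  | [], [], _ => rfl
  | [], _ :: _, h => by simp [pleq] at h
  | _ :: _, [], h => by simp [pleq] at h
  | x :: a, y :: b, h => by
    simp only [pleq, Bool.and_eq_true] at h
    rw [peq_iff h.1, pleq_iff h.2]

section
variable {F : Type*} [Field F] (D : ChevalleyDatum) (ρ : ℕ → F) {ch L : ℕ}

theorem evalV_eq_vfil (v : SVec) (k : ℕ) : evalV ρ v k = ((vfil k v).map (evalP ρ)).sum := by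
  induction v with
  | nil => rfl
  | cons e v ih =>
    unfold vfil
    rcases h : Nat.beq e.1 k with _ | _
    · have h' : ¬ e.1 = k := by
        intro h''; rw [h'', Nat.beq_refl] at h; exact absurd h (by decide)
      simp only [cond_false, evalV, if_neg h', zero_add, ih]
    · have h' := Nat.eq_of_beq_eq_true h
      simp only [cond_true, evalV, if_pos h', List.map_cons, List.sum_cons, ih]

/-- the symbolic entries of two words agree -/
def entryEq (ch L nv : ℕ) (w1 w2 : List Letter) (i1 j1 i2 j2 : ℕ) : Bool :=
  pleq (vfil i1 (colW D ch L nv w1 j1)) (vfil i2 (colW D ch L nv w2 j2))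

/-- the symbolic entry is a given expression -/
def entryIs (ch L nv : ℕ) (w : List Letter) (i j : ℕ) (e : PExpr) : Bool :=
  pleq (vfil i (colW D ch L nv w j)) [toPoly ch L nv e]

/-- the symbolic entry is zero -/
def entryZero (ch L nv : ℕ) (w : List Letter) (i j : ℕ) : Bool :=
  pleq (vfil i (colW D ch L nv w j)) []

variable {D ρ}

theorem entryEq_sound {nv : ℕ} {w1 w2 : List Letter} {i1 j1 i2 j2 : D.Idx}
    (h : entryEq D ch L nv w1 w2 (code D i1) (code D j1) (code D i2) (code D j2) = true)
    (hch : (ch : F) = 0) (hρ : ∀ i < L, ρ (2 * i) * ρ (2 * i + 1) = 1) :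
    wmat D ρ w1 i1 j1 = wmat D ρ w2 i2 j2 := by
  rw [wmat_apply D ρ hch hρ nv, wmat_apply D ρ hch hρ nv, evalV_eq_vfil, evalV_eq_vfil, pleq_iff h]

theorem entryIs_sound {nv : ℕ} {w : List Letter} {i j : D.Idx} {e : PExpr}
    (h : entryIs D ch L nv w (code D i) (code D j) e = true)
    (hch : (ch : F) = 0) (hρ : ∀ i < L, ρ (2 * i) * ρ (2 * i + 1) = 1) :
    wmat D ρ w i j = e.denote ρ := by
  rw [wmat_apply D ρ hch hρ nv, evalV_eq_vfil, pleq_iff h]
  simp [evalP_toPoly ρ hch hρ]

theorem entryZero_sound {nv : ℕ} {w : List Letter} {i j : D.Idx}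
    (h : entryZero D ch L nv w (code D i) (code D j) = true)
    (hch : (ch : F) = 0) (hρ : ∀ i < L, ρ (2 * i) * ρ (2 * i + 1) = 1) :
    wmat D ρ w i j = 0 := by
  rw [wmat_apply D ρ hch hρ nv, evalV_eq_vfil, pleq_iff h]
  simp

end

section BaseChange
variable {F K : Type*} [Field F] [Field K] (D : ChevalleyDatum) (f : F →+* K)

theorem colSum_map (t : F) (k : ℕ) (l : List (ℕ × ℤ × ℕ)) : f (colSum t k l) = colSum (f t) k l := by
  induction l with
  | nil => simp [colSum]
  | cons e l ih =>
    simp only [colSum, map_add, ih]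
    split <;> simp

theorem x_map (r : ℕ) (t : F) : (D.x F r t).map f = D.x K r (f t) := by
  unfold ChevalleyDatum.x
  split
  · ext i j
    rw [Matrix.map_apply, xMat_entry, xMat_entry, colSum_map]
  · simp

theorem wordMat_map (w : List (ℕ × F)) :
    (D.wordMat F w).map f = D.wordMat K (w.map fun p => (p.1, f p.2)) := by
  unfold ChevalleyDatum.wordMat
  induction w with
  | nil => simp
  | cons p w ih =>
    simp only [List.map_cons, List.prod_cons, Matrix.map_mul, ih, x_map]

end BaseChange

end Cfsg.Agent.ChevalleyStructure.WordEntry
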