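import Cfsg.Agent.ChevalleyStructure.RootCombGood
set_option linter.all false

/-!
Consequences of `Good D`: signs of roots, invariance of the Cartan integers `car`, induction over the roots, words in
the simple reflections acting on root indices (`wact`), linearity on coroots, inversions, general reflections.
-/

set_option autoImplicit false

namespace Cfsg.Agent.ChevalleyStructure.RootWord

open Cfsg.Lie Cfsg.Agent.ChevalleyStructure.RootCombGood

variable {D : ChevalleyDatum}

/-! ### Negation and signs -/

theorem neg_lt (G : Good D) {r : ℕ} (hr : r < D.nroots) : D.neg r < D.nroots := by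
  rw [G.neg_eq hr]
  omega

theorem neg_neg (G : Good D) {r : ℕ} (hr : r < D.nroots) : D.neg (D.neg r) = r := by
  rw [G.neg_eq (neg_lt G hr), G.neg_eq hr]
  omega

theorem neg_inj (G : Good D) {r s : ℕ} (hr : r < D.nroots) (hs : s < D.nroots) (h : D.neg r = D.neg s) : r = s := by
  rw [G.neg_eq hr, G.neg_eq hs] at h
  omega

theorem neg_ne (G : Good D) {r : ℕ} (hr : r < D.nroots) : D.neg r ≠ r := by
  have := G.nroots_eq
  rw [G.neg_eq hr]
  omega

theorem pos_or_neg (G : Good D) {r : ℕ} (hr : r < D.nroots) : D.IsPosRoot r ∨ D.IsNegRoot r := by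
  rw [G.isPosRoot_iff, G.isNegRoot_iff]
  omega

theorem isNegRoot_iff_not (G : Good D) {r : ℕ} (hr : r < D.nroots) : D.IsNegRoot r ↔ ¬ D.IsPosRoot r := by
  rw [G.isPosRoot_iff, G.isNegRoot_iff]
  omega

theorem not_pos_of_neg (G : Good D) {r : ℕ} (h : D.IsNegRoot r) : ¬ D.IsPosRoot r :=
  (isNegRoot_iff_not G h.1).1 h

theorem isPosRoot_neg (G : Good D) {r : ℕ} (hr : r < D.nroots) : D.IsPosRoot (D.neg r) ↔ D.IsNegRoot r := by
  have := G.nroots_eq
  rw [G.isPosRoot_iff, G.isNegRoot_iff, G.neg_eq hr]
  omega

theorem isNegRoot_neg (G : Good D) {r : ℕ} (hr : r < D.nroots) : D.IsNegRoot (D.neg r) ↔ D.IsPosRoot r := by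
  have := G.nroots_eq
  rw [G.isPosRoot_iff, G.isNegRoot_iff, G.neg_eq hr]
  omega

theorem simple_inj (G : Good D) {i j : ℕ} (hi : i < D.rank) (hj : j < D.rank) (h : D.simple i = D.simple j) :
    i = j := by
  by_contra hij
  have h1 := G.co_simple hi hi
  have h2 := G.co_simple hj hi
  rw [h, h2, if_pos rfl, if_neg (fun h => hij h.symm)] at h1
  norm_num at h1

/-! ### Reflections -/

theorem reflect_inj (G : Good D) {i r s : ℕ} (hi : i < D.rank) (hr : r < D.nroots) (hs : s < D.nroots)
    (h : D.reflectRoot i r = D.reflectRoot i s) : r = s := by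
  rw [← G.reflect_reflect hi hr, h, G.reflect_reflect hi hs]

theorem reflect_neg_simple (G : Good D) {i : ℕ} (hi : i < D.rank) :
    D.reflectRoot i (D.neg (D.simple i)) = D.simple i := by
  rw [G.reflect_neg hi (G.simple_lt hi), G.reflect_simple hi, neg_neg G (G.simple_lt hi)]

theorem reflect_isNeg (G : Good D) {i s : ℕ} (hi : i < D.rank) (hs : D.IsNegRoot s)
    (h : s ≠ D.neg (D.simple i)) : D.IsNegRoot (D.reflectRoot i s) := by
  have hs' : s < D.nroots := hs.1
  have h1 : D.IsPosRoot (D.neg s) := (isPosRoot_neg G hs').2 hs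
  have h2 : D.neg s ≠ D.simple i := by
    intro h'
    apply h
    rw [← h', neg_neg G hs']
  have h3 := G.reflect_pos hi h1 h2
  rw [G.reflect_neg hi hs', isPosRoot_neg G (G.reflect_lt hi hs')] at h3
  exact h3

/-- the simple reflection as a permutation of the root indices. -/
def reflPerm (G : Good D) (i : ℕ) (hi : i < D.rank) : Equiv.Perm (Fin D.nroots) where
  toFun r := ⟨D.reflectRoot i r, G.reflect_lt hi r.2⟩
  invFun r := ⟨D.reflectRoot i r, G.reflect_lt hi r.2⟩
  left_inv r := Fin.ext (G.reflect_reflect hi r.2)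
  right_inv r := Fin.ext (G.reflect_reflect hi r.2)

theorem reflPerm_apply (G : Good D) (i : ℕ) (hi : i < D.rank) (r : Fin D.nroots) :
    ((reflPerm G i hi r : Fin D.nroots) : ℕ) = D.reflectRoot i r := rfl

/-- negation as a permutation of the root indices. -/
def negPerm (G : Good D) : Equiv.Perm (Fin D.nroots) where
  toFun r := ⟨D.neg r, neg_lt G r.2⟩
  invFun r := ⟨D.neg r, neg_lt G r.2⟩
  left_inv r := Fin.ext (neg_neg G r.2)
  right_inv r := Fin.ext (neg_neg G r.2)

theorem negPerm_apply (G : Good D) (r : Fin D.nroots) : ((negPerm G r : Fin D.nroots) : ℕ) = D.neg r := rfl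

/-! ### Cartan integers -/

theorem car_simple (G : Good D) {i : ℕ} (hi : i < D.rank) (s : ℕ) : car D (D.simple i) s = D.cartan i s := by
  unfold car
  rw [Finset.sum_eq_single i]
  · rw [G.co_simple hi hi, if_pos rfl, one_mul]
  · intro j hj hji
    rw [G.co_simple hi (Finset.mem_range.1 hj), if_neg (Ne.symm hji), zero_mul]
  · intro h
    exact absurd (Finset.mem_range.2 hi) h

theorem car_neg_left (G : Good D) {r : ℕ} (hr : r < D.nroots) (s : ℕ) : car D (D.neg r) s = - car D r s := by
  unfold car
  rw [← Finset.sum_neg_distrib]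
  refine Finset.sum_congr rfl fun k hk => ?_
  rw [G.co_neg hr (Finset.mem_range.1 hk), neg_mul]

theorem car_neg_right (G : Good D) (r : ℕ) {s : ℕ} (hs : s < D.nroots) : car D r (D.neg s) = - car D r s := by
  unfold car
  rw [← Finset.sum_neg_distrib]
  refine Finset.sum_congr rfl fun k hk => ?_
  rw [G.cartan_neg (Finset.mem_range.1 hk) hs, mul_neg]

/-- `A_{r, w_i s} = A_{r,s} - A_{i,s} A_{r,i}` -/
theorem car_reflect_right (G : Good D) {i s : ℕ} (hi : i < D.rank) (hs : s < D.nroots) (r : ℕ) :
    car D r (D.reflectRoot i s) = car D r s - D.cartan i s * car D r (D.simple i) := by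
  unfold car
  rw [Finset.mul_sum, ← Finset.sum_sub_distrib]
  refine Finset.sum_congr rfl fun k hk => ?_
  rw [G.cartan_reflect hi hs (Finset.mem_range.1 hk)]
  ring

/-- `A_{w_i r, s} = A_{r,s} - A_{r,i} A_{i,s}` -/
theorem car_reflect_left (G : Good D) {i r : ℕ} (hi : i < D.rank) (hr : r < D.nroots) (s : ℕ) :
    car D (D.reflectRoot i r) s = car D r s - car D r (D.simple i) * D.cartan i s := by
  have h : ∀ k ∈ Finset.range D.rank, co D (D.reflectRoot i r) k * D.cartan k s =
      co D r k * D.cartan k s - (if k = i then car D r (D.simple i) * D.cartan i s else 0) := by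
    intro k hk
    rw [G.co_reflect hi hr (Finset.mem_range.1 hk)]
    by_cases hki : k = i
    · subst hki
      rw [if_pos rfl, if_pos rfl]
      ring
    · rw [if_neg hki, if_neg hki]
      ring
  show ∑ k ∈ Finset.range D.rank, co D (D.reflectRoot i r) k * D.cartan k s = _
  rw [Finset.sum_congr rfl h, Finset.sum_sub_distrib, Finset.sum_ite_eq', if_pos (Finset.mem_range.2 hi)]
  rfl

/-- W-invariance of the Cartan integers. -/
theorem car_reflect (G : Good D) {i r s : ℕ} (hi : i < D.rank) (hr : r < D.nroots) (hs : s < D.nroots) :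
    car D (D.reflectRoot i r) (D.reflectRoot i s) = car D r s := by
  rw [car_reflect_left G hi hr, car_reflect_right G hi hs, G.cartan_reflect hi hs hi, G.cartan_simple hi]
  ring

/-! ### Induction over the roots -/

/-- descent: a positive root `r` has a coefficient `c_i(r) > 0` with `A_{i,r} > 0`. -/
theorem exists_descent (G : Good D) {r : ℕ} (hr : D.IsPosRoot r) :
    ∃ i < D.rank, 0 < co D r i ∧ 0 < D.cartan i r := by
  have hr' : r < D.nroots := hr.1
  have h2 := G.car_self hr'
  have hnn := (G.isPosRoot_iff_co.1 hr).2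
  by_contra hcon
  push Not at hcon
  have : car D r r ≤ 0 := by
    unfold car
    refine Finset.sum_nonpos fun k hk => ?_
    have hk := Finset.mem_range.1 hk
    rcases (hnn k hk).lt_or_eq with h | h
    · exact mul_nonpos_of_nonneg_of_nonpos h.le (hcon k hk h)
    · rw [← h, zero_mul]
  omega

/-- Induction over positive roots: simple roots, and steps from a smaller positive root `w_i r` (with `c_i(r) > 0`). -/
theorem pos_induction (G : Good D) {P : ℕ → Prop} (h0 : ∀ i < D.rank, P (D.simple i))
    (h1 : ∀ i < D.rank, ∀ r, D.IsPosRoot r → D.IsPosRoot (D.reflectRoot i r) → D.reflectRoot i r < r →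
      0 < co D r i → P (D.reflectRoot i r) → P r) : ∀ r, D.IsPosRoot r → P r := by
  intro r
  induction r using Nat.strong_induction_on with
  | _ r ih =>
    intro hr
    obtain ⟨i, hi, hco, hcar⟩ := exists_descent G hr
    by_cases hs : r = D.simple i
    · rw [hs]
      exact h0 i hi
    · have hp := G.reflect_pos hi hr hs
      have hlt := (G.reflect_lt_iff hi hr.1).2 hcar
      exact h1 i hi r hr hp hlt hco (ih _ hlt hp)

/-- Induction over all roots: a property of the simple roots preserved by the simple reflections. -/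
theorem root_induction (G : Good D) {P : ℕ → Prop} (h0 : ∀ i < D.rank, P (D.simple i))
    (h1 : ∀ i < D.rank, ∀ r < D.nroots, P r → P (D.reflectRoot i r)) : ∀ r < D.nroots, P r := by
  have hpos : ∀ r, D.IsPosRoot r → P r := by
    refine pos_induction G h0 fun i hi r hr hp _ _ h => ?_
    have := h1 i hi _ (G.reflect_lt hi hr.1) h
    rwa [G.reflect_reflect hi hr.1] at this
  have hneg : ∀ r, D.IsPosRoot r → P (D.neg r) := by
    refine pos_induction G (fun i hi => ?_) fun i hi r hr hp _ _ h => ?_
    · have := h1 i hi _ (G.simple_lt hi) (h0 i hi)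
      rwa [G.reflect_simple hi] at this
    · have := h1 i hi _ (neg_lt G (G.reflect_lt hi hr.1)) h
      rwa [G.reflect_neg hi (G.reflect_lt hi hr.1), G.reflect_reflect hi hr.1] at this
  intro r hr
  rcases pos_or_neg G hr with h | h
  · exact hpos r h
  · have := hneg (D.neg r) ((isPosRoot_neg G hr).2 h)
    rwa [neg_neg G hr] at this

/-! ### Words -/

/-- the action of a word in the simple reflections: `wact [i₁, ..., i_k] r = w_{i₁} (⋯ (w_{i_k} r))`. -/
def wact (D : ChevalleyDatum) (w : List ℕ) (r : ℕ) : ℕ := w.foldr (fun i s => D.reflectRoot i s) r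

theorem wact_nil (r : ℕ) : wact D [] r = r := rfl

theorem wact_cons (i : ℕ) (w : List ℕ) (r : ℕ) : wact D (i :: w) r = D.reflectRoot i (wact D w r) := rfl

theorem wact_append (v w : List ℕ) (r : ℕ) : wact D (v ++ w) r = wact D v (wact D w r) := by
  unfold wact
  rw [List.foldr_append]

theorem wact_lt (G : Good D) : ∀ {w : List ℕ} (_ : ∀ a ∈ w, a < D.rank) {r : ℕ} (_ : r < D.nroots),
    wact D w r < D.nroots
  | [], _, _, hr => hr
  | i :: w, hw, r, hr => by
    rw [wact_cons]
    exact G.reflect_lt (hw i (by simp)) (wact_lt G (fun a ha => hw a (by simp [ha])) hr)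

theorem wact_neg (G : Good D) : ∀ {w : List ℕ} (_ : ∀ a ∈ w, a < D.rank) {r : ℕ} (_ : r < D.nroots),
    wact D w (D.neg r) = D.neg (wact D w r)
  | [], _, _, _ => rfl
  | i :: w, hw, r, hr => by
    have hw' : ∀ a ∈ w, a < D.rank := fun a ha => hw a (by simp [ha])
    rw [wact_cons, wact_cons, wact_neg G hw' hr, G.reflect_neg (hw i (by simp)) (wact_lt G hw' hr)]

theorem wact_reverse (G : Good D) : ∀ {w : List ℕ} (_ : ∀ a ∈ w, a < D.rank) {r : ℕ} (_ : r < D.nroots),
    wact D w.reverse (wact D w r) = r
  | [], _, _, _ => rfl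
  | i :: w, hw, r, hr => by
    have hw' : ∀ a ∈ w, a < D.rank := fun a ha => hw a (by simp [ha])
    rw [List.reverse_cons, wact_append, wact_cons, wact_cons, wact_nil,
      G.reflect_reflect (hw i (by simp)) (wact_lt G hw' hr), wact_reverse G hw' hr]

theorem wact_reverse' (G : Good D) {w : List ℕ} (hw : ∀ a ∈ w, a < D.rank) {r : ℕ} (hr : r < D.nroots) :
    wact D w (wact D w.reverse r) = r := by
  have := wact_reverse G (w := w.reverse) (fun a ha => hw a (by simpa using ha)) hr
  rwa [List.reverse_reverse] at this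

theorem wact_inj (G : Good D) {w : List ℕ} (hw : ∀ a ∈ w, a < D.rank) {r s : ℕ} (hr : r < D.nroots)
    (hs : s < D.nroots) (h : wact D w r = wact D w s) : r = s := by
  rw [← wact_reverse G hw hr, h, wact_reverse G hw hs]

/-- every root is `w (p_i)` for a word `w`. -/
theorem exists_word (G : Good D) {r : ℕ} (hr : r < D.nroots) :
    ∃ i < D.rank, ∃ w : List ℕ, (∀ a ∈ w, a < D.rank) ∧ wact D w (D.simple i) = r := by
  refine root_induction G (P := fun r => ∃ i < D.rank, ∃ w : List ℕ, (∀ a ∈ w, a < D.rank) ∧
    wact D w (D.simple i) = r) (fun i hi => ⟨i, hi, [], by simp, rfl⟩) ?_ r hr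
  rintro i hi r hr ⟨j, hj, w, hw, rfl⟩
  refine ⟨j, hj, i :: w, ?_, rfl⟩
  intro a ha
  rcases List.mem_cons.1 ha with rfl | ha
  · exact hi
  · exact hw a ha

theorem car_wact (G : Good D) : ∀ {w : List ℕ} (_ : ∀ a ∈ w, a < D.rank) {r s : ℕ} (_ : r < D.nroots)
    (_ : s < D.nroots), car D (wact D w r) (wact D w s) = car D r s
  | [], _, _, _, _, _ => rfl
  | i :: w, hw, r, s, hr, hs => by
    have hw' : ∀ a ∈ w, a < D.rank := fun a ha => hw a (by simp [ha])
    rw [wact_cons, wact_cons, car_reflect G (hw i (by simp)) (wact_lt G hw' hr) (wact_lt G hw' hs),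
      car_wact G hw' hr hs]

/-- words act linearly on coroots. -/
theorem co_wact (G : Good D) : ∀ {w : List ℕ} (_ : ∀ a ∈ w, a < D.rank) {r : ℕ} (_ : r < D.nroots) {j : ℕ}
    (_ : j < D.rank), co D (wact D w r) j = ∑ k ∈ Finset.range D.rank, co D r k * co D (wact D w (D.simple k)) j
  | [], _, r, hr, j, hj => by
    rw [wact_nil, Finset.sum_eq_single j]
    · rw [wact_nil, G.co_simple hj hj, if_pos rfl, mul_one]
    · intro k hk hkj
      rw [wact_nil, G.co_simple (Finset.mem_range.1 hk) hj, if_neg hkj, mul_zero]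
    · intro h
      exact absurd (Finset.mem_range.2 hj) h
  | i :: w, hw, r, hr, j, hj => by
    have hi : i < D.rank := hw i (by simp)
    have hw' : ∀ a ∈ w, a < D.rank := fun a ha => hw a (by simp [ha])
    have hcar : car D (wact D w r) (D.simple i) =
        ∑ k ∈ Finset.range D.rank, co D r k * car D (wact D w (D.simple k)) (D.simple i) := by
      unfold car
      simp_rw [Finset.mul_sum]
      rw [Finset.sum_comm]
      refine Finset.sum_congr rfl fun m hm => ?_
      rw [co_wact G hw' hr (Finset.mem_range.1 hm), Finset.sum_mul]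
      refine Finset.sum_congr rfl fun k _ => by ring
    rw [wact_cons, G.co_reflect hi (wact_lt G hw' hr) hj, co_wact G hw' hr hj]
    have : ∀ k ∈ Finset.range D.rank, co D r k * co D (wact D (i :: w) (D.simple k)) j =
        co D r k * co D (wact D w (D.simple k)) j -
          (if j = i then co D r k * car D (wact D w (D.simple k)) (D.simple i) else 0) := by
      intro k hk
      rw [wact_cons, G.co_reflect hi (wact_lt G hw' (G.simple_lt (Finset.mem_range.1 hk))) hj]
      split
      · ring
      · ring
    rw [Finset.sum_congr rfl this, Finset.sum_sub_distrib]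
    congr 1
    by_cases hji : j = i
    · simp only [hji, if_true]
      rw [hcar]
    · simp only [hji, if_false, Finset.sum_const_zero]

/-- a word sending all simple roots to positive roots sends all positive roots to positive roots. -/
theorem wact_pos_of_simple (G : Good D) {w : List ℕ} (hw : ∀ a ∈ w, a < D.rank)
    (h : ∀ i < D.rank, D.IsPosRoot (wact D w (D.simple i))) {r : ℕ} (hr : D.IsPosRoot r) :
    D.IsPosRoot (wact D w r) := by
  rw [G.isPosRoot_iff_co]
  refine ⟨wact_lt G hw hr.1, fun j hj => ?_⟩
  rw [co_wact G hw hr.1 hj]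
  refine Finset.sum_nonneg fun k hk => ?_
  have hk := Finset.mem_range.1 hk
  exact mul_nonneg ((G.isPosRoot_iff_co.1 hr).2 k hk) ((G.isPosRoot_iff_co.1 (h k hk)).2 j hj)

/-- if a word makes some positive root negative, it makes some simple root negative. -/
theorem exists_simple_neg (G : Good D) {w : List ℕ} (hw : ∀ a ∈ w, a < D.rank)
    (h : ∃ r, D.IsPosRoot r ∧ D.IsNegRoot (wact D w r)) : ∃ i < D.rank, D.IsNegRoot (wact D w (D.simple i)) := by
  by_contra hcon
  push Not at hcon
  obtain ⟨r, hr, hn⟩ := h
  refine not_pos_of_neg G hn (wact_pos_of_simple G hw (fun i hi => ?_) hr)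
  rcases pos_or_neg G (wact_lt G hw (G.simple_lt hi)) with h | h
  · exact h
  · exact absurd h (hcon i hi)

/-- a word fixing all simple roots fixes all roots. -/
theorem wact_eq_of_simple (G : Good D) {w : List ℕ} (hw : ∀ a ∈ w, a < D.rank)
    (h : ∀ i < D.rank, wact D w (D.simple i) = D.simple i) {r : ℕ} (hr : r < D.nroots) : wact D w r = r := by
  refine G.co_inj (wact_lt G hw hr) hr fun j hj => ?_
  rw [co_wact G hw hr hj, Finset.sum_eq_single j]
  · rw [h j hj, G.co_simple hj hj, if_pos rfl, mul_one]
  · intro k hk hkj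
    have hk := Finset.mem_range.1 hk
    rw [h k hk, G.co_simple hk hj, if_neg hkj, mul_zero]
  · intro h
    exact absurd (Finset.mem_range.2 hj) h

/-- inversion number of a word. -/
def inv (D : ChevalleyDatum) (w : List ℕ) : ℕ :=
  ((Finset.range D.nroots).filter fun r => D.IsPosRoot r ∧ D.IsNegRoot (wact D w r)).card

/-- appending the reflection in a simple root which `w` makes negative lowers the inversion number by one. -/
theorem inv_append_of_neg (G : Good D) {w : List ℕ} (hw : ∀ a ∈ w, a < D.rank) {i : ℕ} (hi : i < D.rank)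
    (h : D.IsNegRoot (wact D w (D.simple i))) : inv D (w ++ [i]) + 1 = inv D w := by
  unfold inv
  have hmem : D.simple i ∈ (Finset.range D.nroots).filter fun r => D.IsPosRoot r ∧ D.IsNegRoot (wact D w r) := by
    rw [Finset.mem_filter, Finset.mem_range]
    exact ⟨G.simple_lt hi, G.simple_pos hi, h⟩
  rw [← Finset.card_erase_add_one hmem]
  congr 1
  refine Finset.card_bij' (fun r _ => D.reflectRoot i r) (fun r _ => D.reflectRoot i r) ?_ ?_ ?_ ?_
  · intro r hr
    rw [Finset.mem_filter, Finset.mem_range, wact_append, wact_cons, wact_nil] at hr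
    obtain ⟨hr1, hr2, hr3⟩ := hr
    have hne : r ≠ D.simple i := by
      rintro rfl
      rw [G.reflect_simple hi, wact_neg G hw hr1, isNegRoot_neg G (wact_lt G hw hr1)] at hr3
      exact not_pos_of_neg G h hr3
    rw [Finset.mem_erase, Finset.mem_filter, Finset.mem_range]
    refine ⟨fun heq => ?_, G.reflect_lt hi hr1, G.reflect_pos hi hr2 hne, hr3⟩
    have := G.reflect_pos hi hr2 hne
    rw [heq] at this
    have h5 : r = D.neg (D.simple i) := by
      rw [← G.reflect_reflect hi hr1, heq, G.reflect_simple hi]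
    rw [h5, isPosRoot_neg G (G.simple_lt hi)] at hr2
    exact not_pos_of_neg G hr2 (G.simple_pos hi)
  · intro r hr
    rw [Finset.mem_erase, Finset.mem_filter, Finset.mem_range] at hr
    obtain ⟨hne, hr1, hr2, hr3⟩ := hr
    rw [Finset.mem_filter, Finset.mem_range, wact_append, wact_cons, wact_nil, G.reflect_reflect hi hr1]
    exact ⟨G.reflect_lt hi hr1, G.reflect_pos hi hr2 hne, hr3⟩
  · intro r hr
    rw [Finset.mem_filter, Finset.mem_range] at hr
    exact G.reflect_reflect hi hr.1
  · intro r hr
    rw [Finset.mem_erase, Finset.mem_filter, Finset.mem_range] at hr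
    exact G.reflect_reflect hi hr.2.1

/-- appending the reflection in a simple root which `w` keeps positive raises the inversion number by one. -/
theorem inv_append_of_pos (G : Good D) {w : List ℕ} (hw : ∀ a ∈ w, a < D.rank) {i : ℕ} (hi : i < D.rank)
    (h : D.IsPosRoot (wact D w (D.simple i))) : inv D (w ++ [i]) = inv D w + 1 := by
  have hw' : ∀ a ∈ w ++ [i], a < D.rank := by
    intro a ha
    rcases List.mem_append.1 ha with ha | ha
    · exact hw a ha
    · rw [List.mem_singleton] at ha
      rw [ha]
      exact hi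
  have h' : D.IsNegRoot (wact D (w ++ [i]) (D.simple i)) := by
    rw [wact_append, wact_cons, wact_nil, G.reflect_simple hi, wact_neg G hw (G.simple_lt hi),
      isNegRoot_neg G (wact_lt G hw (G.simple_lt hi))]
    exact h
  have h1 := inv_append_of_neg G hw' hi h'
  have h2 : inv D (w ++ [i] ++ [i]) = inv D w := by
    unfold inv
    congr 1
    refine Finset.filter_congr fun r hr => ?_
    have hr := Finset.mem_range.1 hr
    rw [wact_append, wact_append, wact_cons, wact_cons, wact_nil, wact_nil, G.reflect_reflect hi hr]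
  omega

/-- no inversions: all positive roots stay positive. -/
theorem inv_eq_zero_iff (G : Good D) {w : List ℕ} (hw : ∀ a ∈ w, a < D.rank) :
    inv D w = 0 ↔ ∀ r, D.IsPosRoot r → D.IsPosRoot (wact D w r) := by
  unfold inv
  rw [Finset.card_eq_zero, Finset.filter_eq_empty_iff]
  constructor
  · intro h r hr
    rcases pos_or_neg G (wact_lt G hw hr.1) with h' | h'
    · exact h'
    · exact absurd ⟨hr, h'⟩ (h (Finset.mem_range.2 hr.1))
  · rintro h r _ ⟨hr, hn⟩
    exact not_pos_of_neg G hn (h r hr)

/-- Induction on words through inversions (the order of letters reversed): for every word `w` there is an equivalent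
word (same action on roots) built from the empty one by appending letters `i` with `w (p_i) > 0`, up to words
preserving positivity. Stated as an induction principle for properties of words depending only on the action. -/
theorem inv_induction (G : Good D) {P : List ℕ → Prop}
    (h0 : ∀ w : List ℕ, (∀ a ∈ w, a < D.rank) → (∀ r, D.IsPosRoot r → D.IsPosRoot (wact D w r)) → P w)
    (h1 : ∀ (w : List ℕ) (i : ℕ), (∀ a ∈ w, a < D.rank) → i < D.rank → D.IsNegRoot (wact D w (D.simple i)) →
      P (w ++ [i]) → P w) (w : List ℕ) (hw : ∀ a ∈ w, a < D.rank) : P w := by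
  induction hn : inv D w generalizing w with
  | zero => exact h0 w hw ((inv_eq_zero_iff G hw).1 hn)
  | succ n ih =>
    have hex : ∃ r, D.IsPosRoot r ∧ D.IsNegRoot (wact D w r) := by
      by_contra hcon
      push Not at hcon
      have : inv D w = 0 := by
        rw [inv_eq_zero_iff G hw]
        intro r hr
        rcases pos_or_neg G (wact_lt G hw hr.1) with h' | h'
        · exact h'
        · exact absurd h' (hcon r hr)
      omega
    obtain ⟨i, hi, hneg⟩ := exists_simple_neg G hw hex
    refine h1 w i hw hi hneg (ih (w ++ [i]) ?_ ?_)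
    · intro a ha
      rcases List.mem_append.1 ha with ha | ha
      · exact hw a ha
      · rw [List.mem_singleton] at ha
        rw [ha]
        exact hi
    · have := inv_append_of_neg G hw hi hneg
      omega

/-! ### General reflections -/

/-- For all roots `r`, `s` there is a root `u = w_r(s)` with `u = s - A_{r,s} r` and `h_u = h_s - A_{s,r} h_r`. -/
theorem exists_reflection (G : Good D) {r : ℕ} (hr : r < D.nroots) : ∀ s < D.nroots, ∃ u < D.nroots,
    (∀ j < D.rank, co D u j = co D s j - car D s r * co D r j) ∧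
    (∀ i < D.rank, D.cartan i u = D.cartan i s - car D r s * D.cartan i r) := by
  refine root_induction G (P := fun r => ∀ s < D.nroots, ∃ u < D.nroots,
    (∀ j < D.rank, co D u j = co D s j - car D s r * co D r j) ∧
    (∀ i < D.rank, D.cartan i u = D.cartan i s - car D r s * D.cartan i r)) ?_ ?_ r hr
  · intro i hi s hs
    refine ⟨D.reflectRoot i s, G.reflect_lt hi hs, fun j hj => ?_, fun j hj => ?_⟩
    · rw [G.co_reflect hi hs hj, G.co_simple hi hj]
      by_cases h : j = i
      · rw [if_pos h, if_pos h.symm, mul_one]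
      · rw [if_neg h, if_neg (Ne.symm h), mul_zero]
    · rw [G.cartan_reflect hi hs hj, car_simple G hi]
  · intro i hi r hr h s hs
    obtain ⟨u, hu, h1, h2⟩ := h (D.reflectRoot i s) (G.reflect_lt hi hs)
    refine ⟨D.reflectRoot i u, G.reflect_lt hi hu, fun j hj => ?_, fun j hj => ?_⟩
    · have hc : car D u (D.simple i) = car D (D.reflectRoot i s) (D.simple i) -
          car D (D.reflectRoot i s) r * car D r (D.simple i) := by
        unfold car
        rw [Finset.mul_sum, ← Finset.sum_sub_distrib]
        refine Finset.sum_congr rfl fun k hk => ?_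
        rw [h1 k (Finset.mem_range.1 hk)]
        unfold car
        ring
      have hc2 : car D (D.reflectRoot i s) (D.simple i) = - car D s (D.simple i) := by
        rw [car_reflect_left G hi hs, G.cartan_simple hi]
        ring
      have hc3 : car D (D.reflectRoot i s) r = car D s (D.reflectRoot i r) := by
        rw [← car_reflect G hi (G.reflect_lt hi hs) hr, G.reflect_reflect hi hs]
      rw [G.co_reflect hi hu hj, h1 j hj, G.co_reflect hi hs hj, G.co_reflect hi hr hj, hc, hc3, hc2]
      split
      · ring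
      · ring
    · have hc : D.cartan i u = - D.cartan i s - car D (D.reflectRoot i r) s * D.cartan i r := by
        rw [h2 i hi, G.cartan_reflect hi hs hi, G.cartan_simple hi]
        have : car D r (D.reflectRoot i s) = car D (D.reflectRoot i r) s := by
          rw [← car_reflect G hi hr (G.reflect_lt hi hs), G.reflect_reflect hi hs]
        rw [this]
        ring
      have hc2 : car D r (D.reflectRoot i s) = car D (D.reflectRoot i r) s := by
        rw [← car_reflect G hi hr (G.reflect_lt hi hs), G.reflect_reflect hi hs]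
      rw [G.cartan_reflect hi hu hj, h2 j hj, G.cartan_reflect hi hs hj, G.cartan_reflect hi hr hj, hc, hc2]
      ring

/-! ### Root subsystems -/

theorem inRootSub_iff {J : Set ℕ} {r : ℕ} :
    D.InRootSub J r ↔ r < D.nroots ∧ ∀ i < D.rank, i ∉ J → co D r i = 0 := Iff.rfl

theorem inRootSub_simple (G : Good D) {J : Set ℕ} {i : ℕ} (hi : i < D.rank) :
    D.InRootSub J (D.simple i) ↔ i ∈ J := by
  rw [inRootSub_iff]
  constructor
  · rintro ⟨-, h⟩
    by_contra hiJ
    have := h i hi hiJ
    rw [G.co_simple hi hi, if_pos rfl] at this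
    norm_num at this
  · intro hiJ
    refine ⟨G.simple_lt hi, fun k hk hkJ => ?_⟩
    rw [G.co_simple hi hk, if_neg]
    rintro rfl
    exact hkJ hiJ

theorem inRootSub_neg (G : Good D) {J : Set ℕ} {r : ℕ} (hr : r < D.nroots) :
    D.InRootSub J (D.neg r) ↔ D.InRootSub J r := by
  rw [inRootSub_iff, inRootSub_iff]
  constructor
  · rintro ⟨-, h⟩
    refine ⟨hr, fun k hk hkJ => ?_⟩
    have := h k hk hkJ
    rw [G.co_neg hr hk] at this
    omega
  · rintro ⟨-, h⟩
    refine ⟨neg_lt G hr, fun k hk hkJ => ?_⟩
    rw [G.co_neg hr hk, h k hk hkJ, neg_zero]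

theorem inRootSub_reflect (G : Good D) {J : Set ℕ} {i : ℕ} (hi : i < D.rank) (hiJ : i ∈ J) {r : ℕ}
    (hr : r < D.nroots) : D.InRootSub J (D.reflectRoot i r) ↔ D.InRootSub J r := by
  have key : ∀ k < D.rank, k ∉ J → co D (D.reflectRoot i r) k = co D r k := by
    intro k hk hkJ
    rw [G.co_reflect hi hr hk, if_neg, sub_zero]
    rintro rfl
    exact hkJ hiJ
  rw [inRootSub_iff, inRootSub_iff]
  constructor
  · rintro ⟨-, h⟩
    exact ⟨hr, fun k hk hkJ => by rw [← key k hk hkJ]; exact h k hk hkJ⟩
  · rintro ⟨-, h⟩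
    exact ⟨G.reflect_lt hi hr, fun k hk hkJ => by rw [key k hk hkJ]; exact h k hk hkJ⟩

/-- Induction over the positive roots of `Φ_J`. -/
theorem pos_induction_sub (G : Good D) {J : Set ℕ} {P : ℕ → Prop} (h0 : ∀ i < D.rank, i ∈ J → P (D.simple i))
    (h1 : ∀ i < D.rank, i ∈ J → ∀ r, D.IsPosRoot r → D.InRootSub J r → D.IsPosRoot (D.reflectRoot i r) →
      D.reflectRoot i r < r → P (D.reflectRoot i r) → P r) : ∀ r, D.IsPosRoot r → D.InRootSub J r → P r := by
  intro r
  induction r using Nat.strong_induction_on with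
  | _ r ih =>
    intro hr hJ
    obtain ⟨i, hi, hco, hcar⟩ := exists_descent G hr
    have hiJ : i ∈ J := by
      by_contra hiJ
      have := (inRootSub_iff.1 hJ).2 i hi hiJ
      omega
    by_cases hs : r = D.simple i
    · rw [hs]
      exact h0 i hi hiJ
    · have hp := G.reflect_pos hi hr hs
      have hlt := (G.reflect_lt_iff hi hr.1).2 hcar
      exact h1 i hi hiJ r hr hJ hp hlt (ih _ hlt hp ((inRootSub_reflect G hi hiJ hr.1).2 hJ))

/-- Induction over all roots of `Φ_J`. -/
theorem root_induction_sub (G : Good D) {J : Set ℕ} {P : ℕ → Prop} (h0 : ∀ i < D.rank, i ∈ J → P (D.simple i))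
    (h1 : ∀ i < D.rank, i ∈ J → ∀ r, D.InRootSub J r → P r → P (D.reflectRoot i r)) :
    ∀ r, D.InRootSub J r → P r := by
  have hpos : ∀ r, D.IsPosRoot r → D.InRootSub J r → P r := by
    refine pos_induction_sub G h0 fun i hi hiJ r hr hJ hp _ h => ?_
    have := h1 i hi hiJ _ ((inRootSub_reflect G hi hiJ hr.1).2 hJ) h
    rwa [G.reflect_reflect hi hr.1] at this
  have hneg : ∀ r, D.IsPosRoot r → D.InRootSub J r → P (D.neg r) := by
    refine pos_induction_sub G (fun i hi hiJ => ?_) fun i hi hiJ r hr hJ hp _ h => ?_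
    · have := h1 i hi hiJ _ ((inRootSub_simple G hi).2 hiJ) (h0 i hi hiJ)
      rwa [G.reflect_simple hi] at this
    · have hl := G.reflect_lt hi hr.1
      have := h1 i hi hiJ _ ((inRootSub_neg G hl).2 ((inRootSub_reflect G hi hiJ hr.1).2 hJ)) h
      rwa [G.reflect_neg hi hl, G.reflect_reflect hi hr.1] at this
  intro r hJ
  have hr : r < D.nroots := hJ.1
  rcases pos_or_neg G hr with h | h
  · exact hpos r h hJ
  · have := hneg (D.neg r) ((isPosRoot_neg G hr).2 h) ((inRootSub_neg G hr).2 hJ)
    rwa [neg_neg G hr] at this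

end Cfsg.Agent.ChevalleyStructure.RootWord
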