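import Cfsg.Agent.ChevalleyStructure.SparseHDiag
import Cfsg.Prelude.Def_ChevF4
set_option linter.all false

/-! # `h_r(t)` is diagonal for all roots of `F₄` -/

set_option autoImplicit false

namespace Cfsg.Agent.ChevalleyStructure.HDiagF4

open Cfsg.Lie Cfsg.Lie.ChevalleyDatum Cfsg.Agent.ChevalleyStructure.SparseHDiag

theorem checkF4a : allRange (fun r => hDiagCheck chevF4 r) 0 12 = true := by decide +kernel
theorem checkF4b : allRange (fun r => hDiagCheck chevF4 r) 12 12 = true := by decide +kernel
theorem checkF4c : allRange (fun r => hDiagCheck chevF4 r) 24 12 = true := by decide +kernel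
theorem checkF4d : allRange (fun r => hDiagCheck chevF4 r) 36 12 = true := by decide +kernel

theorem checkF4 {r : ℕ} (hr : r < 48) : hDiagCheck chevF4 r = true := by
  rcases lt_or_ge r 12 with h | h
  · exact allRange_spec checkF4a r (Nat.zero_le _) (by omega)
  rcases lt_or_ge r 24 with h | h
  · exact allRange_spec checkF4b r (by omega) (by omega)
  rcases lt_or_ge r 36 with h | h
  · exact allRange_spec checkF4c r (by omega) (by omega)
  · exact allRange_spec checkF4d r (by omega) (by omega)

theorem hMat_chevF4 {F : Type*} [Field F] {r : ℕ} (hr : r < chevF4.nroots) {t : F} (ht : t ≠ 0) :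
    chevF4.hMat F r t = Matrix.diagonal (hVal chevF4 r t) :=
  hMat_of_check chevF4 (checkF4 hr) ht

end Cfsg.Agent.ChevalleyStructure.HDiagF4
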