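import Cfsg.Agent.ChevalleyStructure.D4U
import Cfsg.Agent.ChevalleyStructure.TwistedBN
import Cfsg.Agent.S0309
set_option linter.all false

/-!
The (B,N)-pair of the twisted group ³D₄(q).
-/

set_option autoImplicit false

namespace Cfsg.Agent.ChevalleyStructure.D4Twisted

open Cfsg.Lie
open Cfsg.Agent.ChevalleyStructure.D4Fixed (sig coe_sig fix mem_fix twisted_le_fix twisted_induction)
open Cfsg.Agent.ChevalleyStructure.D4Cols (xU coe_xU wU)
open Cfsg.Agent.ChevalleyStructure.D4Comm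
open Cfsg.Agent.ChevalleyStructure.D4CommTab
open Cfsg.Agent.ChevalleyStructure.D4Pos
open Cfsg.Agent.ChevalleyStructure.D4NCheck
open Cfsg.Agent.ChevalleyStructure.D4NConj (nR nR_def nG nG_conj nG_def hR hR_def nR_eq nR_inv xG_inv)
open Cfsg.Agent.ChevalleyStructure.TwistedU
open Cfsg.Agent.ChevalleyStructure.D4U
open Cfsg.Agent.ChevalleyStructure.D4RGD
open Cfsg.Agent.ChevalleyStructure.TwistedBN
open scoped commutatorElement

section General
variable {K : Type*} [Field K]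

/-! ### inverse conjugation -/

theorem nG_inv_conj {i s : ℕ} (hi : i < 4) (hs : s < 24) (t : K) :
    ∃ u : K, (nG K i)⁻¹ * xG s t * (nG K i)⁻¹⁻¹ = xG (rfl' i s) u := by
  have hlt := D4NConj.rfl'_lt hi hs
  have hinv : rfl' i (rfl' i s) = s := by
    have h : ∀ i ∈ List.range 4, ∀ s ∈ List.range 24, rfl' i (rfl' i s) = s := by decide +kernel
    exact h i (List.mem_range.2 hi) s (List.mem_range.2 hs)
  have h1 : ((eta i (rfl' i s) : ℤ) : K) * ((eta i (rfl' i s) : ℤ) : K) = 1 := by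
    rcases D4NConj.eta_cases hi hlt with h | h <;> rw [h] <;> simp
  refine ⟨(eta i (rfl' i s) : K) * t, ?_⟩
  have h := nG_conj hi hlt ((eta i (rfl' i s) : K) * t)
  rw [hinv, ← mul_assoc, h1, one_mul] at h
  rw [← h]
  group

theorem na_inv_conj {s : ℕ} (hs : s < 24) (t : K) :
    ∃ u : K, (na K)⁻¹ * xG s t * (na K)⁻¹⁻¹ = xG (rfl' 1 s) u := nG_inv_conj (by norm_num) hs t

/-- the permutation induced by `n_b⁻¹` -/
def rb' (s : ℕ) : ℕ := rfl' 3 (rfl' 2 (rfl' 0 s))

theorem nb_inv_conj {s : ℕ} (hs : s < 24) (t : K) :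
    ∃ u : K, (nb K)⁻¹ * xG s t * (nb K)⁻¹⁻¹ = xG (rb' s) u := by
  have h0 := D4NConj.rfl'_lt (i := 0) (by norm_num) hs
  have h2 := D4NConj.rfl'_lt (i := 2) (by norm_num) h0
  obtain ⟨u0, e0⟩ := nG_inv_conj (i := 0) (by norm_num) hs t
  obtain ⟨u2, e2⟩ := nG_inv_conj (i := 2) (by norm_num) h0 u0
  obtain ⟨u3, e3⟩ := nG_inv_conj (i := 3) (by norm_num) h2 u2
  refine ⟨u3, ?_⟩
  unfold rb'
  rw [← e3, ← e2, ← e0]
  unfold nb
  group

variable (K) in
theorem na_inv_RS {l l' : List ℕ} (h : (l.all fun s => decide (s < 24) && l'.contains (rfl' 1 s)) = true)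
    {g : GL chevD4.Idx K} (hg : g ∈ RS K l) : (na K)⁻¹ * g * na K ∈ RS K l' := by
  have := conj_RS (fun _ hs t => na_inv_conj hs t) h hg
  rwa [inv_inv] at this

variable (K) in
theorem nb_inv_RS {l l' : List ℕ} (h : (l.all fun s => decide (s < 24) && l'.contains (rb' s)) = true)
    {g : GL chevD4.Idx K} (hg : g ∈ RS K l) : (nb K)⁻¹ * g * nb K ∈ RS K l' := by
  have := conj_RS (fun _ hs t => nb_inv_conj hs t) h hg
  rwa [inv_inv] at this

theorem RS_le_U {l : List ℕ} (h : (l.all fun s => decide (12 ≤ s) && decide (s < 24)) = true) :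
    RS K l ≤ chevD4.posUnipotent K := by
  refine rspan_le xG fun s hs t => ?_
  have h1 := List.all_eq_true.1 h s hs
  rw [Bool.and_eq_true, decide_eq_true_eq, decide_eq_true_eq] at h1
  exact Subgroup.subset_closure ⟨s, t, (D4Pos.isPosRoot_iff s).2 h1, coe_xG s t⟩

/-! ### the permutation action of `N¹` -/

/-- triality on the roots -/
def rho : Fin 24 → Fin 24 :=
  ![0, 1, 6, 2, 7, 10, 3, 8, 4, 9, 11, 5, 18, 12, 14, 19, 15, 20, 13, 16, 21, 17, 22, 23]

/-- the elements of `N` whose root permutation commutes with triality and with negation -/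
def QN (m : GL chevD4.Idx K) : Prop :=
  ∃ w : Equiv.Perm (Fin 24), (d4rgd K).Acts m w ∧ (∀ r, w (rho r) = rho (w r)) ∧ (∀ r, w (negF r) = negF (w r))

theorem QN.mul {m m' : GL chevD4.Idx K} (h : QN m) (h' : QN m') : QN (m * m') := by
  obtain ⟨w, h1, h2, h3⟩ := h
  obtain ⟨w', h1', h2', h3'⟩ := h'
  refine ⟨w * w', h1.mul h1', fun r => ?_, fun r => ?_⟩
  · rw [Equiv.Perm.mul_apply, Equiv.Perm.mul_apply, h2', h2]
  · rw [Equiv.Perm.mul_apply, Equiv.Perm.mul_apply, h3', h3]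

theorem QN.inv {m : GL chevD4.Idx K} (h : QN m) : QN m⁻¹ := by
  obtain ⟨w, h1, h2, h3⟩ := h
  refine ⟨w⁻¹, h1.inv, fun r => ?_, fun r => ?_⟩
  · rw [Equiv.Perm.inv_eq_iff_eq, h2]
    simp
  · rw [Equiv.Perm.inv_eq_iff_eq, h3]
    simp

theorem QN_one : QN (1 : GL chevD4.Idx K) := ⟨1, (d4rgd K).acts_one, fun _ => rfl, fun _ => rfl⟩

theorem QN_of_mem_H {h : GL chevD4.Idx K} (hh : h ∈ chevD4.diagonalSubgroup K) : QN h :=
  ⟨1, (d4rgd K).acts_of_mem_H hh, fun _ => rfl, fun _ => rfl⟩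

/-- the permutation of `n_a` -/
def wa : Equiv.Perm (Fin 24) := reflF 1

/-- the permutation of `n_b` -/
def wb : Equiv.Perm (Fin 24) := reflF 0 * reflF 2 * reflF 3

theorem acts_na : (d4rgd K).Acts (na K) wa := (d4rgd K).acts_n 1

theorem acts_nb : (d4rgd K).Acts (nb K) wb :=
  (((d4rgd K).acts_n 0).mul ((d4rgd K).acts_n 2)).mul ((d4rgd K).acts_n 3)

theorem QN_na : QN (na K) := ⟨wa, acts_na, by decide +kernel, by decide +kernel⟩

theorem QN_nb : QN (nb K) := ⟨wb, acts_nb, by decide +kernel, by decide +kernel⟩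

theorem acts_conj {m : GL chevD4.Idx K} {w : Equiv.Perm (Fin 24)} (h : (d4rgd K).Acts m w) {r : ℕ} (hr : r < 24)
    (t : K) : m * xG r t * m⁻¹ ∈ chevD4.rootSubgroup K (w ⟨r, hr⟩).val :=
  (h.1 ⟨r, hr⟩ (xG r t)).1 (xG_mem_rootSubgroup r t)

theorem rootSubgroup_le_U {r : Fin 24} (hr : 12 ≤ r.val) : chevD4.rootSubgroup K r.val ≤ chevD4.posUnipotent K := by
  intro g hg
  obtain ⟨t, rfl⟩ := mem_rootSubgroup.1 hg
  exact Subgroup.subset_closure ⟨r.val, t, (D4Pos.isPosRoot_iff _).2 ⟨hr, r.2⟩, coe_xG _ _⟩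

theorem conj_RS_le_U {m : GL chevD4.Idx K} {w : Equiv.Perm (Fin 24)} (h : (d4rgd K).Acts m w) {l : List ℕ}
    (hl : ∀ r ∈ l, ∃ hr : r < 24, 12 ≤ (w ⟨r, hr⟩).val) {g : GL chevD4.Idx K} (hg : g ∈ RS K l) :
    m * g * m⁻¹ ∈ chevD4.posUnipotent K := by
  have key : RS K l ≤ (chevD4.posUnipotent K).comap (MulAut.conj m).toMonoidHom := by
    refine rspan_le xG fun s hs t => ?_
    obtain ⟨hr, h2⟩ := hl s hs
    exact rootSubgroup_le_U h2 (acts_conj h hr t)
  exact key hg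

theorem rho_pos : ∀ r : Fin 24, 12 ≤ (rho r).val ↔ 12 ≤ r.val := by decide +kernel

/-- the dichotomy for the class `{p₂}` -/
theorem cases_a {m : GL chevD4.Idx K} (h : QN m) :
    (∀ x ∈ RS K [14], m⁻¹ * x * m ∈ chevD4.posUnipotent K) ∨ (∀ y ∈ RS K [9], m⁻¹ * y * m ∈ chevD4.posUnipotent K) := by
  obtain ⟨w, h1, h2, h3⟩ := h.inv
  have e : m = m⁻¹⁻¹ := (inv_inv m).symm
  by_cases hp : 12 ≤ (w 14).val
  · left
    intro x hx
    rw [e, inv_inv]
    refine conj_RS_le_U h1 ?_ hx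
    intro r hr
    rw [List.mem_singleton] at hr
    subst hr
    exact ⟨by norm_num, hp⟩
  · right
    intro x hx
    rw [e, inv_inv]
    refine conj_RS_le_U h1 ?_ hx
    intro r hr
    rw [List.mem_singleton] at hr
    subst hr
    refine ⟨by norm_num, ?_⟩
    have h4 : w ⟨9, by norm_num⟩ = negF (w 14) := h3 14
    rw [h4, negF_val]
    omega

/-- the dichotomy for the class `{p₁, p₃, p₄}` -/
theorem cases_b {m : GL chevD4.Idx K} (h : QN m) :
    (∀ x ∈ RS K [18, 13, 12], m⁻¹ * x * m ∈ chevD4.posUnipotent K) ∨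
      (∀ y ∈ RS K [5, 10, 11], m⁻¹ * y * m ∈ chevD4.posUnipotent K) := by
  obtain ⟨w, h1, h2, h3⟩ := h.inv
  have e : m = m⁻¹⁻¹ := (inv_inv m).symm
  have e13 : w 13 = rho (w 18) := h2 18
  have e12 : w 12 = rho (w 13) := h2 13
  have e10 : w 10 = rho (w 5) := h2 5
  have e11 : w 11 = rho (w 10) := h2 10
  have e5 : w 5 = negF (w 18) := h3 18
  by_cases hp : 12 ≤ (w 18).val
  · left
    intro x hx
    rw [e, inv_inv]
    refine conj_RS_le_U h1 ?_ hx
    intro r hr
    simp only [List.mem_cons, List.not_mem_nil, or_false] at hr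
    rcases hr with rfl | rfl | rfl
    · exact ⟨by norm_num, hp⟩
    · refine ⟨by norm_num, ?_⟩
      have : w ⟨13, by norm_num⟩ = rho (w 18) := e13
      rw [this, rho_pos]
      exact hp
    · refine ⟨by norm_num, ?_⟩
      have : w ⟨12, by norm_num⟩ = rho (w 13) := e12
      rw [this, rho_pos, e13, rho_pos]
      exact hp
  · right
    have hp5 : 12 ≤ (w 5).val := by
      rw [e5, negF_val]
      omega
    intro x hx
    rw [e, inv_inv]
    refine conj_RS_le_U h1 ?_ hx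
    intro r hr
    simp only [List.mem_cons, List.not_mem_nil, or_false] at hr
    rcases hr with rfl | rfl | rfl
    · exact ⟨by norm_num, hp5⟩
    · refine ⟨by norm_num, ?_⟩
      have : w ⟨10, by norm_num⟩ = rho (w 5) := e10
      rw [this, rho_pos]
      exact hp5
    · refine ⟨by norm_num, ?_⟩
      have : w ⟨11, by norm_num⟩ = rho (w 10) := e11
      rw [this, rho_pos, e10, rho_pos]
      exact hp5

/-! ### ambient Bruhat uniqueness -/

theorem borel_le_group (K : Type*) [Field K] : chevD4.borelSubgroup K ≤ chevD4.group K := by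
  rw [← d4rgd_B, ← d4rgd_G]
  exact (d4rgd K).B_le_G

theorem monomial_le_group (K : Type*) [Field K] : chevD4.monomialSubgroup K ≤ chevD4.group K := by
  rw [← d4rgd_N, ← d4rgd_G]
  exact (d4rgd K).N_le_G

theorem bruhat_unique {m m' b b' : GL chevD4.Idx K} (hm : m ∈ chevD4.monomialSubgroup K)
    (hm' : m' ∈ chevD4.monomialSubgroup K) (hb : b ∈ chevD4.borelSubgroup K) (hb' : b' ∈ chevD4.borelSubgroup K)
    (h : m = b * m' * b') : m⁻¹ * m' ∈ chevD4.borelSubgroup K := by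
  let P : Cfsg.BNPair ↥(chevD4.group K) := (d4rgd K).bnPair (chevD4.group K) (d4rgd_G K).symm
  have hPB : ∀ g : ↥(chevD4.group K), g ∈ P.B ↔ (g : GL chevD4.Idx K) ∈ chevD4.borelSubgroup K := by
    intro g
    rw [← d4rgd_B]
    exact Iff.rfl
  have hPN : ∀ g : ↥(chevD4.group K), g ∈ P.N ↔ (g : GL chevD4.Idx K) ∈ chevD4.monomialSubgroup K := by
    intro g
    rw [← d4rgd_N]
    exact Iff.rfl
  let M : ↥(chevD4.group K) := ⟨m, monomial_le_group K hm⟩
  let M' : ↥(chevD4.group K) := ⟨m', monomial_le_group K hm'⟩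
  have h1 := (Cfsg.Agent.S0309.result P (n := M) (n' := M') ((hPN M).2 hm) ((hPN M').2 hm')).1 (by
    apply DoubleCoset.doubleCoset_eq_of_mem
    rw [DoubleCoset.mem_doubleCoset]
    exact ⟨⟨b, borel_le_group K hb⟩, (hPB _).2 hb, ⟨b', borel_le_group K hb'⟩, (hPB _).2 hb', Subtype.ext h⟩)
  exact (hPB _).1 h1

end General

section Fixed
variable {K : Type*} [Field K] (φ : K →+* K)

theorem sig_lprodB (t : ℕ → K) : sig φ (lprod xG ordB t) = lprod xG ordB (tw φ t) := by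
  unfold ordB
  simp only [lprod_cons, lprod_nil, map_mul, map_one, sig_12, sig_13, sig_14, sig_15, sig_16, sig_17, sig_18, sig_19,
    sig_20, sig_21, sig_22, sig_23]
  rw [rot3 (a := xG 13 _) (xG_commute (by decide +kernel) _ _) (xG_commute (by decide +kernel) _ _),
    rot3 (a := xG 16 _) (xG_commute (by decide +kernel) _ _) (xG_commute (by decide +kernel) _ _),
    rot3 (a := xG 17 _) (xG_commute (by decide +kernel) _ _) (xG_commute (by decide +kernel) _ _)]
  rfl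

theorem inv3 {G : Type*} [Group G] {a b c : G} (h1 : Commute a b) (h2 : Commute a c) (h3 : Commute b c) :
    a⁻¹ * b⁻¹ * c⁻¹ = (a * b * c)⁻¹ := by
  have : a * b * c = c * b * a := by rw [h1.eq, mul_assoc, h2.eq, ← mul_assoc, h3.eq]
  rw [this, mul_inv_rev, mul_inv_rev, mul_assoc]

theorem X_neg (t : K) : D4Fixed.X φ (-t) = (D4Fixed.X φ t)⁻¹ := by
  unfold D4Fixed.X
  rw [map_neg, map_neg, xU_eq, xU_eq, xU_eq, xU_eq, xU_eq, xU_eq, xG_neg, xG_neg, xG_neg]
  exact inv3 (xG_commute (by decide +kernel) _ _) (xG_commute (by decide +kernel) _ _)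
    (xG_commute (by decide +kernel) _ _)

/-- decomposition with respect to the class `{p₁, p₃, p₄}` -/
theorem decomp_b {u : GL chevD4.Idx K} (hu : u ∈ chevD4.posUnipotent K) (hf : u ∈ fix φ) :
    ∃ v ∈ RS K (ordB.drop 3), ∃ t : K, u = v * D4Fixed.X φ t := by
  obtain ⟨t, ht⟩ := exists_lprod_of_mem ordB mem_ordB_iff (by decide) goodB_ordB (inv_mem hu)
  have hf' : lprod xG ordB t ∈ fix φ := ht ▸ inv_mem hf
  rw [mem_fix, sig_lprodB] at hf'
  have h := lprod_inj ordB uniqB_ordB hf'.symm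
  have h13 := h 13 (by decide)
  have h12 := h 12 (by decide)
  simp only [tw] at h13 h12
  have e1 : lprod xG ordB t = D4Fixed.X φ (t 18) * lprod xG (ordB.drop 3) t := by
    have e2 : ordB = [18, 13, 12] ++ ordB.drop 3 := rfl
    rw [e2, lprod_append]
    congr 1
    unfold D4Fixed.X
    rw [xU_eq, xU_eq, xU_eq, lprod_cons, lprod_cons, lprod_cons, lprod_nil, mul_one, h12, h13, mul_assoc]
  refine ⟨(lprod xG (ordB.drop 3) t)⁻¹, inv_mem (lprod_mem_rspan xG (fun _ h => h) t), -t 18, ?_⟩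
  have e3 : D4Fixed.X φ (-t 18) = (D4Fixed.X φ (t 18))⁻¹ := X_neg φ (t 18)
  rw [e3, ← mul_inv_rev, ← e1, ← ht, inv_inv]

/-- decomposition with respect to the class `{p₂}` -/
theorem decomp_a {u : GL chevD4.Idx K} (hu : u ∈ chevD4.posUnipotent K) (hf : u ∈ fix φ) :
    ∃ v ∈ RS K ordA.tail, ∃ t : K, φ t = t ∧ u = v * xG 14 t := by
  obtain ⟨t, ht⟩ := exists_lprod_of_mem ordA mem_ordA_iff (by decide) goodB_ordA (inv_mem hu)
  have hf' : lprod xG ordA t ∈ fix φ := ht ▸ inv_mem hf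
  have h := (lprod_mem_fix_iff φ t).1 hf' 14 (by decide)
  simp only [tw] at h
  refine ⟨(lprod xG ordA.tail t)⁻¹, inv_mem (lprod_mem_rspan xG (fun _ h => h) t), -t 14, by rw [map_neg, ← h], ?_⟩
  have e1 : lprod xG ordA t = xG 14 (t 14) * lprod xG ordA.tail t := rfl
  rw [xG_neg, ← mul_inv_rev, ← e1, ← ht, inv_inv]

theorem sig_9 (t : K) : sig φ (xG 9 t) = xG 9 (φ t) := by
  rw [← xU_eq, ← xU_eq, D4Fixed.sig_9]

theorem RS_9_fix {g : GL chevD4.Idx K} (hg : g ∈ RS K [9]) (hf : g ∈ fix φ) :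
    ∃ t, φ t = t ∧ g = xG 9 t := by
  obtain ⟨t, rfl⟩ := exists_lprod xG_add (by decide)
    (show Good (xG : ℕ → K → GL chevD4.Idx K) [9] from ⟨fun s hs => absurd hs (by simp), trivial⟩) hg
  rw [lprod_cons, lprod_nil, mul_one] at hf ⊢
  rw [mem_fix, sig_9] at hf
  refine ⟨t 9, ?_, rfl⟩
  have h := lprod_inj [9] (by decide +kernel) (t := fun _ => φ (t 9)) (t' := t) (by
    rw [lprod_cons, lprod_cons, lprod_nil, lprod_nil, hf]) 9 (by simp)
  exact h

theorem xG_comm_of_outer {r s : ℕ} (h : (r, s) ∈ D4Cols.outerPairs) (t u : K) :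
    Commute (xG r t : GL chevD4.Idx K) (xG s u) := by
  rw [← xU_eq, ← xU_eq]
  exact D4Cols.xU_comm h t u

theorem good_neg : Good (xG : ℕ → K → GL chevD4.Idx K) [5, 10, 11] := by
  have h1 (s : ℕ) (hs : s ∈ [10, 11]) (t u : K) : ⁅(xG 5 t : GL chevD4.Idx K), xG s u⁆ = 1 := by
    rw [commutatorElement_eq_one_iff_commute]
    simp only [List.mem_cons, List.not_mem_nil, or_false] at hs
    rcases hs with rfl | rfl
    · exact xG_comm_of_outer (by decide) t u
    · exact xG_comm_of_outer (by decide) t u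
  have h2 (s : ℕ) (hs : s ∈ [11]) (t u : K) : ⁅(xG 10 t : GL chevD4.Idx K), xG s u⁆ = 1 := by
    rw [commutatorElement_eq_one_iff_commute]
    simp only [List.mem_cons, List.not_mem_nil, or_false] at hs
    subst hs
    exact xG_comm_of_outer (by decide) t u
  refine ⟨fun s hs t u => ?_, fun s hs t u => ?_, fun s hs => absurd hs (by simp), trivial⟩
  · rw [h1 s hs]
    exact one_mem _
  · rw [h2 s hs]
    exact one_mem _

theorem RS_neg_fix {g : GL chevD4.Idx K} (hg : g ∈ RS K [5, 10, 11]) (hf : g ∈ fix φ) :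
    ∃ t, g = D4Fixed.Y φ t := by
  obtain ⟨t, rfl⟩ := exists_lprod xG_add (by decide) good_neg hg
  have e : sig φ (lprod xG [5, 10, 11] t) =
      lprod xG [5, 10, 11] (fun r => if r = 5 then φ (t 11) else if r = 10 then φ (t 5) else φ (t 10)) := by
    simp only [lprod_cons, lprod_nil, map_mul, map_one]
    rw [← xU_eq 5 (t 5), ← xU_eq 10 (t 10), ← xU_eq 11 (t 11), D4Fixed.sig_5, D4Fixed.sig_10, D4Fixed.sig_11,
      rot3 (D4Cols.xU_comm (by decide) _ _).symm (D4Cols.xU_comm (by decide) _ _).symm, xU_eq, xU_eq, xU_eq]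
    rfl
  rw [mem_fix, e] at hf
  have h := lprod_inj [5, 10, 11] (by decide +kernel) hf.symm
  have h10 := h 10 (by simp)
  have h11 := h 11 (by simp)
  simp only [if_true, if_false, show (10 : ℕ) ≠ 5 by norm_num, show (11 : ℕ) ≠ 5 by norm_num,
    show (11 : ℕ) ≠ 10 by norm_num] at h10 h11
  refine ⟨t 5, ?_⟩
  unfold D4Fixed.Y
  rw [xU_eq, xU_eq, xU_eq, lprod_cons, lprod_cons, lprod_cons, lprod_nil, mul_one, h11, h10, mul_assoc]

/-! ### rank one -/

/-- `x_{-r}(t) = x_r(t⁻¹) n_r(-t⁻¹) x_r(t⁻¹)` -/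
theorem rank_one_eq {r : ℕ} (t : K) :
    (xG (23 - r) t : GL chevD4.Idx K) = xG r t⁻¹ * (nR r (-t⁻¹) * xG r t⁻¹) := by
  rw [nR_def, inv_neg, inv_inv, neg_neg, ← xG_inv]
  group

theorem nR_commute {r s : ℕ} (h1 : (r, s) ∈ D4Cols.outerPairs) (h2 : (r, 23 - s) ∈ D4Cols.outerPairs)
    (h3 : (23 - r, s) ∈ D4Cols.outerPairs) (h4 : (23 - r, 23 - s) ∈ D4Cols.outerPairs) (t u : K) :
    Commute (nR r t : GL chevD4.Idx K) (nR s u) := by
  have e1 : ∀ a : K, Commute (xG r a : GL chevD4.Idx K) (nR s u) := fun a => by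
    rw [nR_def]
    exact (xG_comm_of_outer h1 _ _).mul_right ((xG_comm_of_outer h2 _ _).mul_right (xG_comm_of_outer h1 _ _))
  have e2 : ∀ a : K, Commute (xG (23 - r) a : GL chevD4.Idx K) (nR s u) := fun a => by
    rw [nR_def]
    exact (xG_comm_of_outer h3 _ _).mul_right ((xG_comm_of_outer h4 _ _).mul_right (xG_comm_of_outer h3 _ _))
  rw [nR_def r]
  exact (e1 _).mul_left ((e2 _).mul_left (e1 _))

/-- `n_b(t) = n_{p₁}(t) n_{p₃}(φ t) n_{p₄}(φ φ t)` -/
def nbt (t : K) : GL chevD4.Idx K := nR 18 t * nR 13 (φ t) * nR 12 (φ (φ t))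

/-- `h_b(t) = h_{p₁}(t) h_{p₃}(φ t) h_{p₄}(φ φ t)` -/
def hb (t : K) : GL chevD4.Idx K := hR 18 t * hR 13 (φ t) * hR 12 (φ (φ t))

theorem nb_eq : nb K = nbt φ 1 := by
  unfold nbt
  rw [map_one, map_one]
  rfl

theorem hb_mem_diagonal {t : K} (ht : t ≠ 0) : hb φ t ∈ chevD4.diagonalSubgroup K :=
  mul_mem (mul_mem (hR_mem (by norm_num) ht) (hR_mem (by norm_num) ((map_ne_zero φ).2 ht)))
    (hR_mem (by norm_num) ((map_ne_zero φ).2 ((map_ne_zero φ).2 ht)))

theorem nbt_eq (t : K) : nbt φ t = hb φ t * nb K := by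
  have c13 (a b : K) : Commute (nR 18 a : GL chevD4.Idx K) (nR 13 b) :=
    nR_commute (by decide) (by decide) (by decide) (by decide) a b
  have c12 (a b : K) : Commute (nR 18 a : GL chevD4.Idx K) (nR 12 b) :=
    nR_commute (by decide) (by decide) (by decide) (by decide) a b
  have c32 (a b : K) : Commute (nR 13 a : GL chevD4.Idx K) (nR 12 b) :=
    nR_commute (by decide) (by decide) (by decide) (by decide) a b
  have d1 : Commute (nR 18 (1 : K)) (hR 13 (φ t)) := by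
    rw [hR_def]
    exact (c13 _ _).mul_right (c13 _ _)
  have d2 : Commute (nR 18 (1 : K)) (hR 12 (φ (φ t))) := by
    rw [hR_def]
    exact (c12 _ _).mul_right (c12 _ _)
  have d3 : Commute (nR 13 (1 : K)) (hR 12 (φ (φ t))) := by
    rw [hR_def]
    exact (c32 _ _).mul_right (c32 _ _)
  unfold nbt hb
  rw [nR_eq 18 t, nR_eq 13 (φ t), nR_eq 12 (φ (φ t)), nb_eq φ]
  unfold nbt
  rw [map_one, map_one]
  calc hR 18 t * nR 18 1 * (hR 13 (φ t) * nR 13 1) * (hR 12 (φ (φ t)) * nR 12 1)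
      = hR 18 t * (nR 18 1 * hR 13 (φ t)) * (nR 13 1 * hR 12 (φ (φ t))) * nR 12 1 := by
        simp only [mul_assoc]
    _ = hR 18 t * (hR 13 (φ t) * nR 18 1) * (hR 12 (φ (φ t)) * nR 13 1) * nR 12 1 := by rw [d1.eq, d3.eq]
    _ = hR 18 t * hR 13 (φ t) * (nR 18 1 * hR 12 (φ (φ t))) * nR 13 1 * nR 12 1 := by
        simp only [mul_assoc]
    _ = hR 18 t * hR 13 (φ t) * (hR 12 (φ (φ t)) * nR 18 1) * nR 13 1 * nR 12 1 := by rw [d2.eq]
    _ = _ := by simp only [mul_assoc]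

theorem Y_rank_one (t : K) : D4Fixed.Y φ t = D4Fixed.X φ t⁻¹ * (nbt φ (-t⁻¹) * D4Fixed.X φ t⁻¹) := by
  have h := D4H1.XY_prod φ ([(true, t⁻¹)] ++ D4H1.nw (-t⁻¹) ++ [(true, t⁻¹)])
  have h1 : ((([(true, t⁻¹)] ++ D4H1.nw (-t⁻¹) ++ [(true, t⁻¹)]).map (D4H1.XY φ)).prod : GL chevD4.Idx K) =
      D4Fixed.X φ t⁻¹ * (nbt φ (-t⁻¹) * D4Fixed.X φ t⁻¹) := by
    rw [List.map_append, List.map_append, List.prod_append, List.prod_append, D4H1.n_outer_eq,
      wU_nWord (by norm_num), wU_nWord (by norm_num), wU_nWord (by norm_num)]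
    show D4Fixed.X φ t⁻¹ * 1 * _ * (D4Fixed.X φ t⁻¹ * 1) = _
    rw [mul_one, mul_assoc]
    rfl
  have h2 : ((([(true, t⁻¹)] ++ D4H1.nw (-t⁻¹) ++ [(true, t⁻¹)]).map D4H1.f1).prod : GL chevD4.Idx K) = xG 5 t := by
    rw [List.map_append, List.map_append, List.prod_append, List.prod_append, D4H1.f1_nw, wU_nWord (by norm_num)]
    show xU 18 t⁻¹ * 1 * _ * (xU 18 t⁻¹ * 1) = _
    rw [mul_one, xU_eq, mul_assoc]
    exact (rank_one_eq (r := 18) t).symm
  have h3 : ((([(true, t⁻¹)] ++ D4H1.nw (-t⁻¹) ++ [(true, t⁻¹)]).map (D4H1.f3 φ)).prod : GL chevD4.Idx K) =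
      xG 10 (φ t) := by
    rw [List.map_append, List.map_append, List.prod_append, List.prod_append, D4H1.f3_nw, wU_nWord (by norm_num)]
    show xU 13 (φ t⁻¹) * 1 * _ * (xU 13 (φ t⁻¹) * 1) = _
    rw [mul_one, xU_eq, mul_assoc, map_neg, map_inv₀]
    exact (rank_one_eq (r := 13) (φ t)).symm
  have h4 : ((([(true, t⁻¹)] ++ D4H1.nw (-t⁻¹) ++ [(true, t⁻¹)]).map (D4H1.f4 φ)).prod : GL chevD4.Idx K) =
      xG 11 (φ (φ t)) := by
    rw [List.map_append, List.map_append, List.prod_append, List.prod_append, D4H1.f4_nw, wU_nWord (by norm_num)]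
    show xU 12 (φ (φ t⁻¹)) * 1 * _ * (xU 12 (φ (φ t⁻¹)) * 1) = _
    rw [mul_one, xU_eq, mul_assoc, map_neg, map_neg, map_inv₀, map_inv₀]
    exact (rank_one_eq (r := 12) (φ (φ t))).symm
  rw [h1, h2, h3, h4] at h
  rw [h]
  unfold D4Fixed.Y
  rw [xU_eq, xU_eq, xU_eq]

end Fixed

section Twisted
variable {K : Type*} [Field K] {q : ℕ} {φ : K →+* K}

theorem wU_hWord {r : ℕ} (hr : r < 24) (t : K) : wU (chevD4.hWord r t) = hR r t := by
  apply Units.ext
  rw [D4Cols.coe_wU, D4NConj.coe_hR hr]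
  rfl

theorem hb_mem (hφ : ∀ x, φ x = x ^ q) (t : K) : hb φ t ∈ twistedD4 K q := by
  have h := D4H1.h_outer_mem (q := q) hφ t
  rw [wU_hWord (by norm_num), wU_hWord (by norm_num), wU_hWord (by norm_num)] at h
  exact h

theorem h14_mem (hφ : ∀ x, φ x = x ^ q) {t : K} (ht : φ t = t) : hR 14 t ∈ twistedD4 K q := by
  have h := D4H1.h14_mem (q := q) hφ ht
  rwa [wU_hWord (by norm_num)] at h

theorem X_mem_RS (t : K) : D4Fixed.X φ t ∈ RS K [18, 13, 12] := by
  unfold D4Fixed.X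
  rw [xU_eq, xU_eq, xU_eq]
  exact mul_mem (mul_mem (mem_rspan xG (S := {k | k ∈ [18, 13, 12]}) (by simp) _)
    (mem_rspan xG (S := {k | k ∈ [18, 13, 12]}) (by simp) _)) (mem_rspan xG (S := {k | k ∈ [18, 13, 12]}) (by simp) _)

theorem RS14_le_U : RS K [14] ≤ chevD4.posUnipotent K := RS_le_U (by decide +kernel)
theorem RSouter_le_U : RS K [18, 13, 12] ≤ chevD4.posUnipotent K := RS_le_U (by decide +kernel)

theorem nb_sq_mem : nb K * nb K ∈ chevD4.diagonalSubgroup K := by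
  have h : (d4rgd K).nw [0, 2, 3, 0, 2, 3] ∈ (d4rgd K).H := by
    apply (d4rgd K).nw_mem_H
    intro r hr x hx
    have h1 := ((d4rgd K).acts_nw [0, 2, 3, 0, 2, 3]).1 r x
    have h2 : (d4rgd K).sw [0, 2, 3, 0, 2, 3] = 1 := by
      show ((List.map reflF [0, 2, 3, 0, 2, 3]).prod : Equiv.Perm (Fin 24)) = 1
      decide +kernel
    rw [h2] at h1
    exact (d4rgd K).X_le_B hr (h1.1 hx)
  have e : (d4rgd K).nw [0, 2, 3, 0, 2, 3] = nb K * nb K := by
    simp only [RootData.RGD.nw_cons, RootData.RGD.nw_nil, d4rgd_n]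
    unfold nb
    simp only [mul_assoc, mul_one]
    rfl
  rw [← e]
  exact h

theorem ordA_tail_conj {v : GL chevD4.Idx K} (hv : v ∈ RS K ordA.tail) :
    na K * v * (na K)⁻¹ ∈ chevD4.posUnipotent K := by
  rw [posUnipotent_eq_rspan ordA mem_ordA_iff]
  exact na_RS K (by decide +kernel) hv

theorem ordB_drop_conj {v : GL chevD4.Idx K} (hv : v ∈ RS K (ordB.drop 3)) :
    nb K * v * (nb K)⁻¹ ∈ chevD4.posUnipotent K := by
  rw [posUnipotent_eq_rspan ordB mem_ordB_iff]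
  exact nb_RS K (by decide +kernel) hv

theorem xG_not_mem_borel {r : ℕ} (hr : r < 12) {t : K} (ht : t ≠ 0) : xG r t ∉ chevD4.borelSubgroup K := by
  intro h
  have h2 : xG r t ∈ chevD4.negUnipotent K :=
    Subgroup.subset_closure ⟨r, t, (D4RGD.isNegRoot_iff _).2 hr, coe_xG _ _⟩
  have h3 := Triangular.borel_inf_neg mem_types (diagonal_le_diagSub K)
  have h4 : xG r t ∈ (⊥ : Subgroup (GL chevD4.Idx K)) := by
    rw [← h3]; exact ⟨h, h2⟩
  rw [Subgroup.mem_bot, xG_eq_one_iff (by omega)] at h4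
  exact ht h4

theorem neg_not_mem_borel {g : GL chevD4.Idx K} (hg : g ∈ RS K [5, 10, 11]) (hg1 : g ≠ 1) :
    g ∉ chevD4.borelSubgroup K := by
  intro h
  have h2 : g ∈ chevD4.negUnipotent K := by
    have : RS K [5, 10, 11] ≤ chevD4.negUnipotent K := by
      refine rspan_le xG fun s hs t => Subgroup.subset_closure ⟨s, t, (D4RGD.isNegRoot_iff _).2 ?_, coe_xG _ _⟩
      have : ∀ s ∈ [5, 10, 11], s < 12 := by decide
      exact this s hs
    exact this hg
  have h3 := Triangular.borel_inf_neg mem_types (diagonal_le_diagSub K)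
  have h4 : g ∈ (⊥ : Subgroup (GL chevD4.Idx K)) := by
    rw [← h3]; exact ⟨h, h2⟩
  rw [Subgroup.mem_bot] at h4
  exact hg1 h4

theorem mem_twisted_inv_conj {n g : GL chevD4.Idx K} (hn : n ∈ twistedD4 K q) (hg : g ∈ twistedD4 K q) :
    n⁻¹ * g * n ∈ twistedD4 K q := mul_mem (mul_mem (inv_mem hn) hg) hn

theorem mem_twisted_conj {n g : GL chevD4.Idx K} (hn : n ∈ twistedD4 K q) (hg : g ∈ twistedD4 K q) :
    n * g * n⁻¹ ∈ twistedD4 K q := mul_mem (mul_mem hn hg) (inv_mem hn)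

theorem na_inv_mul_nb : (na K)⁻¹ * nb K ∉ chevD4.diagonalSubgroup K := by
  intro h
  -- conjugation maps `X_18` to the negative root group
  have h1 := ((acts_na (K := K)).inv.mul acts_nb).1 18 (xG 18 1)
  have h2 := (h1.1 (xG_mem_rootSubgroup 18 1))
  have h3 : (wa⁻¹ * wb) 18 = 4 := by decide +kernel
  rw [h3] at h2
  have h4 := H_conj h (show 18 < 24 by norm_num) (xG_mem_rootSubgroup (F := K) 18 1)
  obtain ⟨u, hu⟩ := mem_rootSubgroup.1 h4
  obtain ⟨u', hu'⟩ := mem_rootSubgroup.1 h2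
  rw [hu] at hu'
  have h5 : u' ≠ 0 := by
    rintro rfl
    have h6 : (((na K)⁻¹ * nb K) * xG 18 1 * ((na K)⁻¹ * nb K)⁻¹ : GL chevD4.Idx K) = 1 := by
      rw [hu, hu']
      exact xG_zero _
    rw [mul_inv_eq_one, mul_eq_left, xG_eq_one_iff (by norm_num)] at h6
    exact one_ne_zero h6
  apply xG_not_mem_borel (r := 4) (by norm_num) h5
  have h7 : (xG 4 u' : GL chevD4.Idx K) = xG 18 u := hu'.symm
  rw [h7]
  exact Subgroup.mem_sup_left (Subgroup.subset_closure ⟨18, u, (D4Pos.isPosRoot_iff _).2 ⟨by norm_num, by norm_num⟩,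
    coe_xG _ _⟩)

theorem nb_inv_mul_na : (nb K)⁻¹ * na K ∉ chevD4.diagonalSubgroup K := by
  intro h
  apply na_inv_mul_nb (K := K)
  have := inv_mem h
  rwa [mul_inv_rev, inv_inv] at this

/-- The data for the (B,N)-pair of ³D₄(q), index `0` for `{p₂}` and `1` for `{p₁, p₃, p₄}`. -/
def tdata (hφ : ∀ x, φ x = x ^ q) (hle : twistedD4 K q ≤ fix φ) : TwistedData (GL chevD4.Idx K) (Fin 2) where
  U := chevD4.posUnipotent K
  H := chevD4.diagonalSubgroup K
  N := chevD4.monomialSubgroup K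
  G := twistedD4 K q
  n := ![na K, nb K]
  X := ![(RS K [14] : Set (GL chevD4.Idx K)), (RS K [18, 13, 12] : Set (GL chevD4.Idx K))]
  Y := ![(RS K [9] : Set (GL chevD4.Idx K)), (RS K [5, 10, 11] : Set (GL chevD4.Idx K))]
  V := ![(RS K ordA.tail : Set (GL chevD4.Idx K)), (RS K (ordB.drop 3) : Set (GL chevD4.Idx K))]
  H_le_N := diagonal_le_monomial K
  conj_H_U := by
    intro h hh u hu
    rw [← d4rgd_U] at hu ⊢
    exact (d4rgd K).H_conj_U hh hu
  conj_N_H := fun m hm h hh => conj_mem_diagonal hm hh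
  inf_le := (borel_inf_monomial K).le
  U_inf_H := by
    intro g h1 h2
    have h3 : g ∈ chevD4.posUnipotent K ⊓ chevD4.diagonalSubgroup K := ⟨h1, h2⟩
    rw [posUnipotent_inf_diagonal, Subgroup.mem_bot] at h3
    exact h3
  n_mem_N := by
    intro i
    fin_cases i
    · exact nR_one_mem (F := K) (by decide)
    · exact mul_mem (mul_mem (nR_one_mem (F := K) (by decide)) (nR_one_mem (F := K) (by decide)))
        (nR_one_mem (F := K) (by decide))
  n_mem_G := by
    intro i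
    fin_cases i
    · exact na_mem hφ
    · exact nb_mem hφ
  sq_mem := by
    intro i
    fin_cases i
    · exact n_sq (F := K) 1
    · exact nb_sq_mem
  decomp := by
    intro i u hu huG
    fin_cases i
    · obtain ⟨v, hv, t, ht, e⟩ := decomp_a φ hu (hle huG)
      exact ⟨v, hv, xG 14 t, mem_rspan xG (S := {k | k ∈ [14]}) (by simp) t, xG14_mem hφ ht, e⟩
    · obtain ⟨v, hv, t, e⟩ := decomp_b φ hu (hle huG)
      exact ⟨v, hv, D4Fixed.X φ t, X_mem_RS t, D4Fixed.X_mem hφ t, e⟩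
  conj_V := by
    intro i v hv
    fin_cases i
    · exact ordA_tail_conj hv
    · exact ordB_drop_conj hv
  conj_X := by
    intro i x hx
    fin_cases i
    · exact na_RS K (by decide +kernel) hx
    · exact nb_RS K (by decide +kernel) hx
  conj_inv_X := by
    intro i x hx
    fin_cases i
    · exact na_inv_RS K (by decide +kernel) hx
    · exact nb_inv_RS K (by decide +kernel) hx
  rank_one := by
    intro i y hy hyG hy1
    fin_cases i
    · obtain ⟨t, ht, rfl⟩ := RS_9_fix φ hy (hle hyG)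
      have ht0 : t ≠ 0 := by
        rintro rfl
        exact hy1 (xG_zero 9)
      have hti : φ t⁻¹ = t⁻¹ := by rw [map_inv₀, ht]
      refine ⟨xG 14 t⁻¹, RS14_le_U (mem_rspan xG (S := {k | k ∈ [14]}) (by simp) _), xG14_mem hφ hti,
        hR 14 (-t⁻¹), hR_mem (by norm_num) (neg_ne_zero.2 (inv_ne_zero ht0)), h14_mem hφ (by rw [map_neg, hti]),
        xG 14 t⁻¹, mem_rspan xG (S := {k | k ∈ [14]}) (by simp) _, xG14_mem hφ hti, ?_⟩
      have h := rank_one_eq (K := K) (r := 14) t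
      have e : (xG 9 t : GL chevD4.Idx K) = xG 14 t⁻¹ * (nR 14 (-t⁻¹) * xG 14 t⁻¹) := h
      rw [e, nR_eq]
      simp only [mul_assoc]
      rfl
    · obtain ⟨t, rfl⟩ := RS_neg_fix φ hy (hle hyG)
      have ht0 : t ≠ 0 := by
        rintro rfl
        apply hy1
        unfold D4Fixed.Y
        rw [map_zero, map_zero, xU_eq, xU_eq, xU_eq, xG_zero, xG_zero, xG_zero, mul_one, mul_one]
      refine ⟨D4Fixed.X φ t⁻¹, RSouter_le_U (X_mem_RS _), D4Fixed.X_mem hφ _, hb φ (-t⁻¹),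
        hb_mem_diagonal φ (neg_ne_zero.2 (inv_ne_zero ht0)), hb_mem hφ _, D4Fixed.X φ t⁻¹, X_mem_RS _,
        D4Fixed.X_mem hφ _, ?_⟩
      rw [Y_rank_one, nbt_eq]
      simp only [mul_assoc]
      rfl
  root_cases := by
    intro m hm i
    have hQ : QN m := by
      have key : Subgroup.closure (Set.range ![na K, nb K]) ⊔ (chevD4.diagonalSubgroup K ⊓ twistedD4 K q) ≤
          ({ carrier := {m | QN m}, mul_mem' := fun h h' => QN.mul h h', one_mem' := QN_one,
             inv_mem' := fun h => QN.inv h } : Subgroup (GL chevD4.Idx K)) := by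
        apply sup_le
        · rw [Subgroup.closure_le]
          rintro _ ⟨i, rfl⟩
          fin_cases i
          · exact QN_na
          · exact QN_nb
        · intro g hg
          exact QN_of_mem_H hg.1
      exact key hm
    fin_cases i
    · rcases cases_a hQ with h | h
      · exact Or.inl fun x hx _ => h x hx
      · exact Or.inr fun x hx _ => h x hx
    · rcases cases_b hQ with h | h
      · exact Or.inl fun x hx _ => h x hx
      · exact Or.inr fun x hx _ => h x hx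
  gen := by
    have hna : na K ∈ Subgroup.closure ({g | g ∈ chevD4.posUnipotent K ∧ g ∈ twistedD4 K q} ∪
        Set.range ![na K, nb K]) := Subgroup.subset_closure (Or.inr ⟨0, rfl⟩)
    have hnb : nb K ∈ Subgroup.closure ({g | g ∈ chevD4.posUnipotent K ∧ g ∈ twistedD4 K q} ∪
        Set.range ![na K, nb K]) := Subgroup.subset_closure (Or.inr ⟨1, rfl⟩)
    apply twisted_induction hφ
    · intro t ht
      rw [xU_eq]
      exact Subgroup.subset_closure (Or.inl ⟨RS14_le_U (mem_rspan xG (S := {k | k ∈ [14]}) (by simp) _),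
        xG14_mem hφ ht⟩)
    · intro t ht
      have hG : xU 9 t ∈ twistedD4 K q := D4Fixed.x9_mem ((hφ t).symm.trans ht)
      have h1 : (na K)⁻¹ * xU 9 t * na K ∈ RS K [14] := by
        rw [xU_eq]
        exact na_inv_RS K (l := [9]) (by decide +kernel) (mem_rspan xG (S := {k | k ∈ [9]}) (by simp) _)
      have h2 : (na K)⁻¹ * xU 9 t * na K ∈ Subgroup.closure ({g | g ∈ chevD4.posUnipotent K ∧ g ∈ twistedD4 K q} ∪
        Set.range ![na K, nb K]) :=
        Subgroup.subset_closure (Or.inl ⟨RS14_le_U h1, mem_twisted_inv_conj (na_mem hφ) hG⟩)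
      have e : xU 9 t = na K * ((na K)⁻¹ * xU 9 t * na K) * (na K)⁻¹ := by group
      rw [e]
      exact mul_mem (mul_mem hna h2) (inv_mem hna)
    · intro t
      exact Subgroup.subset_closure (Or.inl ⟨RSouter_le_U (X_mem_RS _), D4Fixed.X_mem hφ _⟩)
    · intro t
      have hG : D4Fixed.Y φ t ∈ twistedD4 K q := D4Fixed.Y_mem hφ t
      have hY : D4Fixed.Y φ t ∈ RS K [5, 10, 11] := by
        unfold D4Fixed.Y
        rw [xU_eq, xU_eq, xU_eq]
        exact mul_mem (mul_mem (mem_rspan xG (S := {k | k ∈ [5, 10, 11]}) (by simp) _)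
          (mem_rspan xG (S := {k | k ∈ [5, 10, 11]}) (by simp) _))
          (mem_rspan xG (S := {k | k ∈ [5, 10, 11]}) (by simp) _)
      have h1 : (nb K)⁻¹ * D4Fixed.Y φ t * nb K ∈ RS K [18, 13, 12] := nb_inv_RS K (by decide +kernel) hY
      have h2 : (nb K)⁻¹ * D4Fixed.Y φ t * nb K ∈
          Subgroup.closure ({g | g ∈ chevD4.posUnipotent K ∧ g ∈ twistedD4 K q} ∪ Set.range ![na K, nb K]) :=
        Subgroup.subset_closure (Or.inl ⟨RSouter_le_U h1, mem_twisted_inv_conj (nb_mem hφ) hG⟩)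
      have e : D4Fixed.Y φ t = nb K * ((nb K)⁻¹ * D4Fixed.Y φ t * nb K) * (nb K)⁻¹ := by group
      rw [e]
      exact mul_mem (mul_mem hnb h2) (inv_mem hnb)
  bruhat := fun m hm m' hm' b hb b' hb' h => bruhat_unique hm hm' hb hb' h
  n_ne := by
    intro i j hne
    fin_cases i <;> fin_cases j
    · exact absurd rfl hne
    · exact na_inv_mul_nb
    · exact nb_inv_mul_na
    · exact absurd rfl hne
  not_le := by
    intro i
    fin_cases i
    · refine ⟨xG 14 1, RS14_le_U (mem_rspan xG (S := {k | k ∈ [14]}) (by simp) _), xG14_mem hφ (map_one φ), ?_⟩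
      obtain ⟨u, hu⟩ := na_conj (K := K) (s := 14) (by norm_num) 1
      have hu' : na K * xG 14 1 * (na K)⁻¹ = xG 9 u := hu
      show na K * xG 14 1 * (na K)⁻¹ ∉ chevD4.borelSubgroup K
      rw [hu']
      apply xG_not_mem_borel (by norm_num)
      rintro rfl
      rw [xG_zero, mul_inv_eq_one, mul_eq_left, xG_eq_one_iff (by norm_num)] at hu'
      exact one_ne_zero hu'
    · refine ⟨D4Fixed.X φ 1, RSouter_le_U (X_mem_RS _), D4Fixed.X_mem hφ _, ?_⟩
      show nb K * D4Fixed.X φ 1 * (nb K)⁻¹ ∉ chevD4.borelSubgroup K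
      apply neg_not_mem_borel (nb_RS K (by decide +kernel) (X_mem_RS _))
      intro h
      rw [mul_inv_eq_one, mul_eq_left] at h
      have h1 : lprod xG [18, 13, 12] (crd φ 0 1 0 0 0 0) = lprod xG [18, 13, 12] (fun _ => (0 : K)) := by
        have e1 : lprod xG [18, 13, 12] (crd φ 0 1 0 0 0 0) = D4Fixed.X φ (1 : K) := by
          unfold D4Fixed.X
          rw [xU_eq, xU_eq, xU_eq, lprod_cons, lprod_cons, lprod_cons, lprod_nil, mul_one, mul_assoc]
          rfl
        rw [e1, h, lprod_cons, lprod_cons, lprod_cons, lprod_nil, xG_zero, xG_zero, xG_zero, mul_one, mul_one, mul_one]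
      have h2 := lprod_inj [18, 13, 12] (by decide +kernel) h1 18 (by simp)
      exact one_ne_zero h2

/-- the elements `n_a`, `n_b` of the twisted group -/
def nA (hφ : ∀ x, φ x = x ^ q) : ↥(twistedD4 K q) := ⟨na K, na_mem hφ⟩

/-- the elements `n_a`, `n_b` of the twisted group -/
def nB (hφ : ∀ x, φ x = x ^ q) : ↥(twistedD4 K q) := ⟨nb K, nb_mem hφ⟩

theorem range_nG (hφ : ∀ x, φ x = x ^ q) (hle : twistedD4 K q ≤ fix φ) :
    Set.range (tdata hφ hle).nG = {nA hφ, nB hφ} := by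
  ext g
  constructor
  · rintro ⟨i, rfl⟩
    fin_cases i
    · exact Or.inl rfl
    · exact Or.inr rfl
  · rintro (h | h)
    · exact ⟨0, h.symm⟩
    · exact ⟨1, h.symm⟩

theorem comm_not_mem : na K * nb K * (na K)⁻¹ * (nb K)⁻¹ ∉ chevD4.borelSubgroup K := by
  intro h
  have hN : na K * nb K * (na K)⁻¹ * (nb K)⁻¹ ∈ chevD4.monomialSubgroup K := by
    have h1 : na K ∈ chevD4.monomialSubgroup K := nR_one_mem (F := K) (by decide)
    have h2 : nb K ∈ chevD4.monomialSubgroup K := mul_mem (mul_mem (nR_one_mem (F := K) (by decide))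
      (nR_one_mem (F := K) (by decide))) (nR_one_mem (F := K) (by decide))
    exact mul_mem (mul_mem (mul_mem h1 h2) (inv_mem h1)) (inv_mem h2)
  have hH : na K * nb K * (na K)⁻¹ * (nb K)⁻¹ ∈ chevD4.diagonalSubgroup K := by
    rw [← borel_inf_monomial]
    exact ⟨h, hN⟩
  have h1 := (((acts_na (K := K)).mul acts_nb).mul acts_na.inv).mul acts_nb.inv
  have h2 := (h1.1 23 (xG 23 1)).1 (xG_mem_rootSubgroup 23 1)
  have h3 : (wa * wb * wa⁻¹ * wb⁻¹) 23 = 9 := by decide +kernel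
  rw [h3] at h2
  have h4 := H_conj hH (show 23 < 24 by norm_num) (xG_mem_rootSubgroup (F := K) 23 1)
  obtain ⟨u, hu⟩ := mem_rootSubgroup.1 h4
  obtain ⟨u', hu'⟩ := mem_rootSubgroup.1 h2
  rw [hu] at hu'
  have h5 : u' ≠ 0 := by
    rintro rfl
    have h6 : ((na K * nb K * (na K)⁻¹ * (nb K)⁻¹) * xG 23 1 * (na K * nb K * (na K)⁻¹ * (nb K)⁻¹)⁻¹ :
        GL chevD4.Idx K) = 1 := by
      rw [hu, hu']
      exact xG_zero _
    rw [mul_inv_eq_one, mul_eq_left, xG_eq_one_iff (by norm_num)] at h6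
    exact one_ne_zero h6
  apply xG_not_mem_borel (r := 9) (by norm_num) h5
  have h7 : (xG 9 u' : GL chevD4.Idx K) = xG 23 u := hu'.symm
  rw [h7]
  exact Subgroup.mem_sup_left (Subgroup.subset_closure ⟨23, u, (D4Pos.isPosRoot_iff _).2 ⟨by norm_num, by norm_num⟩,
    coe_xG _ _⟩)

theorem comm_not_mem' : nb K * na K * (nb K)⁻¹ * (na K)⁻¹ ∉ chevD4.borelSubgroup K := by
  intro h
  apply comm_not_mem (K := K)
  have e : na K * nb K * (na K)⁻¹ * (nb K)⁻¹ = (nb K * na K * (nb K)⁻¹ * (na K)⁻¹)⁻¹ := by group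
  rw [e]
  exact inv_mem h

/-- The (B,N)-pair of ³D₄(q), with explicit distinguished generators. -/
theorem exists_bnPair_aux (hφ : ∀ x, φ x = x ^ q) (hle : twistedD4 K q ≤ fix φ) :
    ∃ P : Cfsg.BNPair ↥(twistedD4 K q),
      P.B = (chevD4.borelSubgroup K ⊓ twistedD4 K q).subgroupOf (twistedD4 K q) ∧
      P.N = (chevD4.monomialSubgroup K ⊓ twistedD4 K q).subgroupOf (twistedD4 K q) ∧
      P.S = {nA hφ, nB hφ} := by
  obtain ⟨P, h1, h2, h3⟩ := (tdata hφ hle).exists_bnPair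
  refine ⟨P, ?_, ?_, ?_⟩
  · rw [Subgroup.inf_subgroupOf_right]
    exact h1
  · rw [Subgroup.inf_subgroupOf_right]
    exact h2
  · rw [h3]
    exact range_nG hφ hle

theorem irreducible_of {P : Cfsg.BNPair ↥(twistedD4 K q)} (hφ : ∀ x, φ x = x ^ q)
    (hB : P.B = (chevD4.borelSubgroup K ⊓ twistedD4 K q).subgroupOf (twistedD4 K q)) (hS : P.S = {nA hφ, nB hφ}) :
    P.Irreducible := by
  have hmem (g : ↥(twistedD4 K q)) : g ∈ P.B → (g : GL chevD4.Idx K) ∈ chevD4.borelSubgroup K := by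
    intro h
    rw [hB] at h
    exact h.1
  intro J hJ hJ1 hJ2
  have hA : nA hφ ∈ J ∧ nB hφ ∈ P.S \ J ∨ nB hφ ∈ J ∧ nA hφ ∈ P.S \ J := by
    rw [hS] at hJ hJ2 ⊢
    obtain ⟨s, hs⟩ := hJ1
    obtain ⟨s', hs'⟩ := hJ2
    rcases hJ hs with h | h
    · left
      subst h
      refine ⟨hs, ?_⟩
      rcases hs'.1 with h' | h'
      · exact absurd (h' ▸ hs) hs'.2
      · exact h' ▸ hs'
    · right
      have h : s = nB hφ := h
      subst h
      refine ⟨hs, ?_⟩
      rcases hs'.1 with h' | h'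
      · exact h' ▸ hs'
      · have h' : s' = nB hφ := h'
        exact absurd (h' ▸ hs) hs'.2
  rcases hA with ⟨h1, h2⟩ | ⟨h1, h2⟩
  · exact ⟨_, h1, _, h2, fun h => comm_not_mem (hmem _ h)⟩
  · exact ⟨_, h1, _, h2, fun h => comm_not_mem' (hmem _ h)⟩

end Twisted

section Final
variable {K : Type*} [Field K] [Fintype K] {q : ℕ}

/-- **The (B,N)-pair of ³D₄(q)**, irreducible. -/
theorem exists_bnPair (hq : IsPrimePow q) (hK : Fintype.card K = q ^ 3) :
    ∃ P : Cfsg.BNPair ↥(twistedD4 K q),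
      P.B = (chevD4.borelSubgroup K ⊓ twistedD4 K q).subgroupOf (twistedD4 K q) ∧
      P.N = (chevD4.monomialSubgroup K ⊓ twistedD4 K q).subgroupOf (twistedD4 K q) ∧ P.Irreducible := by
  obtain ⟨φ, hφ⟩ := D4Fixed.exists_frob hq hK
  obtain ⟨P, h1, h2, h3⟩ := exists_bnPair_aux hφ (twisted_le_fix hK hφ)
  exact ⟨P, h1, h2, irreducible_of hφ h1 h3⟩

end Final

end Cfsg.Agent.ChevalleyStructure.D4Twisted
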