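import Cfsg.Prelude.Def_ChevD4
import Cfsg.Agent.ChevalleyStructure.WordCheck
set_option linter.all false

-- part: ChevalleyStructure/D4CommTab
section
/-!
Type D₄, any field, unconditional: additivity of the root elements and the commutators of the
positive root elements, as matrix identities (kernel-checked through `WordCheck`).
-/

set_option autoImplicit false

namespace Cfsg.Agent.ChevalleyStructure.D4CommTab

open Cfsg.Lie
open Cfsg.Agent.ChevalleyStructure.WordCheck
open scoped commutatorElement

/-- additivity check for the root `r` -/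
def addOK (r : ℕ) : Bool :=
  check chevD4 0 0 2 (xw [(r, .var 0), (r, .var 1)]) (xw [(r, .add (.var 0) (.var 1))]) &&
    check chevD4 0 0 0 (xw [(r, .const 0)]) (xw [])

theorem addOK_all : ∀ r ∈ List.range 24, addOK r = true := by
  decide +kernel

/-- the term `(k, c)` of the commutator `[x_r(t), x_s(u)] = x_k(c t u)`, if `r + s` is a root -/
def cm (r s : ℕ) : Option (ℕ × ℤ) :=
  match chevD4.commTerms r s with
  | [] => none
  | c :: _ => some (c.1, c.2.1)

/-- the right-hand side of the commutator formula -/
def cw (r s : ℕ) : List (ℕ × PExpr) :=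
  match cm r s with
  | none => []
  | some kc => [(kc.1, .mul (.const kc.2) (.mul (.var 0) (.var 1)))]

/-- the check of the commutator formula for the pair `(r, s)` -/
def commOK (r s : ℕ) : Bool :=
  check chevD4 0 0 2 (xw [(r, .var 0), (s, .var 1), (r, .neg (.var 0)), (s, .neg (.var 1))]) (xw (cw r s))

set_option maxHeartbeats 4000000 in
theorem commOK_all : ∀ r ∈ List.range' 12 12, ∀ s ∈ List.range' 12 12, s ≠ r → commOK r s = true := by
  decide +kernel

end Cfsg.Agent.ChevalleyStructure.D4CommTab
end

-- part: ChevalleyStructure/D4Comm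
section
/-!
Type D₄, any field, unconditional: the root elements `xG r t` of the general linear group, additivity,
commutators of positive root elements.
-/

set_option autoImplicit false

namespace Cfsg.Agent.ChevalleyStructure.D4Comm

open Cfsg.Lie
open Cfsg.Agent.ChevalleyStructure.WordCheck
open Cfsg.Agent.ChevalleyStructure.D4CommTab
open scoped commutatorElement

section
variable {F : Type*} [Field F]

theorem x_add (r : ℕ) (t u : F) : chevD4.x F r t * chevD4.x F r u = chevD4.x F r (t + u) := by
  by_cases hr : r < 24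
  · have h0 := addOK_all r (List.mem_range.2 hr)
    rw [addOK, Bool.and_eq_true] at h0
    have h := wordMat_eq_of_check chevD4 (fun i => if i = 0 then t else u) 0 0 2
      [(r, .var 0), (r, .var 1)] [(r, .add (.var 0) (.var 1))] h0.1 (by simp) (by simp)
    simpa [ChevalleyDatum.wordMat, wval, PExpr.denote] using h
  · have h1 : ∀ v : F, chevD4.x F r v = 1 := fun v => dif_neg hr
    rw [h1, h1, h1, one_mul]

theorem x_zero (r : ℕ) : chevD4.x F r 0 = 1 := by
  by_cases hr : r < 24
  · have h0 := addOK_all r (List.mem_range.2 hr)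
    rw [addOK, Bool.and_eq_true] at h0
    have h := wordMat_eq_of_check chevD4 (fun _ => (0 : F)) 0 0 0 [(r, .const 0)] [] h0.2 (by simp) (by simp)
    simpa [ChevalleyDatum.wordMat, wval, PExpr.denote] using h
  · exact dif_neg hr

/-- the root element `x_r(t)` of type D₄ as an element of the general linear group -/
def xG (r : ℕ) (t : F) : GL chevD4.Idx F where
  val := chevD4.x F r t
  inv := chevD4.x F r (-t)
  val_inv := by rw [x_add, add_neg_cancel, x_zero]
  inv_val := by rw [x_add, neg_add_cancel, x_zero]

theorem coe_xG (r : ℕ) (t : F) : ((xG r t : GL chevD4.Idx F) : Matrix chevD4.Idx chevD4.Idx F) = chevD4.x F r t := rfl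

theorem eq_xG_iff (g : GL chevD4.Idx F) (r : ℕ) (t : F) :
    (g : Matrix chevD4.Idx chevD4.Idx F) = chevD4.x F r t ↔ g = xG r t :=
  ⟨fun h => Units.ext h, fun h => by rw [h]; rfl⟩

theorem xG_add (r : ℕ) (t u : F) : (xG r (t + u) : GL chevD4.Idx F) = xG r t * xG r u :=
  Units.ext (x_add r t u).symm

theorem xG_zero (r : ℕ) : (xG r 0 : GL chevD4.Idx F) = 1 := Units.ext (x_zero r)

theorem xG_neg (r : ℕ) (t : F) : (xG r (-t) : GL chevD4.Idx F) = (xG r t)⁻¹ := by
  rw [eq_inv_iff_mul_eq_one, ← xG_add, neg_add_cancel, xG_zero]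

/-- the value of the commutator -/
def cval (r s : ℕ) (t u : F) : GL chevD4.Idx F :=
  match cm r s with
  | none => 1
  | some kc => xG kc.1 ((kc.2 : F) * (t * u))

theorem xG_comm {r s : ℕ} (hr : 12 ≤ r) (hr' : r < 24) (hs : 12 ≤ s) (hs' : s < 24) (hne : s ≠ r) (t u : F) :
    ⁅(xG r t : GL chevD4.Idx F), xG s u⁆ = cval r s t u := by
  have h0 := commOK_all r (by rw [List.mem_range']; exact ⟨r - 12, by omega, by omega⟩)
    s (by rw [List.mem_range']; exact ⟨s - 12, by omega, by omega⟩) hne
  have h := wordMat_eq_of_check chevD4 (fun i => if i = 0 then t else u) 0 0 2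
    [(r, .var 0), (s, .var 1), (r, .neg (.var 0)), (s, .neg (.var 1))] (cw r s) h0 (by simp) (by simp)
  apply Units.ext
  rw [commutatorElement_def, ← xG_neg, ← xG_neg]
  have h1 : chevD4.wordMat F (wval (fun i => if i = 0 then t else u)
      [(r, .var 0), (s, .var 1), (r, .neg (.var 0)), (s, .neg (.var 1))]) =
      ((xG r t * xG s u * xG r (-t) * xG s (-u) : GL chevD4.Idx F) : Matrix chevD4.Idx chevD4.Idx F) := by
    simp [ChevalleyDatum.wordMat, wval, PExpr.denote, coe_xG, mul_assoc]
  rw [← h1, h]
  unfold cw cval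
  rcases cm r s with _ | kc
  · simp [ChevalleyDatum.wordMat, wval]
  · simp [ChevalleyDatum.wordMat, wval, PExpr.denote, coe_xG]

end

end Cfsg.Agent.ChevalleyStructure.D4Comm
end
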