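import Cfsg.Prelude.Def_ChevStructure
set_option linter.all false

/-!
A small reflective checker for identities between words in root elements whose parameters are Laurent
monomials `c t^a u^b` (`c : ℤ`, `a b : ℤ`), for an arbitrary Chevalley datum.

Sparse vectors are lists of terms `(idx, c, a, b)` standing for `c t^a u^b e_idx`, where the index is the
code of a coordinate (`i` for `inl i`, `rank + s` for `inr s`).
-/

set_option autoImplicit false

namespace Cfsg.Agent.ChevalleyStructure.LaurentWord

open Cfsg.Lie
open scoped Matrix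

/-- code of a coordinate -/
def code (D : ChevalleyDatum) : D.Idx → ℕ
  | Sum.inl i => i.val
  | Sum.inr s => D.rank + s.val

theorem code_inl (D : ChevalleyDatum) (i : Fin D.rank) : code D (Sum.inl i) = i.val := rfl
theorem code_inr (D : ChevalleyDatum) (s : Fin D.nroots) : code D (Sum.inr s) = D.rank + s.val := rfl

theorem code_injective (D : ChevalleyDatum) : Function.Injective (code D) := by
  rintro (i | s) (j | u) h
  · simp only [code_inl] at h
    exact congrArg _ (Fin.ext h)
  · simp only [code_inl, code_inr] at h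
    have := i.2
    omega
  · simp only [code_inl, code_inr] at h
    have := j.2
    omega
  · simp only [code_inr] at h
    exact congrArg _ (Fin.ext (by omega))

theorem code_lt (D : ChevalleyDatum) (i : D.Idx) : code D i < D.rank + D.nroots := by
  rcases i with i | s
  · have := i.2
    simp only [code_inl]; omega
  · have := s.2
    simp only [code_inr]; omega

theorem exists_code (D : ChevalleyDatum) {k : ℕ} (h : k < D.rank + D.nroots) : ∃ i : D.Idx, code D i = k := by
  by_cases hk : k < D.rank
  · exact ⟨Sum.inl ⟨k, hk⟩, rfl⟩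
  · exact ⟨Sum.inr ⟨k - D.rank, by omega⟩, by simp only [code_inr]; omega⟩

/-- the column of `x_r(t)` with code `j`, as a list of `(row code, coefficient, exponent of t)` -/
def col (D : ChevalleyDatum) (r j : ℕ) : List (ℕ × ℤ × ℕ) :=
  if j < D.rank then
    [(j, 1, 0), (D.rank + r, - ((D.cartanSR.getD j #[]).getD r 0), 1)]
  else if j - D.rank = r then [(j, 1, 0)]
  else if j - D.rank = D.negIdx.getD r 0 then
    (j, 1, 0) :: (D.rank + r, -1, 2) ::
      (List.range D.rank).map fun i => (i, (D.coroot.getD r #[]).getD i 0, 1)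
  else
    (j, 1, 0) :: ((D.chain.getD r #[]).toList.filter (fun e => e.1 = j - D.rank)).flatMap fun e =>
      e.2.toList.zipIdx.map fun q => (D.rank + q.1.1, q.1.2, q.2 + 1)

section colSum
variable {F : Type*} [Field F]

/-- coefficient at row code `k` of a list `(row code, coefficient, exponent)` -/
def colSum (t : F) (l : List (ℕ × ℤ × ℕ)) (k : ℕ) : F :=
  (l.map fun e => if e.1 = k then (e.2.1 : F) * t ^ e.2.2 else 0).sum

theorem colSum_nil (t : F) (k : ℕ) : colSum t [] k = 0 := rfl
theorem colSum_cons (t : F) (e : ℕ × ℤ × ℕ) (l : List (ℕ × ℤ × ℕ)) (k : ℕ) :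
    colSum t (e :: l) k = (if e.1 = k then (e.2.1 : F) * t ^ e.2.2 else 0) + colSum t l k := by
  simp only [colSum, List.map_cons, List.sum_cons]
theorem colSum_append (t : F) (l₁ l₂ : List (ℕ × ℤ × ℕ)) (k : ℕ) :
    colSum t (l₁ ++ l₂) k = colSum t l₁ k + colSum t l₂ k := by
  simp only [colSum, List.map_append, List.sum_append]

theorem colSum_range (t : F) (c : ℕ → ℤ) (n : ℕ) (k : ℕ) :
    colSum t ((List.range n).map fun i => (i, c i, 1)) k = if k < n then (c k : F) * t else 0 := by
  induction n with
  | zero => simp [colSum]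
  | succ n ih =>
    rw [List.range_succ, List.map_append, colSum_append, ih]
    simp only [List.map_cons, List.map_nil, colSum_cons, colSum_nil, add_zero, pow_one]
    rcases lt_trichotomy k n with h | h | h
    · rw [if_pos h, if_neg (by omega), if_pos (by omega), add_zero]
    · subst h
      rw [if_neg (lt_irrefl _), if_pos rfl, if_pos (Nat.lt_succ_self _), zero_add]
    · rw [if_neg (by omega), if_neg (by omega), if_neg (by omega), add_zero]

theorem colSum_chain_aux (t : F) (m : ℕ) (u : ℕ) (l : List ((ℕ × ℤ) × ℕ)) :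
    colSum t (l.map fun q => (m + q.1.1, q.1.2, q.2 + 1)) (m + u) =
      (((l.filter (fun q => q.1.1 = u)).map fun q => (q.2 + 1, q.1.2)).map
        fun km : ℕ × ℤ => ((km.2 : ℤ) : F) * t ^ km.1).sum := by
  induction l with
  | nil => simp [colSum]
  | cons q l ih =>
    rw [List.map_cons, colSum_cons, ih]
    by_cases h : q.1.1 = u
    · rw [List.filter_cons_of_pos (by simpa using h)]
      simp [h]
    · rw [List.filter_cons_of_neg (by simpa using h)]
      simp [h]

theorem colSum_chain (D : ChevalleyDatum) (t : F) (u : ℕ) (l : List (ℕ × Array (ℕ × ℤ))) :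
    colSum t (l.flatMap fun e => e.2.toList.zipIdx.map fun q => (D.rank + q.1.1, q.1.2, q.2 + 1)) (D.rank + u) =
      ((l.flatMap fun e => ((e.2.toList.zipIdx).filter (fun q => q.1.1 = u)).map fun q => (q.2 + 1, q.1.2)).map
        fun km : ℕ × ℤ => ((km.2 : ℤ) : F) * t ^ km.1).sum := by
  induction l with
  | nil => simp [colSum]
  | cons e l ih =>
    rw [List.flatMap_cons, List.flatMap_cons, colSum_append, ih, List.map_append, List.sum_append,
      colSum_chain_aux]

theorem colSum_chain_low (D : ChevalleyDatum) (t : F) (k : ℕ) (hk : k < D.rank) (l : List (ℕ × Array (ℕ × ℤ))) :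
    colSum t (l.flatMap fun e => e.2.toList.zipIdx.map fun q => (D.rank + q.1.1, q.1.2, q.2 + 1)) k = 0 := by
  unfold colSum
  apply List.sum_eq_zero
  intro x hx
  simp only [List.mem_map, List.mem_flatMap] at hx
  obtain ⟨e, ⟨a, _, q, _, rfl⟩, rfl⟩ := hx
  rw [if_neg]
  simp only
  omega

/-- the columns of the root element matrices -/
theorem xMat_eq_colSum (D : ChevalleyDatum) (r : Fin D.nroots) (t : F) (i j : D.Idx) :
    D.xMat F r t i j = colSum t (col D r.val (code D j)) (code D i) := by
  rcases j with j | s
  · -- column of h_j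
    rw [code_inl]
    unfold col
    rw [if_pos j.2, colSum_cons, colSum_cons, colSum_nil, add_zero]
    rcases i with i | u
    · rw [code_inl]
      have hi := i.2
      show (if i = j then (1 : F) else 0) = _
      by_cases h : i = j
      · subst h
        rw [if_pos rfl, if_pos rfl, if_neg (by simp only; omega)]
        simp
      · rw [if_neg h, if_neg (fun h' => h (Fin.ext h'.symm)), if_neg (by simp only; omega), add_zero]
    · rw [code_inr]
      have hj := j.2
      show (if u = r then - (((D.cartanSR.getD j.val #[]).getD r.val 0 : ℤ) : F) * t else 0) = _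
      by_cases h : u = r
      · subst h
        rw [if_pos rfl, if_neg (by simp only; omega), if_pos rfl]
        simp
      · rw [if_neg h, if_neg (by simp only; omega), if_neg, add_zero]
        intro h'
        apply h
        apply Fin.ext
        simp only at h'
        omega
  · rw [code_inr]
    unfold col
    rw [if_neg (by omega), Nat.add_sub_cancel_left]
    by_cases hsr : s = r
    · subst hsr
      rw [if_pos rfl, colSum_cons, colSum_nil, add_zero]
      rcases i with i | u
      · show (if s = s then (0 : F) else _) = _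
        have hi := i.2
        rw [if_pos rfl, code_inl, if_neg (by simp only; omega)]
      · show (if s = s then (if u = s then (1 : F) else 0) else _) = _
        rw [if_pos rfl, code_inr]
        by_cases h : u = s
        · subst h
          rw [if_pos rfl, if_pos rfl]; simp
        · rw [if_neg h, if_neg]
          intro h'
          apply h
          apply Fin.ext
          simp only at h'
          omega
    · have hsr' : ¬ s.val = r.val := fun h => hsr (Fin.ext h)
      rw [if_neg hsr']
      by_cases hneg : s.val = D.negIdx.getD r.val 0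
      · rw [if_pos hneg, colSum_cons, colSum_cons, colSum_range]
        rcases i with i | u
        · show (if s = r then (0 : F) else if s.val = D.negIdx.getD r.val 0 then
            (((D.coroot.getD r.val #[]).getD i.val 0 : ℤ) : F) * t else 0) = _
          have hi := i.2
          rw [if_neg hsr, if_pos hneg, code_inl, if_neg (by simp only; omega), if_neg (by simp only; omega),
            if_pos hi, zero_add, zero_add]
        · show (if s = r then _ else if s.val = D.negIdx.getD r.val 0 then
            (if u = s then (1 : F) else if u = r then -(t ^ 2) else 0) else _) = _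
          rw [if_neg hsr, if_pos hneg, code_inr]
          by_cases h : u = s
          · subst h
            rw [if_pos rfl, if_pos rfl, if_neg, if_neg (by omega)]
            · simp
            · simp only
              omega
          · have h2 : ¬ (D.rank + s.val = D.rank + u.val) := by
              intro h'
              apply h
              apply Fin.ext
              omega
            rw [if_neg h, if_neg h2]
            by_cases h3 : u = r
            · subst h3
              rw [if_pos rfl, if_pos rfl, if_neg (by omega)]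
              simp
            · rw [if_neg h3, if_neg, if_neg (by omega)]
              · simp
              · intro h'
                apply h3
                apply Fin.ext
                simp only at h'
                omega
      · rw [if_neg hneg, colSum_cons]
        rcases i with i | u
        · show (if s = r then (0 : F) else if s.val = D.negIdx.getD r.val 0 then
            (((D.coroot.getD r.val #[]).getD i.val 0 : ℤ) : F) * t else 0) = _
          have hi := i.2
          rw [if_neg hsr, if_neg hneg, code_inl, if_neg (by simp only; omega), colSum_chain_low D t _ hi,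
            add_zero]
        · show (if s = r then _ else if s.val = D.negIdx.getD r.val 0 then
            _ else (if u = s then (1 : F) else 0) +
             ((D.chainCoeff r.val s.val u.val).map fun km => ((km.2 : ℤ) : F) * t ^ km.1).sum) = _
          rw [if_neg hsr, if_neg hneg, code_inr, colSum_chain]
          congr 1
          by_cases h : u = s
          · subst h
            rw [if_pos rfl, if_pos rfl]; simp
          · rw [if_neg h, if_neg]
            intro h'
            apply h
            apply Fin.ext
            simp only at h'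
            omega

end colSum

/-! ### Sparse vectors -/

/-- a term `(idx, c, a, b)`: `c t^a u^b e_idx` -/
abbrev Term := ℕ × ℤ × ℤ × ℤ

/-- a Laurent monomial `(c, a, b)`: `c t^a u^b` -/
abbrev Mono := ℤ × ℤ × ℤ

/-- add a term to a sparse vector, merging equal keys -/
def addTerm (τ : Term) : List Term → List Term
  | [] => if τ.2.1 = 0 then [] else [τ]
  | σ :: l =>
    if σ.1 = τ.1 ∧ σ.2.2.1 = τ.2.2.1 ∧ σ.2.2.2 = τ.2.2.2 then
      (if σ.2.1 + τ.2.1 = 0 then l else (σ.1, σ.2.1 + τ.2.1, σ.2.2.1, σ.2.2.2) :: l)
    else σ :: addTerm τ l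

/-- the column `l` scaled by the term `τ`, evaluated at the monomial `p`, added to `acc` -/
def addCol (p : Mono) (τ : Term) : List (ℕ × ℤ × ℕ) → List Term → List Term
  | [], acc => acc
  | e :: l, acc => addTerm (e.1, τ.2.1 * e.2.1 * p.1 ^ e.2.2, τ.2.2.1 + e.2.2 * p.2.1, τ.2.2.2 + e.2.2 * p.2.2)
      (addCol p τ l acc)

/-- apply `x_r(p)` to a sparse vector; `cols` is the column function -/
def applyX (n : ℕ) (cols : ℕ → ℕ → List (ℕ × ℤ × ℕ)) (r : ℕ) (p : Mono) : List Term → List Term
  | [] => []
  | τ :: l => if τ.1 < n then addCol p τ (cols r τ.1) (applyX n cols r p l) else applyX n cols r p l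

/-- apply a word of root elements to a sparse vector -/
def applyW (n : ℕ) (cols : ℕ → ℕ → List (ℕ × ℤ × ℕ)) : List (ℕ × Mono) → List Term → List Term
  | [], v => v
  | l :: w, v => applyX n cols l.1 l.2 (applyW n cols w v)

/-- subtract: `v₁ - v₂` -/
def subV (v₁ : List Term) : List Term → List Term
  | [] => v₁
  | τ :: l => addTerm (τ.1, -τ.2.1, τ.2.2.1, τ.2.2.2) (subV v₁ l)

/-- signed permutation applied to a sparse vector -/
def applyP (π : ℕ → ℕ × ℤ) (v : List Term) : List Term :=
  v.map fun τ => ((π τ.1).1, τ.2.1 * (π τ.1).2, τ.2.2.1, τ.2.2.2)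

section Eval
variable {F : Type*} [Field F]

/-- value of a monomial -/
def evM (t u : F) (p : Mono) : F := (p.1 : F) * t ^ p.2.1 * u ^ p.2.2

/-- value of a sparse vector at a code -/
def ev (t u : F) (l : List Term) (k : ℕ) : F :=
  (l.map fun τ => if τ.1 = k then evM t u τ.2 else 0).sum

theorem ev_nil (t u : F) (k : ℕ) : ev t u [] k = 0 := rfl
theorem ev_cons (t u : F) (τ : Term) (l : List Term) (k : ℕ) :
    ev t u (τ :: l) k = (if τ.1 = k then evM t u τ.2 else 0) + ev t u l k := by
  simp only [ev, List.map_cons, List.sum_cons]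

theorem ev_addTerm (t u : F) (τ : Term) (l : List Term) (k : ℕ) :
    ev t u (addTerm τ l) k = (if τ.1 = k then evM t u τ.2 else 0) + ev t u l k := by
  induction l with
  | nil =>
    rw [addTerm]
    by_cases h : τ.2.1 = 0
    · rw [if_pos h]
      have h0 : evM t u τ.2 = 0 := by
        unfold evM
        rw [h]
        simp
      rw [h0, ite_self, zero_add]
    · rw [if_neg h, ev_cons]
  | cons σ l ih =>
    rw [addTerm, ev_cons]
    by_cases h1 : σ.1 = τ.1 ∧ σ.2.2.1 = τ.2.2.1 ∧ σ.2.2.2 = τ.2.2.2
    · rw [if_pos h1]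
      have hsum : evM t u τ.2 + evM t u σ.2 = evM t u (σ.2.1 + τ.2.1, σ.2.2.1, σ.2.2.2) := by
        unfold evM
        simp only
        rw [h1.2.1, h1.2.2]
        push_cast
        ring
      by_cases h2 : σ.2.1 + τ.2.1 = 0
      · rw [if_pos h2, ← add_assoc]
        by_cases h3 : τ.1 = k
        · rw [if_pos h3, if_pos (h1.1.trans h3), hsum, h2]
          unfold evM
          simp
        · rw [if_neg h3, if_neg (by rw [h1.1]; exact h3)]
          ring
      · rw [if_neg h2, ev_cons, ← add_assoc]
        congr 1
        show (if σ.1 = k then evM t u (σ.2.1 + τ.2.1, σ.2.2.1, σ.2.2.2) else 0) = _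
        by_cases h3 : τ.1 = k
        · rw [if_pos h3, if_pos (h1.1.trans h3), if_pos (h1.1.trans h3), hsum]
        · rw [if_neg h3, if_neg (by rw [h1.1]; exact h3), if_neg (by rw [h1.1]; exact h3), add_zero]
    · rw [if_neg h1, ev_cons, ih]
      ring

theorem ev_addCol {t u : F} (ht : t ≠ 0) (hu : u ≠ 0) (p : Mono) (τ : Term) (c : List (ℕ × ℤ × ℕ))
    (acc : List Term) (k : ℕ) :
    ev t u (addCol p τ c acc) k = evM t u τ.2 * colSum (evM t u p) c k + ev t u acc k := by
  induction c with
  | nil => rw [addCol, colSum_nil, mul_zero, zero_add]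
  | cons e c ih =>
    rw [addCol, ev_addTerm, ih, colSum_cons]
    simp only
    split_ifs with h
    · unfold evM
      simp only
      rw [zpow_add₀ ht, zpow_add₀ hu, mul_pow, mul_pow, mul_comm (e.2.2 : ℤ) p.2.1,
        mul_comm (e.2.2 : ℤ) p.2.2, zpow_mul, zpow_mul, zpow_natCast, zpow_natCast]
      push_cast
      ring
    · ring

theorem ev_subV (t u : F) (v₁ v₂ : List Term) (k : ℕ) :
    ev t u (subV v₁ v₂) k = ev t u v₁ k - ev t u v₂ k := by
  induction v₂ with
  | nil => rw [subV, ev_nil, sub_zero]
  | cons τ l ih =>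
    rw [subV, ev_addTerm, ih, ev_cons]
    simp only
    split_ifs
    · unfold evM
      push_cast
      ring
    · ring

variable (D : ChevalleyDatum)

/-- the vector of a sparse vector -/
def vec (t u : F) (l : List Term) : D.Idx → F := fun i => ev t u l (code D i)

theorem vec_single (t u : F) (j : D.Idx) : vec D t u [(code D j, 1, 0, 0)] = Pi.single j 1 := by
  funext i
  unfold vec
  rw [ev_cons, ev_nil, add_zero]
  by_cases h : i = j
  · subst h
    rw [Pi.single_eq_same, if_pos rfl]
    simp [evM]
  · rw [Pi.single_eq_of_ne h, if_neg]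
    intro h'
    exact h (code_injective D h').symm

/-- `cols` is a correct table of columns of `D`. -/
def ColsOK (cols : ℕ → ℕ → List (ℕ × ℤ × ℕ)) : Prop :=
  ∀ r < D.nroots, ∀ j < D.rank + D.nroots, cols r j = col D r j

theorem vec_applyX {cols : ℕ → ℕ → List (ℕ × ℤ × ℕ)} (hc : ColsOK D cols) {t u : F} (ht : t ≠ 0) (hu : u ≠ 0)
    {r : ℕ} (hr : r < D.nroots) (p : Mono) (v : List Term) :
    vec D t u (applyX (D.rank + D.nroots) cols r p v) = (D.x F r (evM t u p)) *ᵥ (vec D t u v) := by
  have hx : D.x F r (evM t u p) = D.xMat F ⟨r, hr⟩ (evM t u p) := by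
    unfold ChevalleyDatum.x
    rw [dif_pos hr]
  rw [hx]
  funext i
  simp only [Matrix.mulVec, dotProduct]
  induction v with
  | nil =>
    show ev t u [] _ = _
    simp [vec, ev_nil]
  | cons τ v ih =>
    have hsplit : ∀ j : D.Idx, vec D t u (τ :: v) j = (if τ.1 = code D j then evM t u τ.2 else 0) + vec D t u v j :=
      fun j => ev_cons t u τ v _
    simp only [hsplit, mul_add, Finset.sum_add_distrib]
    rw [← ih]
    show ev t u (applyX _ _ _ _ (τ :: v)) _ = _
    rw [applyX]
    split_ifs with hτ
    · rw [ev_addCol ht hu]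
      congr 1
      obtain ⟨j, hj⟩ := exists_code D hτ
      rw [Finset.sum_eq_single j]
      · rw [if_pos hj.symm, xMat_eq_colSum, hc r hr _ hτ, hj, mul_comm]
      · intro j' _ hj'
        rw [if_neg, mul_zero]
        intro h
        exact hj' (code_injective D (hj.trans h).symm)
      · intro h
        exact absurd (Finset.mem_univ j) h
    · rw [Finset.sum_eq_zero, zero_add]
      · rfl
      · intro j _
        rw [if_neg, mul_zero]
        intro h
        exact hτ (h ▸ code_lt D j)

/-- evaluation of a word -/
def evW (t u : F) (w : List (ℕ × Mono)) : List (ℕ × F) := w.map fun l => (l.1, evM t u l.2)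

theorem vec_applyW {cols : ℕ → ℕ → List (ℕ × ℤ × ℕ)} (hc : ColsOK D cols) {t u : F} (ht : t ≠ 0) (hu : u ≠ 0)
    (w : List (ℕ × Mono)) (hw : ∀ l ∈ w, l.1 < D.nroots) (v : List Term) :
    vec D t u (applyW (D.rank + D.nroots) cols w v) = (D.wordMat F (evW t u w)) *ᵥ (vec D t u v) := by
  induction w with
  | nil =>
    rw [applyW]
    show _ = (([] : List (Matrix D.Idx D.Idx F)).prod) *ᵥ _
    rw [List.prod_nil, Matrix.one_mulVec]
  | cons l w ih =>
    rw [applyW, vec_applyX D hc ht hu (hw l (by simp)), ih (fun l' hl' => hw l' (by simp [hl'])),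
      Matrix.mulVec_mulVec]
    rfl

/-- extensionality of matrices by columns -/
theorem matrix_ext_cols {A B : Matrix D.Idx D.Idx F} (h : ∀ j, A *ᵥ Pi.single j 1 = B *ᵥ Pi.single j 1) :
    A = B := by
  ext i j
  have := congrFun (h j) i
  rwa [Matrix.mulVec_single_one, Matrix.mulVec_single_one] at this

/-- the check that two words agree -/
def checkEq (n nr : ℕ) (cols : ℕ → ℕ → List (ℕ × ℤ × ℕ)) (w₁ w₂ : List (ℕ × Mono)) : Bool :=
  w₁.all (fun l => decide (l.1 < nr)) && w₂.all (fun l => decide (l.1 < nr)) &&
  (List.range n).all fun j =>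
    (subV (applyW n cols w₁ [(j, 1, 0, 0)]) (applyW n cols w₂ [(j, 1, 0, 0)])).isEmpty

theorem wordMat_eq_of_checkEq {cols : ℕ → ℕ → List (ℕ × ℤ × ℕ)} (hc : ColsOK D cols) {t u : F} (ht : t ≠ 0)
    (hu : u ≠ 0) {w₁ w₂ : List (ℕ × Mono)} (h : checkEq (D.rank + D.nroots) D.nroots cols w₁ w₂ = true) :
    D.wordMat F (evW t u w₁) = D.wordMat F (evW t u w₂) := by
  unfold checkEq at h
  rw [Bool.and_eq_true, Bool.and_eq_true] at h
  obtain ⟨⟨h1, h2⟩, h3⟩ := h
  have h1' : ∀ l ∈ w₁, l.1 < D.nroots := by simpa using h1
  have h2' : ∀ l ∈ w₂, l.1 < D.nroots := by simpa using h2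
  rw [List.all_eq_true] at h3
  apply matrix_ext_cols D
  intro j
  rw [← vec_single D t u j, ← vec_applyW D hc ht hu _ h1', ← vec_applyW D hc ht hu _ h2']
  have := h3 (code D j) (List.mem_range.2 (code_lt D j))
  rw [List.isEmpty_iff] at this
  funext i
  have h4 := ev_subV t u (applyW (D.rank + D.nroots) cols w₁ [(code D j, 1, 0, 0)])
    (applyW (D.rank + D.nroots) cols w₂ [(code D j, 1, 0, 0)]) (code D i)
  rw [this, ev_nil] at h4
  exact (sub_eq_zero.1 h4.symm)

/-- the check that a word is a diagonal matrix -/
def checkDiag (n nr : ℕ) (cols : ℕ → ℕ → List (ℕ × ℤ × ℕ)) (w : List (ℕ × Mono)) (d : ℕ → Mono) : Bool :=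
  w.all (fun l => decide (l.1 < nr)) &&
  (List.range n).all fun j => (subV (applyW n cols w [(j, 1, 0, 0)]) [(j, d j)]).isEmpty

theorem wordMat_eq_of_checkDiag {cols : ℕ → ℕ → List (ℕ × ℤ × ℕ)} (hc : ColsOK D cols) {t u : F} (ht : t ≠ 0)
    (hu : u ≠ 0) {w : List (ℕ × Mono)} {d : ℕ → Mono}
    (h : checkDiag (D.rank + D.nroots) D.nroots cols w d = true) :
    D.wordMat F (evW t u w) = Matrix.diagonal fun j => evM t u (d (code D j)) := by
  unfold checkDiag at h
  rw [Bool.and_eq_true] at h
  obtain ⟨h1, h3⟩ := h
  have h1' : ∀ l ∈ w, l.1 < D.nroots := by simpa using h1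
  rw [List.all_eq_true] at h3
  apply matrix_ext_cols D
  intro j
  have := h3 (code D j) (List.mem_range.2 (code_lt D j))
  rw [List.isEmpty_iff] at this
  have h5 : D.wordMat F (evW t u w) *ᵥ Pi.single j 1 = vec D t u [(code D j, d (code D j))] := by
    rw [← vec_single D t u j, ← vec_applyW D hc ht hu _ h1']
    funext i
    have h4 := ev_subV t u (applyW (D.rank + D.nroots) cols w [(code D j, 1, 0, 0)])
      [(code D j, d (code D j))] (code D i)
    rw [this, ev_nil] at h4
    exact (sub_eq_zero.1 h4.symm)
  rw [h5]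
  funext i
  rw [Matrix.mulVec_single_one]
  show ev t u [(code D j, d (code D j))] (code D i) = Matrix.diagonal (fun j => evM t u (d (code D j))) i j
  rw [ev_cons, ev_nil, add_zero]
  by_cases hij : i = j
  · subst hij
    rw [Matrix.diagonal_apply_eq, if_pos rfl]
  · rw [Matrix.diagonal_apply_ne _ hij, if_neg]
    intro h'
    exact hij (code_injective D h').symm

/-- the signed permutation matrix: column `j` is `ε_j e_{π j}` -/
def permMat (π : ℕ → ℕ × ℤ) (F : Type*) [Field F] : Matrix D.Idx D.Idx F :=
  Matrix.of fun i j => if (π (code D j)).1 = code D i then ((π (code D j)).2 : F) else 0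

theorem vec_applyP (π : ℕ → ℕ × ℤ) (t u : F) (v : List Term)
    (hv : ∀ τ ∈ v, τ.1 < D.rank + D.nroots) :
    vec D t u (applyP π v) = (permMat D π F) *ᵥ (vec D t u v) := by
  funext i
  simp only [Matrix.mulVec, dotProduct]
  induction v with
  | nil =>
    show ev t u [] _ = _
    simp [vec, ev_nil]
  | cons τ v ih =>
    have hsplit : ∀ j : D.Idx, vec D t u (τ :: v) j = (if τ.1 = code D j then evM t u τ.2 else 0) + vec D t u v j :=
      fun j => ev_cons t u τ v _
    simp only [hsplit, mul_add, Finset.sum_add_distrib]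
    rw [← ih (fun τ' hτ' => hv τ' (by simp [hτ']))]
    show ev t u (((π τ.1).1, τ.2.1 * (π τ.1).2, τ.2.2.1, τ.2.2.2) :: applyP π v) _ = _
    rw [ev_cons]
    congr 1
    obtain ⟨j, hj⟩ := exists_code D (hv τ (by simp))
    rw [Finset.sum_eq_single j]
    · rw [if_pos hj.symm]
      show _ = (if (π (code D j)).1 = code D i then ((π (code D j)).2 : F) else 0) * _
      rw [hj]
      by_cases h : (π τ.1).1 = code D i
      · rw [if_pos h, if_pos h]
        unfold evM
        push_cast
        ring
      · rw [if_neg h, if_neg h, zero_mul]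
    · intro j' _ hj'
      rw [if_neg, mul_zero]
      intro h
      exact hj' (code_injective D (hj.trans h).symm)
    · intro h
      exact absurd (Finset.mem_univ j) h

/-- the check that `P w₁ = w₂ P` -/
def checkConj (n nr : ℕ) (cols : ℕ → ℕ → List (ℕ × ℤ × ℕ)) (π : ℕ → ℕ × ℤ) (w₁ w₂ : List (ℕ × Mono)) : Bool :=
  w₁.all (fun l => decide (l.1 < nr)) && w₂.all (fun l => decide (l.1 < nr)) &&
  (List.range n).all fun j =>
    ((applyW n cols w₁ [(j, 1, 0, 0)]).all fun τ => decide (τ.1 < n)) &&
    (subV (applyP π (applyW n cols w₁ [(j, 1, 0, 0)])) (applyW n cols w₂ (applyP π [(j, 1, 0, 0)]))).isEmpty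

theorem wordMat_conj_of_checkConj {cols : ℕ → ℕ → List (ℕ × ℤ × ℕ)} (hc : ColsOK D cols) {t u : F} (ht : t ≠ 0)
    (hu : u ≠ 0) {π : ℕ → ℕ × ℤ} {w₁ w₂ : List (ℕ × Mono)}
    (h : checkConj (D.rank + D.nroots) D.nroots cols π w₁ w₂ = true) :
    permMat D π F * D.wordMat F (evW t u w₁) = D.wordMat F (evW t u w₂) * permMat D π F := by
  unfold checkConj at h
  rw [Bool.and_eq_true, Bool.and_eq_true] at h
  obtain ⟨⟨h1, h2⟩, h3⟩ := h
  have h1' : ∀ l ∈ w₁, l.1 < D.nroots := by simpa using h1
  have h2' : ∀ l ∈ w₂, l.1 < D.nroots := by simpa using h2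
  rw [List.all_eq_true] at h3
  apply matrix_ext_cols D
  intro j
  rw [← Matrix.mulVec_mulVec, ← Matrix.mulVec_mulVec]
  have h3j := h3 (code D j) (List.mem_range.2 (code_lt D j))
  rw [Bool.and_eq_true] at h3j
  obtain ⟨h4, h5⟩ := h3j
  have h4' : ∀ τ ∈ applyW (D.rank + D.nroots) cols w₁ [(code D j, 1, 0, 0)], τ.1 < D.rank + D.nroots := by
    simpa using h4
  rw [← vec_single D t u j, ← vec_applyW D hc ht hu _ h1',
    ← vec_applyP D π t u _ h4', ← vec_applyP D π t u _ (by
      intro τ hτ
      rw [List.mem_singleton] at hτ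
      rw [hτ]
      exact code_lt D j), ← vec_applyW D hc ht hu _ h2']
  rw [List.isEmpty_iff] at h5
  funext i
  have h6 := ev_subV t u (applyP π (applyW (D.rank + D.nroots) cols w₁ [(code D j, 1, 0, 0)]))
    (applyW (D.rank + D.nroots) cols w₂ (applyP π [(code D j, 1, 0, 0)])) (code D i)
  rw [h5, ev_nil] at h6
  exact (sub_eq_zero.1 h6.symm)

end Eval

end Cfsg.Agent.ChevalleyStructure.LaurentWord
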