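import Cfsg.Prelude.Def_ChevD4
import Cfsg.Agent.ChevalleyStructure.LaurentWord
import Cfsg.Prelude.Def_ChevStructure
import Cfsg.Agent.ChevalleyStructure.D4Comm
import Cfsg.Agent.ChevalleyStructure.SparseHDiag
set_option linter.all false

-- part: ChevalleyStructure/D4Tab
section
/-!
A fast table of the columns of the root elements of the datum `chevD4`, for the reflective checker of
`LaurentWord`, and the resulting word identities.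
-/

set_option autoImplicit false

namespace Cfsg.Agent.ChevalleyStructure.D4Tab

open Cfsg.Lie
open Cfsg.Agent.ChevalleyStructure.LaurentWord

/-- `n`-th entry of a list, by structural recursion. -/
def nth {α : Type} (d : α) : List α → ℕ → α
  | [], _ => d
  | a :: _, 0 => a
  | _ :: l, n + 1 => nth d l n

/-- The columns of `x_r(t)` for `chevD4`: `colTab[r][j]` is the list of `(row code, coefficient, exponent of t)`. -/
def colTab : List (List (List (ℕ × ℤ × ℕ))) := [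
  [[(0, 1, 0), (4, 0, 1)], [(1, 1, 0), (4, 1, 1)], [(2, 1, 0), (4, 0, 1)], [(3, 1, 0), (4, 0, 1)], [(4, 1, 0)], [(5, 1, 0)], [(6, 1, 0)], [(7, 1, 0)], [(8, 1, 0)], [(9, 1, 0)], [(10, 1, 0)], [(11, 1, 0)], [(12, 1, 0)], [(13, 1, 0)], [(14, 1, 0)], [(15, 1, 0)], [(16, 1, 0)], [(17, 1, 0)], [(18, 1, 0), (5, 1, 1)], [(19, 1, 0), (6, -1, 1)], [(20, 1, 0), (7, -1, 1)], [(21, 1, 0), (8, 1, 1)], [(22, 1, 0)], [(23, 1, 0), (10, -1, 1)], [(24, 1, 0), (11, 1, 1)], [(25, 1, 0), (12, 1, 1)], [(26, 1, 0), (13, -1, 1)], [(27, 1, 0), (4, -1, 2), (0, -1, 1), (1, -2, 1), (2, -1, 1), (3, -1, 1)]],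
  [[(0, 1, 0), (5, 1, 1)], [(1, 1, 0), (5, -1, 1)], [(2, 1, 0), (5, 1, 1)], [(3, 1, 0), (5, 1, 1)], [(4, 1, 0)], [(5, 1, 0)], [(6, 1, 0)], [(7, 1, 0)], [(8, 1, 0)], [(9, 1, 0)], [(10, 1, 0)], [(11, 1, 0)], [(12, 1, 0)], [(13, 1, 0), (4, 1, 1)], [(14, 1, 0)], [(15, 1, 0)], [(16, 1, 0), (6, 1, 1)], [(17, 1, 0), (7, 1, 1)], [(18, 1, 0)], [(19, 1, 0)], [(20, 1, 0)], [(21, 1, 0), (9, 1, 1)], [(22, 1, 0), (10, -1, 1)], [(23, 1, 0)], [(24, 1, 0), (14, -1, 1)], [(25, 1, 0), (15, -1, 1)], [(26, 1, 0), (5, -1, 2), (0, -1, 1), (1, -1, 1), (2, -1, 1), (3, -1, 1)], [(27, 1, 0), (18, -1, 1)]],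
  [[(0, 1, 0), (6, 1, 1)], [(1, 1, 0), (6, 0, 1)], [(2, 1, 0), (6, 1, 1)], [(3, 1, 0), (6, -1, 1)], [(4, 1, 0)], [(5, 1, 0)], [(6, 1, 0)], [(7, 1, 0)], [(8, 1, 0)], [(9, 1, 0)], [(10, 1, 0)], [(11, 1, 0)], [(12, 1, 0), (4, -1, 1)], [(13, 1, 0)], [(14, 1, 0)], [(15, 1, 0), (5, 1, 1)], [(16, 1, 0)], [(17, 1, 0), (8, 1, 1)], [(18, 1, 0)], [(19, 1, 0)], [(20, 1, 0), (9, 1, 1)], [(21, 1, 0)], [(22, 1, 0), (11, -1, 1)], [(23, 1, 0), (14, -1, 1)], [(24, 1, 0)], [(25, 1, 0), (6, -1, 2), (0, -1, 1), (1, -1, 1), (2, -1, 1), (3, 0, 1)], [(26, 1, 0), (16, -1, 1)], [(27, 1, 0), (19, 1, 1)]],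
  [[(0, 1, 0), (7, 1, 1)], [(1, 1, 0), (7, 0, 1)], [(2, 1, 0), (7, -1, 1)], [(3, 1, 0), (7, 1, 1)], [(4, 1, 0)], [(5, 1, 0)], [(6, 1, 0)], [(7, 1, 0)], [(8, 1, 0)], [(9, 1, 0)], [(10, 1, 0)], [(11, 1, 0), (4, -1, 1)], [(12, 1, 0)], [(13, 1, 0)], [(14, 1, 0), (5, 1, 1)], [(15, 1, 0)], [(16, 1, 0), (8, 1, 1)], [(17, 1, 0)], [(18, 1, 0)], [(19, 1, 0), (9, 1, 1)], [(20, 1, 0)], [(21, 1, 0)], [(22, 1, 0), (12, -1, 1)], [(23, 1, 0), (15, -1, 1)], [(24, 1, 0), (7, -1, 2), (0, -1, 1), (1, -1, 1), (2, 0, 1), (3, -1, 1)], [(25, 1, 0)], [(26, 1, 0), (17, -1, 1)], [(27, 1, 0), (20, 1, 1)]],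
  [[(0, 1, 0), (8, 1, 1)], [(1, 1, 0), (8, 1, 1)], [(2, 1, 0), (8, -1, 1)], [(3, 1, 0), (8, -1, 1)], [(4, 1, 0)], [(5, 1, 0)], [(6, 1, 0)], [(7, 1, 0)], [(8, 1, 0)], [(9, 1, 0)], [(10, 1, 0), (4, 1, 1)], [(11, 1, 0)], [(12, 1, 0)], [(13, 1, 0)], [(14, 1, 0), (6, 1, 1)], [(15, 1, 0), (7, 1, 1)], [(16, 1, 0)], [(17, 1, 0)], [(18, 1, 0), (9, 1, 1)], [(19, 1, 0)], [(20, 1, 0)], [(21, 1, 0)], [(22, 1, 0), (13, -1, 1)], [(23, 1, 0), (8, -1, 2), (0, -1, 1), (1, -1, 1), (2, 0, 1), (3, 0, 1)], [(24, 1, 0), (16, -1, 1)], [(25, 1, 0), (17, -1, 1)], [(26, 1, 0)], [(27, 1, 0), (21, -1, 1)]],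
  [[(0, 1, 0), (9, 2, 1)], [(1, 1, 0), (9, -1, 1)], [(2, 1, 0), (9, 0, 1)], [(3, 1, 0), (9, 0, 1)], [(4, 1, 0)], [(5, 1, 0)], [(6, 1, 0)], [(7, 1, 0)], [(8, 1, 0)], [(9, 1, 0)], [(10, 1, 0), (5, 1, 1)], [(11, 1, 0), (6, 1, 1)], [(12, 1, 0), (7, 1, 1)], [(13, 1, 0), (8, 1, 1)], [(14, 1, 0)], [(15, 1, 0)], [(16, 1, 0)], [(17, 1, 0)], [(18, 1, 0)], [(19, 1, 0)], [(20, 1, 0)], [(21, 1, 0)], [(22, 1, 0), (9, -1, 2), (0, -1, 1), (1, 0, 1), (2, 0, 1), (3, 0, 1)], [(23, 1, 0), (18, -1, 1)], [(24, 1, 0), (19, -1, 1)], [(25, 1, 0), (20, -1, 1)], [(26, 1, 0), (21, -1, 1)], [(27, 1, 0)]],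
  [[(0, 1, 0), (10, -1, 1)], [(1, 1, 0), (10, 0, 1)], [(2, 1, 0), (10, 1, 1)], [(3, 1, 0), (10, 1, 1)], [(4, 1, 0)], [(5, 1, 0)], [(6, 1, 0)], [(7, 1, 0)], [(8, 1, 0), (4, -1, 1)], [(9, 1, 0), (5, -1, 1)], [(10, 1, 0)], [(11, 1, 0)], [(12, 1, 0)], [(13, 1, 0)], [(14, 1, 0)], [(15, 1, 0)], [(16, 1, 0), (11, 1, 1)], [(17, 1, 0), (12, 1, 1)], [(18, 1, 0)], [(19, 1, 0), (14, -1, 1)], [(20, 1, 0), (15, -1, 1)], [(21, 1, 0), (10, -1, 2), (0, 0, 1), (1, -1, 1), (2, -1, 1), (3, -1, 1)], [(22, 1, 0)], [(23, 1, 0)], [(24, 1, 0)], [(25, 1, 0)], [(26, 1, 0), (22, 1, 1)], [(27, 1, 0), (23, 1, 1)]],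
  [[(0, 1, 0), (11, -1, 1)], [(1, 1, 0), (11, 1, 1)], [(2, 1, 0), (11, 1, 1)], [(3, 1, 0), (11, -1, 1)], [(4, 1, 0)], [(5, 1, 0)], [(6, 1, 0)], [(7, 1, 0), (4, 1, 1)], [(8, 1, 0)], [(9, 1, 0), (6, -1, 1)], [(10, 1, 0)], [(11, 1, 0)], [(12, 1, 0)], [(13, 1, 0)], [(14, 1, 0)], [(15, 1, 0), (10, 1, 1)], [(16, 1, 0)], [(17, 1, 0), (13, 1, 1)], [(18, 1, 0), (14, -1, 1)], [(19, 1, 0)], [(20, 1, 0), (11, -1, 2), (0, 0, 1), (1, -1, 1), (2, -1, 1), (3, 0, 1)], [(21, 1, 0), (16, -1, 1)], [(22, 1, 0)], [(23, 1, 0)], [(24, 1, 0)], [(25, 1, 0), (22, 1, 1)], [(26, 1, 0)], [(27, 1, 0), (24, -1, 1)]],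
  [[(0, 1, 0), (12, -1, 1)], [(1, 1, 0), (12, 1, 1)], [(2, 1, 0), (12, -1, 1)], [(3, 1, 0), (12, 1, 1)], [(4, 1, 0)], [(5, 1, 0)], [(6, 1, 0), (4, 1, 1)], [(7, 1, 0)], [(8, 1, 0)], [(9, 1, 0), (7, -1, 1)], [(10, 1, 0)], [(11, 1, 0)], [(12, 1, 0)], [(13, 1, 0)], [(14, 1, 0), (10, 1, 1)], [(15, 1, 0)], [(16, 1, 0), (13, 1, 1)], [(17, 1, 0)], [(18, 1, 0), (15, -1, 1)], [(19, 1, 0), (12, -1, 2), (0, 0, 1), (1, -1, 1), (2, 0, 1), (3, -1, 1)], [(20, 1, 0)], [(21, 1, 0), (17, -1, 1)], [(22, 1, 0)], [(23, 1, 0)], [(24, 1, 0), (22, 1, 1)], [(25, 1, 0)], [(26, 1, 0)], [(27, 1, 0), (25, -1, 1)]],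
  [[(0, 1, 0), (13, -1, 1)], [(1, 1, 0), (13, 2, 1)], [(2, 1, 0), (13, -1, 1)], [(3, 1, 0), (13, -1, 1)], [(4, 1, 0)], [(5, 1, 0), (4, -1, 1)], [(6, 1, 0)], [(7, 1, 0)], [(8, 1, 0)], [(9, 1, 0), (8, -1, 1)], [(10, 1, 0)], [(11, 1, 0)], [(12, 1, 0)], [(13, 1, 0)], [(14, 1, 0), (11, 1, 1)], [(15, 1, 0), (12, 1, 1)], [(16, 1, 0)], [(17, 1, 0)], [(18, 1, 0), (13, -1, 2), (0, 0, 1), (1, -1, 1), (2, 0, 1), (3, 0, 1)], [(19, 1, 0), (16, -1, 1)], [(20, 1, 0), (17, -1, 1)], [(21, 1, 0)], [(22, 1, 0)], [(23, 1, 0), (22, 1, 1)], [(24, 1, 0)], [(25, 1, 0)], [(26, 1, 0)], [(27, 1, 0), (26, 1, 1)]],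
  [[(0, 1, 0), (14, 0, 1)], [(1, 1, 0), (14, -1, 1)], [(2, 1, 0), (14, 2, 1)], [(3, 1, 0), (14, 0, 1)], [(4, 1, 0)], [(5, 1, 0)], [(6, 1, 0)], [(7, 1, 0), (5, -1, 1)], [(8, 1, 0), (6, -1, 1)], [(9, 1, 0)], [(10, 1, 0)], [(11, 1, 0)], [(12, 1, 0), (10, -1, 1)], [(13, 1, 0), (11, -1, 1)], [(14, 1, 0)], [(15, 1, 0)], [(16, 1, 0)], [(17, 1, 0), (14, -1, 2), (0, 0, 1), (1, 0, 1), (2, -1, 1), (3, 0, 1)], [(18, 1, 0)], [(19, 1, 0)], [(20, 1, 0), (18, 1, 1)], [(21, 1, 0), (19, 1, 1)], [(22, 1, 0)], [(23, 1, 0)], [(24, 1, 0)], [(25, 1, 0), (23, 1, 1)], [(26, 1, 0), (24, 1, 1)], [(27, 1, 0)]],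
  [[(0, 1, 0), (15, 0, 1)], [(1, 1, 0), (15, -1, 1)], [(2, 1, 0), (15, 0, 1)], [(3, 1, 0), (15, 2, 1)], [(4, 1, 0)], [(5, 1, 0)], [(6, 1, 0), (5, -1, 1)], [(7, 1, 0)], [(8, 1, 0), (7, -1, 1)], [(9, 1, 0)], [(10, 1, 0)], [(11, 1, 0), (10, -1, 1)], [(12, 1, 0)], [(13, 1, 0), (12, -1, 1)], [(14, 1, 0)], [(15, 1, 0)], [(16, 1, 0), (15, -1, 2), (0, 0, 1), (1, 0, 1), (2, 0, 1), (3, -1, 1)], [(17, 1, 0)], [(18, 1, 0)], [(19, 1, 0), (18, 1, 1)], [(20, 1, 0)], [(21, 1, 0), (20, 1, 1)], [(22, 1, 0)], [(23, 1, 0)], [(24, 1, 0), (23, 1, 1)], [(25, 1, 0)], [(26, 1, 0), (25, 1, 1)], [(27, 1, 0)]],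
  [[(0, 1, 0), (16, 0, 1)], [(1, 1, 0), (16, 1, 1)], [(2, 1, 0), (16, 0, 1)], [(3, 1, 0), (16, -2, 1)], [(4, 1, 0)], [(5, 1, 0), (6, -1, 1)], [(6, 1, 0)], [(7, 1, 0), (8, -1, 1)], [(8, 1, 0)], [(9, 1, 0)], [(10, 1, 0), (11, -1, 1)], [(11, 1, 0)], [(12, 1, 0), (13, -1, 1)], [(13, 1, 0)], [(14, 1, 0)], [(15, 1, 0), (16, -1, 2), (0, 0, 1), (1, 0, 1), (2, 0, 1), (3, 1, 1)], [(16, 1, 0)], [(17, 1, 0)], [(18, 1, 0), (19, 1, 1)], [(19, 1, 0)], [(20, 1, 0), (21, 1, 1)], [(21, 1, 0)], [(22, 1, 0)], [(23, 1, 0), (24, 1, 1)], [(24, 1, 0)], [(25, 1, 0), (26, 1, 1)], [(26, 1, 0)], [(27, 1, 0)]],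
  [[(0, 1, 0), (17, 0, 1)], [(1, 1, 0), (17, 1, 1)], [(2, 1, 0), (17, -2, 1)], [(3, 1, 0), (17, 0, 1)], [(4, 1, 0)], [(5, 1, 0), (7, -1, 1)], [(6, 1, 0), (8, -1, 1)], [(7, 1, 0)], [(8, 1, 0)], [(9, 1, 0)], [(10, 1, 0), (12, -1, 1)], [(11, 1, 0), (13, -1, 1)], [(12, 1, 0)], [(13, 1, 0)], [(14, 1, 0), (17, -1, 2), (0, 0, 1), (1, 0, 1), (2, 1, 1), (3, 0, 1)], [(15, 1, 0)], [(16, 1, 0)], [(17, 1, 0)], [(18, 1, 0), (20, 1, 1)], [(19, 1, 0), (21, 1, 1)], [(20, 1, 0)], [(21, 1, 0)], [(22, 1, 0)], [(23, 1, 0), (25, 1, 1)], [(24, 1, 0), (26, 1, 1)], [(25, 1, 0)], [(26, 1, 0)], [(27, 1, 0)]],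
  [[(0, 1, 0), (18, 1, 1)], [(1, 1, 0), (18, -2, 1)], [(2, 1, 0), (18, 1, 1)], [(3, 1, 0), (18, 1, 1)], [(4, 1, 0), (5, -1, 1)], [(5, 1, 0)], [(6, 1, 0)], [(7, 1, 0)], [(8, 1, 0), (9, -1, 1)], [(9, 1, 0)], [(10, 1, 0)], [(11, 1, 0), (14, 1, 1)], [(12, 1, 0), (15, 1, 1)], [(13, 1, 0), (18, -1, 2), (0, 0, 1), (1, 1, 1), (2, 0, 1), (3, 0, 1)], [(14, 1, 0)], [(15, 1, 0)], [(16, 1, 0), (19, -1, 1)], [(17, 1, 0), (20, -1, 1)], [(18, 1, 0)], [(19, 1, 0)], [(20, 1, 0)], [(21, 1, 0)], [(22, 1, 0), (23, 1, 1)], [(23, 1, 0)], [(24, 1, 0)], [(25, 1, 0)], [(26, 1, 0), (27, 1, 1)], [(27, 1, 0)]],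
  [[(0, 1, 0), (19, 1, 1)], [(1, 1, 0), (19, -1, 1)], [(2, 1, 0), (19, 1, 1)], [(3, 1, 0), (19, -1, 1)], [(4, 1, 0), (6, 1, 1)], [(5, 1, 0)], [(6, 1, 0)], [(7, 1, 0), (9, -1, 1)], [(8, 1, 0)], [(9, 1, 0)], [(10, 1, 0), (14, 1, 1)], [(11, 1, 0)], [(12, 1, 0), (19, -1, 2), (0, 0, 1), (1, 1, 1), (2, 0, 1), (3, 1, 1)], [(13, 1, 0), (16, 1, 1)], [(14, 1, 0)], [(15, 1, 0), (18, -1, 1)], [(16, 1, 0)], [(17, 1, 0), (21, -1, 1)], [(18, 1, 0)], [(19, 1, 0)], [(20, 1, 0)], [(21, 1, 0)], [(22, 1, 0), (24, 1, 1)], [(23, 1, 0)], [(24, 1, 0)], [(25, 1, 0), (27, -1, 1)], [(26, 1, 0)], [(27, 1, 0)]],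
  [[(0, 1, 0), (20, 1, 1)], [(1, 1, 0), (20, -1, 1)], [(2, 1, 0), (20, -1, 1)], [(3, 1, 0), (20, 1, 1)], [(4, 1, 0), (7, 1, 1)], [(5, 1, 0)], [(6, 1, 0), (9, -1, 1)], [(7, 1, 0)], [(8, 1, 0)], [(9, 1, 0)], [(10, 1, 0), (15, 1, 1)], [(11, 1, 0), (20, -1, 2), (0, 0, 1), (1, 1, 1), (2, 1, 1), (3, 0, 1)], [(12, 1, 0)], [(13, 1, 0), (17, 1, 1)], [(14, 1, 0), (18, -1, 1)], [(15, 1, 0)], [(16, 1, 0), (21, -1, 1)], [(17, 1, 0)], [(18, 1, 0)], [(19, 1, 0)], [(20, 1, 0)], [(21, 1, 0)], [(22, 1, 0), (25, 1, 1)], [(23, 1, 0)], [(24, 1, 0), (27, -1, 1)], [(25, 1, 0)], [(26, 1, 0)], [(27, 1, 0)]],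
  [[(0, 1, 0), (21, 1, 1)], [(1, 1, 0), (21, 0, 1)], [(2, 1, 0), (21, -1, 1)], [(3, 1, 0), (21, -1, 1)], [(4, 1, 0), (8, -1, 1)], [(5, 1, 0), (9, -1, 1)], [(6, 1, 0)], [(7, 1, 0)], [(8, 1, 0)], [(9, 1, 0)], [(10, 1, 0), (21, -1, 2), (0, 0, 1), (1, 1, 1), (2, 1, 1), (3, 1, 1)], [(11, 1, 0), (16, 1, 1)], [(12, 1, 0), (17, 1, 1)], [(13, 1, 0)], [(14, 1, 0), (19, -1, 1)], [(15, 1, 0), (20, -1, 1)], [(16, 1, 0)], [(17, 1, 0)], [(18, 1, 0)], [(19, 1, 0)], [(20, 1, 0)], [(21, 1, 0)], [(22, 1, 0), (26, 1, 1)], [(23, 1, 0), (27, 1, 1)], [(24, 1, 0)], [(25, 1, 0)], [(26, 1, 0)], [(27, 1, 0)]],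
  [[(0, 1, 0), (22, -2, 1)], [(1, 1, 0), (22, 1, 1)], [(2, 1, 0), (22, 0, 1)], [(3, 1, 0), (22, 0, 1)], [(4, 1, 0)], [(5, 1, 0), (10, 1, 1)], [(6, 1, 0), (11, 1, 1)], [(7, 1, 0), (12, 1, 1)], [(8, 1, 0), (13, 1, 1)], [(9, 1, 0), (22, -1, 2), (0, 1, 1), (1, 0, 1), (2, 0, 1), (3, 0, 1)], [(10, 1, 0)], [(11, 1, 0)], [(12, 1, 0)], [(13, 1, 0)], [(14, 1, 0)], [(15, 1, 0)], [(16, 1, 0)], [(17, 1, 0)], [(18, 1, 0), (23, -1, 1)], [(19, 1, 0), (24, -1, 1)], [(20, 1, 0), (25, -1, 1)], [(21, 1, 0), (26, -1, 1)], [(22, 1, 0)], [(23, 1, 0)], [(24, 1, 0)], [(25, 1, 0)], [(26, 1, 0)], [(27, 1, 0)]],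
  [[(0, 1, 0), (23, -1, 1)], [(1, 1, 0), (23, -1, 1)], [(2, 1, 0), (23, 1, 1)], [(3, 1, 0), (23, 1, 1)], [(4, 1, 0), (10, 1, 1)], [(5, 1, 0)], [(6, 1, 0), (14, 1, 1)], [(7, 1, 0), (15, 1, 1)], [(8, 1, 0), (23, -1, 2), (0, 1, 1), (1, 1, 1), (2, 0, 1), (3, 0, 1)], [(9, 1, 0), (18, 1, 1)], [(10, 1, 0)], [(11, 1, 0)], [(12, 1, 0)], [(13, 1, 0), (22, -1, 1)], [(14, 1, 0)], [(15, 1, 0)], [(16, 1, 0), (24, -1, 1)], [(17, 1, 0), (25, -1, 1)], [(18, 1, 0)], [(19, 1, 0)], [(20, 1, 0)], [(21, 1, 0), (27, -1, 1)], [(22, 1, 0)], [(23, 1, 0)], [(24, 1, 0)], [(25, 1, 0)], [(26, 1, 0)], [(27, 1, 0)]],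
  [[(0, 1, 0), (24, -1, 1)], [(1, 1, 0), (24, 0, 1)], [(2, 1, 0), (24, 1, 1)], [(3, 1, 0), (24, -1, 1)], [(4, 1, 0), (11, -1, 1)], [(5, 1, 0), (14, 1, 1)], [(6, 1, 0)], [(7, 1, 0), (24, -1, 2), (0, 1, 1), (1, 1, 1), (2, 0, 1), (3, 1, 1)], [(8, 1, 0), (16, 1, 1)], [(9, 1, 0), (19, 1, 1)], [(10, 1, 0)], [(11, 1, 0)], [(12, 1, 0), (22, -1, 1)], [(13, 1, 0)], [(14, 1, 0)], [(15, 1, 0), (23, -1, 1)], [(16, 1, 0)], [(17, 1, 0), (26, -1, 1)], [(18, 1, 0)], [(19, 1, 0)], [(20, 1, 0), (27, 1, 1)], [(21, 1, 0)], [(22, 1, 0)], [(23, 1, 0)], [(24, 1, 0)], [(25, 1, 0)], [(26, 1, 0)], [(27, 1, 0)]],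
  [[(0, 1, 0), (25, -1, 1)], [(1, 1, 0), (25, 0, 1)], [(2, 1, 0), (25, -1, 1)], [(3, 1, 0), (25, 1, 1)], [(4, 1, 0), (12, -1, 1)], [(5, 1, 0), (15, 1, 1)], [(6, 1, 0), (25, -1, 2), (0, 1, 1), (1, 1, 1), (2, 1, 1), (3, 0, 1)], [(7, 1, 0)], [(8, 1, 0), (17, 1, 1)], [(9, 1, 0), (20, 1, 1)], [(10, 1, 0)], [(11, 1, 0), (22, -1, 1)], [(12, 1, 0)], [(13, 1, 0)], [(14, 1, 0), (23, -1, 1)], [(15, 1, 0)], [(16, 1, 0), (26, -1, 1)], [(17, 1, 0)], [(18, 1, 0)], [(19, 1, 0), (27, 1, 1)], [(20, 1, 0)], [(21, 1, 0)], [(22, 1, 0)], [(23, 1, 0)], [(24, 1, 0)], [(25, 1, 0)], [(26, 1, 0)], [(27, 1, 0)]],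
  [[(0, 1, 0), (26, -1, 1)], [(1, 1, 0), (26, 1, 1)], [(2, 1, 0), (26, -1, 1)], [(3, 1, 0), (26, -1, 1)], [(4, 1, 0), (13, 1, 1)], [(5, 1, 0), (26, -1, 2), (0, 1, 1), (1, 1, 1), (2, 1, 1), (3, 1, 1)], [(6, 1, 0), (16, 1, 1)], [(7, 1, 0), (17, 1, 1)], [(8, 1, 0)], [(9, 1, 0), (21, 1, 1)], [(10, 1, 0), (22, -1, 1)], [(11, 1, 0)], [(12, 1, 0)], [(13, 1, 0)], [(14, 1, 0), (24, -1, 1)], [(15, 1, 0), (25, -1, 1)], [(16, 1, 0)], [(17, 1, 0)], [(18, 1, 0), (27, -1, 1)], [(19, 1, 0)], [(20, 1, 0)], [(21, 1, 0)], [(22, 1, 0)], [(23, 1, 0)], [(24, 1, 0)], [(25, 1, 0)], [(26, 1, 0)], [(27, 1, 0)]],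
  [[(0, 1, 0), (27, 0, 1)], [(1, 1, 0), (27, -1, 1)], [(2, 1, 0), (27, 0, 1)], [(3, 1, 0), (27, 0, 1)], [(4, 1, 0), (27, -1, 2), (0, 1, 1), (1, 2, 1), (2, 1, 1), (3, 1, 1)], [(5, 1, 0), (18, 1, 1)], [(6, 1, 0), (19, -1, 1)], [(7, 1, 0), (20, -1, 1)], [(8, 1, 0), (21, 1, 1)], [(9, 1, 0)], [(10, 1, 0), (23, -1, 1)], [(11, 1, 0), (24, 1, 1)], [(12, 1, 0), (25, 1, 1)], [(13, 1, 0), (26, -1, 1)], [(14, 1, 0)], [(15, 1, 0)], [(16, 1, 0)], [(17, 1, 0)], [(18, 1, 0)], [(19, 1, 0)], [(20, 1, 0)], [(21, 1, 0)], [(22, 1, 0)], [(23, 1, 0)], [(24, 1, 0)], [(25, 1, 0)], [(26, 1, 0)], [(27, 1, 0)]]]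

/-- The table lookup. -/
def tcols (r j : ℕ) : List (ℕ × ℤ × ℕ) := nth [] (nth [] colTab r) j

theorem tcols_ok : ColsOK chevD4 tcols := by
  have h : ∀ r ∈ List.range 24, ∀ j ∈ List.range 28, tcols r j = col chevD4 r j := by
    decide +kernel
  intro r hr j hj
  exact h r (List.mem_range.2 hr) j (List.mem_range.2 hj)

end Cfsg.Agent.ChevalleyStructure.D4Tab
end

-- part: ChevalleyStructure/D4NCheck
section
/-!
Kernel checks for the root elements of `chevD4`: conjugation by `n_{p_i}(1)`.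
-/

set_option autoImplicit false

namespace Cfsg.Agent.ChevalleyStructure.D4NCheck

open Cfsg.Lie
open Cfsg.Agent.ChevalleyStructure.LaurentWord Cfsg.Agent.ChevalleyStructure.D4Tab

/-- indices of the simple roots -/
def simpTab : List ℕ := [18, 14, 13, 12]
/-- `reflTab[i][s]` is the index of `w_{p_i}(s)` -/
def reflTab : List (List ℕ) := [[0, 6, 7, 8, 9, 18, 1, 2, 3, 4, 10, 11, 12, 13, 19, 20, 21, 22, 5, 14, 15, 16, 17, 23], [1, 0, 2, 3, 5, 4, 6, 10, 11, 14, 7, 8, 15, 16, 9, 12, 13, 17, 19, 18, 20, 21, 23, 22], [0, 3, 4, 1, 2, 5, 8, 9, 6, 7, 13, 11, 12, 10, 16, 17, 14, 15, 18, 21, 22, 19, 20, 23], [0, 2, 1, 4, 3, 5, 7, 6, 9, 8, 10, 12, 11, 13, 15, 14, 17, 16, 18, 20, 19, 22, 21, 23]]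
/-- `etaTab[i][s]` is the sign in `n_{p_i} x_s(t) n_{p_i}⁻¹ = x_{w_{p_i} s}(± t)` -/
def etaTab : List (List ℤ) := [[1, 1, 1, 1, 1, -1, -1, -1, -1, -1, 1, 1, 1, 1, -1, -1, -1, -1, -1, 1, 1, 1, 1, 1], [-1, 1, 1, 1, -1, 1, 1, 1, 1, -1, -1, -1, -1, -1, -1, 1, 1, 1, 1, -1, 1, 1, 1, -1], [1, -1, -1, 1, 1, 1, -1, -1, 1, 1, -1, 1, 1, -1, 1, 1, -1, -1, 1, 1, 1, -1, -1, 1], [1, -1, 1, -1, 1, 1, -1, 1, -1, 1, 1, -1, -1, 1, 1, -1, 1, -1, 1, 1, -1, 1, -1, 1]]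

/-- index of the simple root `p_i` -/
def sp (i : ℕ) : ℕ := nth 0 simpTab i
/-- index of the reflected root -/
def rfl' (i s : ℕ) : ℕ := nth 0 (nth [] reflTab i) s
/-- sign -/
def eta (i s : ℕ) : ℤ := nth 0 (nth [] etaTab i) s

/-- the word of `n_{p_i}(1)` with integer parameters -/
def nwM (i : ℕ) : List (ℕ × Mono) := [(sp i, 1, 0, 0), (23 - sp i, -1, 0, 0), (sp i, 1, 0, 0)]

theorem check_nconj0 : ((List.range 24).all fun s =>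
    checkEq 28 24 tcols (nwM 0 ++ [(s, 1, 1, 0)]) ((rfl' 0 s, eta 0 s, 1, 0) :: nwM 0)) = true := by
  decide +kernel
theorem check_nconj1 : ((List.range 24).all fun s =>
    checkEq 28 24 tcols (nwM 1 ++ [(s, 1, 1, 0)]) ((rfl' 1 s, eta 1 s, 1, 0) :: nwM 1)) = true := by
  decide +kernel
theorem check_nconj2 : ((List.range 24).all fun s =>
    checkEq 28 24 tcols (nwM 2 ++ [(s, 1, 1, 0)]) ((rfl' 2 s, eta 2 s, 1, 0) :: nwM 2)) = true := by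
  decide +kernel
theorem check_nconj3 : ((List.range 24).all fun s =>
    checkEq 28 24 tcols (nwM 3 ++ [(s, 1, 1, 0)]) ((rfl' 3 s, eta 3 s, 1, 0) :: nwM 3)) = true := by
  decide +kernel

theorem check_nconj {i s : ℕ} (hi : i < 4) (hs : s < 24) :
    checkEq 28 24 tcols (nwM i ++ [(s, 1, 1, 0)]) ((rfl' i s, eta i s, 1, 0) :: nwM i) = true := by
  have h0 := check_nconj0
  have h1 := check_nconj1
  have h2 := check_nconj2
  have h3 := check_nconj3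
  rw [List.all_eq_true] at h0 h1 h2 h3
  interval_cases i
  · exact h0 s (List.mem_range.2 hs)
  · exact h1 s (List.mem_range.2 hs)
  · exact h2 s (List.mem_range.2 hs)
  · exact h3 s (List.mem_range.2 hs)

end Cfsg.Agent.ChevalleyStructure.D4NCheck
end

-- part: ChevalleyStructure/D4NConj
section
/-!
Type D₄, any field, unconditional: conjugation of the root elements by `n_{p_i}(1)` and by the diagonal elements
`h_r(t)`; the elements `n_r(t)` and `h_r(t)` in the general linear group.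
-/

set_option autoImplicit false

namespace Cfsg.Agent.ChevalleyStructure.D4NConj

open Cfsg.Lie
open Cfsg.Agent.ChevalleyStructure.LaurentWord Cfsg.Agent.ChevalleyStructure.D4Tab
open Cfsg.Agent.ChevalleyStructure.D4Comm Cfsg.Agent.ChevalleyStructure.D4NCheck
open Cfsg.Agent.ChevalleyStructure.SparseHDiag
open scoped Matrix

variable {F : Type*} [Field F]

/-! ### words -/

/-- The word `[(r₁,t₁), …]` as the element `x_{r₁}(t₁) ⋯` of the general linear group. -/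
def wordG (w : List (ℕ × F)) : GL chevD4.Idx F := (w.map fun p => xG p.1 p.2).prod

theorem wordG_nil : wordG ([] : List (ℕ × F)) = 1 := rfl

theorem wordG_cons (p : ℕ × F) (w : List (ℕ × F)) : wordG (p :: w) = xG p.1 p.2 * wordG w := by
  simp [wordG]

theorem wordG_append (w v : List (ℕ × F)) : wordG (w ++ v) = wordG w * wordG v := by
  simp [wordG]

theorem coe_wordG (w : List (ℕ × F)) :
    ((wordG w : GL chevD4.Idx F) : Matrix chevD4.Idx chevD4.Idx F) = chevD4.wordMat F w := by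
  induction w with
  | nil => rfl
  | cons p w ih =>
    rw [wordG_cons, Units.val_mul, ih]
    show _ = (List.map _ (p :: w)).prod
    rw [List.map_cons, List.prod_cons]
    rfl

theorem eq_wordG_iff (g : GL chevD4.Idx F) (w : List (ℕ × F)) :
    g = wordG w ↔ (g : Matrix chevD4.Idx chevD4.Idx F) = chevD4.wordMat F w := by
  rw [← coe_wordG w]
  exact Units.ext_iff

/-- equality of words from the check -/
theorem wordG_eq_of_checkEq {t u : F} (ht : t ≠ 0) (hu : u ≠ 0) {w₁ w₂ : List (ℕ × Mono)}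
    (h : checkEq 28 24 tcols w₁ w₂ = true) : wordG (evW t u w₁) = wordG (evW t u w₂) := by
  apply Units.ext
  rw [coe_wordG, coe_wordG]
  exact wordMat_eq_of_checkEq chevD4 tcols_ok ht hu h

theorem evW_append (t u : F) (w v : List (ℕ × Mono)) : evW t u (w ++ v) = evW t u w ++ evW t u v := by
  simp [evW]

theorem xG_inv (r : ℕ) (t : F) : (xG r t)⁻¹ = xG r (-t) := (xG_neg r t).symm

/-! ### the elements `n_r(t)`, `h_r(t)` -/

/-- `n_r(t) = x_r(t) x_{-r}(-t⁻¹) x_r(t)` in `GL`. -/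
def nR (r : ℕ) (t : F) : GL chevD4.Idx F := xG r t * (xG (23 - r) (-t⁻¹) * xG r t)

theorem nR_def (r : ℕ) (t : F) : nR r t = xG r t * (xG (23 - r) (-t⁻¹) * xG r t) := rfl

/-- `h_r(t) = n_r(t) n_r(-1)` in `GL`. -/
def hR (r : ℕ) (t : F) : GL chevD4.Idx F := nR r t * nR r (-1)

theorem hR_def (r : ℕ) (t : F) : hR r t = nR r t * nR r (-1) := rfl

/-- `n_{p_i}(1)` in `GL`. -/
def nG (F : Type*) [Field F] (i : ℕ) : GL chevD4.Idx F := nR (sp i) 1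

theorem nG_def (F : Type*) [Field F] (i : ℕ) : nG F i = nR (sp i) 1 := rfl

theorem neg_eq {r : ℕ} (hr : r < 24) : chevD4.neg r = 23 - r := by
  have h : ∀ r ∈ List.range 24, chevD4.neg r = 23 - r := by decide +kernel
  exact h r (List.mem_range.2 hr)

theorem simple_eq {i : ℕ} (hi : i < 4) : chevD4.simple i = sp i := by
  have h : ∀ i ∈ List.range 4, chevD4.simple i = sp i := by decide +kernel
  exact h i (List.mem_range.2 hi)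

theorem reflectRoot_eq {i s : ℕ} (hi : i < 4) (hs : s < 24) : chevD4.reflectRoot i s = rfl' i s := by
  have h : ∀ i ∈ List.range 4, ∀ s ∈ List.range 24, chevD4.reflectRoot i s = rfl' i s := by decide +kernel
  exact h i (List.mem_range.2 hi) s (List.mem_range.2 hs)

theorem coe_nR {r : ℕ} (hr : r < 24) (t : F) :
    ((nR r t : GL chevD4.Idx F) : Matrix chevD4.Idx chevD4.Idx F) = chevD4.nMat F r t := by
  rw [nR_def]
  show _ = chevD4.wordMat F [(r, t), (chevD4.neg r, -t⁻¹), (r, t)]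
  rw [← coe_wordG, wordG_cons, wordG_cons, wordG_cons, wordG_nil, mul_one, neg_eq hr]

theorem coe_hR {r : ℕ} (hr : r < 24) (t : F) :
    ((hR r t : GL chevD4.Idx F) : Matrix chevD4.Idx chevD4.Idx F) = chevD4.hMat F r t := by
  have e : chevD4.hMat F r t = chevD4.nMat F r t * chevD4.nMat F r (-1) := by
    show (List.map _ (_ ++ _)).prod = (List.map _ _).prod * (List.map _ _).prod
    rw [List.map_append, List.prod_append]
  rw [hR_def, Units.val_mul, coe_nR hr, coe_nR hr, e]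

theorem nR_inv (r : ℕ) (t : F) : (nR r t)⁻¹ = nR r (-t) := by
  rw [nR_def, nR_def, mul_inv_rev, mul_inv_rev, xG_inv, xG_inv, neg_neg, inv_neg, neg_neg, mul_assoc]

theorem hR_eq (r : ℕ) (t : F) : hR r t = nR r t * (nR r 1)⁻¹ := by
  rw [hR_def, nR_inv]

theorem nR_eq (r : ℕ) (t : F) : nR r t = hR r t * nR r 1 := by
  rw [hR_eq, inv_mul_cancel_right]

/-! ### conjugation by `n_{p_i}` -/

theorem wordG_nwM (i : ℕ) (t u : F) : wordG (evW t u (nwM i)) = nG F i := by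
  show wordG [(sp i, evM t u (1, 0, 0)), (23 - sp i, evM t u (-1, 0, 0)), (sp i, evM t u (1, 0, 0))] = _
  rw [wordG_cons, wordG_cons, wordG_cons, wordG_nil, mul_one, nG_def, nR_def]
  simp [evM]

/-- `n_{p_i} x_s(t) n_{p_i}⁻¹ = x_{w_i s}(η t)` -/
theorem nG_mul_xG {i s : ℕ} (hi : i < 4) (hs : s < 24) (t : F) :
    nG F i * xG s t = xG (rfl' i s) ((eta i s : F) * t) * nG F i := by
  by_cases ht : t = 0
  · rw [ht, mul_zero, xG_zero, xG_zero, mul_one, one_mul]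
  have h := wordG_eq_of_checkEq ht (one_ne_zero (α := F)) (check_nconj hi hs)
  rw [evW_append, wordG_append, wordG_nwM] at h
  have e2 : evW t (1 : F) ((rfl' i s, eta i s, 1, 0) :: nwM i) =
      (rfl' i s, (eta i s : F) * t) :: evW t 1 (nwM i) := by
    show (rfl' i s, evM t 1 (eta i s, 1, 0)) :: evW t 1 (nwM i) = _
    have : evM t (1 : F) (eta i s, 1, 0) = (eta i s : F) * t := by simp [evM]
    rw [this]
  have e1 : wordG (evW t (1 : F) [(s, 1, 1, 0)]) = xG s t := by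
    show wordG [(s, evM t 1 (1, 1, 0))] = _
    rw [wordG_cons, wordG_nil, mul_one]
    simp [evM]
  rw [e1, e2, wordG_cons, wordG_nwM] at h
  exact h

theorem nG_conj {i s : ℕ} (hi : i < 4) (hs : s < 24) (t : F) :
    nG F i * xG s t * (nG F i)⁻¹ = xG (rfl' i s) ((eta i s : F) * t) := by
  rw [nG_mul_xG hi hs, mul_inv_cancel_right]

theorem eta_cases {i s : ℕ} (hi : i < 4) (hs : s < 24) : eta i s = 1 ∨ eta i s = -1 := by
  have h : ∀ i ∈ List.range 4, ∀ s ∈ List.range 24, eta i s = 1 ∨ eta i s = -1 := by decide +kernel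
  exact h i (List.mem_range.2 hi) s (List.mem_range.2 hs)

theorem eta_neg {i s : ℕ} (hi : i < 4) (hs : s < 24) : eta i (23 - s) = eta i s := by
  have h : ∀ i ∈ List.range 4, ∀ s ∈ List.range 24, eta i (23 - s) = eta i s := by decide +kernel
  exact h i (List.mem_range.2 hi) s (List.mem_range.2 hs)

theorem rfl'_neg {i s : ℕ} (hi : i < 4) (hs : s < 24) : rfl' i (23 - s) = 23 - rfl' i s := by
  have h : ∀ i ∈ List.range 4, ∀ s ∈ List.range 24, rfl' i (23 - s) = 23 - rfl' i s := by decide +kernel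
  exact h i (List.mem_range.2 hi) s (List.mem_range.2 hs)

theorem rfl'_lt {i s : ℕ} (hi : i < 4) (hs : s < 24) : rfl' i s < 24 := by
  have h : ∀ i ∈ List.range 4, ∀ s ∈ List.range 24, rfl' i s < 24 := by decide +kernel
  exact h i (List.mem_range.2 hi) s (List.mem_range.2 hs)

/-- `n_{p_i} n_s(t) n_{p_i}⁻¹ = n_{w_i s}(± t)`. -/
theorem nG_conj_nR {i s : ℕ} (hi : i < 4) (hs : s < 24) (t : F) :
    nG F i * nR s t * (nG F i)⁻¹ = nR (rfl' i s) ((eta i s : F) * t) := by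
  have hs' : 23 - s < 24 := by omega
  have e : nG F i * nR s t * (nG F i)⁻¹ = (nG F i * xG s t * (nG F i)⁻¹) *
      ((nG F i * xG (23 - s) (-t⁻¹) * (nG F i)⁻¹) * (nG F i * xG s t * (nG F i)⁻¹)) := by
    rw [nR_def]; group
  rw [e, nG_conj hi hs, nG_conj hi hs', eta_neg hi hs, rfl'_neg hi hs, nR_def]
  rcases eta_cases hi hs with h | h <;> rw [h] <;> simp

/-! ### `h_r(t)` is diagonal -/

theorem hcheck : ∀ r ∈ List.range 24, hDiagCheck chevD4 r = true := by decide +kernel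

theorem hMat_eq {r : ℕ} (hr : r < 24) {t : F} (ht : t ≠ 0) :
    chevD4.hMat F r t = Matrix.diagonal (hVal chevD4 r t) :=
  hMat_of_check chevD4 (hcheck r (List.mem_range.2 hr)) ht

theorem coe_hR_eq {r : ℕ} (hr : r < 24) {t : F} (ht : t ≠ 0) :
    ((hR r t : GL chevD4.Idx F) : Matrix chevD4.Idx chevD4.Idx F) = Matrix.diagonal (hVal chevD4 r t) := by
  rw [coe_hR hr, hMat_eq hr ht]

/-- coordinates of the roots on the simple roots -/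
def rootTab : List (List ℤ) := [[-1, -2, -1, -1], [-1, -1, -1, -1], [-1, -1, -1, 0], [-1, -1, 0, -1], [-1, -1, 0, 0], [-1, 0, 0, 0], [0, -1, -1, -1], [0, -1, -1, 0], [0, -1, 0, -1], [0, -1, 0, 0], [0, 0, -1, 0], [0, 0, 0, -1], [0, 0, 0, 1], [0, 0, 1, 0], [0, 1, 0, 0], [0, 1, 0, 1], [0, 1, 1, 0], [0, 1, 1, 1], [1, 0, 0, 0], [1, 1, 0, 0], [1, 1, 0, 1], [1, 1, 1, 0], [1, 1, 1, 1], [1, 2, 1, 1]]

/-- coordinate `i` of the basis vector with code `k` (zero for the coroot vectors) -/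
def wt (i k : ℕ) : ℤ := if k < 4 then 0 else nth 0 (nth [] rootTab (k - 4)) i

/-- the weights are additive along the columns of the root elements -/
theorem check_wt : ((List.range 24).all fun s => (List.range 28).all fun j => (tcols s j).all fun e =>
    decide (e.2.1 = 0) || (List.range 4).all fun i => decide (wt i e.1 = wt i j + e.2.2 * wt i (4 + s))) = true := by
  decide +kernel

theorem wt_eq {s j : ℕ} (hs : s < 24) (hj : j < 28) {e : ℕ × ℤ × ℕ} (he : e ∈ tcols s j) (h0 : e.2.1 ≠ 0)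
    {i : ℕ} (hi : i < 4) : wt i e.1 = wt i j + e.2.2 * wt i (4 + s) := by
  have h := check_wt
  simp only [List.all_eq_true, List.mem_range, Bool.or_eq_true, decide_eq_true_eq] at h
  rcases h s hs j hj e he with h | h
  · exact absurd h h0
  · exact h i hi

/-- the value at the code `k` of the torus element with parameters `c` -/
def dv (c : Fin 4 → F) (k : ℕ) : F := c 0 ^ wt 0 k * c 1 ^ wt 1 k * c 2 ^ wt 2 k * c 3 ^ wt 3 k

theorem dv_def (c : Fin 4 → F) (k : ℕ) :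
    dv c k = c 0 ^ wt 0 k * c 1 ^ wt 1 k * c 2 ^ wt 2 k * c 3 ^ wt 3 k := rfl

theorem dv_ne_zero {c : Fin 4 → F} (hc : ∀ i, c i ≠ 0) (k : ℕ) : dv c k ≠ 0 := by
  rw [dv_def]
  exact mul_ne_zero (mul_ne_zero (mul_ne_zero (zpow_ne_zero _ (hc 0)) (zpow_ne_zero _ (hc 1)))
    (zpow_ne_zero _ (hc 2))) (zpow_ne_zero _ (hc 3))

theorem dv_eq {c : Fin 4 → F} (hc : ∀ i, c i ≠ 0) {s j : ℕ} (hs : s < 24) (hj : j < 28) {e : ℕ × ℤ × ℕ}
    (he : e ∈ tcols s j) (h0 : e.2.1 ≠ 0) : dv c e.1 = dv c (4 + s) ^ e.2.2 * dv c j := by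
  have h1 := wt_eq hs hj he h0 (show 0 < 4 by norm_num)
  have h2 := wt_eq hs hj he h0 (show 1 < 4 by norm_num)
  have h3 := wt_eq hs hj he h0 (show 2 < 4 by norm_num)
  have h4 := wt_eq hs hj he h0 (show 3 < 4 by norm_num)
  rw [dv_def, h1, h2, h3, h4, zpow_add₀ (hc 0), zpow_add₀ (hc 1), zpow_add₀ (hc 2), zpow_add₀ (hc 3),
    dv_def, dv_def, mul_comm (e.2.2 : ℤ), mul_comm (e.2.2 : ℤ), mul_comm (e.2.2 : ℤ), mul_comm (e.2.2 : ℤ),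
    zpow_mul, zpow_mul, zpow_mul, zpow_mul, zpow_natCast, zpow_natCast, zpow_natCast, zpow_natCast,
    mul_pow, mul_pow, mul_pow]
  ring

/-- The torus element with parameters `c`: it fixes the `h_{p_i}` and multiplies `e_s` by `∏ c_i ^ m_i(s)`. -/
def torG (c : Fin 4 → Fˣ) : GL chevD4.Idx F where
  val := Matrix.diagonal fun k => dv (fun i => (c i : F)) (code chevD4 k)
  inv := Matrix.diagonal fun k => (dv (fun i => (c i : F)) (code chevD4 k))⁻¹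
  val_inv := by
    rw [Matrix.diagonal_mul_diagonal, ← Matrix.diagonal_one]
    congr 1
    funext k
    exact mul_inv_cancel₀ (dv_ne_zero (fun i => (c i).ne_zero) _)
  inv_val := by
    rw [Matrix.diagonal_mul_diagonal, ← Matrix.diagonal_one]
    congr 1
    funext k
    exact inv_mul_cancel₀ (dv_ne_zero (fun i => (c i).ne_zero) _)

theorem coe_torG (c : Fin 4 → Fˣ) : ((torG c : GL chevD4.Idx F) : Matrix chevD4.Idx chevD4.Idx F) =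
    Matrix.diagonal fun k => dv (fun i => (c i : F)) (code chevD4 k) := rfl

/-- the character value on the root `s` -/
def chi (c : Fin 4 → Fˣ) (s : ℕ) : F := dv (fun i => (c i : F)) (4 + s)

theorem chi_def (c : Fin 4 → Fˣ) (s : ℕ) : chi c s = dv (fun i => (c i : F)) (4 + s) := rfl

theorem chi_ne_zero (c : Fin 4 → Fˣ) (s : ℕ) : chi c s ≠ 0 := dv_ne_zero (fun i => (c i).ne_zero) _

theorem x_entry {s : ℕ} (hs : s < 24) (u : F) (i j : chevD4.Idx) :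
    chevD4.x F s u i j = colSum u (tcols s (code chevD4 j)) (code chevD4 i) := by
  rw [ChevalleyDatum.x, dif_pos (show s < chevD4.nroots from hs), xMat_eq_colSum,
    tcols_ok s hs _ (code_lt chevD4 j)]

theorem torG_mul_xG (c : Fin 4 → Fˣ) {s : ℕ} (hs : s < 24) (u : F) :
    torG c * xG s u = xG s (chi c s * u) * torG c := by
  apply Units.ext
  rw [Units.val_mul, Units.val_mul, coe_torG, coe_xG, coe_xG]
  ext i j
  rw [Matrix.diagonal_mul, Matrix.mul_diagonal, x_entry hs, x_entry hs]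
  have hj : code chevD4 j < 28 := code_lt chevD4 j
  have key : ∀ l : List (ℕ × ℤ × ℕ), (∀ e ∈ l, e ∈ tcols s (code chevD4 j)) →
      dv (fun i => (c i : F)) (code chevD4 i) * colSum u l (code chevD4 i) =
      colSum (chi c s * u) l (code chevD4 i) * dv (fun i => (c i : F)) (code chevD4 j) := by
    intro l
    induction l with
    | nil => intro _; rw [colSum_nil, colSum_nil, mul_zero, zero_mul]
    | cons e l ih =>
      intro hl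
      rw [colSum_cons, colSum_cons, mul_add, add_mul, ih fun e he => hl e (List.mem_cons_of_mem _ he)]
      congr 1
      by_cases h1 : e.1 = code chevD4 i
      · rw [if_pos h1, if_pos h1]
        by_cases h0 : e.2.1 = 0
        · rw [h0]; simp
        · rw [← h1, dv_eq (fun i => (c i).ne_zero) hs hj (hl e List.mem_cons_self) h0, mul_pow, chi_def]
          ring
      · rw [if_neg h1, if_neg h1, mul_zero, zero_mul]
  exact key _ fun e he => he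

theorem torG_conj (c : Fin 4 → Fˣ) {s : ℕ} (hs : s < 24) (u : F) :
    torG c * xG s u * (torG c)⁻¹ = xG s (chi c s * u) := by
  rw [torG_mul_xG c hs, mul_inv_cancel_right]

/-- coroot coordinates: `A_{r, p_i}` -/
def crt (r i : ℕ) : ℤ := cartanRS chevD4 r (sp i)

theorem cartanRS_eq : ∀ r ∈ List.range 24, ∀ s ∈ List.range 24, cartanRS chevD4 r s =
    cartanRS chevD4 r (sp 0) * wt 0 (4 + s) + cartanRS chevD4 r (sp 1) * wt 1 (4 + s) +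
    cartanRS chevD4 r (sp 2) * wt 2 (4 + s) + cartanRS chevD4 r (sp 3) * wt 3 (4 + s) := by
  decide +kernel

theorem hR_eq_torG {r : ℕ} (hr : r < 24) (t : Fˣ) :
    hR r (t : F) = torG fun i => t ^ crt r i := by
  apply Units.ext
  rw [coe_hR_eq hr t.ne_zero, coe_torG]
  congr 1
  funext k
  rcases k with i | s
  · rw [hVal_inl, dv_def, code_inl]
    have h : ∀ j, wt j i.val = 0 := fun j => if_pos i.2
    rw [h, h, h, h]
    simp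
  · rw [hVal_inr, dv_def, code_inr]
    have h := cartanRS_eq r (List.mem_range.2 hr) s.val (List.mem_range.2 s.2)
    rw [h]
    show _ = ((t ^ crt r 0 : Fˣ) : F) ^ wt 0 (4 + s.val) * ((t ^ crt r 1 : Fˣ) : F) ^ wt 1 (4 + s.val) *
      ((t ^ crt r 2 : Fˣ) : F) ^ wt 2 (4 + s.val) * ((t ^ crt r 3 : Fˣ) : F) ^ wt 3 (4 + s.val)
    rw [zpow_add₀ t.ne_zero, zpow_add₀ t.ne_zero, zpow_add₀ t.ne_zero]
    simp only [Units.val_zpow_eq_zpow_val, zpow_mul, crt]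

theorem torG_one : torG (1 : Fin 4 → Fˣ) = (1 : GL chevD4.Idx F) := by
  apply Units.ext
  rw [coe_torG, Units.val_one, ← Matrix.diagonal_one]
  congr 1
  funext k
  simp [dv_def]

theorem torG_mul (c d : Fin 4 → Fˣ) : torG c * torG d = (torG (c * d) : GL chevD4.Idx F) := by
  apply Units.ext
  rw [Units.val_mul, coe_torG, coe_torG, coe_torG, Matrix.diagonal_mul_diagonal]
  congr 1
  funext k
  simp only [dv_def, Pi.mul_apply, Units.val_mul, mul_zpow]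
  ring

theorem torG_inv (c : Fin 4 → Fˣ) : (torG c)⁻¹ = (torG c⁻¹ : GL chevD4.Idx F) := by
  rw [inv_eq_iff_mul_eq_one, torG_mul, mul_inv_cancel, torG_one]

/-- The full group of diagonal automorphisms. -/
def torus (F : Type*) [Field F] : Subgroup (GL chevD4.Idx F) where
  carrier := {g | ∃ c : Fin 4 → Fˣ, g = torG c}
  mul_mem' := by
    rintro _ _ ⟨c, rfl⟩ ⟨d, rfl⟩
    exact ⟨c * d, torG_mul c d⟩
  one_mem' := ⟨1, torG_one.symm⟩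
  inv_mem' := by
    rintro _ ⟨c, rfl⟩
    exact ⟨c⁻¹, torG_inv c⟩

theorem mem_torus {g : GL chevD4.Idx F} : g ∈ torus F ↔ ∃ c : Fin 4 → Fˣ, g = torG c := Iff.rfl

end Cfsg.Agent.ChevalleyStructure.D4NConj
end
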