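import Cfsg.Prelude.Def_ChevStructure
import Cfsg.Agent.ChevalleyStructure.D4Comm
import Cfsg.Agent.ChevalleyStructure.TwistedU
import Cfsg.Agent.ChevalleyStructure.D4H1
import Cfsg.Agent.ChevalleyStructure.D4RGD
set_option linter.all false

-- part: ChevalleyStructure/D4Pos
section
/-!
Type D₄, any field, unconditional: ordered product decompositions in the positive unipotent group `U`,
uniqueness of the coordinates for every closed order.
-/

set_option autoImplicit false

namespace Cfsg.Agent.ChevalleyStructure.D4Pos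

open Cfsg.Lie
open Cfsg.Agent.ChevalleyStructure.WordCheck (code colX colSum xMat_entry code_inj code_lt colSum_eq_zero colSum_cons)
open Cfsg.Agent.ChevalleyStructure.D4CommTab
open Cfsg.Agent.ChevalleyStructure.D4Comm
open Cfsg.Agent.ChevalleyStructure.TwistedU
open scoped commutatorElement

/-- Boolean form of `TwistedU.Good` for lists of positive roots of D₄ -/
def goodB : List ℕ → Bool
  | [] => true
  | r :: l => (decide (12 ≤ r) && decide (r < 24) && l.all (fun s => decide (12 ≤ s) && decide (s < 24) &&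
      decide (s ≠ r) &&
      match cm r s with
      | none => true
      | some kc => l.contains kc.1)) && goodB l

section
variable {F : Type*} [Field F]

theorem good_of_goodB : ∀ (l : List ℕ), goodB l = true → Good (xG : ℕ → F → GL chevD4.Idx F) l
  | [], _ => trivial
  | r :: l, h => by
    rw [goodB, Bool.and_eq_true, Bool.and_eq_true, Bool.and_eq_true, List.all_eq_true] at h
    obtain ⟨⟨⟨h1, h2⟩, h3⟩, h4⟩ := h
    refine ⟨?_, good_of_goodB l h4⟩
    intro s hs t u
    have h5 := h3 s hs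
    rw [Bool.and_eq_true, Bool.and_eq_true, Bool.and_eq_true] at h5
    obtain ⟨⟨⟨h6, h7⟩, h8⟩, h9⟩ := h5
    rw [xG_comm (of_decide_eq_true h1) (of_decide_eq_true h2) (of_decide_eq_true h6) (of_decide_eq_true h7)
      (of_decide_eq_true h8)]
    unfold cval
    rcases hc : cm r s with _ | kc
    · exact Subgroup.one_mem _
    · rw [hc] at h9
      have h10 : kc.1 ∈ l := by simpa using h9
      exact mem_rspan (xG : ℕ → F → GL chevD4.Idx F) (S := {k | k ∈ l}) h10 _

/-- codes of the columns considered for a list of roots: all `h_i`, and `e_s`, `s ∈ l` -/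
def colCodes (l : List ℕ) : List ℕ := [0, 1, 2, 3] ++ l.map (4 + ·)

/-- the span of the `e_s`, `s ∈ l`, is stable under `X_s`, `s ∈ l`, and `x_s(t) h_i - h_i` lies in it -/
def supOK (l : List ℕ) : Bool :=
  l.all fun s => decide (s < 24) && (colCodes l).all fun c =>
    match colX chevD4 s c with
    | [] => false
    | e :: rest => (decide (e.1 = c) && decide (e.2.1 = 1) && decide (e.2.2 = 0)) &&
        rest.all fun e => (l.map (4 + ·)).contains e.1

/-- the condition on matrices detected by `supOK`: outside the rows `e_s`, `s ∈ l`, the columns `h_i` and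
`e_s`, `s ∈ l`, are those of the identity matrix -/
def Det (l : List ℕ) (M : Matrix chevD4.Idx chevD4.Idx F) : Prop :=
  ∀ i j : chevD4.Idx, code chevD4 j ∈ colCodes l → code chevD4 i ∉ l.map (4 + ·) →
    M i j = if i = j then 1 else 0

theorem det_one (l : List ℕ) : Det l (1 : Matrix chevD4.Idx chevD4.Idx F) := by
  intro i j _ _
  rw [Matrix.one_apply]

theorem det_mul {l : List ℕ} {M N : Matrix chevD4.Idx chevD4.Idx F} (hM : Det l M) (hN : Det l N) :
    Det l (M * N) := by
  intro i j hj hi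
  rw [Matrix.mul_apply]
  have key : ∀ k : chevD4.Idx, M i k * N k j = if k = j then (if i = j then N j j else 0) else
      (if i = k then 0 else 0) := by
    intro k
    by_cases hk : code chevD4 k ∈ l.map (4 + ·)
    · have hk' : code chevD4 k ∈ colCodes l := by
        unfold colCodes
        exact List.mem_append_right _ hk
      have hik : i ≠ k := fun h => hi (h ▸ hk)
      rw [hM i k hk' hi, if_neg hik, zero_mul]
      by_cases hkj : k = j
      · subst hkj
        rw [if_pos rfl, if_neg hik]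
      · rw [if_neg hkj, ite_self]
    · rw [hN k j hj hk]
      by_cases hkj : k = j
      · subst hkj
        rw [if_pos rfl, if_pos rfl, mul_one, hM i k hj hi, hN k k hj hk, if_pos rfl]
      · rw [if_neg hkj, mul_zero, if_neg hkj, ite_self]
  rw [Finset.sum_congr rfl (fun k _ => key k)]
  by_cases hij : i = j
  · subst hij
    simp only [ite_self, Finset.sum_ite_eq', Finset.mem_univ, if_true]
    rw [hN i i hj hi, if_pos rfl]
  · simp [hij]

theorem det_x {l : List ℕ} (hl : supOK l = true) {s : ℕ} (hs : s ∈ l) (t : F) : Det l (chevD4.x F s t) := by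
  intro i j hj hi
  have h1 := (List.all_eq_true.1 hl) s hs
  rw [Bool.and_eq_true, List.all_eq_true] at h1
  have hlt : s < 24 := of_decide_eq_true h1.1
  have h2 := h1.2 _ hj
  have hx : chevD4.x F s t = chevD4.xMat F ⟨s, hlt⟩ t := dif_pos hlt
  rw [hx, xMat_entry]
  show colSum t (code chevD4 i) (colX chevD4 s (code chevD4 j)) = _
  generalize colX chevD4 s (code chevD4 j) = L at h2
  rcases L with _ | ⟨⟨a, z, n⟩, rest⟩
  · exact absurd h2 (by simp)
  · simp only [Bool.and_eq_true, decide_eq_true_eq, List.all_eq_true] at h2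
    obtain ⟨⟨⟨rfl, rfl⟩, rfl⟩, h3⟩ := h2
    rw [colSum_cons, colSum_eq_zero t (code chevD4 i) rest (by
      intro e he h
      apply hi
      rw [← h]
      exact List.contains_iff_mem.1 (h3 e he)), add_zero]
    by_cases hij : i = j
    · subst hij
      simp
    · rw [if_neg hij, if_neg]
      intro h
      exact hij (code_inj chevD4 h.symm)

theorem det_of_mem {l : List ℕ} (hl : supOK l = true) {g : GL chevD4.Idx F}
    (hg : g ∈ rspan (xG : ℕ → F → GL chevD4.Idx F) {k | k ∈ l}) :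
    Det l (g : Matrix chevD4.Idx chevD4.Idx F) := by
  have key : Det l (g : Matrix chevD4.Idx chevD4.Idx F) ∧ Det l ((g⁻¹ : GL chevD4.Idx F) : Matrix chevD4.Idx chevD4.Idx F) := by
    refine Subgroup.closure_induction (p := fun (g : GL chevD4.Idx F) _ => Det l (g : Matrix chevD4.Idx chevD4.Idx F) ∧
      Det l ((g⁻¹ : GL chevD4.Idx F) : Matrix chevD4.Idx chevD4.Idx F)) ?_ ?_ ?_ ?_ hg
    · rintro _ ⟨s, hs, t, rfl⟩
      refine ⟨det_x hl hs t, ?_⟩
      rw [← xG_neg]
      exact det_x hl hs (-t)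
    · rw [inv_one]
      exact ⟨det_one l, det_one l⟩
    · rintro a b _ _ ⟨ha, ha'⟩ ⟨hb, hb'⟩
      rw [mul_inv_rev]
      exact ⟨det_mul ha hb, det_mul hb' ha'⟩
    · rintro a _ ⟨ha, ha'⟩
      rw [inv_inv]
      exact ⟨ha', ha⟩
  exact key.1

/-- the index of a column `h_i` with `A_{i,r} = ±1` -/
def oddCol (r : ℕ) : ℕ := ((List.range 4).find? fun i => (chevD4.cartan i r).natAbs = 1).getD 0

theorem oddCol_spec : ∀ r ∈ List.range 24, oddCol r < 4 ∧ (chevD4.cartan (oddCol r) r).natAbs = 1 := by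
  decide +kernel

theorem x_entry {r : ℕ} (hr : r < chevD4.nroots) (t : F) (i : Fin chevD4.rank) :
    chevD4.x F r t (Sum.inr ⟨r, hr⟩) (Sum.inl i) = - ((chevD4.cartan i r : ℤ) : F) * t := by
  have hx : chevD4.x F r t = chevD4.xMat F ⟨r, hr⟩ t := dif_pos hr
  rw [hx]
  show (if (⟨r, hr⟩ : Fin chevD4.nroots) = ⟨r, hr⟩ then - (((chevD4.cartanSR.getD i.val #[]).getD r 0 : ℤ) : F) * t else 0) = _
  rw [if_pos rfl]
  rfl

/-- no non-trivial element of `X_r` lies in the group generated by the `X_s`, `s ∈ l`, if `l` is closed and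
does not contain `r` -/
theorem eq_zero_of_mem {l : List ℕ} (hl : supOK l = true) {r : ℕ} (hr : r < 24) (hrl : r ∉ l) {t : F}
    (h : (xG r t : GL chevD4.Idx F) ∈ rspan (xG : ℕ → F → GL chevD4.Idx F) {k | k ∈ l}) : t = 0 := by
  have hd := det_of_mem hl h
  obtain ⟨h4, h5⟩ := oddCol_spec r (List.mem_range.2 hr)
  have hr' : r < chevD4.nroots := hr
  have h4' : oddCol r < chevD4.rank := h4
  have h6 := hd (Sum.inr ⟨r, hr'⟩) (Sum.inl ⟨oddCol r, h4'⟩) (by
    show oddCol r ∈ colCodes l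
    unfold colCodes
    apply List.mem_append_left
    have : ∀ k < 4, k ∈ [0, 1, 2, 3] := by decide
    exact this _ h4) (by
    show 4 + r ∉ _
    intro h'
    obtain ⟨a, ha, he⟩ := List.mem_map.1 h'
    have : a = r := by omega
    exact hrl (this ▸ ha))
  rw [coe_xG, x_entry] at h6
  rw [if_neg (by intro h; cases h)] at h6
  rcases Int.natAbs_eq_iff.1 h5 with h7 | h7
  · simp only at h6
    rw [h7] at h6
    simpa using h6
  · simp only at h6
    rw [h7] at h6
    simpa using h6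

/-- Boolean condition for uniqueness of the coordinates: all proper tails are closed -/
def uniqB : List ℕ → Bool
  | [] => true
  | r :: l => (decide (r < 24) && !(l.contains r) && supOK l) && uniqB l

theorem lprod_inj : ∀ (l : List ℕ), uniqB l = true → ∀ {t t' : ℕ → F},
    lprod (xG : ℕ → F → GL chevD4.Idx F) l t = lprod xG l t' → ∀ r ∈ l, t r = t' r
  | [], _, _, _, _, r, hr => by simp at hr
  | r :: l, h, t, t', he, s, hs => by
    rw [uniqB, Bool.and_eq_true, Bool.and_eq_true, Bool.and_eq_true] at h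
    obtain ⟨⟨⟨h1, h2⟩, h3⟩, h4⟩ := h
    rw [lprod_cons, lprod_cons] at he
    have hrl : r ∉ l := by simpa using h2
    have h5 : (xG r (-t' r + t r) : GL chevD4.Idx F) = lprod xG l t' * (lprod xG l t)⁻¹ := by
      rw [xG_add, xG_neg, eq_mul_inv_iff_mul_eq, mul_assoc, he]
      group
    have h6 : -t' r + t r = 0 := by
      apply eq_zero_of_mem h3 (of_decide_eq_true h1) hrl
      rw [h5]
      exact Subgroup.mul_mem _ (lprod_mem_rspan _ (fun _ h => h) _)
        (Subgroup.inv_mem _ (lprod_mem_rspan _ (fun _ h => h) _))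
    have h7 : t r = t' r := by
      rw [neg_add_eq_zero] at h6
      exact h6.symm
    rcases List.mem_cons.1 hs with rfl | hs'
    · exact h7
    · rw [h7] at he
      exact lprod_inj l h4 (mul_left_cancel he) s hs'

/-- the order `p₂ | p₁ p₃ p₄ | …` adapted to triality, `p₂` first -/
def ordA : List ℕ := [14, 18, 13, 12, 19, 16, 15, 21, 17, 20, 22, 23]

/-- the order `p₁ p₃ p₄ | p₂ | …` adapted to triality, `p₂` second -/
def ordB : List ℕ := [18, 13, 12, 14, 19, 16, 15, 21, 17, 20, 22, 23]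

theorem goodB_ordA : goodB ordA = true := by decide +kernel
theorem goodB_ordB : goodB ordB = true := by decide +kernel
theorem uniqB_ordA : uniqB ordA = true := by decide +kernel
theorem uniqB_ordB : uniqB ordB = true := by decide +kernel

theorem isPosRoot_iff (r : ℕ) : chevD4.IsPosRoot r ↔ 12 ≤ r ∧ r < 24 := by
  constructor
  · intro h
    have h1 : r < 24 := h.1
    have key : ∀ r ∈ List.range 24, chevD4.IsPosRoot r → 12 ≤ r := by decide +kernel
    exact ⟨key r (List.mem_range.2 h1) h, h1⟩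
  · rintro ⟨h1, h2⟩
    have key : ∀ r ∈ List.range 24, 12 ≤ r → chevD4.IsPosRoot r := by decide +kernel
    exact key r (List.mem_range.2 h2) h1

theorem mem_ordA_iff (r : ℕ) : r ∈ ordA ↔ chevD4.IsPosRoot r := by
  rw [isPosRoot_iff]
  unfold ordA
  simp only [List.mem_cons, List.not_mem_nil, or_false]
  omega

theorem mem_ordB_iff (r : ℕ) : r ∈ ordB ↔ chevD4.IsPosRoot r := by
  rw [isPosRoot_iff]
  unfold ordB
  simp only [List.mem_cons, List.not_mem_nil, or_false]
  omega

theorem posUnipotent_eq_rspan (l : List ℕ) (hl : ∀ r, r ∈ l ↔ chevD4.IsPosRoot r) :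
    chevD4.posUnipotent F = rspan (xG : ℕ → F → GL chevD4.Idx F) {k | k ∈ l} := by
  unfold ChevalleyDatum.posUnipotent rspan
  congr 1
  ext g
  constructor
  · rintro ⟨r, t, hr, hg⟩
    exact ⟨r, (hl r).2 hr, t, (eq_xG_iff g r t).1 hg⟩
  · rintro ⟨r, hr, t, hg⟩
    exact ⟨r, t, (hl r).1 hr, (eq_xG_iff g r t).2 hg⟩

theorem exists_lprod_of_mem (l : List ℕ) (hl : ∀ r, r ∈ l ↔ chevD4.IsPosRoot r) (hnd : l.Nodup)
    (hg : goodB l = true) {g : GL chevD4.Idx F} (h : g ∈ chevD4.posUnipotent F) :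
    ∃ t, g = lprod (xG : ℕ → F → GL chevD4.Idx F) l t := by
  rw [posUnipotent_eq_rspan l hl] at h
  exact exists_lprod xG_add hnd (good_of_goodB l hg) h

end

end Cfsg.Agent.ChevalleyStructure.D4Pos
end

-- part: ChevalleyStructure/D4U
section
/-!
The twisted group ³D₄(q): relative root groups in the positive unipotent group, `U ⊓ G¹ = U ⊓ Fix σ` and its
unique product decomposition.
-/

set_option autoImplicit false

namespace Cfsg.Agent.ChevalleyStructure.D4U

open Cfsg.Lie
open Cfsg.Agent.ChevalleyStructure.SignedSymm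
open Cfsg.Agent.ChevalleyStructure.GraphSymm
open Cfsg.Agent.ChevalleyStructure.D4Fixed (sig coe_sig fix mem_fix twisted_le_fix twisted_induction)
open Cfsg.Agent.ChevalleyStructure.D4Cols (xU coe_xU wU)
open Cfsg.Agent.ChevalleyStructure.D4Comm
open Cfsg.Agent.ChevalleyStructure.D4CommTab
open Cfsg.Agent.ChevalleyStructure.D4Pos
open Cfsg.Agent.ChevalleyStructure.D4NCheck
open Cfsg.Agent.ChevalleyStructure.D4NConj (nR nR_def nG nG_conj nG_def)
open Cfsg.Agent.ChevalleyStructure.TwistedU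
open scoped commutatorElement

section
variable {K : Type*} [Field K] (φ : K →+* K)

theorem xU_eq (r : ℕ) (t : K) : (xU r t : GL chevD4.Idx K) = xG r t := Units.ext (by rw [coe_xU, coe_xG])

theorem sig_xG {r s : ℕ} {c : ℤ} (hr : r < 24) (hs : (symmD4a.σ ⟨r, hr⟩).val = s)
    (he : symmD4a.ε ⟨r, hr⟩ = c) (t : K) : sig φ (xG r t) = xG s ((c : K) * φ t) := by
  apply Units.ext
  rw [coe_sig, coe_xG, coe_xG, Cfsg.Agent.ChevStructure.FieldMap.x_map]
  have := symmD4a.mat_conj_x K ⟨r, hr⟩ (φ t)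
  rw [he, hs] at this
  exact this

theorem sig_12 (t : K) : sig φ (xG 12 t) = xG 18 (φ t) := by
  simpa using sig_xG φ (r := 12) (s := 18) (c := 1) (by norm_num) rfl rfl t
theorem sig_13 (t : K) : sig φ (xG 13 t) = xG 12 (φ t) := by
  simpa using sig_xG φ (r := 13) (s := 12) (c := 1) (by norm_num) rfl rfl t
theorem sig_14 (t : K) : sig φ (xG 14 t) = xG 14 (φ t) := by
  simpa using sig_xG φ (r := 14) (s := 14) (c := 1) (by norm_num) rfl rfl t
theorem sig_15 (t : K) : sig φ (xG 15 t) = xG 19 (-φ t) := by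
  simpa using sig_xG φ (r := 15) (s := 19) (c := -1) (by norm_num) rfl rfl t
theorem sig_16 (t : K) : sig φ (xG 16 t) = xG 15 (φ t) := by
  simpa using sig_xG φ (r := 16) (s := 15) (c := 1) (by norm_num) rfl rfl t
theorem sig_17 (t : K) : sig φ (xG 17 t) = xG 20 (-φ t) := by
  simpa using sig_xG φ (r := 17) (s := 20) (c := -1) (by norm_num) rfl rfl t
theorem sig_18 (t : K) : sig φ (xG 18 t) = xG 13 (φ t) := by
  simpa using sig_xG φ (r := 18) (s := 13) (c := 1) (by norm_num) rfl rfl t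
theorem sig_19 (t : K) : sig φ (xG 19 t) = xG 16 (-φ t) := by
  simpa using sig_xG φ (r := 19) (s := 16) (c := -1) (by norm_num) rfl rfl t
theorem sig_20 (t : K) : sig φ (xG 20 t) = xG 21 (φ t) := by
  simpa using sig_xG φ (r := 20) (s := 21) (c := 1) (by norm_num) rfl rfl t
theorem sig_21 (t : K) : sig φ (xG 21 t) = xG 17 (-φ t) := by
  simpa using sig_xG φ (r := 21) (s := 17) (c := -1) (by norm_num) rfl rfl t
theorem sig_22 (t : K) : sig φ (xG 22 t) = xG 22 (φ t) := by
  simpa using sig_xG φ (r := 22) (s := 22) (c := 1) (by norm_num) rfl rfl t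
theorem sig_23 (t : K) : sig φ (xG 23 t) = xG 23 (φ t) := by
  simpa using sig_xG φ (r := 23) (s := 23) (c := 1) (by norm_num) rfl rfl t

/-- commuting positive root elements -/
theorem xG_commute {r s : ℕ} (h : (decide (12 ≤ r) && decide (r < 24) && decide (12 ≤ s) && decide (s < 24) &&
    decide (s ≠ r) && (cm r s).isNone) = true) (t u : K) : Commute (xG r t : GL chevD4.Idx K) (xG s u) := by
  simp only [Bool.and_eq_true, decide_eq_true_eq, Option.isNone_iff_eq_none] at h
  obtain ⟨⟨⟨⟨⟨h1, h2⟩, h3⟩, h4⟩, h5⟩, h6⟩ := h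
  rw [← commutatorElement_eq_one_iff_commute, xG_comm h1 h2 h3 h4 h5]
  unfold cval
  rw [h6]

theorem rot3 {G : Type*} [Group G] {a b c : G} (h1 : Commute a c) (h2 : Commute b c) (R : G) :
    a * (b * (c * R)) = c * (a * (b * R)) := by
  rw [← mul_assoc b c R, h2.eq, mul_assoc, ← mul_assoc a c, h1.eq, mul_assoc]

/-- the action of `σ` on the coordinates of positive unipotent elements -/
def tw (t : ℕ → K) : ℕ → K
  | 12 => φ (t 13)
  | 13 => φ (t 18)
  | 14 => φ (t 14)
  | 15 => φ (t 16)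
  | 16 => -φ (t 19)
  | 17 => -φ (t 21)
  | 18 => φ (t 12)
  | 19 => -φ (t 15)
  | 20 => -φ (t 17)
  | 21 => φ (t 20)
  | 22 => φ (t 22)
  | 23 => φ (t 23)
  | _ => 0

theorem sig_lprod_outer (t : ℕ → K) : sig φ (lprod xG [18, 13, 12] t) = lprod xG [18, 13, 12] (tw φ t) := by
  simp only [lprod_cons, lprod_nil, map_mul, map_one, sig_12, sig_13, sig_18]
  rw [rot3 (xG_commute (by decide +kernel) _ _) (xG_commute (by decide +kernel) _ _)]
  rfl

theorem sig_lprod (t : ℕ → K) : sig φ (lprod xG ordA t) = lprod xG ordA (tw φ t) := by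
  unfold ordA
  simp only [lprod_cons, lprod_nil, map_mul, map_one, sig_12, sig_13, sig_14, sig_15, sig_16, sig_17, sig_18, sig_19,
    sig_20, sig_21, sig_22, sig_23]
  rw [rot3 (a := xG 13 _) (xG_commute (by decide +kernel) _ _) (xG_commute (by decide +kernel) _ _),
    rot3 (a := xG 16 _) (xG_commute (by decide +kernel) _ _) (xG_commute (by decide +kernel) _ _),
    rot3 (a := xG 17 _) (xG_commute (by decide +kernel) _ _) (xG_commute (by decide +kernel) _ _)]
  rfl

theorem lprod_mem_fix_iff (t : ℕ → K) :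
    (lprod xG ordA t : GL chevD4.Idx K) ∈ fix φ ↔ ∀ r ∈ ordA, t r = tw φ t r := by
  rw [mem_fix, sig_lprod]
  constructor
  · intro h
    exact lprod_inj ordA uniqB_ordA h.symm
  · intro h
    exact (lprod_congr xG h).symm

end

/-! ### relative root groups -/

section
variable {K : Type*} [Field K]

/-- `n_a = n_{p₂}(1)` -/
def na (K : Type*) [Field K] : GL chevD4.Idx K := nG K 1

/-- `n_b = n_{p₁}(1) n_{p₃}(1) n_{p₄}(1)` -/
def nb (K : Type*) [Field K] : GL chevD4.Idx K := nG K 0 * nG K 2 * nG K 3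

theorem na_conj {s : ℕ} (hs : s < 24) (t : K) :
    ∃ u : K, na K * xG s t * (na K)⁻¹ = xG (rfl' 1 s) u :=
  ⟨_, nG_conj (by norm_num) hs t⟩

/-- the permutation induced by `n_b` -/
def rb (s : ℕ) : ℕ := rfl' 0 (rfl' 2 (rfl' 3 s))

theorem nb_conj {s : ℕ} (hs : s < 24) (t : K) :
    ∃ u : K, nb K * xG s t * (nb K)⁻¹ = xG (rb s) u := by
  have h3 := D4NConj.rfl'_lt (i := 3) (by norm_num) hs
  have h2 := D4NConj.rfl'_lt (i := 2) (by norm_num) h3
  refine ⟨(eta 0 (rfl' 2 (rfl' 3 s)) : K) * ((eta 2 (rfl' 3 s) : K) * ((eta 3 s : K) * t)), ?_⟩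
  have e : nb K * xG s t * (nb K)⁻¹ =
      nG K 0 * (nG K 2 * (nG K 3 * xG s t * (nG K 3)⁻¹) * (nG K 2)⁻¹) * (nG K 0)⁻¹ := by
    unfold nb
    group
  rw [e, nG_conj (by norm_num) hs, nG_conj (by norm_num) h3, nG_conj (by norm_num) h2]
  rfl

/-- the group generated by the root groups of a list of roots -/
abbrev RS (K : Type*) [Field K] (l : List ℕ) : Subgroup (GL chevD4.Idx K) := rspan xG {k | k ∈ l}

theorem conj_RS {n : GL chevD4.Idx K} {f : ℕ → ℕ} (hn : ∀ s < 24, ∀ t : K, ∃ u : K, n * xG s t * n⁻¹ = xG (f s) u)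
    {l l' : List ℕ} (h : (l.all fun s => decide (s < 24) && l'.contains (f s)) = true) {g : GL chevD4.Idx K}
    (hg : g ∈ RS K l) : n * g * n⁻¹ ∈ RS K l' := by
  have key : RS K l ≤ (RS K l').comap (MulAut.conj n).toMonoidHom := by
    refine rspan_le xG fun s hs t => ?_
    have h1 := List.all_eq_true.1 h s hs
    rw [Bool.and_eq_true, decide_eq_true_eq, List.contains_iff_mem] at h1
    obtain ⟨u, hu⟩ := hn s h1.1 t
    show n * xG s t * n⁻¹ ∈ RS K l'
    rw [hu]
    exact mem_rspan xG (S := {k | k ∈ l'}) h1.2 u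
  exact key hg

variable (K) in
theorem na_RS {l l' : List ℕ} (h : (l.all fun s => decide (s < 24) && l'.contains (rfl' 1 s)) = true)
    {g : GL chevD4.Idx K} (hg : g ∈ RS K l) : na K * g * (na K)⁻¹ ∈ RS K l' :=
  conj_RS (fun _ hs t => na_conj hs t) h hg

variable (K) in
theorem nb_RS {l l' : List ℕ} (h : (l.all fun s => decide (s < 24) && l'.contains (rb s)) = true)
    {g : GL chevD4.Idx K} (hg : g ∈ RS K l) : nb K * g * (nb K)⁻¹ ∈ RS K l' :=
  conj_RS (fun _ hs t => nb_conj hs t) h hg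

end

section Twisted
variable {K : Type*} [Field K] {q : ℕ} {φ : K →+* K}

theorem wU_nWord {r : ℕ} (hr : r < 24) (t : K) : wU (chevD4.nWord r t) = nR r t := by
  apply Units.ext
  rw [D4Cols.coe_wU, D4NConj.coe_nR hr]
  rfl

theorem na_mem (hφ : ∀ x, φ x = x ^ q) : na K ∈ twistedD4 K q := by
  have h := D4H1.n14_mem (q := q) hφ (t := (1 : K)) (map_one φ)
  rw [wU_nWord (by norm_num)] at h
  exact h

theorem nb_mem (hφ : ∀ x, φ x = x ^ q) : nb K ∈ twistedD4 K q := by
  have h := D4H1.n_outer_mem (q := q) hφ (1 : K)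
  rw [map_one, map_one, wU_nWord (by norm_num), wU_nWord (by norm_num), wU_nWord (by norm_num)] at h
  exact h

theorem mem_of_conj {G : Type*} [Group G] {S : Subgroup G} {n g : G} (hn : n ∈ S) (h : n * g * n⁻¹ ∈ S) : g ∈ S := by
  have := S.mul_mem (S.mul_mem (S.inv_mem hn) h) hn
  have e : n⁻¹ * (n * g * n⁻¹) * n = g := by group
  rwa [e] at this

variable (hK3 : ∀ t : K, φ (φ (φ t)) = t) (hφ : ∀ x, φ x = x ^ q) (hle : twistedD4 K q ≤ fix φ)

theorem RS_14_fix {g : GL chevD4.Idx K} (hg : g ∈ RS K [14]) (hf : g ∈ fix φ) :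
    ∃ t, φ t = t ∧ g = xG 14 t := by
  obtain ⟨t, rfl⟩ := exists_lprod xG_add (by decide) (good_of_goodB [14] (by decide +kernel)) hg
  rw [lprod_cons, lprod_nil, mul_one] at hf ⊢
  rw [mem_fix, sig_14] at hf
  refine ⟨t 14, ?_, rfl⟩
  have h := lprod_inj [14] (by decide +kernel) (t := fun _ => φ (t 14)) (t' := t) (by
    rw [lprod_cons, lprod_cons, lprod_nil, lprod_nil, hf]) 14 (by simp)
  exact h

include hφ in
theorem RS_14_le {g : GL chevD4.Idx K} (hg : g ∈ RS K [14]) (hf : g ∈ fix φ) : g ∈ twistedD4 K q := by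
  obtain ⟨t, ht, rfl⟩ := RS_14_fix hg hf
  rw [← xU_eq]
  exact D4Fixed.x14_mem ((hφ t).symm.trans ht)

theorem RS_outer_fix {g : GL chevD4.Idx K} (hg : g ∈ RS K [18, 13, 12]) (hf : g ∈ fix φ) :
    ∃ t, g = D4Fixed.X φ t := by
  obtain ⟨t, rfl⟩ := exists_lprod xG_add (by decide) (good_of_goodB [18, 13, 12] (by decide +kernel)) hg
  rw [mem_fix, sig_lprod_outer] at hf
  have h := lprod_inj [18, 13, 12] (by decide +kernel) hf.symm
  have h13 := h 13 (by simp)
  have h12 := h 12 (by simp)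
  simp only [tw] at h13 h12
  refine ⟨t 18, ?_⟩
  unfold D4Fixed.X
  rw [xU_eq, xU_eq, xU_eq, lprod_cons, lprod_cons, lprod_cons, lprod_nil, mul_one, h12, h13, mul_assoc]

include hφ in
theorem RS_outer_le {g : GL chevD4.Idx K} (hg : g ∈ RS K [18, 13, 12]) (hf : g ∈ fix φ) : g ∈ twistedD4 K q := by
  obtain ⟨t, rfl⟩ := RS_outer_fix hg hf
  exact D4Fixed.X_mem hφ t

theorem conj_fix {n g : GL chevD4.Idx K} (hn : n ∈ fix φ) (hg : g ∈ fix φ) : n * g * n⁻¹ ∈ fix φ :=
  mul_mem (mul_mem hn hg) (inv_mem hn)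

include hφ hle in
theorem RS_ab_le {g : GL chevD4.Idx K} (hg : g ∈ RS K [19, 16, 15]) (hf : g ∈ fix φ) : g ∈ twistedD4 K q :=
  mem_of_conj (na_mem hφ) (RS_outer_le hφ (na_RS K (by decide +kernel) hg) (conj_fix (hle (na_mem hφ)) hf))

include hφ hle in
theorem RS_abb_le {g : GL chevD4.Idx K} (hg : g ∈ RS K [21, 17, 20]) (hf : g ∈ fix φ) : g ∈ twistedD4 K q :=
  mem_of_conj (nb_mem hφ) (RS_ab_le hφ hle (nb_RS K (by decide +kernel) hg) (conj_fix (hle (nb_mem hφ)) hf))

include hφ hle in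
theorem RS_22_le {g : GL chevD4.Idx K} (hg : g ∈ RS K [22]) (hf : g ∈ fix φ) : g ∈ twistedD4 K q :=
  mem_of_conj (nb_mem hφ) (RS_14_le hφ (nb_RS K (by decide +kernel) hg) (conj_fix (hle (nb_mem hφ)) hf))

include hφ hle in
theorem RS_23_le {g : GL chevD4.Idx K} (hg : g ∈ RS K [23]) (hf : g ∈ fix φ) : g ∈ twistedD4 K q :=
  mem_of_conj (na_mem hφ) (RS_22_le hφ hle (na_RS K (by decide +kernel) hg) (conj_fix (hle (na_mem hφ)) hf))

/-- coordinates of the fixed positive unipotent elements -/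
def crd (φ : K →+* K) (a b c d e f : K) : ℕ → K
  | 14 => a
  | 18 => b
  | 13 => φ b
  | 12 => φ (φ b)
  | 19 => c
  | 16 => -φ c
  | 15 => -φ (φ c)
  | 21 => d
  | 17 => -φ d
  | 20 => φ (φ d)
  | 22 => e
  | 23 => f
  | _ => 0

/-- the fixed positive unipotent elements -/
def elt (φ : K →+* K) (a b c d e f : K) : GL chevD4.Idx K := lprod xG ordA (crd φ a b c d e f)

theorem elt_eq (a b c d e f : K) : elt φ a b c d e f =
    xG 14 a * (xG 18 b * xG 13 (φ b) * xG 12 (φ (φ b))) * (xG 19 c * xG 16 (-φ c) * xG 15 (-φ (φ c))) *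
      (xG 21 d * xG 17 (-φ d) * xG 20 (φ (φ d))) * xG 22 e * xG 23 f := by
  unfold elt ordA
  simp only [lprod_cons, lprod_nil, crd, mul_one, mul_assoc]

include hK3 in
theorem elt_mem_fix_iff (a b c d e f : K) : elt φ a b c d e f ∈ fix φ ↔ φ a = a ∧ φ e = e ∧ φ f = f := by
  unfold elt
  rw [lprod_mem_fix_iff]
  unfold ordA
  simp only [List.forall_mem_cons, List.not_mem_nil, false_imp_iff, implies_true, and_true, crd, tw, hK3, map_neg,
    neg_neg, true_and]
  constructor
  · rintro ⟨h1, h2, h3⟩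
    exact ⟨h1.symm, h2.symm, h3.symm⟩
  · rintro ⟨h1, h2, h3⟩
    exact ⟨h1.symm, h2.symm, h3.symm⟩

theorem exists_elt {g : GL chevD4.Idx K} (hg : g ∈ chevD4.posUnipotent K) (hf : g ∈ fix φ) :
    ∃ a b c d e f : K, g = elt φ a b c d e f := by
  obtain ⟨t, rfl⟩ := exists_lprod_of_mem ordA mem_ordA_iff (by decide) goodB_ordA hg
  rw [lprod_mem_fix_iff] at hf
  refine ⟨t 14, t 18, t 19, t 21, t 22, t 23, ?_⟩
  unfold elt
  apply lprod_congr
  have h13 := hf 13 (by decide)
  have h12 := hf 12 (by decide)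
  have h16 := hf 16 (by decide)
  have h15 := hf 15 (by decide)
  have h17 := hf 17 (by decide)
  have h20 := hf 20 (by decide)
  simp only [tw] at h13 h12 h16 h15 h17 h20
  unfold ordA
  simp only [List.forall_mem_cons, List.not_mem_nil, false_imp_iff, implies_true, and_true, crd, true_and]
  refine ⟨h13, by rw [h12, h13], h16, by rw [h15, h16, map_neg], h17, by rw [h20, h17, map_neg, neg_neg]⟩

theorem elt_mem_U (a b c d e f : K) : elt φ a b c d e f ∈ chevD4.posUnipotent K := by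
  rw [posUnipotent_eq_rspan ordA mem_ordA_iff]
  exact lprod_mem_rspan xG (fun _ h => h) _

theorem xG14_mem (hφ : ∀ x, φ x = x ^ q) {t : K} (ht : φ t = t) : xG 14 t ∈ twistedD4 K q := by
  rw [← xU_eq]
  exact D4Fixed.x14_mem ((hφ t).symm.trans ht)

include hK3 hφ hle in
theorem elt_mem {a b c d e f : K} (ha : φ a = a) (he : φ e = e) (hf : φ f = f) :
    elt φ a b c d e f ∈ twistedD4 K q := by
  rw [elt_eq]
  have hab : xG 19 c * xG 16 (-φ c) * xG 15 (-φ (φ c)) = elt φ 0 0 c 0 0 0 := by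
    rw [elt_eq]
    simp only [map_zero, xG_zero, neg_zero, one_mul, mul_one]
  have habb : xG 21 d * xG 17 (-φ d) * xG 20 (φ (φ d)) = elt φ 0 0 0 d 0 0 := by
    rw [elt_eq]
    simp only [map_zero, xG_zero, neg_zero, one_mul, mul_one]
  have mem (l : List ℕ) (r : ℕ) (t : K) (h : r ∈ l) : xG r t ∈ RS K l := mem_rspan xG (S := {k | k ∈ l}) h t
  refine mul_mem (mul_mem (mul_mem (mul_mem (mul_mem (xG14_mem hφ ha) ?_) ?_) ?_) ?_) ?_
  · have := D4Fixed.X_mem (q := q) hφ b
    unfold D4Fixed.X at this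
    rwa [xU_eq, xU_eq, xU_eq] at this
  · refine RS_ab_le hφ hle (mul_mem (mul_mem (mem _ _ _ (by decide)) (mem _ _ _ (by decide)))
      (mem _ _ _ (by decide))) ?_
    rw [hab, elt_mem_fix_iff hK3]
    simp
  · refine RS_abb_le hφ hle (mul_mem (mul_mem (mem _ _ _ (by decide)) (mem _ _ _ (by decide)))
      (mem _ _ _ (by decide))) ?_
    rw [habb, elt_mem_fix_iff hK3]
    simp
  · refine RS_22_le hφ hle (mem _ _ _ (by decide)) ?_
    rw [mem_fix, sig_22, he]
  · refine RS_23_le hφ hle (mem _ _ _ (by decide)) ?_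
    rw [mem_fix, sig_23, hf]

include hK3 hφ hle in
/-- `U ⊓ G¹` consists exactly of the elements `elt φ a b c d e f`, `a, e, f` fixed by `φ`. -/
theorem mem_U_inf_iff (g : GL chevD4.Idx K) : g ∈ chevD4.posUnipotent K ⊓ twistedD4 K q ↔
    ∃ a b c d e f : K, φ a = a ∧ φ e = e ∧ φ f = f ∧ g = elt φ a b c d e f := by
  constructor
  · rintro ⟨hU, hG⟩
    obtain ⟨a, b, c, d, e, f, rfl⟩ := exists_elt hU (hle hG)
    obtain ⟨h1, h2, h3⟩ := (elt_mem_fix_iff hK3 a b c d e f).1 (hle hG)
    exact ⟨a, b, c, d, e, f, h1, h2, h3, rfl⟩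
  · rintro ⟨a, b, c, d, e, f, h1, h2, h3, rfl⟩
    exact ⟨elt_mem_U a b c d e f, elt_mem hK3 hφ hle h1 h2 h3⟩

include hK3 hφ hle in
/-- `U ⊓ G¹ = U ⊓ Fix σ` -/
theorem U_inf_eq : chevD4.posUnipotent K ⊓ twistedD4 K q = chevD4.posUnipotent K ⊓ fix φ := by
  apply le_antisymm
  · exact inf_le_inf_left _ hle
  · rintro g ⟨hU, hf⟩
    obtain ⟨a, b, c, d, e, f, rfl⟩ := exists_elt hU hf
    obtain ⟨h1, h2, h3⟩ := (elt_mem_fix_iff hK3 a b c d e f).1 hf
    exact ⟨hU, elt_mem hK3 hφ hle h1 h2 h3⟩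

theorem elt_inj {a b c d e f a' b' c' d' e' f' : K} (h : elt φ a b c d e f = elt φ a' b' c' d' e' f') :
    a = a' ∧ b = b' ∧ c = c' ∧ d = d' ∧ e = e' ∧ f = f' := by
  have h1 := lprod_inj ordA uniqB_ordA h
  exact ⟨h1 14 (by decide), h1 18 (by decide), h1 19 (by decide), h1 21 (by decide), h1 22 (by decide),
    h1 23 (by decide)⟩

include hK3 hφ hle in
theorem card_U_inf [Finite K] : Nat.card ↥(chevD4.posUnipotent K ⊓ twistedD4 K q) =
    Nat.card {a : K // φ a = a} ^ 3 * Nat.card K ^ 3 := by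
  let f : ({a : K // φ a = a} × {a : K // φ a = a} × {a : K // φ a = a}) × (K × K × K) →
      ↥(chevD4.posUnipotent K ⊓ twistedD4 K q) := fun p =>
    ⟨elt φ p.1.1 p.2.1 p.2.2.1 p.2.2.2 p.1.2.1 p.1.2.2,
      (mem_U_inf_iff hK3 hφ hle _).2 ⟨_, _, _, _, _, _, p.1.1.2, p.1.2.1.2, p.1.2.2.2, rfl⟩⟩
  have hf : Function.Bijective f := by
    constructor
    · rintro ⟨⟨a, e, f⟩, b, c, d⟩ ⟨⟨a', e', f'⟩, b', c', d'⟩ h
      obtain ⟨h1, h2, h3, h4, h5, h6⟩ := elt_inj (congrArg Subtype.val h)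
      simp only at h1 h2 h3 h4 h5 h6
      rw [Subtype.ext h1, Subtype.ext h5, Subtype.ext h6, h2, h3, h4]
    · rintro ⟨g, hg⟩
      obtain ⟨a, b, c, d, e, f, h1, h2, h3, rfl⟩ := (mem_U_inf_iff hK3 hφ hle g).1 hg
      exact ⟨((⟨a, h1⟩, ⟨e, h2⟩, ⟨f, h3⟩), b, c, d), rfl⟩
  rw [← Nat.card_congr (Equiv.ofBijective f hf)]
  simp only [Nat.card_prod]
  ring

end Twisted

section Count
variable {K : Type*} [Field K] [Fintype K] {q : ℕ} {φ : K →+* K}

/-- the fixed field of the `q`-Frobenius map has `q` elements -/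
theorem card_fix_field (hq : 1 < q) {n : ℕ} (hK : Fintype.card K = q ^ n) (hφ : ∀ x, φ x = x ^ q) :
    Nat.card {a : K // φ a = a} = q := by
  have h := D4H1.card_fixed (q := q) hq hK hφ
  have e : {a : K // φ a = a} ≃ Option {b : Kˣ // φ b = b} := by
    classical
    exact
    { toFun := fun a => if h : (a : K) = 0 then none else some ⟨Units.mk0 a h, a.2⟩
      invFun := fun o => match o with
        | none => ⟨0, map_zero φ⟩
        | some b => ⟨(b : Kˣ), b.2⟩
      left_inv := by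
        rintro ⟨a, ha⟩
        by_cases h : a = 0
        · subst h
          simp
        · simp [h]
      right_inv := by
        rintro (_ | ⟨b, hb⟩)
        · simp
        · simp }
  rw [Nat.card_congr e, Finite.card_option, h]
  omega

theorem phi3 (hK : Fintype.card K = q ^ 3) (hφ : ∀ x, φ x = x ^ q) (t : K) : φ (φ (φ t)) = t := by
  rw [hφ, hφ, hφ, ← pow_mul, ← pow_mul]
  have : q * (q * q) = q ^ 3 := by ring
  rw [this, ← hK]
  exact FiniteField.pow_card t

/-- `|U ⊓ G¹| = q ^ 12` for ³D₄(q). -/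
theorem card_U1 (hq : IsPrimePow q) (hK : Fintype.card K = q ^ 3) :
    Nat.card ↥(chevD4.posUnipotent K ⊓ twistedD4 K q) = q ^ 12 := by
  obtain ⟨φ, hφ⟩ := D4Fixed.exists_frob hq hK
  rw [card_U_inf (phi3 hK hφ) hφ (twisted_le_fix hK hφ), card_fix_field hq.one_lt hK hφ, Nat.card_eq_fintype_card, hK]
  ring

end Count

end Cfsg.Agent.ChevalleyStructure.D4U
end
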