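import Cfsg.Agent.ChevalleyStructure.D4TwN
import Cfsg.Agent.ChevalleyStructure.D4HConj
set_option linter.all false

/-!
Perfectness of ³D₄(q): conjugation by the torus on the short root groups, and the long root `SL₃(q)`.
-/

set_option autoImplicit false

namespace Cfsg.Agent.ChevalleyStructure.D4Perfect

open Cfsg.Lie
open Cfsg.Agent.ChevalleyStructure.D4Comm Cfsg.Agent.ChevalleyStructure.D4NCheck
open Cfsg.Agent.ChevalleyStructure.D4NConj Cfsg.Agent.ChevalleyStructure.D4RGD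
open Cfsg.Agent.ChevalleyStructure.D4Perm Cfsg.Agent.ChevalleyStructure.D4TwN
open Cfsg.Agent.ChevalleyStructure.D4Cols Cfsg.Agent.ChevalleyStructure.D4Fixed
open Cfsg.Agent.ChevalleyStructure.D4HConj
open scoped commutatorElement

variable {K : Type*} [Field K]

theorem nG_conj' (K : Type*) [Field K] {i s : ℕ} (hi : i < 4) (hs : s < 24) : ∃ ε : K, (ε = 1 ∨ ε = -1) ∧
    ∀ v : K, nG K i * xG s v * (nG K i)⁻¹ = xG (rfl' i s) (ε * v) := by
  refine ⟨(eta i s : K), ?_, fun v => nG_conj hi hs v⟩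
  rcases eta_cases hi hs with h | h <;> rw [h] <;> simp

theorem sign_mul {a b : K} (ha : a = 1 ∨ a = -1) (hb : b = 1 ∨ b = -1) : a * b = 1 ∨ a * b = -1 := by
  rcases ha with rfl | rfl <;> rcases hb with rfl | rfl <;> simp

theorem nA_conj_14 (K : Type*) [Field K] : ∃ ε : K, (ε = 1 ∨ ε = -1) ∧
    ∀ v : K, nA K * xG 14 v * (nA K)⁻¹ = xG 22 (ε * v) := by
  obtain ⟨a, ha, h1⟩ := nG_conj' K (i := 3) (s := 14) (by norm_num) (by norm_num)
  obtain ⟨b, hb, h2⟩ := nG_conj' K (i := 2) (s := rfl' 3 14) (by norm_num) (rfl'_lt (by norm_num) (by norm_num))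
  obtain ⟨c, hc, h3⟩ := nG_conj' K (i := 0) (s := rfl' 2 (rfl' 3 14)) (by norm_num)
    (rfl'_lt (by norm_num) (rfl'_lt (by norm_num) (by norm_num)))
  refine ⟨c * (b * a), sign_mul hc (sign_mul hb ha), fun v => ?_⟩
  have e : nA K * xG 14 v * (nA K)⁻¹ =
      nG K 0 * (nG K 2 * (nG K 3 * xG 14 v * (nG K 3)⁻¹) * (nG K 2)⁻¹) * (nG K 0)⁻¹ := by
    rw [nA_def]; group
  rw [e, h1, h2, h3]
  have e2 : rfl' 0 (rfl' 2 (rfl' 3 14)) = 22 := by decide +kernel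
  rw [e2, mul_assoc, mul_assoc]

theorem nB_conj_22 (K : Type*) [Field K] : ∃ ε : K, (ε = 1 ∨ ε = -1) ∧
    ∀ v : K, nB K * xG 22 v * (nB K)⁻¹ = xG 23 (ε * v) := by
  obtain ⟨a, ha, h1⟩ := nG_conj' K (i := 1) (s := 22) (by norm_num) (by norm_num)
  refine ⟨a, ha, fun v => ?_⟩
  have e2 : rfl' 1 22 = 23 := by decide +kernel
  rw [nB_def, h1, e2]

theorem nB_conj_14 (K : Type*) [Field K] : ∃ ε : K, (ε = 1 ∨ ε = -1) ∧
    ∀ v : K, nB K * xG 14 v * (nB K)⁻¹ = xG 9 (ε * v) := by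
  obtain ⟨a, ha, h1⟩ := nG_conj' K (i := 1) (s := 14) (by norm_num) (by norm_num)
  refine ⟨a, ha, fun v => ?_⟩
  have e2 : rfl' 1 14 = 9 := by decide +kernel
  rw [nB_def, h1, e2]

variable {φ : K →+* K} {q : ℕ}

theorem phi_sign {ε v : K} (hε : ε = 1 ∨ ε = -1) (hv : φ v = v) : φ (ε * v) = ε * v := by
  rw [map_mul, hv]
  rcases hε with rfl | rfl
  · rw [map_one]
  · rw [map_neg, map_one]

theorem sign_mul_self {ε v : K} (hε : ε = 1 ∨ ε = -1) : ε * (ε * v) = v := by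
  rcases hε with rfl | rfl <;> simp

theorem x14_mem' (hφ : ∀ x, φ x = x ^ q) {v : K} (hv : φ v = v) : xG 14 v ∈ twistedD4 K q := by
  rw [← xU_eq]
  exact x14_mem (by rw [← hφ, hv])

theorem x22_mem (hφ : ∀ x, φ x = x ^ q) {v : K} (hv : φ v = v) : xG 22 v ∈ twistedD4 K q := by
  obtain ⟨ε, hε, h⟩ := nA_conj_14 K
  have h1 := mul_mem (mul_mem (nA_mem_twisted hφ) (x14_mem' hφ (phi_sign hε hv))) (inv_mem (nA_mem_twisted hφ))
  rwa [h, sign_mul_self hε] at h1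

/-- the commutator subgroup, in the ambient group -/
abbrev C (K : Type*) [Field K] (q : ℕ) : Subgroup (GL chevD4.Idx K) := ⁅twistedD4 K q, twistedD4 K q⁆

theorem C_le : C K q ≤ twistedD4 K q := Subgroup.commutator_le_self _

theorem C_conj {g x : GL chevD4.Idx K} (hg : g ∈ twistedD4 K q) (hx : x ∈ C K q) : g * x * g⁻¹ ∈ C K q := by
  have h1 : ⁅g, x⁆ ∈ C K q := Subgroup.commutator_mem_commutator hg (C_le hx)
  have e : g * x * g⁻¹ = ⁅g, x⁆ * x := by rw [commutatorElement_def]; group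
  rw [e]
  exact mul_mem h1 hx

theorem C_conj' {g x : GL chevD4.Idx K} (hg : g ∈ twistedD4 K q) (hx : g * x * g⁻¹ ∈ C K q) : x ∈ C K q := by
  have h := C_conj (inv_mem hg) hx
  have e : g⁻¹ * (g * x * g⁻¹) * g⁻¹⁻¹ = x := by group
  rwa [e] at h

theorem cval_14_22 (v : K) : cval 14 22 1 v = xG 23 v := by
  have h : D4CommTab.cm 14 22 = some (23, 1) := by decide +kernel
  rw [cval, h]
  simp

theorem x23_mem_C (hφ : ∀ x, φ x = x ^ q) {v : K} (hv : φ v = v) : xG 23 v ∈ C K q := by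
  have h := xG_comm (F := K) (r := 14) (s := 22) (by norm_num) (by norm_num) (by norm_num) (by norm_num)
    (by norm_num) 1 v
  rw [cval_14_22] at h
  rw [← h]
  exact Subgroup.commutator_mem_commutator (x14_mem' hφ (map_one φ)) (x22_mem hφ hv)

theorem x22_mem_C (hφ : ∀ x, φ x = x ^ q) {v : K} (hv : φ v = v) : xG 22 v ∈ C K q := by
  obtain ⟨ε, hε, h⟩ := nB_conj_22 K
  refine C_conj' (nB_mem_twisted hφ) ?_
  rw [h]
  exact x23_mem_C hφ (phi_sign hε hv)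

theorem x14_mem_C (hφ : ∀ x, φ x = x ^ q) {v : K} (hv : φ v = v) : xG 14 v ∈ C K q := by
  obtain ⟨ε, hε, h⟩ := nA_conj_14 K
  refine C_conj' (nA_mem_twisted hφ) ?_
  rw [h]
  exact x22_mem_C hφ (phi_sign hε hv)

theorem x9_mem_C (hφ : ∀ x, φ x = x ^ q) {v : K} (hv : φ v = v) : xG 9 v ∈ C K q := by
  obtain ⟨ε, hε, h⟩ := nB_conj_14 K
  have h1 := C_conj (nB_mem_twisted hφ) (x14_mem_C hφ (phi_sign hε hv))
  rwa [h, sign_mul_self hε] at h1

/-! ### short roots -/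

/-- the torus element `h_{p₁}(c) h_{p₃}(c^φ) h_{p₄}(c^{φφ})` -/
noncomputable def hA (φ : K →+* K) (c : K) : GL chevD4.Idx K := hR 18 c * hR 13 (φ c) * hR 12 (φ (φ c))

theorem wU_hWord_eq {r : ℕ} (hr : r < 24) (t : K) : wU (chevD4.hWord r t) = hR r t := by
  apply Units.ext
  rw [coe_wU, coe_hR hr]
  rfl

theorem hA_mem (hφ : ∀ x, φ x = x ^ q) (c : K) : hA φ c ∈ twistedD4 K q := by
  have h := D4H1.h_outer_mem (φ := φ) hφ c
  rw [wU_hWord_eq (by norm_num), wU_hWord_eq (by norm_num), wU_hWord_eq (by norm_num)] at h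
  exact h

theorem hA_conj {s : ℕ} (hs : s < 24) {c : K} (hc : c ≠ 0) (u : K) : hA φ c * xG s u * (hA φ c)⁻¹ =
    xG s (c ^ SparseHDiag.cartanRS chevD4 18 s * ((φ c) ^ SparseHDiag.cartanRS chevD4 13 s *
      ((φ (φ c)) ^ SparseHDiag.cartanRS chevD4 12 s * u))) := by
  have h1 : φ c ≠ 0 := by rwa [Ne, map_eq_zero]
  have h2 : φ (φ c) ≠ 0 := by rwa [Ne, map_eq_zero]
  have e : hA φ c * xG s u * (hA φ c)⁻¹ =
      hR 18 c * (hR 13 (φ c) * (hR 12 (φ (φ c)) * xG s u * (hR 12 (φ (φ c)))⁻¹) * (hR 13 (φ c))⁻¹) *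
        (hR 18 c)⁻¹ := by
    rw [hA]; group
  rw [e, hR_conj (by norm_num) hs h2, hR_conj (by norm_num) hs h1, hR_conj (by norm_num) hs hc]

theorem X_def' (t : K) : X φ t = xG 18 t * xG 13 (φ t) * xG 12 (φ (φ t)) := rfl
theorem Y_def' (t : K) : Y φ t = xG 5 t * xG 10 (φ t) * xG 11 (φ (φ t)) := rfl

theorem hA_conj_X {c : K} (hc : c ≠ 0) (t : K) : hA φ c * X φ t * (hA φ c)⁻¹ = X φ (c ^ 2 * t) := by
  have e : hA φ c * X φ t * (hA φ c)⁻¹ = (hA φ c * xG 18 t * (hA φ c)⁻¹) *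
      (hA φ c * xG 13 (φ t) * (hA φ c)⁻¹) * (hA φ c * xG 12 (φ (φ t)) * (hA φ c)⁻¹) := by
    rw [X_def']; group
  have c1 := (cartanRS_outer 18 (by simp) 18 (by simp)).1
  have c2 := (cartanRS_outer 18 (by simp) 13 (by simp)).1
  have c3 := (cartanRS_outer 18 (by simp) 12 (by simp)).1
  have c4 := (cartanRS_outer 13 (by simp) 18 (by simp)).1
  have c5 := (cartanRS_outer 13 (by simp) 13 (by simp)).1
  have c6 := (cartanRS_outer 13 (by simp) 12 (by simp)).1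
  have c7 := (cartanRS_outer 12 (by simp) 18 (by simp)).1
  have c8 := (cartanRS_outer 12 (by simp) 13 (by simp)).1
  have c9 := (cartanRS_outer 12 (by simp) 12 (by simp)).1
  simp only [reduceIte, Nat.reduceEqDiff] at c1 c2 c3 c4 c5 c6 c7 c8 c9
  rw [e, hA_conj (by norm_num) hc, hA_conj (by norm_num) hc, hA_conj (by norm_num) hc, c1, c2, c3, c4, c5, c6,
    c7, c8, c9, X_def']
  have hz : ∀ x : K, x ^ (2 : ℤ) = x ^ 2 := fun x => zpow_natCast x 2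
  simp only [zpow_zero, one_mul, map_mul, map_pow, hz]

theorem hA_conj_Y {c : K} (hc : c ≠ 0) (t : K) : hA φ c * Y φ t * (hA φ c)⁻¹ = Y φ ((c ^ 2)⁻¹ * t) := by
  have e : hA φ c * Y φ t * (hA φ c)⁻¹ = (hA φ c * xG 5 t * (hA φ c)⁻¹) *
      (hA φ c * xG 10 (φ t) * (hA φ c)⁻¹) * (hA φ c * xG 11 (φ (φ t)) * (hA φ c)⁻¹) := by
    rw [Y_def']; group
  have c1 := (cartanRS_outer 18 (by simp) 18 (by simp)).2
  have c2 := (cartanRS_outer 18 (by simp) 13 (by simp)).2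
  have c3 := (cartanRS_outer 18 (by simp) 12 (by simp)).2
  have c4 := (cartanRS_outer 13 (by simp) 18 (by simp)).2
  have c5 := (cartanRS_outer 13 (by simp) 13 (by simp)).2
  have c6 := (cartanRS_outer 13 (by simp) 12 (by simp)).2
  have c7 := (cartanRS_outer 12 (by simp) 18 (by simp)).2
  have c8 := (cartanRS_outer 12 (by simp) 13 (by simp)).2
  have c9 := (cartanRS_outer 12 (by simp) 12 (by simp)).2
  simp only [reduceIte, Nat.reduceEqDiff, Nat.reduceSub] at c1 c2 c3 c4 c5 c6 c7 c8 c9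
  rw [e, hA_conj (by norm_num) hc, hA_conj (by norm_num) hc, hA_conj (by norm_num) hc, c1, c2, c3, c4, c5, c6,
    c7, c8, c9, Y_def']
  have hz : ∀ x : K, x ^ (-2 : ℤ) = (x ^ 2)⁻¹ := fun x => by
    rw [zpow_neg]
    exact congrArg _ (zpow_natCast x 2)
  simp only [zpow_zero, one_mul, map_mul, map_inv₀, map_pow, hz]

theorem X_mul (t u : K) : X φ t * X φ u = X φ (t + u) := by
  have h1 : xG 12 (φ (φ t)) * xG 18 u = xG 18 u * xG 12 (φ (φ t)) := (c_18_12 u (φ (φ t))).eq.symm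
  have h2 : xG 13 (φ t) * xG 18 u = xG 18 u * xG 13 (φ t) := (c_18_13 u (φ t)).eq.symm
  have h3 : xG 12 (φ (φ t)) * xG 13 (φ u) = xG 13 (φ u) * xG 12 (φ (φ t)) := (c_13_12 (φ u) (φ (φ t))).eq.symm
  rw [X_def', X_def', X_def', map_add, map_add, xG_add, xG_add, xG_add]
  calc xG 18 t * xG 13 (φ t) * xG 12 (φ (φ t)) * (xG 18 u * xG 13 (φ u) * xG 12 (φ (φ u)))
      = xG 18 t * xG 13 (φ t) * (xG 12 (φ (φ t)) * xG 18 u) * xG 13 (φ u) * xG 12 (φ (φ u)) := by group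
    _ = xG 18 t * (xG 13 (φ t) * xG 18 u) * (xG 12 (φ (φ t)) * xG 13 (φ u)) * xG 12 (φ (φ u)) := by
      rw [h1]; group
    _ = _ := by rw [h2, h3]; group

theorem Y_mul (t u : K) : Y φ t * Y φ u = Y φ (t + u) := by
  have h1 : xG 11 (φ (φ t)) * xG 5 u = xG 5 u * xG 11 (φ (φ t)) := (c_5_11 u (φ (φ t))).eq.symm
  have h2 : xG 10 (φ t) * xG 5 u = xG 5 u * xG 10 (φ t) := (c_5_10 u (φ t)).eq.symm
  have h3 : xG 11 (φ (φ t)) * xG 10 (φ u) = xG 10 (φ u) * xG 11 (φ (φ t)) := (c_10_11 (φ u) (φ (φ t))).eq.symm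
  rw [Y_def', Y_def', Y_def', map_add, map_add, xG_add, xG_add, xG_add]
  calc xG 5 t * xG 10 (φ t) * xG 11 (φ (φ t)) * (xG 5 u * xG 10 (φ u) * xG 11 (φ (φ u)))
      = xG 5 t * xG 10 (φ t) * (xG 11 (φ (φ t)) * xG 5 u) * xG 10 (φ u) * xG 11 (φ (φ u)) := by group
    _ = xG 5 t * (xG 10 (φ t) * xG 5 u) * (xG 11 (φ (φ t)) * xG 10 (φ u)) * xG 11 (φ (φ u)) := by
      rw [h1]; group
    _ = _ := by rw [h2, h3]; group

theorem X_zero : X φ 0 = 1 := by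
  rw [X_def', map_zero, map_zero, xG_zero, xG_zero, xG_zero, one_mul, one_mul]

theorem Y_zero : Y φ 0 = 1 := by
  rw [Y_def', map_zero, map_zero, xG_zero, xG_zero, xG_zero, one_mul, one_mul]

theorem X_inv (t : K) : (X φ t)⁻¹ = X φ (-t) :=
  inv_eq_of_mul_eq_one_right (by rw [X_mul, add_neg_cancel, X_zero])

theorem Y_inv (t : K) : (Y φ t)⁻¹ = Y φ (-t) :=
  inv_eq_of_mul_eq_one_right (by rw [Y_mul, add_neg_cancel, Y_zero])

theorem X_mem_C (hφ : ∀ x, φ x = x ^ q) {c : K} (hc : c ≠ 0) (hc2 : c ^ 2 ≠ 1) (t : K) : X φ t ∈ C K q := by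
  have hne : c ^ 2 - 1 ≠ 0 := sub_ne_zero.2 hc2
  have h : ⁅hA φ c, X φ (t / (c ^ 2 - 1))⁆ = X φ t := by
    rw [commutatorElement_def, hA_conj_X hc, X_inv, X_mul]
    congr 1
    field_simp
    ring
  rw [← h]
  exact Subgroup.commutator_mem_commutator (hA_mem hφ c) (X_mem hφ _)

theorem Y_mem_C (hφ : ∀ x, φ x = x ^ q) {c : K} (hc : c ≠ 0) (hc2 : c ^ 2 ≠ 1) (t : K) : Y φ t ∈ C K q := by
  have hne : (c ^ 2)⁻¹ - 1 ≠ 0 := by
    rw [sub_ne_zero]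
    intro h
    exact hc2 (by rw [← inv_inv (c ^ 2), h, inv_one])
  have h : ⁅hA φ c, Y φ (t / ((c ^ 2)⁻¹ - 1))⁆ = Y φ t := by
    rw [commutatorElement_def, hA_conj_Y hc, Y_inv, Y_mul]
    congr 1
    have e : (c ^ 2)⁻¹ * (t / ((c ^ 2)⁻¹ - 1)) + -(t / ((c ^ 2)⁻¹ - 1)) =
      ((c ^ 2)⁻¹ - 1) * (t / ((c ^ 2)⁻¹ - 1)) := by ring
    rw [e, mul_div_cancel₀ _ hne]
  rw [← h]
  exact Subgroup.commutator_mem_commutator (hA_mem hφ c) (Y_mem hφ _)

theorem le_C [Fintype K] (hq : IsPrimePow q) (hK : Fintype.card K = q ^ 3) (hφ : ∀ x, φ x = x ^ q) :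
    twistedD4 K q ≤ C K q := by
  have hq2 : 2 ≤ q := hq.two_le
  have hcard : 2 < Nat.card Kˣ := by
    rw [Nat.card_units, Nat.card_eq_fintype_card, hK]
    have : 2 ^ 3 ≤ q ^ 3 := Nat.pow_le_pow_left hq2 3
    omega
  obtain ⟨c, hc⟩ := exists_pow_ne_one_of_isCyclic (G := Kˣ) (k := 2) two_ne_zero hcard
  have hc0 : (c : K) ≠ 0 := c.ne_zero
  have hc2 : (c : K) ^ 2 ≠ 1 := by
    intro h
    apply hc
    apply Units.ext
    rw [Units.val_pow_eq_pow_val, h, Units.val_one]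
  refine twisted_induction hφ ?_ ?_ (fun t => X_mem_C hφ hc0 hc2 t) (fun t => Y_mem_C hφ hc0 hc2 t)
  · intro t ht
    rw [xU_eq]
    exact x14_mem_C hφ ht
  · intro t ht
    rw [xU_eq]
    exact x9_mem_C hφ ht

end Cfsg.Agent.ChevalleyStructure.D4Perfect
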