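import Cfsg.Agent.ChevalleyStructure.GraphCheck
import Cfsg.Prelude.Def_ChevB2
import Cfsg.Agent.ChevalleyStructure.GraphFaith
set_option linter.all false

-- part: ChevalleyStructure/GraphTabB2
section
/-!
Tables for type B2 modulo 2 (generated).
-/
set_option autoImplicit false

namespace Cfsg.Agent.ChevalleyStructure.GraphTabB2

open Cfsg.Agent.ChevalleyStructure.GraphSparse Cfsg.Agent.ChevalleyStructure.GraphCheck

def tabB2Row0 : List (ℕ × SV) := [(7, [(7, 0, 1), (3, 1, 1)]), (8, [(8, 0, 1), (4, 1, 1)]), (9, [(9, 0, 1), (0, 1, 1), (1, 1, 1), (2, 2, 1)])]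

def tabB2Row1 : List (ℕ × SV) := [(1, [(1, 0, 1), (3, 1, 1)]), (6, [(6, 0, 1), (4, 1, 1), (2, 2, 1)]), (8, [(8, 0, 1), (0, 1, 1), (3, 2, 1)]), (9, [(9, 0, 1), (7, 1, 1), (5, 2, 1)])]

def tabB2Row2 : List (ℕ × SV) := [(1, [(1, 0, 1), (4, 1, 1)]), (5, [(5, 0, 1), (3, 1, 1), (2, 2, 1)]), (7, [(7, 0, 1), (0, 1, 1), (4, 2, 1)]), (9, [(9, 0, 1), (8, 1, 1), (6, 2, 1)])]

def tabB2Row3 : List (ℕ × SV) := [(4, [(4, 0, 1), (3, 1, 1)]), (6, [(6, 0, 1), (1, 1, 1), (5, 2, 1)]), (8, [(8, 0, 1), (7, 1, 1)])]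

def tabB2Row4 : List (ℕ × SV) := [(3, [(3, 0, 1), (4, 1, 1)]), (5, [(5, 0, 1), (1, 1, 1), (6, 2, 1)]), (7, [(7, 0, 1), (8, 1, 1)])]

def tabB2Row5 : List (ℕ × SV) := [(1, [(1, 0, 1), (7, 1, 1)]), (2, [(2, 0, 1), (3, 1, 1), (5, 2, 1)]), (4, [(4, 0, 1), (0, 1, 1), (7, 2, 1)]), (6, [(6, 0, 1), (8, 1, 1), (9, 2, 1)])]

def tabB2Row6 : List (ℕ × SV) := [(1, [(1, 0, 1), (8, 1, 1)]), (2, [(2, 0, 1), (4, 1, 1), (6, 2, 1)]), (3, [(3, 0, 1), (0, 1, 1), (8, 2, 1)]), (5, [(5, 0, 1), (7, 1, 1), (9, 2, 1)])]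

def tabB2Row7 : List (ℕ × SV) := [(2, [(2, 0, 1), (0, 1, 1), (1, 1, 1), (9, 2, 1)]), (3, [(3, 0, 1), (7, 1, 1)]), (4, [(4, 0, 1), (8, 1, 1)])]

def tabB2Rows : List (List (ℕ × SV)) := [tabB2Row0, tabB2Row1, tabB2Row2, tabB2Row3, tabB2Row4, tabB2Row5, tabB2Row6, tabB2Row7]

def tabB2Car : List (List ℕ) := [[0, 0, 0, 0, 0, 0, 0, 0], [0, 1, 1, 0, 0, 1, 1, 0]]

noncomputable def tabB2Col (r j : ℕ) : SV := look j (tabB2Rows.getD r [])

noncomputable def tabB2Act (j c : ℕ) : SV :=
  if Nat.ble (j + 1) 2 then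
    (if Nat.ble (c + 1) 2 then [] else [(c, 0, (tabB2Car.getD j []).getD (c - 2) 0)])
  else lin (tabB2Col (j - 2) c)

noncomputable def tabB2 : Tab where
  p := 2
  l := 2
  n := 8
  colF := tabB2Col
  actF := tabB2Act
  bar := [1, 0, 3, 2, 5, 4, 7, 6]
  lam := [1, 2, 2, 1, 1, 2, 2, 1]
  sig := [0, 1, 4, 0, 0, 5, 8, 0, 0, 9]
  jl := [0, 3, 4, 7, 8]
  wit := [[], [(3, 3, 1)], [(7, 3, 1)], [(8, 0, 1)], [(7, 0, 1)], [(4, 3, 1)], [(3, 4, 1)], [(4, 0, 1)], [(3, 0, 1)], [(3, 7, 1)]]

end Cfsg.Agent.ChevalleyStructure.GraphTabB2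
end

-- part: ChevalleyStructure/GraphB2
section
/-!
The exceptional graph automorphism of `B₂` in characteristic 2, on all root elements. Faithfulness uses the
four-dimensional symplectic module.
-/
set_option autoImplicit false

namespace Cfsg.Agent.ChevalleyStructure.GraphB2

open Cfsg.Lie Cfsg.Agent.ChevalleyStructure.GraphSparse Cfsg.Agent.ChevalleyStructure.GraphColumns
  Cfsg.Agent.ChevalleyStructure.GraphCheck Cfsg.Agent.ChevalleyStructure.GraphAbstract
  Cfsg.Agent.ChevalleyStructure.GraphSound Cfsg.Agent.ChevalleyStructure.GraphFaith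
  Cfsg.Agent.ChevalleyStructure.GraphTabB2

open scoped MatrixGroups

set_option maxRecDepth 100000
set_option linter.unusedSectionVars false
set_option linter.unusedSimpArgs false

theorem c0 : allB 8 (tabB2.chk0 chevB2) = true := by decide +kernel
theorem c1 : allB 8 tabB2.chk1 = true := by decide +kernel
theorem c2 : allB 8 tabB2.chk2 = true := by decide +kernel
theorem c4 : allB 8 tabB2.chk4 = true := by decide +kernel
theorem c7 : tabB2.chk7 = true := by decide +kernel
theorem c8 : tabB2.chk8 = true := by decide +kernel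

theorem good : Good tabB2 chevB2 where
  hl := rfl
  hn := rfl
  prime := Nat.prime_two
  c0 := allB_sound c0
  c1 := allB_sound c1
  c2 := allB_sound c2
  c4 := allB_sound c4
  c8 := c8

/-- nonzero off-diagonal entries `(r, column, row)` of the four-dimensional module -/
def ytab : List (List (ℕ × ℕ)) :=
  [[(0, 3)], [(0, 2), (1, 3)], [(0, 1), (2, 3)], [(1, 2)], [(2, 1)], [(1, 0), (3, 2)], [(2, 0), (3, 1)], [(3, 0)]]

/-- look up -/
noncomputable def lk (c : ℕ) (L : List (ℕ × ℕ)) (k : ℕ) : SV :=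
  List.rec [] (fun e _ ih => bif Nat.beq e.1 c then [(e.2, k, 1)] else ih) L

/-- column `c` of the root element `1 + t E_r` of the symplectic module -/
noncomputable def ycol (r c : ℕ) : SV :=
  bif Nat.ble (c + 1) 4 then (c, 0, 1) :: lk c (ytab.getD r []) 1 else []

/-- action of the Lie algebra on the symplectic module -/
noncomputable def actM (j c : ℕ) : SV :=
  bif Nat.ble (j + 1) 10 then
    (bif Nat.ble (c + 1) 4 then
      (bif Nat.beq j 0 then [(c, 0, 1)] else
        bif Nat.beq j 1 then (bif Nat.beq c 1 then [(c, 0, 1)] else bif Nat.beq c 2 then [(c, 0, 1)] else [])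
        else lk c (ytab.getD (j - 2) []) 0)
      else []) else []

theorem d1 : allB 8 (fun r => allB 4 fun c => eqv 2 (ap (ycol r) (ycol r c)) [(c, 0, 1)]) = true := by
  decide +kernel

theorem d2 : allB 8 (fun r => allB 10 fun j => allB 4 fun c =>
    eqv 2 (ap2 actM (tabB2.col r j) (ycol r c)) (ap (ycol r) (actM j c))) = true := by
  decide +kernel

theorem d3 : allB 10 (fun j => allB 4 fun c => pz (actM j c)) = true := by decide +kernel

section

variable (K : Type*) [Field K]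

/-- basis of the symplectic module -/
def bM (i : ℕ) : Fin 4 → K := fun a => if a.val = i then 1 else 0

theorem bM_val (a : Fin 4) : bM K a.val = Pi.single a 1 := by
  funext c
  unfold bM
  by_cases h : c = a
  · subst h; simp
  · rw [if_neg (fun h' => h (Fin.ext h')), Pi.single_eq_of_ne h]

theorem bM_out {j : ℕ} (h : ¬ j < 4) : bM K j = 0 := by
  funext c
  change (if c.val = j then (1 : K) else 0) = 0
  rw [if_neg]
  intro h'
  apply h
  rw [← h']
  exact c.isLt

theorem linM_ext {W : Type*} [AddCommGroup W] [Module K W] {f g : (Fin 4 → K) →ₗ[K] W}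
    (h : ∀ j < 4, f (bM K j) = g (bM K j)) : f = g := by
  apply (Pi.basisFun K (Fin 4)).ext
  intro c
  have := h c.val c.isLt
  rw [bM_val] at this
  rw [Pi.basisFun_apply]
  exact this

/-- the root elements of the symplectic module -/
noncomputable def Y (r : ℕ) (t : K) : Matrix (Fin 4) (Fin 4) K :=
  Matrix.of fun a c => ev (bM K) t (ycol r c.val) a

theorem Y_bM (r : ℕ) (t : K) (c : ℕ) : Matrix.mulVec (Y K r t) (bM K c) = ev (bM K) t (ycol r c) := by
  by_cases hc : c < 4
  · have : bM K c = Pi.single (⟨c, hc⟩ : Fin 4) 1 := bM_val K ⟨c, hc⟩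
    rw [this, Matrix.mulVec_single_one]
    rfl
  · have : ycol r c = [] := by
      unfold ycol
      rw [ble_false (by omega)]
      rfl
    rw [bM_out K hc, this, Matrix.mulVec_zero]
    rfl

/-- the Lie algebra action on the symplectic module -/
noncomputable def io : (chevB2.Idx → K) →ₗ[K] (Fin 4 → K) →ₗ[K] (Fin 4 → K) :=
  (Pi.basisFun K chevB2.Idx).constr K fun i => (Pi.basisFun K (Fin 4)).constr K fun j =>
    ev (bM K) (1 : K) (actM (enc chevB2 i) j.val)

theorem io_bas (t : K) (i j : ℕ) : io K (bas chevB2 K i) (bM K j) = ev (bM K) t (actM i j) := by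
  by_cases hi : i < 10
  · by_cases hj : j < 4
    · have h3 := allB_sound (allB_sound d3 i hi) j hj
      rw [ev_of_pz (bM K) t h3 1]
      obtain ⟨a, rfl⟩ := exists_enc chevB2 (j := i) hi
      have : bM K j = Pi.single (⟨j, hj⟩ : Fin 4) 1 := bM_val K ⟨j, hj⟩
      unfold io
      rw [bas_enc, this, ← Pi.basisFun_apply, ← Pi.basisFun_apply, Module.Basis.constr_basis,
        Module.Basis.constr_basis]
    · have : actM i j = [] := by
        unfold actM
        rw [ble_true (by omega), ble_false (a := j + 1) (by omega)]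
        rfl
      rw [this, bM_out K hj, map_zero]
      rfl
  · have : actM i j = [] := by
      unfold actM
      rw [ble_false (by omega)]
      rfl
    rw [this, bas_out chevB2 K (by exact hi), map_zero]
    rfl

variable [CharP K 2]

theorem Y_mul_self {r : ℕ} (hr : r < 8) (t : K) : Y K r t * Y K r t = 1 := by
  have key : Matrix.toLin' (Y K r t * Y K r t) = Matrix.toLin' 1 := by
    apply linM_ext
    intro j hj
    have h1 := allB_sound (allB_sound d1 r hr) j hj
    have h2 := ev_of_eqv (bM K) t 2 (by norm_num) h1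
    rw [ev_ap (bM K) t (bM K) (Matrix.mulVecLin (Y K r t)) _ (fun i => Y_bM K r t i)] at h2
    rw [Matrix.toLin'_apply, Matrix.toLin'_apply, Matrix.one_mulVec, ← Matrix.mulVec_mulVec, Y_bM]
    rw [Matrix.mulVecLin_apply] at h2
    rw [h2, ev_cons, ev_nil]
    simp
  exact Matrix.toLin'.injective key

theorem io_x {r : ℕ} (hr : r < 8) (t : K) (v : chevB2.Idx → K) (w : Fin 4 → K) :
    io K (Matrix.mulVec (chevB2.x K r t) v) (Matrix.mulVec (Y K r t) w) =
      Matrix.mulVec (Y K r t) (io K v w) := by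
  have : CharP K tabB2.p := (inferInstance : CharP K 2)
  have key : ∀ c < 4, (io K).flip (Matrix.mulVec (Y K r t) (bM K c)) ∘ₗ Matrix.mulVecLin (chevB2.x K r t) =
      Matrix.mulVecLin (Y K r t) ∘ₗ (io K).flip (bM K c) := by
    intro c hc
    apply lin_ext
    intro j hj
    have h1 := allB_sound (allB_sound (allB_sound d2 r hr) j hj) c hc
    have h2 := ev_of_eqv (bM K) t 2 (by norm_num) h1
    rw [ev_ap2 (bas chevB2 K) t (bM K) (bM K) (io K) actM (fun i j => io_bas K t i j),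
      ev_ap (bM K) t (bM K) (Matrix.mulVecLin (Y K r t)) _ (fun i => Y_bM K r t i),
      ← x_bas good K hr, ← Y_bM, ← io_bas K] at h2
    exact h2
  have key2 : io K (Matrix.mulVec (chevB2.x K r t) v) ∘ₗ Matrix.mulVecLin (Y K r t) =
      Matrix.mulVecLin (Y K r t) ∘ₗ io K v := by
    apply linM_ext
    intro c hc
    exact LinearMap.congr_fun (key c hc) v
  exact LinearMap.congr_fun key2 w

/-- invariance under a pair `(g, y)` -/
def RelY (M : Matrix chevB2.Idx chevB2.Idx K) (y : GL (Fin 4) K) : Prop :=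
  ∀ (v : chevB2.Idx → K) (w : Fin 4 → K),
    io K (Matrix.mulVec M v) (Matrix.mulVec (y : Matrix (Fin 4) (Fin 4) K) w) =
      Matrix.mulVec (y : Matrix (Fin 4) (Fin 4) K) (io K v w)

theorem rel_y {hG : Good tabB2 chevB2} {hc : CharP K tabB2.p} {g : GL chevB2.Idx K × GL chevB2.Idx K}
    (hg : g ∈ pairs (X hG K) (barF hG) (fun r => tabB2.lam.getD r.val 0)) :
    ∃ y : GL (Fin 4) K, RelY K (g.2 : Matrix chevB2.Idx chevB2.Idx K) y := by
  refine pairs_induction (X hG K) (barF hG) (fun r => tabB2.lam.getD r.val 0)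
    (fun g => ∃ y : GL (Fin 4) K, RelY K (g.2 : Matrix chevB2.Idx chevB2.Idx K) y) ?_ ?_ ?_ ?_ hg
  · intro r t
    have hr : (barF hG r).val < 8 := (barF hG r).isLt
    refine ⟨⟨Y K (barF hG r).val (t ^ tabB2.lam.getD r.val 0), Y K (barF hG r).val (t ^ tabB2.lam.getD r.val 0),
      Y_mul_self K hr _, Y_mul_self K hr _⟩, ?_⟩
    intro v w
    rw [X_coe]
    exact io_x K hr _ v w
  · refine ⟨1, fun v w => ?_⟩
    rw [Prod.snd_one, Units.val_one, Units.val_one, Matrix.one_mulVec, Matrix.one_mulVec, Matrix.one_mulVec]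
  · rintro a b ⟨y, hy⟩ ⟨z, hz⟩
    refine ⟨y * z, fun v w => ?_⟩
    rw [Prod.snd_mul, Units.val_mul, Units.val_mul, ← Matrix.mulVec_mulVec, ← Matrix.mulVec_mulVec, hy, hz,
      Matrix.mulVec_mulVec]
  · rintro a ⟨y, hy⟩
    refine ⟨y⁻¹, fun v w => ?_⟩
    rw [Prod.snd_inv]
    have h1 : ∀ v, Matrix.mulVec (a.2 : Matrix chevB2.Idx chevB2.Idx K)
        (Matrix.mulVec (((a.2)⁻¹ : GL chevB2.Idx K) : Matrix chevB2.Idx chevB2.Idx K) v) = v := by
      intro v
      rw [Matrix.mulVec_mulVec, ← Units.val_mul, mul_inv_cancel, Units.val_one, Matrix.one_mulVec]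
    have h2 : ∀ w, Matrix.mulVec (y : Matrix (Fin 4) (Fin 4) K)
        (Matrix.mulVec ((y⁻¹ : GL (Fin 4) K) : Matrix (Fin 4) (Fin 4) K) w) = w := by
      intro w
      rw [Matrix.mulVec_mulVec, ← Units.val_mul, mul_inv_cancel, Units.val_one, Matrix.one_mulVec]
    have h3 : ∀ w, Matrix.mulVec ((y⁻¹ : GL (Fin 4) K) : Matrix (Fin 4) (Fin 4) K)
        (Matrix.mulVec (y : Matrix (Fin 4) (Fin 4) K) w) = w := by
      intro w
      rw [Matrix.mulVec_mulVec, ← Units.val_mul, inv_mul_cancel, Units.val_one, Matrix.one_mulVec]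
    have h4 := hy (Matrix.mulVec (((a.2)⁻¹ : GL chevB2.Idx K) : Matrix chevB2.Idx chevB2.Idx K) v)
      (Matrix.mulVec ((y⁻¹ : GL (Fin 4) K) : Matrix (Fin 4) (Fin 4) K) w)
    rw [h1, h2] at h4
    rw [h4, h3]

/-- witnesses for the injectivity of `io`: for each index `j`, a list of (column, row, coefficient) -/
def witM : List (List (ℕ × ℕ × ℕ)) :=
  [[(0, 0, 1)], [(0, 0, 1), (1, 1, 1)], [(0, 3, 1)], [(0, 2, 1)], [(0, 1, 1)], [(1, 2, 1)], [(2, 1, 1)],
    [(1, 0, 1)], [(2, 0, 1)], [(3, 0, 1)]]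

/-- value of a witness -/
noncomputable def wsumM (i' : ℕ) (L : List (ℕ × ℕ × ℕ)) : ℕ :=
  List.rec 0 (fun w _ ih => w.2.2 * co w.2.1 (actM i' w.1) + ih) L

theorem d4 : allB 10 (fun i => (allL (fun w => Nat.ble (w.2.1 + 1) 4) (witM.getD i []) : Bool) &&
    allB 10 fun i' => Nat.beq (wsumM i' (witM.getD i []) % 2) (bif Nat.beq i i' then 1 else 0)) = true := by
  decide +kernel

theorem prM_ev {a : ℕ} (ha : a < 4) (l : SV) :
    (LinearMap.proj (⟨a, ha⟩ : Fin 4) : (Fin 4 → K) →ₗ[K] K) (ev (bM K) (1 : K) l) = (co a l : K) := by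
  change ev (bM K) (1 : K) l ⟨a, ha⟩ = _
  induction l with
  | nil => rw [co_nil, ev_nil]; simp
  | cons q l ih =>
    rw [ev_cons, Pi.add_apply, ih, co_cons, Pi.smul_apply]
    change ((q.2.2 : ℕ) : K) * 1 ^ q.2.1 * (if a = q.1 then (1 : K) else 0) + _ = _
    by_cases h : q.1 = a
    · have h' : Nat.beq q.1 a = true := by rw [h]; exact Nat.beq_refl _
      rw [if_pos h.symm, if_pos h']
      push_cast
      ring
    · have h' : ¬ Nat.beq q.1 a = true := fun hb => h (Nat.eq_of_beq_eq_true hb)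
      rw [if_neg (fun hb => h hb.symm), if_neg h']
      ring

/-- functional attached to a list of witnesses -/
noncomputable def phiM : List (ℕ × ℕ × ℕ) → ((chevB2.Idx → K) →ₗ[K] K)
  | [] => 0
  | w :: l => ((w.2.2 : ℕ) : K) • ((if h : w.2.1 < 4 then LinearMap.proj (⟨w.2.1, h⟩ : Fin 4) else 0) ∘ₗ
      (io K).flip (bM K w.1)) + phiM l

theorem phiM_bas (i' : ℕ) (L : List (ℕ × ℕ × ℕ)) (hL : ∀ w ∈ L, w.2.1 < 4) :
    phiM K L (bas chevB2 K i') = (wsumM i' L : K) := by
  induction L with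
  | nil => change (0 : K) = ((0 : ℕ) : K); simp
  | cons w l ih =>
    change ((w.2.2 : ℕ) : K) • ((if h : w.2.1 < 4 then LinearMap.proj (⟨w.2.1, h⟩ : Fin 4) else 0 :
      (Fin 4 → K) →ₗ[K] K) (io K (bas chevB2 K i') (bM K w.1))) +
      phiM K l (bas chevB2 K i') = ((w.2.2 * co w.2.1 (actM i' w.1) + wsumM i' l : ℕ) : K)
    rw [dif_pos (hL w List.mem_cons_self), ih (fun w hw => hL w (List.mem_cons_of_mem _ hw)), io_bas K 1,
      prM_ev]
    push_cast
    rfl

theorem phiM_zero (w : chevB2.Idx → K) (L : List (ℕ × ℕ × ℕ)) (h : io K w = 0) : phiM K L w = 0 := by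
  induction L with
  | nil => rfl
  | cons q l ih =>
    change ((q.2.2 : ℕ) : K) • ((if h : q.2.1 < 4 then LinearMap.proj (⟨q.2.1, h⟩ : Fin 4) else 0 :
      (Fin 4 → K) →ₗ[K] K) (io K w (bM K q.1))) + phiM K l w = 0
    rw [ih, h, LinearMap.zero_apply, map_zero, smul_zero, add_zero]

theorem io_injective (w : chevB2.Idx → K) (h : io K w = 0) : w = 0 := by
  funext a
  have hi : enc chevB2 a < 10 := enc_lt chevB2 a
  have h5 := allB_sound d4 (enc chevB2 a) hi
  rw [Bool.and_eq_true] at h5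
  have hW : ∀ q ∈ witM.getD (enc chevB2 a) [], q.2.1 < 4 := by
    intro q hq
    have h6 := allL_sound h5.1 q hq
    exact Nat.le_of_ble_eq_true h6
  have key : phiM K (witM.getD (enc chevB2 a) []) = pr chevB2 K (enc chevB2 a) := by
    apply lin_ext
    intro j hj
    rw [phiM_bas K j _ hW]
    have h7 := Nat.eq_of_beq_eq_true (allB_sound h5.2 j hj)
    rw [← cast_mod' 2, h7, pr_enc]
    change ((bif Nat.beq (enc chevB2 a) j then 1 else 0 : ℕ) : K) = (if enc chevB2 a = j then (1 : K) else 0)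
    by_cases h8 : enc chevB2 a = j
    · rw [if_pos h8, h8, Nat.beq_refl]; simp
    · rw [if_neg h8]
      cases h9 : Nat.beq (enc chevB2 a) j with
      | false => simp
      | true => exact absurd (Nat.eq_of_beq_eq_true h9) h8
  have h1 := phiM_zero K w (witM.getD (enc chevB2 a) []) h
  rw [key, pr_enc] at h1
  rw [h1]
  rfl

theorem ev_single (k : ℕ) : ev (bM K) (1 : K) [(k, 0, 1)] = bM K k := by simp [ev_cons, ev_nil]

theorem vec_eq (w : Fin 4 → K) : w = w 0 • bM K 0 + w 1 • bM K 1 + w 2 • bM K 2 + w 3 • bM K 3 := by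
  funext a
  fin_cases a <;> simp [bM]

/-- formulas for the short root elements -/
theorem io7 (w : Fin 4 → K) : io K (bas chevB2 K 7) w = w 1 • bM K 0 + w 3 • bM K 2 := by
  conv_lhs => rw [vec_eq K w]
  have h0 : actM 7 0 = [] := by decide +kernel
  have h1 : actM 7 1 = [(0, 0, 1)] := by decide +kernel
  have h2 : actM 7 2 = [] := by decide +kernel
  have h3 : actM 7 3 = [(2, 0, 1)] := by decide +kernel
  simp only [map_add, map_smul, io_bas K 1, h0, h1, h2, h3, ev_single, ev_nil, smul_zero, zero_add, add_zero]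

theorem io4 (w : Fin 4 → K) : io K (bas chevB2 K 4) w = w 0 • bM K 1 + w 2 • bM K 3 := by
  conv_lhs => rw [vec_eq K w]
  have h0 : actM 4 0 = [(1, 0, 1)] := by decide +kernel
  have h1 : actM 4 1 = [] := by decide +kernel
  have h2 : actM 4 2 = [(3, 0, 1)] := by decide +kernel
  have h3 : actM 4 3 = [] := by decide +kernel
  simp only [map_add, map_smul, io_bas K 1, h0, h1, h2, h3, ev_single, ev_nil, smul_zero, zero_add, add_zero]

theorem io8 (w : Fin 4 → K) : io K (bas chevB2 K 8) w = w 2 • bM K 0 + w 3 • bM K 1 := by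
  conv_lhs => rw [vec_eq K w]
  have h0 : actM 8 0 = [] := by decide +kernel
  have h1 : actM 8 1 = [] := by decide +kernel
  have h2 : actM 8 2 = [(0, 0, 1)] := by decide +kernel
  have h3 : actM 8 3 = [(1, 0, 1)] := by decide +kernel
  simp only [map_add, map_smul, io_bas K 1, h0, h1, h2, h3, ev_single, ev_nil, smul_zero, zero_add, add_zero]

theorem io3 (w : Fin 4 → K) : io K (bas chevB2 K 3) w = w 0 • bM K 2 + w 1 • bM K 3 := by
  conv_lhs => rw [vec_eq K w]
  have h0 : actM 3 0 = [(2, 0, 1)] := by decide +kernel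
  have h1 : actM 3 1 = [(3, 0, 1)] := by decide +kernel
  have h2 : actM 3 2 = [] := by decide +kernel
  have h3 : actM 3 3 = [] := by decide +kernel
  simp only [map_add, map_smul, io_bas K 1, h0, h1, h2, h3, ev_single, ev_nil, smul_zero, zero_add, add_zero]

/-- a linear map commuting with the short root elements is a scalar -/
theorem scalar_of_comm (f : (Fin 4 → K) →ₗ[K] (Fin 4 → K))
    (h7 : ∀ w, io K (bas chevB2 K 7) (f w) = f (io K (bas chevB2 K 7) w))
    (h4 : ∀ w, io K (bas chevB2 K 4) (f w) = f (io K (bas chevB2 K 4) w))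
    (h8 : ∀ w, io K (bas chevB2 K 8) (f w) = f (io K (bas chevB2 K 8) w))
    (h3 : ∀ w, io K (bas chevB2 K 3) (f w) = f (io K (bas chevB2 K 3) w)) :
    ∀ w, f w = f (bM K 0) 0 • w := by
  have v00 : bM K 0 0 = 1 := rfl
  have v01 : bM K 0 1 = 0 := rfl
  have v02 : bM K 0 2 = 0 := rfl
  have v03 : bM K 0 3 = 0 := rfl
  have v10 : bM K 1 0 = 0 := rfl
  have v11 : bM K 1 1 = 1 := rfl
  have v12 : bM K 1 2 = 0 := rfl
  have v13 : bM K 1 3 = 0 := rfl
  have v22 : bM K 2 2 = 1 := rfl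
  have v21 : bM K 2 1 = 0 := rfl
  have v20 : bM K 2 0 = 0 := rfl
  have v31 : bM K 3 1 = 0 := rfl
  have v30 : bM K 3 0 = 0 := rfl
  have e7 := h7 (bM K 0)
  have e8 := h8 (bM K 0)
  have e4 := h4 (bM K 0)
  have e3 := h3 (bM K 0)
  have e3' := h3 (bM K 1)
  rw [io7, io7, v01, v03, zero_smul, zero_smul, add_zero, map_zero] at e7
  rw [io8, io8, v02, v03, zero_smul, zero_smul, add_zero, map_zero] at e8
  rw [io4, io4, v00, v02, zero_smul, one_smul, add_zero] at e4
  rw [io3, io3, v00, v01, zero_smul, one_smul, add_zero] at e3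
  rw [io3, io3, v10, v11, zero_smul, one_smul, zero_add] at e3'
  have F01 : f (bM K 0) 1 = 0 := by
    have := congrFun e7 0
    simpa [v00, v20] using this
  have F03 : f (bM K 0) 3 = 0 := by
    have := congrFun e7 2
    simpa [v02, v22] using this
  have F02 : f (bM K 0) 2 = 0 := by
    have := congrFun e8 0
    simpa [v00, v10] using this
  rw [F02, zero_smul, add_zero] at e4
  rw [F01, zero_smul, add_zero] at e3
  have F10 : f (bM K 1) 0 = 0 := by
    rw [← e4]; simp [v10]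
  have F11 : f (bM K 1) 1 = f (bM K 0) 0 := by
    rw [← e4]; simp [v11]
  rw [F10, F11, zero_smul, zero_add] at e3'
  have e0 : f (bM K 0) = f (bM K 0) 0 • bM K 0 := by
    conv_lhs => rw [vec_eq K (f (bM K 0)), F01, F02, F03]
    simp
  intro w
  conv_lhs => rw [vec_eq K w]
  conv_rhs => rw [vec_eq K w]
  rw [map_add, map_add, map_add, map_smul, map_smul, map_smul, map_smul, ← e4, ← e3, ← e3', e0]
  simp only [smul_add, smul_smul, Pi.smul_apply, v00, smul_eq_mul, mul_one]
  rw [mul_comm (w 0), mul_comm (w 1), mul_comm (w 2), mul_comm (w 3)]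

theorem faithB2 {hG : Good tabB2 chevB2} [hc : CharP K tabB2.p] (g' : GL chevB2.Idx K)
    (hg : ((1 : GL chevB2.Idx K), g') ∈ pairs (X hG K) (barF hG) (fun r => tabB2.lam.getD r.val 0)) :
    g' = 1 := by
  have : CharP K 2 := hc
  have ha := rel_a hG K hg
  obtain ⟨y, hy⟩ := rel_y K hg
  simp only [Units.val_one, mul_one] at ha
  have h7 := c7
  unfold Tab.chk7 at h7
  have hfix : ∀ c ∈ tabB2.jl, Matrix.mulVec (g' : Matrix chevB2.Idx chevB2.Idx K) (bas chevB2 K c) =
      bas chevB2 K c := by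
    intro c hc
    have h1 := mem_sound (allL_sound h7 c hc)
    obtain ⟨k, hk, hk'⟩ := List.getElem_of_mem h1
    have hv : bas chevB2 K c = Matrix.mulVec (shift tabB2 chevB2 K) (bas chevB2 K k) := by
      rw [shift_bas hG K 1]
      unfold Tab.sigCol
      rw [List.getD_eq_getElem _ _ hk, hk']
      change bas chevB2 K c = ev (bas chevB2 K) (1 : K) [(c, 0, 1)]
      simp [ev_cons, ev_nil]
    rw [hv, Matrix.mulVec_mulVec, ha]
  have hcomm : ∀ c ∈ tabB2.jl, ∀ w, io K (bas chevB2 K c) (Matrix.mulVecLin (y : Matrix (Fin 4) (Fin 4) K) w) =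
      Matrix.mulVecLin (y : Matrix (Fin 4) (Fin 4) K) (io K (bas chevB2 K c) w) := by
    intro c hc w
    have h1 := hy (bas chevB2 K c) w
    rw [hfix c hc] at h1
    exact h1
  have hs := scalar_of_comm K (Matrix.mulVecLin (y : Matrix (Fin 4) (Fin 4) K))
    (hcomm 7 (mem_sound (by decide +kernel))) (hcomm 4 (mem_sound (by decide +kernel)))
    (hcomm 8 (mem_sound (by decide +kernel))) (hcomm 3 (mem_sound (by decide +kernel)))
  set μ : K := (Matrix.mulVecLin (y : Matrix (Fin 4) (Fin 4) K)) (bM K 0) 0 with hμ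
  have hμ0 : μ ≠ 0 := by
    intro h0
    have h1 : ∀ w, Matrix.mulVec (y : Matrix (Fin 4) (Fin 4) K) w = 0 := by
      intro w
      have := hs w
      rw [h0, zero_smul] at this
      exact this
    have h2 : bM K 0 = 0 := by
      have h3 : Matrix.mulVec ((y⁻¹ : GL (Fin 4) K) : Matrix (Fin 4) (Fin 4) K)
          (Matrix.mulVec (y : Matrix (Fin 4) (Fin 4) K) (bM K 0)) = bM K 0 := by
        rw [Matrix.mulVec_mulVec, ← Units.val_mul, inv_mul_cancel, Units.val_one, Matrix.one_mulVec]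
      rw [h1, Matrix.mulVec_zero] at h3
      exact h3.symm
    have h4 : bM K 0 0 = 0 := by rw [h2]; rfl
    have h5 : bM K 0 0 = 1 := rfl
    rw [h5] at h4
    exact one_ne_zero h4
  have hio : ∀ v, io K (Matrix.mulVec (g' : Matrix chevB2.Idx chevB2.Idx K) v) = io K v := by
    intro v
    apply LinearMap.ext
    intro w
    have h1 := hy v w
    have h2 := hs w
    have h3 := hs (io K v w)
    rw [Matrix.mulVecLin_apply] at h2 h3
    rw [h2] at h1
    have h4 : ((Prod.snd ((1 : GL chevB2.Idx K), g') : GL chevB2.Idx K) : Matrix chevB2.Idx chevB2.Idx K) =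
      (g' : Matrix chevB2.Idx chevB2.Idx K) := rfl
    rw [h3, map_smul] at h1
    exact smul_right_injective _ hμ0 h1
  apply Units.ext
  rw [Units.val_one]
  apply matrix_ext
  intro j hj
  rw [Matrix.one_mulVec]
  have h3 := io_injective K (Matrix.mulVec (g' : Matrix chevB2.Idx chevB2.Idx K) (bas chevB2 K j) -
    bas chevB2 K j) (by rw [map_sub, hio, sub_self])
  exact sub_eq_zero.mp h3

/-- The exceptional graph automorphism of `B₂(K)`, `K` perfect of characteristic 2, on all root elements. -/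
theorem exists_graph (hperf : ∀ x : K, ∃ y : K, y ^ 2 = x) :
    ∃ α : ↥(chevB2.group K) ≃* ↥(chevB2.group K), ∀ (g : ↥(chevB2.group K)) (r : ℕ) (t : K), r < 8 →
      ((g : GL chevB2.Idx K) : Matrix _ _ K) = chevB2.x K r t →
        ((α g : GL chevB2.Idx K) : Matrix _ _ K) =
          chevB2.x K (tabB2.bar.getD r 0) (t ^ tabB2.lam.getD r 0) := by
  have : CharP K tabB2.p := (inferInstance : CharP K 2)
  obtain ⟨α, hα⟩ := GraphSound.main good K hperf (faithB2 K)
  exact ⟨α, fun g r t hr hg => (hα g).2 r t hr hg⟩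

end

end Cfsg.Agent.ChevalleyStructure.GraphB2
end
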