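import Cfsg.Agent.ChevalleyStructure.GraphCheck
import Cfsg.Prelude.Def_ChevG2
import Cfsg.Agent.ChevalleyStructure.GraphFaith
set_option linter.all false

-- part: ChevalleyStructure/GraphTabG2
section
/-!
Tables for type G2 modulo 3 (generated).
-/
set_option autoImplicit false

namespace Cfsg.Agent.ChevalleyStructure.GraphTabG2

open Cfsg.Agent.ChevalleyStructure.GraphSparse Cfsg.Agent.ChevalleyStructure.GraphCheck

def tabG2Row0 : List (ℕ × SV) := [(1, [(1, 0, 1), (2, 1, 1)]), (8, [(8, 0, 1), (3, 1, 1)]), (10, [(10, 0, 1), (4, 1, 1)]), (11, [(11, 0, 1), (5, 1, 2)]), (12, [(12, 0, 1), (7, 1, 2)]), (13, [(13, 0, 1), (0, 1, 2), (1, 1, 1), (2, 2, 2)])]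

def tabG2Row1 : List (ℕ × SV) := [(1, [(1, 0, 1), (3, 1, 2)]), (7, [(7, 0, 1), (2, 1, 1)]), (9, [(9, 0, 1), (4, 1, 1)]), (11, [(11, 0, 1), (6, 1, 2)]), (12, [(12, 0, 1), (0, 1, 2), (1, 1, 2), (3, 2, 2)]), (13, [(13, 0, 1), (8, 1, 2)])]

def tabG2Row2 : List (ℕ × SV) := [(0, [(0, 0, 1), (4, 1, 1)]), (9, [(9, 0, 1), (5, 1, 1)]), (10, [(10, 0, 1), (6, 1, 2)]), (11, [(11, 0, 1), (0, 1, 1), (4, 2, 2)]), (12, [(12, 0, 1), (9, 1, 2), (5, 2, 1), (2, 3, 1)]), (13, [(13, 0, 1), (10, 1, 2), (6, 2, 2), (3, 3, 2)])]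

def tabG2Row3 : List (ℕ × SV) := [(0, [(0, 0, 1), (5, 1, 2)]), (1, [(1, 0, 1), (5, 1, 1)]), (6, [(6, 0, 1), (4, 1, 1)]), (8, [(8, 0, 1), (6, 1, 1), (4, 2, 2), (2, 3, 1)]), (10, [(10, 0, 1), (0, 1, 2), (5, 2, 2)]), (11, [(11, 0, 1), (9, 1, 2)]), (13, [(13, 0, 1), (11, 1, 1), (9, 2, 1), (7, 3, 2)])]

def tabG2Row4 : List (ℕ × SV) := [(0, [(0, 0, 1), (6, 1, 2)]), (1, [(1, 0, 1), (6, 1, 2)]), (5, [(5, 0, 1), (4, 1, 2)]), (7, [(7, 0, 1), (5, 1, 1), (4, 2, 1), (3, 3, 2)]), (9, [(9, 0, 1), (0, 1, 2), (6, 2, 2)]), (11, [(11, 0, 1), (10, 1, 1)]), (12, [(12, 0, 1), (11, 1, 1), (10, 2, 2), (8, 3, 1)])]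

def tabG2Row5 : List (ℕ × SV) := [(1, [(1, 0, 1), (7, 1, 2)]), (3, [(3, 0, 1), (2, 1, 2)]), (6, [(6, 0, 1), (5, 1, 2)]), (8, [(8, 0, 1), (1, 1, 2), (7, 2, 2)]), (10, [(10, 0, 1), (9, 1, 1)]), (13, [(13, 0, 1), (12, 1, 1)])]

def tabG2Row6 : List (ℕ × SV) := [(1, [(1, 0, 1), (8, 1, 1)]), (2, [(2, 0, 1), (3, 1, 2)]), (5, [(5, 0, 1), (6, 1, 2)]), (7, [(7, 0, 1), (1, 1, 1), (8, 2, 2)]), (9, [(9, 0, 1), (10, 1, 1)]), (12, [(12, 0, 1), (13, 1, 1)])]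

def tabG2Row7 : List (ℕ × SV) := [(0, [(0, 0, 1), (9, 1, 1)]), (1, [(1, 0, 1), (9, 1, 1)]), (3, [(3, 0, 1), (4, 1, 2), (5, 2, 2), (7, 3, 2)]), (4, [(4, 0, 1), (5, 1, 2)]), (6, [(6, 0, 1), (0, 1, 1), (9, 2, 2)]), (8, [(8, 0, 1), (10, 1, 2), (11, 2, 1), (12, 3, 1)]), (10, [(10, 0, 1), (11, 1, 1)])]

def tabG2Row8 : List (ℕ × SV) := [(0, [(0, 0, 1), (10, 1, 1)]), (1, [(1, 0, 1), (10, 1, 2)]), (2, [(2, 0, 1), (4, 1, 2), (6, 2, 1), (8, 3, 1)]), (4, [(4, 0, 1), (6, 1, 1)]), (5, [(5, 0, 1), (0, 1, 1), (10, 2, 2)]), (7, [(7, 0, 1), (9, 1, 2), (11, 2, 2), (13, 3, 2)]), (9, [(9, 0, 1), (11, 1, 2)])]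

def tabG2Row9 : List (ℕ × SV) := [(0, [(0, 0, 1), (11, 1, 2)]), (2, [(2, 0, 1), (5, 1, 1), (9, 2, 2), (12, 3, 1)]), (3, [(3, 0, 1), (6, 1, 1), (10, 2, 1), (13, 3, 2)]), (4, [(4, 0, 1), (0, 1, 2), (11, 2, 2)]), (5, [(5, 0, 1), (9, 1, 1)]), (6, [(6, 0, 1), (10, 1, 2)])]

def tabG2Row10 : List (ℕ × SV) := [(1, [(1, 0, 1), (12, 1, 1)]), (2, [(2, 0, 1), (7, 1, 1)]), (3, [(3, 0, 1), (0, 1, 1), (1, 1, 1), (12, 2, 2)]), (4, [(4, 0, 1), (9, 1, 1)]), (6, [(6, 0, 1), (11, 1, 2)]), (8, [(8, 0, 1), (13, 1, 2)])]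

def tabG2Row11 : List (ℕ × SV) := [(1, [(1, 0, 1), (13, 1, 2)]), (2, [(2, 0, 1), (0, 1, 1), (1, 1, 2), (13, 2, 2)]), (3, [(3, 0, 1), (8, 1, 1)]), (4, [(4, 0, 1), (10, 1, 1)]), (5, [(5, 0, 1), (11, 1, 2)]), (7, [(7, 0, 1), (12, 1, 2)])]

def tabG2Rows : List (List (ℕ × SV)) := [tabG2Row0, tabG2Row1, tabG2Row2, tabG2Row3, tabG2Row4, tabG2Row5, tabG2Row6, tabG2Row7, tabG2Row8, tabG2Row9, tabG2Row10, tabG2Row11]

def tabG2Car : List (List ℕ) := [[0, 0, 2, 1, 1, 0, 0, 2, 2, 1, 0, 0], [2, 1, 0, 2, 1, 1, 2, 2, 1, 0, 2, 1]]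

noncomputable def tabG2Col (r j : ℕ) : SV := look j (tabG2Rows.getD r [])

noncomputable def tabG2Act (j c : ℕ) : SV :=
  if Nat.ble (j + 1) 2 then
    (if Nat.ble (c + 1) 2 then [] else [(c, 0, (tabG2Car.getD j []).getD (c - 2) 0)])
  else lin (tabG2Col (j - 2) c)

noncomputable def tabG2 : Tab where
  p := 3
  l := 2
  n := 12
  colF := tabG2Col
  actF := tabG2Act
  bar := [2, 3, 0, 1, 5, 4, 7, 6, 10, 11, 8, 9]
  lam := [1, 1, 3, 3, 3, 1, 1, 3, 3, 3, 1, 1]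
  sig := [0, 1, 5, 6, 0, 0, 0, 7, 10, 0, 0, 0, 11, 12]
  jl := [0, 4, 5, 6, 9, 10, 11]
  wit := [[(4, 4, 2)], [(4, 4, 2), (5, 5, 2)], [(10, 4, 1)], [(9, 4, 1)], [(0, 4, 1)], [(0, 5, 2)], [(0, 6, 2)], [(6, 5, 2)], [(5, 6, 2)], [(0, 9, 1)], [(0, 10, 1)], [(0, 11, 2)], [(4, 9, 1)], [(4, 10, 1)]]

end Cfsg.Agent.ChevalleyStructure.GraphTabG2
end

-- part: ChevalleyStructure/GraphG2
section
/-!
The exceptional graph automorphism of `G₂` in characteristic 3, on all root elements.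
-/
set_option autoImplicit false

namespace Cfsg.Agent.ChevalleyStructure.GraphG2

open Cfsg.Lie Cfsg.Agent.ChevalleyStructure.GraphSparse Cfsg.Agent.ChevalleyStructure.GraphColumns
  Cfsg.Agent.ChevalleyStructure.GraphCheck Cfsg.Agent.ChevalleyStructure.GraphAbstract
  Cfsg.Agent.ChevalleyStructure.GraphSound Cfsg.Agent.ChevalleyStructure.GraphFaith
  Cfsg.Agent.ChevalleyStructure.GraphTabG2

set_option maxRecDepth 100000

theorem c0 : allB 12 (tabG2.chk0 chevG2) = true := by decide +kernel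
theorem c1 : allB 12 tabG2.chk1 = true := by decide +kernel
theorem c2 : allB 12 tabG2.chk2 = true := by decide +kernel
theorem c3 : allB 12 tabG2.chk3 = true := by decide +kernel
theorem c4 : allB 12 tabG2.chk4 = true := by decide +kernel
theorem c5 : allB 14 tabG2.chk5 = true := by decide +kernel
theorem c6 : allB 14 tabG2.chk6 = true := by decide +kernel
theorem c7 : tabG2.chk7 = true := by decide +kernel
theorem c8 : tabG2.chk8 = true := by decide +kernel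

theorem good : Good tabG2 chevG2 where
  hl := rfl
  hn := rfl
  prime := Nat.prime_three
  c0 := allB_sound c0
  c1 := allB_sound c1
  c2 := allB_sound c2
  c4 := allB_sound c4
  c8 := c8

theorem faithful : Faith tabG2 where
  c3 := allB_sound c3
  c5 := allB_sound c5
  c6 := allB_sound c6
  c7 := c7

/-- The exceptional graph automorphism of `G₂(K)`, `K` perfect of characteristic 3, on all root elements. -/
theorem exists_graph {K : Type*} [Field K] [CharP K 3] (hperf : ∀ x : K, ∃ y : K, y ^ 3 = x) :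
    ∃ α : ↥(chevG2.group K) ≃* ↥(chevG2.group K), ∀ (g : ↥(chevG2.group K)) (r : ℕ) (t : K), r < 12 →
      ((g : GL chevG2.Idx K) : Matrix _ _ K) = chevG2.x K r t →
        ((α g : GL chevG2.Idx K) : Matrix _ _ K) =
          chevG2.x K ([2, 3, 0, 1, 5, 4, 7, 6, 10, 11, 8, 9].getD r 0)
            (t ^ [1, 1, 3, 3, 3, 1, 1, 3, 3, 3, 1, 1].getD r 0) := by
  have : CharP K tabG2.p := (inferInstance : CharP K 3)
  obtain ⟨α, hα⟩ := GraphSound.main good K hperf (faith K good faithful)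
  exact ⟨α, fun g r t hr hg => (hα g).2 r t hr hg⟩

end Cfsg.Agent.ChevalleyStructure.GraphG2
end
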