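/-
Kernel checks for the table of type D4, part C.
-/
import Cfsg.Agent.ChevalleyStructure.OrthD4Def
set_option linter.all false

set_option autoImplicit false

namespace Cfsg.Agent.ChevalleyStructure.OrthD4OkC

open Cfsg.Lie Cfsg.Agent.ChevalleyStructure.OrthLie Cfsg.Agent.ChevalleyStructure.OrthD4Def

theorem ok16 : ∀ (p q : Fin 4 ⊕ Fin 4) (a : chevD4.Idx),
    isZ (tab.lhs 16 p q a ++ tab.rhs 16 p q a) = true := by
  decide +kernel

theorem ok17 : ∀ (p q : Fin 4 ⊕ Fin 4) (a : chevD4.Idx),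
    isZ (tab.lhs 17 p q a ++ tab.rhs 17 p q a) = true := by
  decide +kernel

theorem ok18 : ∀ (p q : Fin 4 ⊕ Fin 4) (a : chevD4.Idx),
    isZ (tab.lhs 18 p q a ++ tab.rhs 18 p q a) = true := by
  decide +kernel

theorem ok19 : ∀ (p q : Fin 4 ⊕ Fin 4) (a : chevD4.Idx),
    isZ (tab.lhs 19 p q a ++ tab.rhs 19 p q a) = true := by
  decide +kernel

theorem ok20 : ∀ (p q : Fin 4 ⊕ Fin 4) (a : chevD4.Idx),
    isZ (tab.lhs 20 p q a ++ tab.rhs 20 p q a) = true := by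
  decide +kernel

theorem ok21 : ∀ (p q : Fin 4 ⊕ Fin 4) (a : chevD4.Idx),
    isZ (tab.lhs 21 p q a ++ tab.rhs 21 p q a) = true := by
  decide +kernel

theorem ok22 : ∀ (p q : Fin 4 ⊕ Fin 4) (a : chevD4.Idx),
    isZ (tab.lhs 22 p q a ++ tab.rhs 22 p q a) = true := by
  decide +kernel

theorem ok23 : ∀ (p q : Fin 4 ⊕ Fin 4) (a : chevD4.Idx),
    isZ (tab.lhs 23 p q a ++ tab.rhs 23 p q a) = true := by
  decide +kernel

end Cfsg.Agent.ChevalleyStructure.OrthD4OkC
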