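import Cfsg.Agent.ChevalleyStructure.SL2Match
import Cfsg.Prelude.Def_ChevG2
import Cfsg.Prelude.Def_ChevB2
import Cfsg.Prelude.Def_ChevF4
set_option linter.all false

-- part: ChevalleyStructure/SL2Check
section
/-!
Boolean checks on the tables of a Chevalley datum that imply the predicate `Good` for all its roots:
a quick one for simply laced data and a general one for small data.
-/

set_option autoImplicit false

namespace Cfsg.Agent.ChevalleyStructure.SL2Check

open Cfsg Cfsg.Lie Cfsg.Agent.ChevalleyStructure.SL2Rep Cfsg.Agent.ChevalleyStructure.SL2Match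

/-! ### Basic checks -/

theorem getD_toList {α : Type*} (a : Array α) (i : ℕ) (d : α) : a.getD i d = a.toList.getD i d := by
  rw [List.getD_eq_getElem?_getD, Array.getElem?_toList, Array.getD_eq_getD_getElem?]

/-- the scalar product of two lists -/
def dot : List ℤ → List ℤ → ℤ
  | [], _ => 0
  | _ :: _, [] => 0
  | a :: x, b :: y => a * b + dot x y

theorem dot_eq (m : ℕ) (x y : List ℤ) (hx : x.length = m) (hy : y.length = m) :
    dot x y = ∑ i : Fin m, x.getD i 0 * y.getD i 0 := by
  induction m generalizing x y with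
  | zero =>
    have := List.length_eq_zero_iff.1 hx
    subst this
    simp [dot]
  | succ m ih =>
    rcases x with _ | ⟨a, x⟩
    · simp at hx
    · rcases y with _ | ⟨b, y⟩
      · simp at hy
      · rw [dot, Fin.sum_univ_succ, ih x y (by simpa using hx) (by simpa using hy)]
        simp

/-- the check of `∑ c_i(r) A_{i,r} = 2`, all roots in one pass -/
def pairChk : List (List ℤ) → List (List ℤ) → Bool
  | [], _ => true
  | c :: cl, cs => decide (dot c (cs.map fun l => l.getD 0 0) = 2) && pairChk cl (cs.map List.tail)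

theorem pairChk_spec (cl : List (List ℤ)) (cs : List (List ℤ)) (h : pairChk cl cs = true) (k : ℕ)
    (hk : k < cl.length) : dot (cl.getD k []) (cs.map fun l => l.getD k 0) = 2 := by
  induction cl generalizing cs k with
  | nil => simp at hk
  | cons c cl ih =>
    rw [pairChk, Bool.and_eq_true, decide_eq_true_eq] at h
    rcases k with _ | k
    · simpa using h.1
    · have := ih _ h.2 k (by simpa using hk)
      rw [List.map_map] at this
      rw [List.getD_cons_succ, ← this]
      congr 1
      refine List.map_congr_left fun l _ => ?_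
      rcases l with _ | ⟨a, l⟩
      · simp
      · simp

/-- Basic checks: negation, coroots, Cartan integers. -/
def basicCheck (D : ChevalleyDatum) : Bool :=
  decide (D.negIdx.toList = (List.range D.nroots).reverse) && decide (D.nroots % 2 = 0) &&
  decide ((D.coroot.toList.map Array.toList).length = D.nroots) &&
  decide ((D.coroot.toList.map Array.toList).reverse =
    (D.coroot.toList.map Array.toList).map (List.map fun x => - x)) &&
  (D.coroot.toList.map Array.toList).all (fun c => decide (c.length = D.rank)) &&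
  decide ((D.cartanSR.toList.map Array.toList).length = D.rank) &&
  (D.cartanSR.toList.map Array.toList).all (fun c => decide (c.length = D.nroots) &&
    decide (c.reverse = c.map fun x => - x)) &&
  pairChk (D.coroot.toList.map Array.toList) (D.cartanSR.toList.map Array.toList)

theorem getD_map_toList {α : Type*} (A : Array (Array α)) (i : ℕ) :
    (A.getD i #[]).toList = (A.toList.map Array.toList).getD i [] := by
  rw [getD_toList, List.getD_eq_getElem?_getD, List.getD_eq_getElem?_getD, List.getElem?_map]
  rcases A.toList[i]? with _ | x <;> simp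

theorem cor_eq (D : ChevalleyDatum) (r i : ℕ) :
    cor D r i = ((D.coroot.toList.map Array.toList).getD r []).getD i 0 := by
  rw [cor, getD_toList, getD_map_toList]

theorem cartan_eq (D : ChevalleyDatum) (i s : ℕ) :
    D.cartan i s = ((D.cartanSR.toList.map Array.toList).getD i []).getD s 0 := by
  rw [ChevalleyDatum.cartan, getD_toList, getD_map_toList]

theorem getD_reverse {α : Type*} (l : List α) (r : ℕ) (hr : r < l.length) (d : α) :
    l.getD (l.length - 1 - r) d = l.reverse.getD r d := by
  rw [List.getD_eq_getElem?_getD, List.getD_eq_getElem?_getD, List.getElem?_reverse hr]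

theorem getD_neg (l : List ℤ) (i : ℕ) : (l.map fun x => - x).getD i 0 = - l.getD i 0 := by
  rw [List.getD_eq_getElem?_getD, List.getD_eq_getElem?_getD, List.getElem?_map]
  rcases l[i]? with _ | x <;> simp

theorem getD_map_getD (L : List (List ℤ)) (i r : ℕ) :
    (L.map fun l => l.getD r 0).getD i 0 = (L.getD i []).getD r 0 := by
  rw [List.getD_eq_getElem?_getD (l := List.map _ _), List.getElem?_map,
    List.getD_eq_getElem?_getD (l := L)]
  rcases L[i]? with _ | x <;> simp

/-- The consequences of the basic checks. -/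
structure Basic (D : ChevalleyDatum) : Prop where
  neg_eq : ∀ r < D.nroots, D.neg r = D.nroots - 1 - r
  even : D.nroots % 2 = 0
  cor_neg : ∀ r < D.nroots, ∀ i : ℕ, cor D (D.nroots - 1 - r) i = - cor D r i
  cartan_neg : ∀ r < D.nroots, ∀ i < D.rank, D.cartan i (D.nroots - 1 - r) = - D.cartan i r
  pairing : ∀ r < D.nroots, ∑ i : Fin D.rank, cor D r i * D.cartan i r = 2

theorem basic_of_check {D : ChevalleyDatum} (h : basicCheck D = true) : Basic D := by
  simp only [basicCheck, Bool.and_eq_true, decide_eq_true_eq] at h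
  obtain ⟨⟨⟨⟨⟨⟨⟨h1, h2⟩, h3⟩, h4⟩, h5⟩, h6⟩, h7⟩, h8⟩ := h
  refine ⟨?_, h2, ?_, ?_, ?_⟩
  · intro r hr
    rw [ChevalleyDatum.neg, getD_toList, h1, List.getD_eq_getElem?_getD, List.getElem?_reverse (by simpa using hr)]
    simp only [List.length_range]
    rw [List.getElem?_range (by omega)]
    simp
  · intro r hr i
    rw [cor_eq, cor_eq, ← h3, getD_reverse _ _ (by rw [h3]; exact hr), h4, ← getD_neg]
    congr 1
    rw [List.getD_eq_getElem?_getD, List.getD_eq_getElem?_getD, List.getElem?_map]
    rcases (D.coroot.toList.map Array.toList)[r]? with _ | x <;> simp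
  · intro r hr i hi
    rw [cartan_eq, cartan_eq]
    have hm : (D.cartanSR.toList.map Array.toList).getD i [] ∈ D.cartanSR.toList.map Array.toList := by
      rw [List.getD_eq_getElem?_getD, List.getElem?_eq_getElem (by omega)]
      exact List.getElem_mem _
    have h7' := List.all_eq_true.1 h7 _ hm
    rw [Bool.and_eq_true, decide_eq_true_eq, decide_eq_true_eq] at h7'
    generalize (D.cartanSR.toList.map Array.toList).getD i [] = l at h7'
    rw [← h7'.1, getD_reverse _ _ (by rw [h7'.1]; exact hr), h7'.2, getD_neg]
  · intro r hr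
    have := pairChk_spec _ _ h8 r (by rw [h3]; exact hr)
    have hm : (D.coroot.toList.map Array.toList).getD r [] ∈ D.coroot.toList.map Array.toList := by
      rw [List.getD_eq_getElem?_getD, List.getElem?_eq_getElem (by omega)]
      exact List.getElem_mem _
    have h5' := List.all_eq_true.1 h5 _ hm
    rw [decide_eq_true_eq] at h5'
    rw [dot_eq D.rank _ _ h5' (by rw [List.length_map]; exact h6)] at this
    rw [← this]
    refine Finset.sum_congr rfl fun i _ => ?_
    rw [cor_eq, cartan_eq, getD_map_getD]

/-! ### The general check, for one root -/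

/-- check of the `r`-string through `s` -/
def strCheck (D : ChevalleyDatum) (r s : ℕ) : Bool :=
  decide (len D r s ≤ 3) &&
  (str D r s).all (fun x => decide (x.1 < D.nroots) && decide (x.1 ≠ r) && decide (x.1 ≠ D.neg r) &&
    decide (x.2 = 1 ∨ x.2 = -1)) &&
  (str D r s).zipIdx.all (fun x =>
    decide (str D r x.1.1 = (str D r s).map (fun y => (y.1, x.1.2 * y.2))) &&
    decide (pos D r x.1.1 = x.2)) &&
  (D.chainEntry r s).zipIdx.all (fun x =>
    decide (x.1.2 = Int.sign x.1.2 * ((Nat.choose (pos D r s + x.2 + 1) (x.2 + 1) : ℕ) : ℤ))) &&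
  (D.chainEntry (D.neg r) s).zipIdx.all (fun x =>
    decide (x.1.2 = Int.sign x.1.2 *
      ((Nat.choose ((D.chainEntry r s).length + x.2 + 1) (x.2 + 1) : ℕ) : ℤ)))

/-- check of all `r`-strings -/
def rootCheck (D : ChevalleyDatum) (r : ℕ) : Bool :=
  decide (((D.chain.getD r #[]).toList.map Prod.fst).Nodup) &&
  (List.range D.nroots).all fun s => decide (s = r) || decide (s = D.neg r) || strCheck D r s

/-- check of all `r`-strings for all `r` -/
def generalCheck (D : ChevalleyDatum) : Bool :=
  (List.range D.nroots).all fun r => rootCheck D r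

theorem all_zipIdx {α : Type*} {l : List α} {p : α × ℕ → Bool} (h : l.zipIdx.all p = true) (i : ℕ)
    (x : α) (hx : l[i]? = some x) : p (x, i) = true :=
  List.all_eq_true.1 h _ (List.mem_zipIdx_iff_getElem?.2 hx)

theorem good_of_generalCheck {D : ChevalleyDatum} (hb : Basic D) (h : generalCheck D = true)
    (r : ℕ) (hr : r < D.nroots) : Good D r := by
  have hneg := hb.neg_eq r hr
  have hnlt : D.neg r < D.nroots := by omega
  have hrc : ∀ r < D.nroots, rootCheck D r = true := fun r hr =>
    List.all_eq_true.1 h r (List.mem_range.2 hr)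
  have hkeys : ∀ r < D.nroots, ((D.chain.getD r #[]).toList.map Prod.fst).Nodup := by
    intro r hr
    have := hrc r hr
    rw [rootCheck, Bool.and_eq_true, decide_eq_true_eq] at this
    exact this.1
  have hs : ∀ s < D.nroots, s ≠ r → s ≠ D.neg r → strCheck D r s = true := by
    intro s hs h1 h2
    have := hrc r hr
    rw [rootCheck, Bool.and_eq_true] at this
    have := List.all_eq_true.1 this.2 s (List.mem_range.2 hs)
    simpa [h1, h2] using this
  have hev := hb.even
  refine ⟨hr, hnlt, by omega, ?_, ?_, ?_, hb.pairing r hr, hkeys r hr, hkeys _ hnlt,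
    ?_, ?_, ?_, ?_, ?_⟩
  · rw [hb.neg_eq _ hnlt]; omega
  · intro i _
    rw [hneg]
    exact hb.cor_neg r hr i
  · intro i hi
    rw [hneg]
    exact hb.cartan_neg r hr i hi
  · intro s hs0 h1 h2
    have := hs s hs0 h1 h2
    simp only [strCheck, Bool.and_eq_true] at this
    exact of_decide_eq_true this.1.1.1.1
  · intro s hs0 h1 h2 x hx
    have := hs s hs0 h1 h2
    simp only [strCheck, Bool.and_eq_true] at this
    have := List.all_eq_true.1 this.1.1.1.2 x hx
    simp only [Bool.and_eq_true, decide_eq_true_eq] at this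
    exact ⟨this.1.1.1, this.1.1.2, this.1.2, this.2⟩
  · intro s hs0 h1 h2 i x hx
    have := hs s hs0 h1 h2
    simp only [strCheck, Bool.and_eq_true] at this
    have := all_zipIdx this.1.1.2 i x hx
    simp only [Bool.and_eq_true, decide_eq_true_eq] at this
    exact this
  · intro s hs0 h1 h2 i x hx
    have := hs s hs0 h1 h2
    simp only [strCheck, Bool.and_eq_true] at this
    have := all_zipIdx this.1.2 i x hx
    simp only [decide_eq_true_eq] at this
    exact this
  · intro s hs0 h1 h2 i x hx
    have := hs s hs0 h1 h2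
    simp only [strCheck, Bool.and_eq_true] at this
    have := all_zipIdx this.2 i x hx
    simp only [decide_eq_true_eq] at this
    exact this

/-! ### The quick check for simply laced data -/

/-- Both rows consist of one-step strings, and the second is the first with the members swapped. -/
def rowsSwap : List (ℕ × Array (ℕ × ℤ)) → List (ℕ × Array (ℕ × ℤ)) → Bool
  | [], [] => true
  | e :: l, e' :: l' =>
    (match e.2.toList, e'.2.toList with
      | [(u, m)], [(s, m')] =>
        Nat.beq e.1 s && Nat.beq e'.1 u && decide (m = m') && (decide (m = 1) || decide (m = -1))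
      | _, _ => false) && rowsSwap l l'
  | _, _ => false

theorem rowsSwap_spec (l l' : List (ℕ × Array (ℕ × ℤ))) (h : rowsSwap l l' = true) :
    (∀ e ∈ l, ∃ (u : ℕ) (m : ℤ), (m = 1 ∨ m = -1) ∧ e.2.toList = [(u, m)] ∧
      ∃ e' ∈ l', e'.1 = u ∧ e'.2.toList = [(e.1, m)]) ∧
    (∀ e ∈ l', ∃ (u : ℕ) (m : ℤ), (m = 1 ∨ m = -1) ∧ e.2.toList = [(u, m)] ∧
      ∃ e' ∈ l, e'.1 = u ∧ e'.2.toList = [(e.1, m)]) := by
  induction l generalizing l' with
  | nil =>
    rcases l' with _ | ⟨e', l'⟩
    · simp
    · simp [rowsSwap] at h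
  | cons e l ih =>
    rcases l' with _ | ⟨e', l'⟩
    · simp [rowsSwap] at h
    · rw [rowsSwap, Bool.and_eq_true] at h
      obtain ⟨h1, h2⟩ := h
      obtain ⟨i1, i2⟩ := ih l' h2
      have key : ∃ (u s : ℕ) (m : ℤ), (m = 1 ∨ m = -1) ∧ e.2.toList = [(u, m)] ∧
          e'.2.toList = [(s, m)] ∧ e.1 = s ∧ e'.1 = u := by
        revert h1
        generalize e.2.toList = A
        generalize e'.2.toList = B
        intro h1
        rcases A with _ | ⟨⟨u, m⟩, _ | ⟨a, A⟩⟩
        · simp at h1
        · rcases B with _ | ⟨⟨s, m'⟩, _ | ⟨b, B⟩⟩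
          · simp at h1
          · simp only [Bool.and_eq_true, Bool.or_eq_true, decide_eq_true_eq, Nat.beq_eq] at h1
            refine ⟨u, s, m, h1.2, rfl, ?_, h1.1.1.1, h1.1.1.2⟩
            rw [← h1.1.2]
          · simp at h1
        · simp at h1
      obtain ⟨u, s, m, hm, k1, k2, k3, k4⟩ := key
      constructor
      · intro x hx
        rcases List.mem_cons.1 hx with rfl | hx
        · exact ⟨u, m, hm, k1, e', List.mem_cons_self, k4, by rw [k2, k3]⟩
        · obtain ⟨u, m, hm, j1, x', hx', j2⟩ := i1 x hx
          exact ⟨u, m, hm, j1, x', List.mem_cons_of_mem _ hx', j2⟩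
      · intro x hx
        rcases List.mem_cons.1 hx with rfl | hx
        · exact ⟨s, m, hm, k2, e, List.mem_cons_self, k3, by rw [k1, k4]⟩
        · obtain ⟨u, m, hm, j1, x', hx', j2⟩ := i2 x hx
          exact ⟨u, m, hm, j1, x', List.mem_cons_of_mem _ hx', j2⟩

/-- All elements of the list are distinct, less than `n`, and are not bits of the mask. -/
def fresh (n : ℕ) : List ℕ → ℕ → Bool
  | [], _ => true
  | a :: l, m => Nat.blt a n && Nat.beq ((m >>> a) % 2) 0 && fresh n l (m ||| (1 <<< a))

theorem fresh_spec (n : ℕ) (l : List ℕ) (m : ℕ) (h : fresh n l m = true) :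
    l.Nodup ∧ ∀ a ∈ l, a < n ∧ m.testBit a = false := by
  induction l generalizing m with
  | nil => simp
  | cons a l ih =>
    rw [fresh, Bool.and_eq_true, Bool.and_eq_true] at h
    obtain ⟨⟨h1, h2⟩, h3⟩ := h
    obtain ⟨i1, i2⟩ := ih _ h3
    have hlt : a < n := by simpa using h1
    have hbit : m.testBit a = false := by
      rw [Nat.testBit_eq_decide_div_mod_eq, ← Nat.shiftRight_eq_div_pow]
      simp only [Nat.beq_eq] at h2
      simp [h2]
    have hself : (1 <<< a).testBit a = true := by
      rw [Nat.shiftLeft_eq, one_mul, Nat.testBit_two_pow_self]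
    constructor
    · rw [List.nodup_cons]
      refine ⟨fun ha => ?_, i1⟩
      have := (i2 a ha).2
      rw [Nat.testBit_or, hself, Bool.or_true] at this
      exact Bool.noConfusion this
    · intro b hb
      rcases List.mem_cons.1 hb with rfl | hb
      · exact ⟨hlt, hbit⟩
      · have := i2 b hb
        rw [Nat.testBit_or, Bool.or_eq_false_iff] at this
        exact ⟨this.1, this.2.1⟩

/-- The quick check of the rows of `r` and `nr = -r`. -/
def quickRow (n r nr : ℕ) (row row' : Array (ℕ × Array (ℕ × ℤ))) : Bool :=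
  rowsSwap row.toList row'.toList &&
    fresh n (r :: nr :: (row.toList.map Prod.fst ++ row'.toList.map Prod.fst)) 0

/-- The quick check of the first half of the rows against the second one. -/
def quickHalf (n : ℕ) : ℕ → ℕ → List (Array (ℕ × Array (ℕ × ℤ))) →
    List (Array (ℕ × Array (ℕ × ℤ))) → Bool
  | 0, _, _, _ => true
  | k + 1, r, row :: L, row' :: L' =>
    quickRow n r (n - 1 - r) row row' && quickHalf n k (r + 1) L L'
  | _ + 1, _, _, _ => false

theorem quickHalf_spec (n k r : ℕ) (L L' : List (Array (ℕ × Array (ℕ × ℤ))))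
    (h : quickHalf n k r L L' = true) (i : ℕ) (hi : i < k) :
    quickRow n (r + i) (n - 1 - (r + i)) (L.getD i #[]) (L'.getD i #[]) = true := by
  induction k generalizing r L L' i with
  | zero => omega
  | succ k ih =>
    rcases L with _ | ⟨row, L⟩
    · simp [quickHalf] at h
    · rcases L' with _ | ⟨row', L'⟩
      · simp [quickHalf] at h
      · rw [quickHalf, Bool.and_eq_true] at h
        rcases i with _ | i
        · simpa using h.1
        · have := ih (r + 1) L L' h.2 i (by omega)
          rw [List.getD_cons_succ, List.getD_cons_succ]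
          rwa [show r + (i + 1) = r + 1 + i by omega]

/-- The quick check of a simply laced datum. -/
def quickCheck (D : ChevalleyDatum) : Bool :=
  decide (D.chain.toList.length = D.nroots) &&
  quickHalf D.nroots (D.nroots / 2) 0 D.chain.toList D.chain.toList.reverse

/-- What the quick check says about a pair of rows. -/
structure Rows (n r nr : ℕ) (l l' : List (ℕ × Array (ℕ × ℤ))) : Prop where
  nodup : (r :: nr :: (l.map Prod.fst ++ l'.map Prod.fst)).Nodup
  lt : ∀ a ∈ (r :: nr :: (l.map Prod.fst ++ l'.map Prod.fst)), a < n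
  right : ∀ e ∈ l, ∃ (u : ℕ) (m : ℤ), (m = 1 ∨ m = -1) ∧ e.2.toList = [(u, m)] ∧
      ∃ e' ∈ l', e'.1 = u ∧ e'.2.toList = [(e.1, m)]
  left : ∀ e ∈ l', ∃ (u : ℕ) (m : ℤ), (m = 1 ∨ m = -1) ∧ e.2.toList = [(u, m)] ∧
      ∃ e' ∈ l, e'.1 = u ∧ e'.2.toList = [(e.1, m)]

theorem rows_of_quickRow {n r nr : ℕ} {row row' : Array (ℕ × Array (ℕ × ℤ))}
    (h : quickRow n r nr row row' = true) : Rows n r nr row.toList row'.toList := by
  rw [quickRow, Bool.and_eq_true] at h
  obtain ⟨h1, h2⟩ := h
  obtain ⟨k1, k2⟩ := fresh_spec _ _ _ h2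
  obtain ⟨j1, j2⟩ := rowsSwap_spec _ _ h1
  exact ⟨k1, fun a ha => (k2 a ha).1, j1, j2⟩

theorem Rows.symm {n r nr : ℕ} {l l' : List (ℕ × Array (ℕ × ℤ))} (h : Rows n r nr l l') :
    Rows n nr r l' l := by
  have hp : (nr :: r :: (l'.map Prod.fst ++ l.map Prod.fst)).Perm
      (r :: nr :: (l.map Prod.fst ++ l'.map Prod.fst)) :=
    (List.Perm.swap _ _ _).trans (List.Perm.cons _ (List.Perm.cons _ List.perm_append_comm))
  exact ⟨hp.nodup_iff.2 h.nodup, fun a ha => h.lt a (hp.mem_iff.1 ha), h.left, h.right⟩

end Cfsg.Agent.ChevalleyStructure.SL2Check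
end

-- part: ChevalleyStructure/SL2TabSmall
section
/-! The table checks for the types `G₂`, `B₂`, `F₄`. -/

set_option autoImplicit false

namespace Cfsg.Agent.ChevalleyStructure.SL2TabSmall

open Cfsg Cfsg.Lie Cfsg.Agent.ChevalleyStructure.SL2Check

theorem basicG2 : basicCheck chevG2 = true := by decide +kernel
theorem basicB2 : basicCheck chevB2 = true := by decide +kernel
theorem basicF4 : basicCheck chevF4 = true := by decide +kernel

theorem generalG2 : generalCheck chevG2 = true := by decide +kernel
theorem generalB2 : generalCheck chevB2 = true := by decide +kernel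
theorem generalF4 : generalCheck chevF4 = true := by decide +kernel

end Cfsg.Agent.ChevalleyStructure.SL2TabSmall
end
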