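import Cfsg.Agent.ChevalleyStructure.LaurentWord
import Cfsg.Agent.ChevalleyStructure.CommTransport
set_option linter.all false

/-!
Chevalley's commutator formula for a pair of roots from one reflective check (LaurentWord.checkEq),
for an arbitrary Chevalley datum.
-/

set_option autoImplicit false

namespace Cfsg.Agent.ChevalleyStructure.CommCheck

open Cfsg.Lie
open Cfsg.Agent.ChevalleyStructure.LaurentWord
open Cfsg.Agent.ChevalleyStructure.CommTransport

variable {F : Type*} [Field F] {D : ChevalleyDatum}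

/-- `x_r(0) = 1` for every datum. -/
theorem x_zero (D : ChevalleyDatum) (r : ℕ) : D.x F r (0 : F) = 1 := by
  unfold ChevalleyDatum.x
  split_ifs with h
  · ext a b
    rcases b with j | s
    · rcases a with j' | u
      · simp [ChevalleyDatum.xMat, Matrix.one_apply]
      · simp [ChevalleyDatum.xMat, Matrix.one_apply]
    · have hsum : ∀ u : ℕ, ((D.chainCoeff r s.val u).map
          fun km => ((km.2 : ℤ) : F) * (0 : F) ^ km.1).sum = 0 := by
        intro u
        apply List.sum_eq_zero
        intro y hy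
        rw [List.mem_map] at hy
        obtain ⟨km, hkm, rfl⟩ := hy
        have : km.1 ≠ 0 := by
          unfold ChevalleyDatum.chainCoeff at hkm
          rw [List.mem_flatMap] at hkm
          obtain ⟨e, -, he⟩ := hkm
          rw [List.mem_map] at he
          obtain ⟨q, -, rfl⟩ := he
          exact Nat.succ_ne_zero _
        rw [zero_pow this, mul_zero]
      rcases a with j' | u
      · simp only [ChevalleyDatum.xMat, Matrix.of_apply, Matrix.one_apply]
        split_ifs <;> simp_all
      · simp only [ChevalleyDatum.xMat, Matrix.of_apply, Matrix.one_apply, hsum]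
        split_ifs <;> simp_all
  · rfl

theorem wordMat_nil (D : ChevalleyDatum) : D.wordMat F [] = 1 := rfl

theorem wordMat_cons (D : ChevalleyDatum) (p : ℕ × F) (w : List (ℕ × F)) :
    D.wordMat F (p :: w) = D.x F p.1 p.2 * D.wordMat F w := by
  show ((p :: w).map _).prod = _
  rw [List.map_cons, List.prod_cons]
  rfl

/-- a word all of whose parameters vanish -/
theorem wordMat_eq_one_of_zero (D : ChevalleyDatum) (w : List (ℕ × F)) (h : ∀ p ∈ w, p.2 = 0) :
    D.wordMat F w = 1 := by
  induction w with
  | nil => rfl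
  | cons a w ih =>
    rw [wordMat_cons, h a List.mem_cons_self, x_zero, one_mul]
    exact ih fun p hp => h p (List.mem_cons_of_mem _ hp)

theorem commTerms_pos {r s : ℕ} {c : ℕ × ℤ × ℕ × ℕ} (hc : c ∈ D.commTerms r s) :
    c.2.2.1 ≠ 0 ∧ c.2.2.2 ≠ 0 := by
  unfold ChevalleyDatum.commTerms at hc
  simp only [List.mem_filterMap, List.mem_cons, List.not_mem_nil, or_false] at hc
  obtain ⟨d, hd, hd2⟩ := hc
  rw [Option.map_eq_some_iff] at hd2
  obtain ⟨k, -, rfl⟩ := hd2
  rcases hd with rfl | rfl | rfl | rfl | rfl | rfl | rfl <;> exact ⟨by simp, by simp⟩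

/-- the left-hand word `x_s(u) x_r(t)` -/
def lhsW (r s : ℕ) : List (ℕ × Mono) := [(s, (1, 0, 1)), (r, (1, 1, 0))]

/-- the right-hand word of the commutator formula -/
def rhsW (D : ChevalleyDatum) (r s : ℕ) : List (ℕ × Mono) :=
  (r, (1, 1, 0)) :: (s, (1, 0, 1)) ::
    (D.commTerms r s).map fun c => (c.1, (c.2.1 * (-1) ^ c.2.2.1, (c.2.2.1 : ℤ), (c.2.2.2 : ℤ)))

/-- the check of the commutator formula for the pair `(r, s)` with the column function `cols` -/
def pairCheck (D : ChevalleyDatum) (cols : ℕ → ℕ → List (ℕ × ℤ × ℕ)) (r s : ℕ) : Bool :=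
  checkEq (D.rank + D.nroots) D.nroots cols (lhsW r s) (rhsW D r s)

theorem evW_lhs (t u : F) (r s : ℕ) : evW t u (lhsW r s) = [(s, u), (r, t)] := by
  unfold evW lhsW evM
  simp

theorem evW_rhs (D : ChevalleyDatum) (t u : F) (r s : ℕ) :
    evW t u (rhsW D r s) = (r, t) :: (s, u) :: D.commWord F r s t u := by
  unfold evW rhsW evM ChevalleyDatum.commWord
  simp only [List.map_cons, List.map_map, List.cons.injEq, Prod.mk.injEq, true_and]
  refine ⟨by simp, by simp, ?_⟩
  apply List.map_congr_left
  intro c _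
  simp only [Function.comp_apply, Prod.mk.injEq, true_and, zpow_natCast]
  push_cast
  rw [neg_pow t]
  ring

/-- The commutator formula from one check. -/
theorem commAt_of_pairCheck {cols : ℕ → ℕ → List (ℕ × ℤ × ℕ)} (hc : ColsOK D cols) {r s : ℕ}
    (h : pairCheck D cols r s = true) : CommAt F D r s := by
  intro t u
  by_cases ht : t = 0
  · subst ht
    rw [x_zero, mul_one, one_mul, wordMat_eq_one_of_zero, mul_one]
    intro p hp
    unfold ChevalleyDatum.commWord at hp
    rw [List.mem_map] at hp
    obtain ⟨c, hc, rfl⟩ := hp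
    simp [(commTerms_pos hc).1]
  by_cases hu : u = 0
  · subst hu
    rw [x_zero, mul_one, one_mul, wordMat_eq_one_of_zero, mul_one]
    intro p hp
    unfold ChevalleyDatum.commWord at hp
    rw [List.mem_map] at hp
    obtain ⟨c, hc, rfl⟩ := hp
    simp [(commTerms_pos hc).2]
  have h1 := wordMat_eq_of_checkEq (F := F) D hc ht hu h
  rw [evW_lhs, evW_rhs] at h1
  rw [wordMat_cons, wordMat_cons, wordMat_nil, mul_one, wordMat_cons, wordMat_cons, ← mul_assoc] at h1
  exact h1

/-- the check of the commutator formula for the pairs `(r, s)`, `r` fixed -/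
def rowPairCheck (D : ChevalleyDatum) (cols : ℕ → ℕ → List (ℕ × ℤ × ℕ)) (r : ℕ) : Bool :=
  (List.range D.nroots).all fun s => (s == r) || (s == D.neg r) || pairCheck D cols r s

theorem commAt_of_rowPairCheck {cols : ℕ → ℕ → List (ℕ × ℤ × ℕ)} (hc : ColsOK D cols) {r s : ℕ}
    (h : rowPairCheck D cols r = true) (hs : s < D.nroots) (hrs : s ≠ r) (hneg : s ≠ D.neg r) :
    CommAt F D r s := by
  unfold rowPairCheck at h
  have h1 := List.all_eq_true.mp h s (List.mem_range.mpr hs)
  rw [Bool.or_eq_true, Bool.or_eq_true, beq_iff_eq, beq_iff_eq] at h1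
  rcases h1 with (h1 | h1) | h1
  · exact absurd h1 hrs
  · exact absurd h1 hneg
  · exact commAt_of_pairCheck hc h1

theorem colsOK_col (D : ChevalleyDatum) : ColsOK D (col D) := fun _ _ _ _ => rfl

end Cfsg.Agent.ChevalleyStructure.CommCheck
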