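import Cfsg.Prelude.Def_ChevStructure
set_option linter.all false

/-!
Signed-permutation symmetries of the tables of a Chevalley datum, and the automorphisms of the Chevalley group
they induce: `P x_r(t) P⁻¹ = x_{σ r}(ε_r t)` for every root `r`.
-/

set_option autoImplicit false

namespace Cfsg.Agent.ChevalleyStructure.SignedSymm

open Cfsg.Lie

/-- A signed permutation symmetry of the tables of `D`: `e_s ↦ ε_s e_{σ s}`, `h_i ↦ δ_i h_{σ₀ i}`. -/
structure Symm (D : ChevalleyDatum) where
  σ : Equiv.Perm (Fin D.nroots)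
  σ₀ : Equiv.Perm (Fin D.rank)
  ε : Fin D.nroots → ℤ
  δ : Fin D.rank → ℤ
  ε_sq : ∀ r, ε r * ε r = 1
  δ_sq : ∀ i, δ i * δ i = 1
  cartan_eq : ∀ i r, (D.cartanSR.getD (σ₀ i).val #[]).getD (σ r).val 0 =
    δ i * (D.cartanSR.getD i.val #[]).getD r.val 0
  coroot_eq : ∀ i r, (D.coroot.getD (σ r).val #[]).getD (σ₀ i).val 0 =
    δ i * (D.coroot.getD r.val #[]).getD i.val 0
  neg_iff : ∀ r s : Fin D.nroots, (σ s).val = D.negIdx.getD (σ r).val 0 ↔ s.val = D.negIdx.getD r.val 0
  ε_neg : ∀ r s : Fin D.nroots, s.val = D.negIdx.getD r.val 0 → ε s = ε r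
  chain_eq : ∀ r s u : Fin D.nroots, D.chainCoeff (σ r).val (σ s).val (σ u).val =
    (D.chainCoeff r.val s.val u.val).map fun q => (q.1, ε u * ε s * ε r ^ q.1 * q.2)

namespace Symm

variable {D : ChevalleyDatum} (S : Symm D)

/-- The permutation of the coordinate index set. -/
def perm : Equiv.Perm D.Idx := Equiv.sumCongr S.σ₀ S.σ

/-- The signs. -/
def sgn : D.Idx → ℤ
  | Sum.inl i => S.δ i
  | Sum.inr r => S.ε r

theorem sgn_sq (a : D.Idx) : S.sgn a * S.sgn a = 1 := by
  cases a with
  | inl i => exact S.δ_sq i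
  | inr r => exact S.ε_sq r

variable (F : Type*) [Field F]

theorem sgn_sq' (a : D.Idx) : ((S.sgn a : ℤ) : F) * ((S.sgn a : ℤ) : F) = 1 := by
  rw [← Int.cast_mul, S.sgn_sq a, Int.cast_one]

theorem ε_sq' (a : Fin D.nroots) : ((S.ε a : ℤ) : F) * ((S.ε a : ℤ) : F) = 1 := by
  rw [← Int.cast_mul, S.ε_sq a, Int.cast_one]

/-- The signed permutation matrix: column `b` is `sgn b` times the basis vector `perm b`. -/
def mat : Matrix D.Idx D.Idx F := Matrix.of fun a b => if a = S.perm b then ((S.sgn b : ℤ) : F) else 0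

/-- The inverse signed permutation matrix. -/
def matInv : Matrix D.Idx D.Idx F := Matrix.of fun a b => if b = S.perm a then ((S.sgn a : ℤ) : F) else 0

theorem mat_apply (a b : D.Idx) : S.mat F a b = if a = S.perm b then ((S.sgn b : ℤ) : F) else 0 := rfl

theorem matInv_apply (a b : D.Idx) : S.matInv F a b = if b = S.perm a then ((S.sgn a : ℤ) : F) else 0 := rfl

theorem mat_mul (M : Matrix D.Idx D.Idx F) (a b : D.Idx) :
    (S.mat F * M) (S.perm a) b = ((S.sgn a : ℤ) : F) * M a b := by
  rw [Matrix.mul_apply, Finset.sum_eq_single a]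
  · rw [mat_apply, if_pos rfl]
  · intro c _ hc
    rw [mat_apply, if_neg (fun h => hc (S.perm.injective h).symm), zero_mul]
  · intro h; exact absurd (Finset.mem_univ a) h

theorem mul_mat (M : Matrix D.Idx D.Idx F) (a b : D.Idx) :
    (M * S.mat F) a b = M a (S.perm b) * ((S.sgn b : ℤ) : F) := by
  rw [Matrix.mul_apply, Finset.sum_eq_single (S.perm b)]
  · rw [mat_apply, if_pos rfl]
  · intro c _ hc
    rw [mat_apply, if_neg hc, mul_zero]
  · intro h; exact absurd (Finset.mem_univ _) h

theorem mat_mul_matInv : S.mat F * S.matInv F = 1 := by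
  ext a b
  obtain ⟨a, rfl⟩ := S.perm.surjective a
  rw [mat_mul, matInv_apply, Matrix.one_apply]
  by_cases h : b = S.perm a
  · rw [if_pos h, if_pos h.symm, S.sgn_sq' F]
  · rw [if_neg h, if_neg (fun h' => h h'.symm), mul_zero]

theorem matInv_mul_mat : S.matInv F * S.mat F = 1 := by
  ext a b
  rw [mul_mat, matInv_apply, Matrix.one_apply]
  by_cases h : a = b
  · subst h
    rw [if_pos rfl, if_pos rfl, S.sgn_sq' F]
  · rw [if_neg (fun h' => h (S.perm.injective h').symm), if_neg h, zero_mul]

/-- The signed permutation matrix as an element of the general linear group. -/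
def P : GL D.Idx F := ⟨S.mat F, S.matInv F, S.mat_mul_matInv F, S.matInv_mul_mat F⟩

theorem coe_P : ((S.P F : GL D.Idx F) : Matrix D.Idx D.Idx F) = S.mat F := rfl

theorem coe_P_inv : (((S.P F)⁻¹ : GL D.Idx F) : Matrix D.Idx D.Idx F) = S.matInv F := rfl

/-- The entries of `x_{σ r}(ε_r t)` in terms of those of `x_r(t)`. -/
theorem xMat_perm (r : Fin D.nroots) (t : F) (a b : D.Idx) :
    D.xMat F (S.σ r) (((S.ε r : ℤ) : F) * t) (S.perm a) (S.perm b) =
      ((S.sgn a : ℤ) : F) * D.xMat F r t a b * ((S.sgn b : ℤ) : F) := by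
  have hσ : ∀ u v : Fin D.nroots, S.σ u = S.σ v ↔ u = v := fun u v => S.σ.injective.eq_iff
  have hσ₀ : ∀ u v : Fin D.rank, S.σ₀ u = S.σ₀ v ↔ u = v := fun u v => S.σ₀.injective.eq_iff
  rcases b with i | s
  · rcases a with i' | u
    · -- h to h
      show (if S.σ₀ i' = S.σ₀ i then (1 : F) else 0) =
        ((S.δ i' : ℤ) : F) * (if i' = i then (1 : F) else 0) * ((S.δ i : ℤ) : F)
      by_cases h : i' = i
      · subst h
        have := S.sgn_sq' F (Sum.inl i')
        rw [if_pos rfl, if_pos rfl, mul_one]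
        exact this.symm
      · rw [if_neg ((hσ₀ _ _).not.mpr h), if_neg h]; simp
    · show (if S.σ u = S.σ r then
          - (((D.cartanSR.getD (S.σ₀ i).val #[]).getD (S.σ r).val 0 : ℤ) : F) * (((S.ε r : ℤ) : F) * t) else 0) =
        ((S.ε u : ℤ) : F) *
          (if u = r then - (((D.cartanSR.getD i.val #[]).getD r.val 0 : ℤ) : F) * t else 0) * ((S.δ i : ℤ) : F)
      by_cases h : u = r
      · subst h
        rw [if_pos rfl, if_pos rfl, S.cartan_eq]
        push_cast
        ring
      · rw [if_neg ((hσ _ _).not.mpr h), if_neg h]; simp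
  · by_cases hsr : s = r
    · subst hsr
      rcases a with i' | u
      · have e1 : D.xMat F (S.σ s) (((S.ε s : ℤ) : F) * t) (Sum.inl (S.σ₀ i')) (Sum.inr (S.σ s)) = 0 := by
          simp [ChevalleyDatum.xMat]
        have e2 : D.xMat F s t (Sum.inl i') (Sum.inr s) = 0 := by
          simp [ChevalleyDatum.xMat]
        show D.xMat F (S.σ s) (((S.ε s : ℤ) : F) * t) (Sum.inl (S.σ₀ i')) (Sum.inr (S.σ s)) = _
        rw [e1, e2]; simp
      · have e1 : D.xMat F (S.σ s) (((S.ε s : ℤ) : F) * t) (Sum.inr (S.σ u)) (Sum.inr (S.σ s)) =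
            if u = s then 1 else 0 := by
          simp [ChevalleyDatum.xMat]
        have e2 : D.xMat F s t (Sum.inr u) (Sum.inr s) = if u = s then 1 else 0 := by
          simp [ChevalleyDatum.xMat]
        show D.xMat F (S.σ s) (((S.ε s : ℤ) : F) * t) (Sum.inr (S.σ u)) (Sum.inr (S.σ s)) = _
        rw [e1, e2]
        by_cases h : u = s
        · subst h
          rw [if_pos rfl, mul_one]
          exact (S.sgn_sq' F (Sum.inr u)).symm
        · rw [if_neg h]; simp
    · by_cases hn : s.val = D.negIdx.getD r.val 0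
      · have hn' : (S.σ s).val = D.negIdx.getD (S.σ r).val 0 := (S.neg_iff r s).mpr hn
        have hsr' : ¬ S.σ s = S.σ r := (hσ _ _).not.mpr hsr
        have hε := S.ε_neg r s hn
        rcases a with i' | u
        · have e1 : D.xMat F (S.σ r) (((S.ε r : ℤ) : F) * t) (Sum.inl (S.σ₀ i')) (Sum.inr (S.σ s)) =
              (((D.coroot.getD (S.σ r).val #[]).getD (S.σ₀ i').val 0 : ℤ) : F) * (((S.ε r : ℤ) : F) * t) := by
            simp only [ChevalleyDatum.xMat, Matrix.of_apply]
            rw [if_neg hsr', if_pos hn']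
          have e2 : D.xMat F r t (Sum.inl i') (Sum.inr s) =
              (((D.coroot.getD r.val #[]).getD i'.val 0 : ℤ) : F) * t := by
            simp only [ChevalleyDatum.xMat, Matrix.of_apply]
            rw [if_neg hsr, if_pos hn]
          show D.xMat F (S.σ r) (((S.ε r : ℤ) : F) * t) (Sum.inl (S.σ₀ i')) (Sum.inr (S.σ s)) =
            ((S.δ i' : ℤ) : F) * D.xMat F r t (Sum.inl i') (Sum.inr s) * ((S.ε s : ℤ) : F)
          rw [e1, e2, S.coroot_eq, hε]
          push_cast
          ring
        · have e1 : D.xMat F (S.σ r) (((S.ε r : ℤ) : F) * t) (Sum.inr (S.σ u)) (Sum.inr (S.σ s)) =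
              if S.σ u = S.σ s then 1 else if S.σ u = S.σ r then -((((S.ε r : ℤ) : F) * t) ^ 2) else 0 := by
            simp only [ChevalleyDatum.xMat, Matrix.of_apply]
            rw [if_neg hsr', if_pos hn']
          have e2 : D.xMat F r t (Sum.inr u) (Sum.inr s) =
              if u = s then 1 else if u = r then -(t ^ 2) else 0 := by
            simp only [ChevalleyDatum.xMat, Matrix.of_apply]
            rw [if_neg hsr, if_pos hn]
          show D.xMat F (S.σ r) (((S.ε r : ℤ) : F) * t) (Sum.inr (S.σ u)) (Sum.inr (S.σ s)) =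
            ((S.ε u : ℤ) : F) * D.xMat F r t (Sum.inr u) (Sum.inr s) * ((S.ε s : ℤ) : F)
          rw [e1, e2]
          by_cases h : u = s
          · subst h
            rw [if_pos rfl, if_pos rfl, mul_one, S.ε_sq' F]
          · rw [if_neg ((hσ _ _).not.mpr h), if_neg h]
            by_cases h2 : u = r
            · subst h2
              rw [if_pos rfl, if_pos rfl, hε]
              ring
            · rw [if_neg ((hσ _ _).not.mpr h2), if_neg h2]; simp
      · have hn' : ¬ (S.σ s).val = D.negIdx.getD (S.σ r).val 0 := (S.neg_iff r s).not.mpr hn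
        have hsr' : ¬ S.σ s = S.σ r := (hσ _ _).not.mpr hsr
        rcases a with i' | u
        · have e1 : D.xMat F (S.σ r) (((S.ε r : ℤ) : F) * t) (Sum.inl (S.σ₀ i')) (Sum.inr (S.σ s)) = 0 := by
            simp only [ChevalleyDatum.xMat, Matrix.of_apply]
            rw [if_neg hsr', if_neg hn']
          have e2 : D.xMat F r t (Sum.inl i') (Sum.inr s) = 0 := by
            simp only [ChevalleyDatum.xMat, Matrix.of_apply]
            rw [if_neg hsr, if_neg hn]
          show D.xMat F (S.σ r) (((S.ε r : ℤ) : F) * t) (Sum.inl (S.σ₀ i')) (Sum.inr (S.σ s)) = _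
          rw [e1, e2]; simp
        · have e1 : D.xMat F (S.σ r) (((S.ε r : ℤ) : F) * t) (Sum.inr (S.σ u)) (Sum.inr (S.σ s)) =
              (if S.σ u = S.σ s then 1 else 0) +
              ((D.chainCoeff (S.σ r).val (S.σ s).val (S.σ u).val).map
                fun km => ((km.2 : ℤ) : F) * (((S.ε r : ℤ) : F) * t) ^ km.1).sum := by
            simp only [ChevalleyDatum.xMat, Matrix.of_apply]
            rw [if_neg hsr', if_neg hn']
          have e2 : D.xMat F r t (Sum.inr u) (Sum.inr s) =
              (if u = s then 1 else 0) +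
              ((D.chainCoeff r.val s.val u.val).map fun km => ((km.2 : ℤ) : F) * t ^ km.1).sum := by
            simp only [ChevalleyDatum.xMat, Matrix.of_apply]
            rw [if_neg hsr, if_neg hn]
          show D.xMat F (S.σ r) (((S.ε r : ℤ) : F) * t) (Sum.inr (S.σ u)) (Sum.inr (S.σ s)) =
            ((S.ε u : ℤ) : F) * D.xMat F r t (Sum.inr u) (Sum.inr s) * ((S.ε s : ℤ) : F)
          rw [e1, e2, S.chain_eq, List.map_map, mul_add, add_mul]
          congr 1
          · by_cases h : u = s
            · subst h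
              rw [if_pos rfl, if_pos rfl, mul_one, S.ε_sq' F]
            · rw [if_neg ((hσ _ _).not.mpr h), if_neg h]; simp
          · rw [← List.sum_map_mul_left, ← List.sum_map_mul_right]
            congr 1
            apply List.map_congr_left
            intro q _
            have h1 : ((S.ε r : ℤ) : F) ^ q.1 * ((S.ε r : ℤ) : F) ^ q.1 = 1 := by
              rw [← mul_pow, S.ε_sq' F, one_pow]
            simp only [Function.comp_apply]
            push_cast
            rw [mul_pow]
            calc ((S.ε u : ℤ) : F) * ((S.ε s : ℤ) : F) * ((S.ε r : ℤ) : F) ^ q.1 * ((q.2 : ℤ) : F) *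
                  (((S.ε r : ℤ) : F) ^ q.1 * t ^ q.1)
                = ((S.ε u : ℤ) : F) * ((S.ε s : ℤ) : F) * (((S.ε r : ℤ) : F) ^ q.1 * ((S.ε r : ℤ) : F) ^ q.1) *
                  (((q.2 : ℤ) : F) * t ^ q.1) := by ring
              _ = _ := by rw [h1]; ring

/-- `P x_r(t) = x_{σ r}(ε_r t) P`. -/
theorem mat_mul_xMat (r : Fin D.nroots) (t : F) :
    S.mat F * D.xMat F r t = D.xMat F (S.σ r) (((S.ε r : ℤ) : F) * t) * S.mat F := by
  ext a b
  obtain ⟨a, rfl⟩ := S.perm.surjective a
  rw [mat_mul, mul_mat, xMat_perm, mul_assoc, mul_assoc, S.sgn_sq' F, mul_one]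

/-- `P x_r(t) P⁻¹ = x_{σ r}(ε_r t)`. -/
theorem mat_conj_xMat (r : Fin D.nroots) (t : F) :
    S.mat F * D.xMat F r t * S.matInv F = D.xMat F (S.σ r) (((S.ε r : ℤ) : F) * t) := by
  rw [mat_mul_xMat, mul_assoc, mat_mul_matInv, mul_one]

/-- `P x_r(t) P⁻¹ = x_{σ r}(ε_r t)`, for `D.x`. -/
theorem mat_conj_x (r : Fin D.nroots) (t : F) :
    S.mat F * D.x F r.val t * S.matInv F = D.x F (S.σ r).val (((S.ε r : ℤ) : F) * t) := by
  have e : ∀ (r : Fin D.nroots) (t : F), D.x F r.val t = D.xMat F r t := fun r t => by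
    unfold ChevalleyDatum.x
    rw [dif_pos r.isLt]
  rw [e, e, mat_conj_xMat]

/-- Conjugation by `P` preserves the Chevalley group. -/
theorem map_group : (D.group F).map (MulAut.conj (S.P F)).toMonoidHom = D.group F := by
  unfold ChevalleyDatum.group
  rw [MonoidHom.map_closure]
  congr 1
  ext g
  constructor
  · rintro ⟨g, ⟨r, t, h⟩, rfl⟩
    refine ⟨S.σ r, ((S.ε r : ℤ) : F) * t, ?_⟩
    show S.mat F * (g : Matrix D.Idx D.Idx F) * S.matInv F = _
    rw [h, mat_conj_xMat]
  · rintro ⟨r, t, h⟩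
    refine ⟨(S.P F)⁻¹ * g * S.P F, ⟨S.σ.symm r, ((S.ε (S.σ.symm r) : ℤ) : F) * t, ?_⟩, ?_⟩
    · show S.matInv F * (g : Matrix D.Idx D.Idx F) * S.mat F = _
      rw [h]
      have := S.mat_mul_xMat F (S.σ.symm r) (((S.ε (S.σ.symm r) : ℤ) : F) * t)
      rw [← mul_assoc, S.ε_sq' F, one_mul, Equiv.apply_symm_apply] at this
      rw [mul_assoc, ← this, ← mul_assoc, matInv_mul_mat, one_mul]
    · show S.P F * ((S.P F)⁻¹ * g * S.P F) * (S.P F)⁻¹ = g
      group

/-- The automorphism of the Chevalley group given by conjugation with `P`. -/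
noncomputable def aut : D.group F ≃* D.group F :=
  ((MulAut.conj (S.P F)).subgroupMap (D.group F)).trans (MulEquiv.subgroupCongr (S.map_group F))

theorem aut_coe (g : D.group F) :
    (((S.aut F g : D.group F) : GL D.Idx F) : Matrix D.Idx D.Idx F) =
      S.mat F * ((g : GL D.Idx F) : Matrix D.Idx D.Idx F) * S.matInv F := rfl

theorem aut_coe_GL (g : D.group F) :
    ((S.aut F g : D.group F) : GL D.Idx F) = S.P F * (g : GL D.Idx F) * (S.P F)⁻¹ := rfl

/-- The automorphism sends `x_r(t)` to `x_{σ r}(ε_r t)`. -/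
theorem aut_x (g : D.group F) (r : Fin D.nroots) (t : F)
    (h : ((g : GL D.Idx F) : Matrix D.Idx D.Idx F) = D.x F r.val t) :
    (((S.aut F g : D.group F) : GL D.Idx F) : Matrix D.Idx D.Idx F) =
      D.x F (S.σ r).val (((S.ε r : ℤ) : F) * t) := by
  rw [aut_coe, h, mat_conj_x]

end Symm

/-! ### Building symmetries from tables -/

/-- Tables of a signed permutation symmetry. -/
structure Tables where
  rho : List ℕ
  rhoInv : List ℕ
  eps : List ℤ
  rho0 : List ℕ
  rho0Inv : List ℕ
  del : List ℤ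

/-- The terms of the chain table for the pair (r, s), with their positions. -/
def chainL (D : ChevalleyDatum) (r s : ℕ) : List ((ℕ × ℤ) × ℕ) :=
  ((D.chain.getD r #[]).toList.filter (fun e => decide (e.1 = s))).flatMap fun e => e.2.toList.zipIdx

theorem chainCoeff_eq (D : ChevalleyDatum) (r s u : ℕ) :
    D.chainCoeff r s u =
      ((chainL D r s).filter (fun q => decide (q.1.1 = u))).map fun q => (q.2 + 1, q.1.2) := by
  unfold ChevalleyDatum.chainCoeff chainL
  generalize ((D.chain.getD r #[]).toList.filter (fun e => decide (e.1 = s))) = L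
  induction L with
  | nil => rfl
  | cons e L ih =>
    rw [List.flatMap_cons, List.flatMap_cons, List.filter_append, List.map_append, ih]

namespace Tables

variable (T : Tables) (D : ChevalleyDatum)

/-- The decidable check on the tables. -/
def check : Bool :=
  ((List.range D.nroots).all fun r =>
    decide (T.rho.getD r 0 < D.nroots) && decide (T.rhoInv.getD (T.rho.getD r 0) 0 = r) &&
    decide (T.rhoInv.getD r 0 < D.nroots) && decide (T.rho.getD (T.rhoInv.getD r 0) 0 = r) &&
    decide (T.eps.getD r 0 * T.eps.getD r 0 = 1) &&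
    decide (D.negIdx.getD r 0 < D.nroots) &&
    decide (T.rho.getD (D.negIdx.getD r 0) 0 = D.negIdx.getD (T.rho.getD r 0) 0) &&
    decide (T.eps.getD (D.negIdx.getD r 0) 0 = T.eps.getD r 0)) &&
  ((List.range D.rank).all fun i =>
    decide (T.rho0.getD i 0 < D.rank) && decide (T.rho0Inv.getD (T.rho0.getD i 0) 0 = i) &&
    decide (T.rho0Inv.getD i 0 < D.rank) && decide (T.rho0.getD (T.rho0Inv.getD i 0) 0 = i) &&
    decide (T.del.getD i 0 * T.del.getD i 0 = 1)) &&
  ((List.range D.rank).all fun i => (List.range D.nroots).all fun r =>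
    decide ((D.cartanSR.getD (T.rho0.getD i 0) #[]).getD (T.rho.getD r 0) 0 =
      T.del.getD i 0 * (D.cartanSR.getD i #[]).getD r 0) &&
    decide ((D.coroot.getD (T.rho.getD r 0) #[]).getD (T.rho0.getD i 0) 0 =
      T.del.getD i 0 * (D.coroot.getD r #[]).getD i 0)) &&
  ((List.range D.nroots).all fun r => (List.range D.nroots).all fun s =>
    ((chainL D r s).all fun q => decide (q.1.1 < D.nroots)) &&
    decide (chainL D (T.rho.getD r 0) (T.rho.getD s 0) =
      (chainL D r s).map fun q => ((T.rho.getD q.1.1 0,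
        T.eps.getD q.1.1 0 * T.eps.getD s 0 * T.eps.getD r 0 ^ (q.2 + 1) * q.1.2), q.2)))

variable {T D}

theorem check_roots (h : T.check D = true) (r : ℕ) (hr : r < D.nroots) :
    T.rho.getD r 0 < D.nroots ∧ T.rhoInv.getD (T.rho.getD r 0) 0 = r ∧
    T.rhoInv.getD r 0 < D.nroots ∧ T.rho.getD (T.rhoInv.getD r 0) 0 = r ∧
    T.eps.getD r 0 * T.eps.getD r 0 = 1 ∧ D.negIdx.getD r 0 < D.nroots ∧
    T.rho.getD (D.negIdx.getD r 0) 0 = D.negIdx.getD (T.rho.getD r 0) 0 ∧
    T.eps.getD (D.negIdx.getD r 0) 0 = T.eps.getD r 0 := by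
  unfold check at h
  rw [Bool.and_eq_true, Bool.and_eq_true, Bool.and_eq_true] at h
  have := List.all_eq_true.mp h.1.1.1 r (List.mem_range.mpr hr)
  simpa only [Bool.and_eq_true, decide_eq_true_eq, and_assoc] using this

theorem check_rank (h : T.check D = true) (i : ℕ) (hi : i < D.rank) :
    T.rho0.getD i 0 < D.rank ∧ T.rho0Inv.getD (T.rho0.getD i 0) 0 = i ∧
    T.rho0Inv.getD i 0 < D.rank ∧ T.rho0.getD (T.rho0Inv.getD i 0) 0 = i ∧
    T.del.getD i 0 * T.del.getD i 0 = 1 := by
  unfold check at h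
  rw [Bool.and_eq_true, Bool.and_eq_true, Bool.and_eq_true] at h
  have := List.all_eq_true.mp h.1.1.2 i (List.mem_range.mpr hi)
  simpa only [Bool.and_eq_true, decide_eq_true_eq, and_assoc] using this

theorem check_tab (h : T.check D = true) (i : ℕ) (hi : i < D.rank) (r : ℕ) (hr : r < D.nroots) :
    (D.cartanSR.getD (T.rho0.getD i 0) #[]).getD (T.rho.getD r 0) 0 =
      T.del.getD i 0 * (D.cartanSR.getD i #[]).getD r 0 ∧
    (D.coroot.getD (T.rho.getD r 0) #[]).getD (T.rho0.getD i 0) 0 =
      T.del.getD i 0 * (D.coroot.getD r #[]).getD i 0 := by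
  unfold check at h
  rw [Bool.and_eq_true, Bool.and_eq_true, Bool.and_eq_true] at h
  have := List.all_eq_true.mp (List.all_eq_true.mp h.1.2 i (List.mem_range.mpr hi)) r (List.mem_range.mpr hr)
  simpa only [Bool.and_eq_true, decide_eq_true_eq, and_assoc] using this

theorem check_chain (h : T.check D = true) (r : ℕ) (hr : r < D.nroots) (s : ℕ) (hs : s < D.nroots) :
    (∀ q ∈ chainL D r s, q.1.1 < D.nroots) ∧
    chainL D (T.rho.getD r 0) (T.rho.getD s 0) =
      (chainL D r s).map fun q => ((T.rho.getD q.1.1 0,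
        T.eps.getD q.1.1 0 * T.eps.getD s 0 * T.eps.getD r 0 ^ (q.2 + 1) * q.1.2), q.2) := by
  unfold check at h
  rw [Bool.and_eq_true, Bool.and_eq_true, Bool.and_eq_true] at h
  have := List.all_eq_true.mp (List.all_eq_true.mp h.2 r (List.mem_range.mpr hr)) s (List.mem_range.mpr hs)
  simpa only [Bool.and_eq_true, decide_eq_true_eq, and_assoc, List.all_eq_true] using this

/-- The permutation of the roots. -/
def sigma (h : T.check D = true) : Equiv.Perm (Fin D.nroots) where
  toFun r := ⟨T.rho.getD r.val 0, (check_roots h r.val r.isLt).1⟩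
  invFun r := ⟨T.rhoInv.getD r.val 0, (check_roots h r.val r.isLt).2.2.1⟩
  left_inv r := Fin.ext (check_roots h r.val r.isLt).2.1
  right_inv r := Fin.ext (check_roots h r.val r.isLt).2.2.2.1

/-- The permutation of the nodes. -/
def sigma0 (h : T.check D = true) : Equiv.Perm (Fin D.rank) where
  toFun r := ⟨T.rho0.getD r.val 0, (check_rank h r.val r.isLt).1⟩
  invFun r := ⟨T.rho0Inv.getD r.val 0, (check_rank h r.val r.isLt).2.2.1⟩
  left_inv r := Fin.ext (check_rank h r.val r.isLt).2.1
  right_inv r := Fin.ext (check_rank h r.val r.isLt).2.2.2.1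

theorem rho_inj (h : T.check D = true) {r s : ℕ} (hr : r < D.nroots) (hs : s < D.nroots) :
    T.rho.getD r 0 = T.rho.getD s 0 ↔ r = s := by
  constructor
  · intro e
    rw [← (check_roots h r hr).2.1, ← (check_roots h s hs).2.1, e]
  · rintro rfl; rfl

/-- The symmetry given by checked tables. -/
def toSymm (h : T.check D = true) : Symm D where
  σ := sigma h
  σ₀ := sigma0 h
  ε r := T.eps.getD r.val 0
  δ i := T.del.getD i.val 0
  ε_sq r := (check_roots h r.val r.isLt).2.2.2.2.1
  δ_sq i := (check_rank h i.val i.isLt).2.2.2.2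
  cartan_eq i r := (check_tab h i.val i.isLt r.val r.isLt).1
  coroot_eq i r := (check_tab h i.val i.isLt r.val r.isLt).2
  neg_iff r s := by
    show T.rho.getD s.val 0 = D.negIdx.getD (T.rho.getD r.val 0) 0 ↔ _
    rw [← (check_roots h r.val r.isLt).2.2.2.2.2.2.1]
    exact rho_inj h s.isLt (check_roots h r.val r.isLt).2.2.2.2.2.1
  ε_neg r s e := by
    show T.eps.getD s.val 0 = T.eps.getD r.val 0
    rw [e]
    exact (check_roots h r.val r.isLt).2.2.2.2.2.2.2
  chain_eq r s u := by
    show D.chainCoeff (T.rho.getD r.val 0) (T.rho.getD s.val 0) (T.rho.getD u.val 0) = _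
    rw [chainCoeff_eq, chainCoeff_eq, (check_chain h r.val r.isLt s.val s.isLt).2, List.filter_map,
      List.map_map, List.map_map]
    have hf : List.filter ((fun q : (ℕ × ℤ) × ℕ => decide (q.1.1 = T.rho.getD u.val 0)) ∘
        (fun q : (ℕ × ℤ) × ℕ => ((T.rho.getD q.1.1 0,
        T.eps.getD q.1.1 0 * T.eps.getD s.val 0 * T.eps.getD r.val 0 ^ (q.2 + 1) * q.1.2), q.2)))
        (chainL D r.val s.val) = (chainL D r.val s.val).filter (fun q => decide (q.1.1 = u.val)) := by
      apply List.filter_congr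
      intro q hq
      have hq' := (check_chain h r.val r.isLt s.val s.isLt).1 q hq
      simp only [Function.comp_apply]
      rw [decide_eq_decide]
      exact rho_inj h hq' u.isLt
    rw [hf]
    apply List.map_congr_left
    intro q hq
    have hq' : q.1.1 = u.val := of_decide_eq_true (List.mem_filter.mp hq).2
    simp only [Function.comp_apply, hq']

end Tables

end Cfsg.Agent.ChevalleyStructure.SignedSymm
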