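import Cfsg.Agent.ChevalleyStructure.G2N
set_option linter.all false

/-!
Type G₂: diagonal elements, the permutation of the roots attached to a monomial element.
-/

set_option autoImplicit false

namespace Cfsg.Agent.ChevalleyStructure.G2Perm

open Cfsg.Lie Cfsg.Agent.ChevalleyStructure.G2Sym Cfsg.Agent.ChevalleyStructure.G2N

variable {F : Type*} [Field F]

def wtab : List (ℤ × ℤ) := [(0, 0), (0, 0), (-3, -2), (-3, -1), (-2, -1), (-1, -1), (-1, 0), (0, -1), (0, 1), (1, 0),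
  (1, 1), (2, 1), (3, 1), (3, 2)]
/-- weight of the coordinate at a position, in terms of the fundamental roots -/
def wt (k : ℕ) : ℤ × ℤ := wtab.getD k (0, 0)

def ftab : List (ℤ × ℤ) := [(-1, 1), (-1, 2), (-2, 3), (-3, 2), (-1, -3), (-3, -1), (-3, 1), (1, -3), (-2, 3), (-1, 3),
  (0, 1), (-1, 2)]

theorem wt_neg (r : ℕ) (hr : r < 12) : wt (2 + (11 - r)) = (-(wt (2 + r)).1, -(wt (2 + r)).2) := by
  have : ∀ r : Fin 12, wt (2 + (11 - r.val)) = (-(wt (2 + r.val)).1, -(wt (2 + r.val)).2) := by decide +kernel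
  exact this ⟨r, hr⟩

theorem ftab_spec (r : ℕ) (hr : r < 12) :
    (ftab.getD r (0, 0)).1 * (wt (2 + r)).1 + (ftab.getD r (0, 0)).2 * (wt (2 + r)).2 = 1 := by
  have : ∀ r : Fin 12, (ftab.getD r.val (0, 0)).1 * (wt (2 + r.val)).1 +
    (ftab.getD r.val (0, 0)).2 * (wt (2 + r.val)).2 = 1 := by decide +kernel
  exact this ⟨r, hr⟩

theorem wt_col (r : ℕ) (hr : r < 12) (j : ℕ) (hj : j < 14) : ∀ c ∈ col r j,
    (wt c.1).1 = (wt j).1 + c.2.1 * (wt (2 + r)).1 ∧ (wt c.1).2 = (wt j).2 + c.2.1 * (wt (2 + r)).2 := by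
  have : ∀ r : Fin 12, ∀ j : Fin 14, ∀ c ∈ col r.val j.val,
      (wt c.1).1 = (wt j.val).1 + c.2.1 * (wt (2 + r.val)).1 ∧
      (wt c.1).2 = (wt j.val).2 + c.2.1 * (wt (2 + r.val)).2 := by
    decide +kernel
  exact this ⟨r, hr⟩ ⟨j, hj⟩

/-- character of the root lattice with `a ↦ α`, `b ↦ β`, at a position -/
def chi (α β : Fˣ) (k : ℕ) : Fˣ := α ^ (wt k).1 * β ^ (wt k).2

/-- the diagonal element of the character `a ↦ α`, `b ↦ β` -/
def dG (α β : Fˣ) : GL chevG2.Idx F where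
  val := Matrix.diagonal fun i => ((chi α β (flat i) : Fˣ) : F)
  inv := Matrix.diagonal fun i => (((chi α β (flat i))⁻¹ : Fˣ) : F)
  val_inv := by
    rw [Matrix.diagonal_mul_diagonal, ← Matrix.diagonal_one]
    congr 1
    funext i
    exact Units.mul_inv _
  inv_val := by
    rw [Matrix.diagonal_mul_diagonal, ← Matrix.diagonal_one]
    congr 1
    funext i
    exact Units.inv_mul _

theorem evU_scale (t a b c : F) (L : List (ℕ × ℤ)) (h : ∀ k ∈ L, a ^ k.1 * b = c) :
    evU (a * t) L * b = c * evU t L := by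
  induction L with
  | nil => simp [evU]
  | cons k L ih =>
    have ih' := ih (fun k' hk' => h k' (List.mem_cons_of_mem _ hk'))
    have hk := h k (List.mem_cons_self ..)
    simp only [evU, List.map_cons, List.sum_cons] at ih' ⊢
    rw [add_mul, ih', mul_add, mul_pow, ← hk]
    ring

theorem chi_col (α β : Fˣ) (r : ℕ) (hr : r < 12) (j : ℕ) (hj : j < 14) (c : ℕ × ℕ × ℤ) (hc : c ∈ col r j) :
    chi α β (2 + r) ^ c.2.1 * chi α β j = chi α β c.1 := by
  obtain ⟨h1, h2⟩ := wt_col r hr j hj c hc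
  unfold chi
  rw [h1, h2, mul_pow, zpow_add, zpow_add, mul_comm (c.2.1 : ℤ) (wt (2 + r)).1, mul_comm (c.2.1 : ℤ) (wt (2 + r)).2,
    zpow_mul, zpow_mul, zpow_natCast, zpow_natCast]
  rw [mul_mul_mul_comm, mul_comm (α ^ _), mul_comm (β ^ _)]

/-- `d x_r(t) d⁻¹ = x_r(χ(r) t)` -/
theorem dG_conj_x (α β : Fˣ) {r : ℕ} (hr : r < 12) (t : F) :
    dG α β * xG r t * (dG α β)⁻¹ = xG r ((chi α β (2 + r) : F) * t) := by
  rw [mul_inv_eq_iff_eq_mul]
  apply Units.ext
  show Matrix.diagonal _ * chevG2.x F r t = chevG2.x F r _ * Matrix.diagonal _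
  ext i j
  rw [Matrix.diagonal_mul, Matrix.mul_diagonal]
  have hr' : r < chevG2.nroots := hr
  rw [ChevalleyDatum.x, dif_pos hr', ChevalleyDatum.x, dif_pos hr', xMat_apply, xMat_apply]
  symm
  apply evU_scale
  intro k hk
  have hj := flat_lt j
  rw [sel, List.mem_append] at hk
  rcases hk with hk | hk
  · split_ifs at hk with h
    · rw [List.mem_singleton] at hk
      rw [hk, h, pow_zero, one_mul]
    · simp at hk
  · rw [List.mem_map] at hk
    obtain ⟨c, hc, rfl⟩ := hk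
    rw [List.mem_filter] at hc
    obtain ⟨hc, h1⟩ := hc
    have h1' : c.1 = flat i := by simpa using h1
    have := chi_col α β r hr (flat j) hj c hc
    rw [h1'] at this
    rw [← this]
    push_cast
    rfl

theorem chi_neg (α β : Fˣ) {r : ℕ} (hr : r < 12) : chi α β (2 + (11 - r)) = (chi α β (2 + r))⁻¹ := by
  unfold chi
  rw [wt_neg r hr, mul_inv, zpow_neg, zpow_neg]

theorem dG_conj_n (α β : Fˣ) {r : ℕ} (hr : r < 12) (t : F) :
    dG α β * nG r t * (dG α β)⁻¹ = nG r ((chi α β (2 + r) : F) * t) := by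
  have hr' : 11 - r < 12 := by omega
  have e1 : dG α β * nG r t * (dG α β)⁻¹ = (dG α β * xG r t * (dG α β)⁻¹) *
      (dG α β * xG (11 - r) (-t⁻¹) * (dG α β)⁻¹) * (dG α β * xG r t * (dG α β)⁻¹) := by
    have : nG r t = xG r t * xG (11 - r) (-t⁻¹) * xG r t := by rw [nG, neg_eq hr]
    rw [this]
    group
  rw [e1, dG_conj_x α β hr, dG_conj_x α β hr', chi_neg α β hr, nG, neg_eq hr]
  congr 3
  rw [mul_inv, Units.val_inv_eq_inv_val, mul_neg]

/-- `n_r(t)` is conjugate to `n_r(1)` by a diagonal element. -/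
theorem nG_eq_conj {r : ℕ} (hr : r < 12) (t : Fˣ) : ∃ α β : Fˣ, nG r (t : F) = dG α β * nG r 1 * (dG α β)⁻¹ := by
  refine ⟨t ^ (ftab.getD r (0, 0)).1, t ^ (ftab.getD r (0, 0)).2, ?_⟩
  rw [dG_conj_n _ _ hr, mul_one]
  congr 2
  unfold chi
  rw [← zpow_mul, ← zpow_mul, ← zpow_add, ftab_spec r hr, zpow_one]

/-! ### Monomial elements -/

/-- the coordinate of the root vector `e_s` -/
def rv (s : Fin 12) : chevG2.Idx := Sum.inr (show Fin chevG2.nroots from s)

theorem rv_injective : Function.Injective rv := fun _ _ h => Sum.inr_injective h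

theorem flat_rv (s : Fin 12) : flat (rv s) = 2 + s.val := rfl

/-- `g` maps each root vector `e_s` to a nonzero multiple of `e_{π s}`. -/
def HasPerm (g : GL chevG2.Idx F) (π : Equiv.Perm (Fin 12)) : Prop :=
  ∀ s : Fin 12, ∃ c : F, c ≠ 0 ∧ ∀ i : chevG2.Idx,
    (g : Matrix chevG2.Idx chevG2.Idx F) i (rv s) = if i = rv (π s) then c else 0

theorem HasPerm.mul {g g' : GL chevG2.Idx F} {π π' : Equiv.Perm (Fin 12)} (h : HasPerm g π) (h' : HasPerm g' π') :
    HasPerm (g * g') (π * π') := by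
  intro s
  obtain ⟨c', hc', h'⟩ := h' s
  obtain ⟨c, hc, h⟩ := h (π' s)
  refine ⟨c * c', mul_ne_zero hc hc', fun i => ?_⟩
  rw [Units.val_mul, Matrix.mul_apply, Finset.sum_eq_single (rv (π' s))]
  · rw [h, h', if_pos rfl, ite_mul, zero_mul]
    rfl
  · intro k _ hk
    rw [h', if_neg hk, mul_zero]
  · intro h0
    exact absurd (Finset.mem_univ _) h0

theorem HasPerm.one : HasPerm (1 : GL chevG2.Idx F) 1 := by
  intro s
  refine ⟨1, one_ne_zero, fun i => ?_⟩
  rw [Units.val_one, Matrix.one_apply]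
  rfl

theorem HasPerm.unique {g : GL chevG2.Idx F} {π π' : Equiv.Perm (Fin 12)} (h : HasPerm g π) (h' : HasPerm g π') :
    π = π' := by
  ext1 s
  obtain ⟨c, hc, h⟩ := h s
  obtain ⟨c', hc', h'⟩ := h' s
  have h1 := h (rv (π s))
  rw [if_pos rfl, h'] at h1
  by_contra hne
  rw [if_neg (fun h2 => hne (rv_injective h2))] at h1
  exact hc h1.symm

theorem HasPerm.inv {g : GL chevG2.Idx F} {π : Equiv.Perm (Fin 12)} (h : HasPerm g π) : HasPerm g⁻¹ π⁻¹ := by
  intro s
  obtain ⟨c, hc, h⟩ := h (π⁻¹ s)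
  refine ⟨c⁻¹, inv_ne_zero hc, fun i => ?_⟩
  have h1 : (π (π⁻¹ s)) = s := by simp
  rw [h1] at h
  have h2 : ((g⁻¹ * g : GL chevG2.Idx F) : Matrix chevG2.Idx chevG2.Idx F) i (rv (π⁻¹ s)) =
      (g⁻¹ : GL chevG2.Idx F).1 i (rv s) * c := by
    rw [Units.val_mul, Matrix.mul_apply, Finset.sum_eq_single (rv s)]
    · rw [h, if_pos rfl]
    · intro k _ hk
      rw [h, if_neg hk, mul_zero]
    · intro h0
      exact absurd (Finset.mem_univ _) h0
  rw [inv_mul_cancel, Units.val_one, Matrix.one_apply] at h2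
  rw [eq_comm, ← eq_mul_inv_iff_mul_eq₀ hc] at h2
  rw [h2, ite_mul, one_mul, zero_mul]

theorem hasPerm_dG (α β : Fˣ) : HasPerm (dG α β) 1 := by
  intro s
  refine ⟨_, Units.ne_zero (chi α β (2 + s.val)), fun i => ?_⟩
  show Matrix.diagonal (fun i => ((chi α β (flat i) : Fˣ) : F)) i (rv s) = _
  rw [Matrix.diagonal_apply]
  have : ((1 : Equiv.Perm (Fin 12)) s) = s := rfl
  rw [this]
  split_ifs with h1
  · rw [h1]
    rfl
  · rfl

theorem W_W (r s : Fin 12) : W r.val (W r.val s.val) = s.val := by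
  have : ∀ r s : Fin 12, W r.val (W r.val s.val) = s.val := by decide +kernel
  exact this r s

/-- the reflection `w_r` as a permutation of root indices -/
def wP (r : Fin 12) : Equiv.Perm (Fin 12) where
  toFun s := ⟨W r.val s.val, W_lt _ _ r.2 s.2⟩
  invFun s := ⟨W r.val s.val, W_lt _ _ r.2 s.2⟩
  left_inv s := Fin.ext (W_W r s)
  right_inv s := Fin.ext (W_W r s)

theorem wP_mul_self (r : Fin 12) : wP r * wP r = 1 := by
  ext1 s
  exact Fin.ext (W_W r s)

theorem wP_inv (r : Fin 12) : (wP r)⁻¹ = wP r := by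
  rw [inv_eq_iff_mul_eq_one]
  exact wP_mul_self r

theorem hasPerm_n_one (r : Fin 12) : HasPerm (nG r.val (1 : F)) (wP r) := by
  intro s
  have hE : (E r.val s.val : F) ≠ 0 := by
    rcases E_cast (F := F) r.val s.val r.2 s.2 with h | h <;> rw [h] <;> simp
  refine ⟨E r.val s.val, hE, fun i => ?_⟩
  have h1 := word_apply (F := F) cast_zero_int (fun _ => 0) (nW r.val) (by
    intro l hl
    have := r.2
    simp only [nW, List.mem_cons, List.not_mem_nil, or_false] at hl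
    rcases hl with rfl | rfl | rfl <;> simp only <;> omega) i (rv s)
  have h2 : chevG2.wordMat F ((nW r.val).map fun l => (l.1, evP (fun _ => (0 : F)) l.2)) = chevG2.nMat F r.val 1 := by
    have := neg_eq r.2
    simp [nW, evP_cst, ChevalleyDatum.nMat, ChevalleyDatum.nWord, this]
  rw [h2, ← coe_nG] at h1
  rw [h1]
  have h4 := of_decide_eq_true (check_col r s)
  rw [flat_rv, h4, evAt_cons, evAt_nil, add_zero, evP_cst]
  have h5 : flat (rv (wP r s)) = 2 + W r.val s.val := rfl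
  by_cases hi : i = rv (wP r s)
  · rw [hi, if_pos h5.symm, if_pos rfl]
  · rw [if_neg hi, if_neg]
    intro h6
    exact hi (flat_injective (h6.symm.trans h5.symm))

theorem hasPerm_n (r : Fin 12) {t : F} (ht : t ≠ 0) : HasPerm (nG r.val t) (wP r) := by
  obtain ⟨α, β, h⟩ := nG_eq_conj r.2 (Units.mk0 t ht)
  rw [Units.val_mk0] at h
  rw [h]
  have := ((hasPerm_dG α β).mul (hasPerm_n_one (F := F) r)).mul (hasPerm_dG α β).inv
  simpa using this

theorem hasPerm_h (r : Fin 12) {t : F} (ht : t ≠ 0) : HasPerm (hG r.val t) 1 := by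
  have := (hasPerm_n r ht).mul (hasPerm_n r (t := (-1 : F)) (by simp))
  rwa [wP_mul_self] at this

end Cfsg.Agent.ChevalleyStructure.G2Perm
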