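import Cfsg.Agent.ChevalleyStructure.TwistedE6U
set_option linter.all false

/-!
The group `G¹ = ²E₆(q)`: `G¹ ≤ Fix σ`, the elements `n_J` and all relative root groups lie in `G¹`, and
`U ∩ G¹ = U ∩ Fix σ`.
-/

set_option autoImplicit false

namespace Cfsg.Agent.ChevalleyStructure.TwistedE6G

open Cfsg.Lie
open Cfsg.Agent.ChevalleyStructure
open Cfsg.Agent.ChevalleyStructure.GraphSymm
open Cfsg.Agent.ChevalleyStructure.TwistedU
open Cfsg.Agent.ChevalleyStructure.TwistedFix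
open Cfsg.Agent.ChevalleyStructure.TwistedE6Sigma
open Cfsg.Agent.ChevalleyStructure.TwistedE6U
open scoped commutatorElement

universe u

variable {K : Type u} [Field K] {q : ℕ}

theorem mem_long {r : ℕ} (hr : r ∈ [46, 25, 39, 32]) {t : K} (ht : t ^ q = t) :
    X r t ∈ twistedE6 K q := by
  refine Subgroup.subset_closure ⟨[(r, t)], Or.inl ⟨t, ht, r, ?_, rfl⟩, ?_⟩
  · exact hr
  · have h := Elts.coe_wordG hE6 [(r, t)]
    rw [← h, Elts.wordG_cons, Elts.wordG_nil, mul_one]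

theorem mem_short {p : ℕ × ℕ} (hp : p ∈ [(56, 36), (15, 35), (42, 37), (29, 34)]) (t : K) :
    X p.1 t * X p.2 (t ^ q) ∈ twistedE6 K q := by
  refine Subgroup.subset_closure ⟨[(p.1, t), (p.2, t ^ q)], Or.inr ⟨t, p, ?_, rfl⟩, ?_⟩
  · exact hp
  · have h := Elts.coe_wordG hE6 [(p.1, t), (p.2, t ^ q)]
    rw [← h, Elts.wordG_cons, Elts.wordG_cons, Elts.wordG_nil, mul_one]

theorem pair_check : ∀ p ∈ [(56, 36), (15, 35), (42, 37), (29, 34)],
    p.2 ≠ p.1 ∧ p.2 ≠ chevE6.neg p.1 ∧ chevE6.commTerms p.1 p.2 = [] ∧ p.1 < 72 ∧ p.2 < 72 ∧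
      rho p.1 = p.2 ∧ rho p.2 = p.1 ∧ eps p.1 = 1 ∧ eps p.2 = 1 := by decide +kernel

theorem long_check : ∀ r ∈ [46, 25, 39, 32], r < 72 ∧ rho r = r ∧ eps r = 1 := by decide +kernel

/-- `G¹ ≤ Fix σ`. -/
theorem twistedE6_le_fix {φ : K →+* K} (hφ : ∀ t, φ t = t ^ q) (hφφ : ∀ t, φ (φ t) = t) :
    twistedE6 K q ≤ fixS (sig symmE6 φ) := by
  refine (Subgroup.closure_le _).2 ?_
  rintro g ⟨w, hw, hg⟩
  rw [SetLike.mem_coe, mem_fixS]
  have hg' := (Elts.eq_wordG_iff hE6 g w).2 hg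
  rcases hw with ⟨t, ht, r, hr, rfl⟩ | ⟨t, p, hp, rfl⟩
  · have hr' : r ∈ [46, 25, 39, 32] := hr
    obtain ⟨h1, h2, h3⟩ := long_check r hr'
    rw [Elts.wordG_cons, Elts.wordG_nil, mul_one] at hg'
    rw [hg']
    show sig symmE6 φ (X r t) = X r t
    rw [sig_X φ h1, h2, h3, hφ, ht, Int.cast_one, one_mul]
  · have hp' : p ∈ [(56, 36), (15, 35), (42, 37), (29, 34)] := hp
    obtain ⟨h1, h2, h3, h4, h5, h6, h7, h8, h9⟩ := pair_check p hp'
    rw [Elts.wordG_cons, Elts.wordG_cons, Elts.wordG_nil, mul_one] at hg'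
    rw [hg']
    show sig symmE6 φ (X p.1 t * X p.2 (t ^ q)) = X p.1 t * X p.2 (t ^ q)
    rw [map_mul, sig_X φ h4, sig_X φ h5, h6, h7, h8, h9, Int.cast_one, one_mul, one_mul, ← hφ, hφφ]
    exact ((commute_of_nil h4 h5 h1 h2 h3 t (φ t)).eq).symm

/-! ### The elements `n_J` -/

/-- Product of the `n_i(1)`, `i` in a list of nodes. -/
noncomputable def nJ (K : Type u) [Field K] (js : List ℕ) : GL chevE6.Idx K :=
  (js.map fun i => Elts.nG hE6 (chevE6.simple i) 1).prod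

/-- The corresponding product of reflections. -/
def wJ (js : List ℕ) (s : ℕ) : ℕ := js.foldr (fun i s => chevE6.reflectRoot i s) s

theorem reflectRoot_lt : ∀ i < 6, ∀ s < 72, chevE6.reflectRoot i s < 72 := by decide +kernel

theorem nG_conj {i s : ℕ} (hi : i < 6) (hs : s < 72) :
    ∃ η : K, ∀ t : K, Elts.nG hE6 (chevE6.simple i) 1 * X s t * (Elts.nG hE6 (chevE6.simple i) 1)⁻¹ =
      X (chevE6.reflectRoot i s) (η * t) := by
  obtain ⟨η, -, h⟩ := Cfsg.Agent.S1031.result (F := K) chevE6 hE6 i s hi hs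
  refine ⟨(η : K), fun t => ?_⟩
  rw [mul_inv_eq_iff_eq_mul]
  exact Units.ext (h t)

theorem nJ_conj : ∀ {js : List ℕ}, (∀ i ∈ js, i < 6) → ∀ {s : ℕ}, s < 72 →
    wJ js s < 72 ∧ ∃ η : K, ∀ t : K, nJ K js * X s t * (nJ K js)⁻¹ = X (wJ js s) (η * t) := by
  intro js
  induction js with
  | nil =>
    intro _ s hs
    exact ⟨hs, 1, fun t => by simp [nJ, wJ]⟩
  | cons i js ih =>
    intro hjs s hs
    obtain ⟨h1, η, h2⟩ := ih (fun i hi => hjs i (List.mem_cons_of_mem _ hi)) hs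
    have hi : i < 6 := hjs i List.mem_cons_self
    obtain ⟨η', h3⟩ := nG_conj (K := K) hi h1
    refine ⟨reflectRoot_lt i hi _ h1, η' * η, fun t => ?_⟩
    have e : nJ K (i :: js) = Elts.nG hE6 (chevE6.simple i) 1 * nJ K js := by
      simp [nJ]
    have e2 : wJ (i :: js) s = chevE6.reflectRoot i (wJ js s) := rfl
    rw [e, e2, mul_inv_rev]
    calc Elts.nG hE6 (chevE6.simple i) 1 * nJ K js * X s t *
          ((nJ K js)⁻¹ * (Elts.nG hE6 (chevE6.simple i) 1)⁻¹)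
        = Elts.nG hE6 (chevE6.simple i) 1 * (nJ K js * X s t * (nJ K js)⁻¹) *
          (Elts.nG hE6 (chevE6.simple i) 1)⁻¹ := by group
      _ = _ := by rw [h2, h3, mul_assoc]

/-- The `ρ`-orbits of nodes. -/
def Js : List (List ℕ) := [[1], [3], [0, 5], [2, 4]]

theorem Js_lt : ∀ js ∈ Js, ∀ i ∈ js, i < 6 := by decide

theorem four_comm {G : Type*} [Group G] {a b c d : G} (hac : Commute a c) (had : Commute a d)
    (hbc : Commute b c) : (a * (b * a)) * (c * (d * c)) = (a * c) * (b * d) * (a * c) := by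
  have h1 : a * (b * a) * (c * (d * c)) = a * b * (a * c) * d * c := by group
  have h2 : a * c * (b * d) * (a * c) = a * (c * b) * (d * a) * c := by group
  rw [h1, h2, hac.eq, ← hbc.eq, ← had.eq]
  group

theorem nJ_pair {p p' m m' : ℕ} (hp : (p, p') ∈ [(56, 36), (15, 35), (42, 37), (29, 34)])
    (hm : (m, m') ∈ [(56, 36), (15, 35), (42, 37), (29, 34)])
    (hac : ∀ t u : K, Commute (X p t) (X p' u)) (had : ∀ t u : K, Commute (X p t) (X m' u))
    (hbc : ∀ t u : K, Commute (X m t) (X p' u)) (hq : ((-1 : K)) ^ q = -1) :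
    (X p 1 * (X m (-1) * X p 1)) * (X p' 1 * (X m' (-1) * X p' 1)) ∈ twistedE6 K q := by
  rw [four_comm (hac 1 1) (had 1 (-1)) (hbc (-1) 1)]
  have h1 := mem_short (q := q) hp (1 : K)
  have h2 := mem_short (q := q) hm (-1 : K)
  rw [one_pow] at h1
  rw [hq] at h2
  exact Subgroup.mul_mem _ (Subgroup.mul_mem _ h1 h2) h1

theorem simple_vals : chevE6.simple 0 = 56 ∧ chevE6.simple 1 = 46 ∧ chevE6.simple 2 = 42 ∧
    chevE6.simple 3 = 39 ∧ chevE6.simple 4 = 37 ∧ chevE6.simple 5 = 36 := by decide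

theorem neg_vals : chevE6.neg 56 = 15 ∧ chevE6.neg 46 = 25 ∧ chevE6.neg 42 = 29 ∧
    chevE6.neg 39 = 32 ∧ chevE6.neg 37 = 34 ∧ chevE6.neg 36 = 35 := by decide

theorem comm_check : ∀ p ∈ [(56, 36), (56, 35), (15, 36), (42, 37), (42, 34), (29, 37)],
    p.2 ≠ p.1 ∧ p.2 ≠ chevE6.neg p.1 ∧ chevE6.commTerms p.1 p.2 = [] ∧ p.1 < 72 ∧ p.2 < 72 := by
  decide +kernel

theorem comm_pair {p : ℕ × ℕ} (hp : p ∈ [(56, 36), (56, 35), (15, 36), (42, 37), (42, 34), (29, 37)])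
    (t u : K) : Commute (X p.1 t) (X p.2 u) := by
  obtain ⟨h1, h2, h3, h4, h5⟩ := comm_check p hp
  exact commute_of_nil h4 h5 h1 h2 h3 t u

theorem nG_eq (r m : ℕ) (h : chevE6.neg r = m) :
    Elts.nG hE6 r (1 : K) = X r 1 * (X m (-1) * X r 1) := by
  rw [Elts.nG_def, h, inv_one]

/-- `n_J ∈ G¹`. -/
theorem nJ_mem (hq : (-1 : K) ^ q = -1) : ∀ js ∈ Js, nJ K js ∈ twistedE6 K q := by
  obtain ⟨s0, s1, s2, s3, s4, s5⟩ := simple_vals
  obtain ⟨m0, m1, m2, m3, m4, m5⟩ := neg_vals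
  intro js hjs
  have hcases : js = [1] ∨ js = [3] ∨ js = [0, 5] ∨ js = [2, 4] := by
    simpa [Js] using hjs
  rcases hcases with rfl | rfl | rfl | rfl
  · have e : nJ K [1] = X 46 1 * (X 25 (-1) * X 46 1) := by
      have : nJ K [1] = Elts.nG hE6 (chevE6.simple 1) 1 := by simp [nJ]
      rw [this, s1, nG_eq 46 25 m1]
    rw [e]
    have h1 : X 46 (1 : K) ∈ twistedE6 K q := mem_long (by decide) (one_pow q)
    have h2 : X 25 (-1 : K) ∈ twistedE6 K q := mem_long (by decide) hq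
    exact Subgroup.mul_mem _ h1 (Subgroup.mul_mem _ h2 h1)
  · have e : nJ K [3] = X 39 1 * (X 32 (-1) * X 39 1) := by
      have : nJ K [3] = Elts.nG hE6 (chevE6.simple 3) 1 := by simp [nJ]
      rw [this, s3, nG_eq 39 32 m3]
    rw [e]
    have h1 : X 39 (1 : K) ∈ twistedE6 K q := mem_long (by decide) (one_pow q)
    have h2 : X 32 (-1 : K) ∈ twistedE6 K q := mem_long (by decide) hq
    exact Subgroup.mul_mem _ h1 (Subgroup.mul_mem _ h2 h1)
  · have e : nJ K [0, 5] = (X 56 1 * (X 15 (-1) * X 56 1)) * (X 36 1 * (X 35 (-1) * X 36 1)) := by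
      have : nJ K [0, 5] = Elts.nG hE6 (chevE6.simple 0) 1 * Elts.nG hE6 (chevE6.simple 5) 1 := by
        simp [nJ]
      rw [this, s0, s5, nG_eq 56 15 m0, nG_eq 36 35 m5]
    rw [e]
    exact nJ_pair (by decide) (by decide) (comm_pair (p := (56, 36)) (by decide))
      (comm_pair (p := (56, 35)) (by decide)) (comm_pair (p := (15, 36)) (by decide)) hq
  · have e : nJ K [2, 4] = (X 42 1 * (X 29 (-1) * X 42 1)) * (X 37 1 * (X 34 (-1) * X 37 1)) := by
      have : nJ K [2, 4] = Elts.nG hE6 (chevE6.simple 2) 1 * Elts.nG hE6 (chevE6.simple 4) 1 := by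
        simp [nJ]
      rw [this, s2, s4, nG_eq 42 29 m2, nG_eq 37 34 m4]
    rw [e]
    exact nJ_pair (by decide) (by decide) (comm_pair (p := (42, 37)) (by decide))
      (comm_pair (p := (42, 34)) (by decide)) (comm_pair (p := (29, 37)) (by decide)) hq

end Cfsg.Agent.ChevalleyStructure.TwistedE6G
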