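import Cfsg.Agent.ChevalleyStructure.WeylData
import Cfsg.Prelude.Def_LieChev
import Cfsg.Prelude.Def_ChevB2
import Cfsg.Prelude.Def_ChevD4
set_option linter.all false

/-!
# The presented Weyl groups act faithfully on the root indices by `ChevalleyDatum.reflectRoot`
-/

set_option autoImplicit false

namespace Cfsg.Agent.ChevalleyStructure.WeylReflect

open Cfsg.Agent.ChevalleyStructure.WeylCert Cfsg.Agent.ChevalleyStructure.WeylChain
  Cfsg.Agent.ChevalleyStructure.WeylData

/-- the comparison with `reflectRoot` -/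
def chk (D : Cfsg.Lie.ChevalleyDatum) (P : ℕ → ℕ → ℕ) (r n : ℕ) : Bool :=
  Step.allBelow (fun a => Step.allBelow (fun x => Nat.beq (P a x) (D.reflectRoot a x)) n) r

theorem chk_spec {D : Cfsg.Lie.ChevalleyDatum} {P : ℕ → ℕ → ℕ} {r n : ℕ} (h : chk D P r n = true) :
    ∀ a < r, ∀ x < n, P a x = D.reflectRoot a x := by
  intro a ha x hx
  exact Nat.eq_of_beq_eq_true (allBelow_spec (allBelow_spec h a ha) x hx)

theorem chkB2 : chk Cfsg.Lie.chevB2 certB2.P 2 8 = true := by decide +kernel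
theorem chkG2 : chk Cfsg.Lie.chevG2 certG2.P 2 12 = true := by decide +kernel
theorem chkD4 : chk Cfsg.Lie.chevD4 certD4.P 4 24 = true := by decide +kernel
theorem chkF4 : chk Cfsg.Lie.chevF4 certF4.P 4 48 = true := by decide +kernel
theorem chkE6 : chk Cfsg.Lie.chevE6 certE6.P 6 72 = true := by decide +kernel
theorem chkE7 : chk Cfsg.Lie.chevE7 certE7.P 7 126 = true := by decide +kernel
theorem chkE8 : chk Cfsg.Lie.chevE8 certE8.P 8 240 = true := by decide +kernel

/-- A faithful action on `ℕ` by `reflectRoot`. -/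
def HasAction (D : Cfsg.Lie.ChevalleyDatum) (n : ℕ) (M : CoxeterMatrix (Fin n)) : Prop :=
  ∃ ψ : M.Group →* Equiv.Perm ℕ, Function.Injective ψ ∧
    (∀ (i : Fin n) (x : ℕ), x < D.nroots → ψ (M.simple i) x = D.reflectRoot i x) ∧
    (∀ (g : M.Group) (x : ℕ), D.nroots ≤ x → ψ g x = x)

theorem hom_out {r : ℕ} {M : CoxeterMatrix (Fin r)} (C : Cert r M) (g : M.Group) (x : ℕ)
    (hx : C.n ≤ x) : C.hom g x = x := by
  have key : ∀ g : M.Group, C.hom g x = x := by
    intro g
    induction g using M.toCoxeterSystem.simple_induction with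
    | simple i =>
      rw [CoxeterMatrix.toCoxeterSystem_simple, C.hom_simple_apply]
      exact C.out i i.2 x hx
    | one => simp
    | mul g h hg hh => rw [map_mul, Equiv.Perm.mul_apply, hh, hg]
  exact key g

theorem hasAction_of_cert {D : Cfsg.Lie.ChevalleyDatum} {r : ℕ} {M : CoxeterMatrix (Fin r)}
    (C : Cert r M) (hn : D.nroots = C.n) (h : ∀ a < r, ∀ x < C.n, C.P a x = D.reflectRoot a x) :
    HasAction D r M :=
  ⟨C.hom, C.hom_injective, fun i x hx => by rw [C.hom_simple_apply, h i i.2 x (hn ▸ hx)],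
    fun g x hx => hom_out C g x (hn ▸ hx)⟩

/-- The presented Weyl group acts faithfully on the root indices by `reflectRoot` (the identity out of range),
for all the seven types. -/
theorem hasAction (p : Cfsg.Lie.ChevalleyDatum × (Σ n : ℕ, CoxeterMatrix (Fin n)))
    (hp : p ∈ [(Cfsg.Lie.chevG2, ⟨2, CoxeterMatrix.G₂⟩), (Cfsg.Lie.chevB2, ⟨2, CoxeterMatrix.B 2⟩), (Cfsg.Lie.chevD4, ⟨4, Cfsg.Lie.coxeterD4⟩), (Cfsg.Lie.chevF4, ⟨4, CoxeterMatrix.F₄⟩),
      (Cfsg.Lie.chevE6, ⟨6, CoxeterMatrix.E₆⟩), (Cfsg.Lie.chevE7, ⟨7, CoxeterMatrix.E₇⟩), (Cfsg.Lie.chevE8, ⟨8, CoxeterMatrix.E₈⟩)]) :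
    HasAction p.1 p.2.1 p.2.2 := by
  simp only [List.mem_cons, List.not_mem_nil, or_false] at hp
  rcases hp with rfl | rfl | rfl | rfl | rfl | rfl | rfl
  · exact hasAction_of_cert certG2 rfl (chk_spec chkG2)
  · exact hasAction_of_cert certB2 rfl (chk_spec chkB2)
  · exact hasAction_of_cert certD4 rfl (chk_spec chkD4)
  · exact hasAction_of_cert certF4 rfl (chk_spec chkF4)
  · exact hasAction_of_cert certE6 rfl (chk_spec chkE6)
  · exact hasAction_of_cert certE7 rfl (chk_spec chkE7)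
  · exact hasAction_of_cert certE8 rfl (chk_spec chkE8)

/-- The version with permutations of `Fin D.nroots`. -/
theorem HasAction.fin {D : Cfsg.Lie.ChevalleyDatum} {n : ℕ} {M : CoxeterMatrix (Fin n)}
    (h : HasAction D n M) :
    ∃ ψ : M.Group →* Equiv.Perm (Fin D.nroots), Function.Injective ψ ∧
      ∀ (i : Fin n) (x : Fin D.nroots), ((ψ (M.simple i) x : Fin D.nroots) : ℕ) = D.reflectRoot i x := by
  classical
  obtain ⟨ψ, h1, h2, h3⟩ := h
  have hlt : ∀ (g : M.Group) (x : ℕ), x < D.nroots → ψ g x < D.nroots := by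
    intro g x hx
    by_contra hcon
    rw [not_lt] at hcon
    have h4 := h3 g⁻¹ _ hcon
    rw [← Equiv.Perm.mul_apply, ← map_mul, inv_mul_cancel, map_one, Equiv.Perm.one_apply] at h4
    omega
  let φ : M.Group → Equiv.Perm (Fin D.nroots) := fun g =>
    { toFun := fun x => ⟨ψ g x, hlt g x x.2⟩
      invFun := fun x => ⟨ψ g⁻¹ x, hlt g⁻¹ x x.2⟩
      left_inv := fun x => Fin.ext (by
        change ψ g⁻¹ (ψ g x) = x
        rw [← Equiv.Perm.mul_apply, ← map_mul, inv_mul_cancel, map_one, Equiv.Perm.one_apply])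
      right_inv := fun x => Fin.ext (by
        change ψ g (ψ g⁻¹ x) = x
        rw [← Equiv.Perm.mul_apply, ← map_mul, mul_inv_cancel, map_one, Equiv.Perm.one_apply]) }
  have hφ : ∀ (g : M.Group) (x : Fin D.nroots), ((φ g x : Fin D.nroots) : ℕ) = ψ g x := fun _ _ => rfl
  refine ⟨MonoidHom.mk' φ ?_, ?_, ?_⟩
  · intro a b
    ext x
    rw [Equiv.Perm.mul_apply, hφ, hφ, hφ, map_mul, Equiv.Perm.mul_apply]
  · intro a b hab
    apply h1
    ext x
    rcases lt_or_ge x D.nroots with hx | hx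
    · have := congrArg (fun e : Equiv.Perm (Fin D.nroots) => ((e ⟨x, hx⟩ : Fin D.nroots) : ℕ)) hab
      simpa only [MonoidHom.mk'_apply, hφ] using this
    · rw [h3 a x hx, h3 b x hx]
  · intro i x
    rw [MonoidHom.mk'_apply, hφ, h2 i x x.2]

end Cfsg.Agent.ChevalleyStructure.WeylReflect
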