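import Mathlib
set_option linter.all false

/-!
# Tits' theorem: faithful root actions of abstract Coxeter systems

Let `cs : CoxeterSystem M W`, and let `ρ : W →* AddMonoid.End V` be an action on an ordered additive
group with "simple roots" `α i`, such that `s i` maps `α i` to `-α i` and the alternating words of
length `< M i j` ending in `s j` map `α i` to nonnegative combinations of `α i` and `α j`.
Then `w (α i) ≥ 0` iff `ℓ (w s_i) > ℓ w`, and `ρ` is injective.
-/

set_option autoImplicit false

namespace Cfsg.Agent.ChevalleyStructure.CoxeterFaithful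

open CoxeterSystem

theorem end_mul_apply {V : Type*} [AddCommMonoid V] (f g : AddMonoid.End V) (x : V) :
    (f * g) x = f (g x) := rfl

theorem end_ext {V : Type*} [AddCommMonoid V] {f g : AddMonoid.End V} (h : ∀ x, f x = g x) :
    f = g := AddMonoidHom.ext h

theorem end_one_apply {V : Type*} [AddCommMonoid V] (x : V) :
    (1 : AddMonoid.End V) x = x := rfl

section General

variable {B W V : Type*} [Group W] {M : CoxeterMatrix B} (cs : CoxeterSystem M W)
variable [AddCommGroup V] [PartialOrder V] [IsOrderedAddMonoid V]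

/-- The rank-two positivity condition. -/
def RankTwo (ρ : W →* AddMonoid.End V) (α : B → V) : Prop :=
  ∀ i j, i ≠ j → ∀ k, (M i j = 0 ∨ k < M i j) →
    ∃ a b : ℕ, ρ (cs.wordProd (alternatingWord i j k)) (α i) = a • α i + b • α j

omit [PartialOrder V] [IsOrderedAddMonoid V] in
theorem rankTwo_def (ρ : W →* AddMonoid.End V) (α : B → V) :
    RankTwo cs ρ α ↔ ∀ i j, i ≠ j → ∀ k, (M i j = 0 ∨ k < M i j) →
    ∃ a b : ℕ, ρ (cs.wordProd (alternatingWord i j k)) (α i) = a • α i + b • α j := Iff.rfl

/-- In a word `v * (alternating word of length k)` realizing the length, `k < M i j` if `s_i` is not a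
right descent. -/
theorem lt_of_decomp {w v : W} {i j : B} {k : ℕ} (hw : cs.length w < cs.length (w * cs.simple i))
    (hv : w = v * cs.wordProd (alternatingWord i j k)) (hk : cs.length w = cs.length v + k) :
    M i j = 0 ∨ k < M i j := by
  by_contra hcon
  push Not at hcon
  obtain ⟨hM, hge⟩ := hcon
  -- reduce to the case k = M i j
  have key : ∀ (d : ℕ) (v : W), w = v * cs.wordProd (alternatingWord i j (M i j + d)) →
      cs.length w = cs.length v + (M i j + d) →
      ∃ v' : W, w = v' * cs.wordProd (alternatingWord i j (M i j)) ∧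
        cs.length w = cs.length v' + M i j := by
    intro d
    induction d with
    | zero => intro v h1 h2; exact ⟨v, h1, h2⟩
    | succ d ih =>
      intro v h1 h2
      have e : M i j + (d + 1) = (M i j + d) + 1 := by omega
      rw [e, alternatingWord_succ', cs.wordProd_cons, ← mul_assoc] at h1
      refine ih _ h1 ?_
      set c := cs.simple (if Even (M i j + d) then j else i) with hc
      have l1 : cs.length w ≤ cs.length (v * c) + (M i j + d) := by
        calc cs.length w = cs.length (v * c * cs.wordProd (alternatingWord i j (M i j + d))) := by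
              rw [← h1]
          _ ≤ cs.length (v * c) + cs.length (cs.wordProd (alternatingWord i j (M i j + d))) :=
              cs.length_mul_le _ _
          _ ≤ cs.length (v * c) + (M i j + d) := by
              gcongr
              exact (cs.length_wordProd_le _).trans (by rw [length_alternatingWord])
      have l2 : cs.length (v * c) ≤ cs.length v + 1 := by
        calc cs.length (v * c) ≤ cs.length v + cs.length c := cs.length_mul_le _ _
          _ = cs.length v + 1 := by rw [hc, cs.length_simple]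
      omega
  obtain ⟨v', h1, h2⟩ := key (k - M i j) v
    (by rw [hv]; congr 3; omega) (by omega)
  have h3 : w * cs.simple i = v' * cs.wordProd (alternatingWord i j (M i j - 1)) := by
    have e1 : cs.wordProd (alternatingWord i j (M i j)) * cs.simple i
        = cs.wordProd (alternatingWord j i (M i j + 1)) := by
      rw [alternatingWord_succ, cs.wordProd_concat]
    have hs : M j i = M i j := M.symmetric j i
    rw [h1, mul_assoc, e1,
      cs.prod_alternatingWord_eq_prod_alternatingWord_sub j i (M i j + 1) (by rw [hs]; omega)]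
    rw [hs]
    congr 3
    omega
  have h4 : cs.length (w * cs.simple i) ≤ cs.length v' + (M i j - 1) := by
    rw [h3]
    refine (cs.length_mul_le _ _).trans ?_
    gcongr
    exact (cs.length_wordProd_le _).trans (by rw [length_alternatingWord])
  omega

/-- Every element with right descent `j` and not `i` decomposes as `v * (alternating word)`, with
neither `i` nor `j` a right descent of `v`, and `v` shorter. -/
theorem exists_decomp {w : W} {i j : B} (hi : cs.length w < cs.length (w * cs.simple i))
    (hj : cs.length (w * cs.simple j) < cs.length w) :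
    ∃ (v : W) (k : ℕ), w = v * cs.wordProd (alternatingWord i j k) ∧
      cs.length w = cs.length v + k ∧ 0 < k ∧ (M i j = 0 ∨ k < M i j) ∧
      cs.length v < cs.length (v * cs.simple i) ∧ cs.length v < cs.length (v * cs.simple j) := by
  classical
  let P : ℕ → Prop := fun k => ∃ v : W, w = v * cs.wordProd (alternatingWord i j k) ∧
      cs.length w = cs.length v + k
  have hP1 : P 1 := by
    refine ⟨w * cs.simple j, ?_, ?_⟩
    · simp [alternatingWord, cs.wordProd_cons]
    · rcases cs.length_mul_simple w j with h | h <;> omega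
  have hbound : ∀ k, P k → k ≤ cs.length w := by
    rintro k ⟨v, -, h⟩; omega
  -- the largest k
  have hex : ∃ k, 0 < k ∧ P k ∧ ¬ P (k + 1) := by
    by_contra hcon
    push Not at hcon
    have : ∀ k, P (k + 1) := by
      intro k
      induction k with
      | zero => exact hP1
      | succ k ih => exact hcon (k + 1) (by omega) ih
    have := hbound _ (this (cs.length w))
    omega
  obtain ⟨k, hk0, ⟨v, hv1, hv2⟩, hk2⟩ := hex
  have hlt := lt_of_decomp cs hi hv1 hv2
  -- the letter that would continue
  have hc : cs.length v < cs.length (v * cs.simple (if Even k then j else i)) := by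
    rcases cs.length_mul_simple v (if Even k then j else i) with h | h
    · omega
    · exfalso
      apply hk2
      refine ⟨v * cs.simple (if Even k then j else i), ?_, by omega⟩
      rw [alternatingWord_succ', cs.wordProd_cons, ← mul_assoc, mul_assoc v, simple_mul_simple_self,
        mul_one]
      exact hv1
  have hc' : cs.length v < cs.length (v * cs.simple (if Even k then i else j)) := by
    obtain ⟨m, rfl⟩ : ∃ m, k = m + 1 := ⟨k - 1, by omega⟩
    rcases cs.length_mul_simple v (if Even (m + 1) then i else j) with h | h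
    · omega
    · exfalso
      have e : (if Even (m + 1) then i else j) = (if Even m then j else i) := by
        by_cases hm : Even m
        · have : ¬ Even (m + 1) := by simp [hm, parity_simps]
          simp [hm, this]
        · have : Even (m + 1) := by simp [hm, parity_simps]
          simp [hm, this]
      rw [e] at h
      have h5 : w = (v * cs.simple (if Even m then j else i)) *
          cs.wordProd (alternatingWord i j m) := by
        rw [hv1, alternatingWord_succ', cs.wordProd_cons, mul_assoc]
      have h6 : cs.length w ≤ cs.length (v * cs.simple (if Even m then j else i)) + m := by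
        conv_lhs => rw [h5]
        refine (cs.length_mul_le _ _).trans ?_
        gcongr
        exact (cs.length_wordProd_le _).trans (by rw [length_alternatingWord])
      omega
  refine ⟨v, k, hv1, hv2, hk0, hlt, ?_, ?_⟩
  · by_cases hE : Even k
    · simpa [hE] using hc'
    · simpa [hE] using hc
  · by_cases hE : Even k
    · simpa [hE] using hc
    · simpa [hE] using hc'

/-- **Tits.** If `ℓ (w s_i) > ℓ w` then `w (α i)` is nonnegative. -/
theorem nonneg_of_lt (ρ : W →* AddMonoid.End V) (α : B → V) (hα : ∀ i, 0 ≤ α i)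
    (h2 : RankTwo cs ρ α) (w : W) (i : B) (hw : cs.length w < cs.length (w * cs.simple i)) :
    0 ≤ ρ w (α i) := by
  induction hn : cs.length w using Nat.strong_induction_on generalizing w i with
  | _ n ih =>
    by_cases h1 : w = 1
    · subst h1; simpa using hα i
    · obtain ⟨j, hj⟩ := cs.exists_rightDescent_of_ne_one h1
      have hj' : cs.length (w * cs.simple j) < cs.length w := hj
      have hij : i ≠ j := by rintro rfl; omega
      obtain ⟨v, k, hv1, hv2, hk0, hk, hvi, hvj⟩ := exists_decomp cs hw hj'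
      have hlv : cs.length v < n := by omega
      have p1 := ih _ hlv v i hvi rfl
      have p2 := ih _ hlv v j hvj rfl
      obtain ⟨a, b, hab⟩ := h2 i j hij k hk
      rw [hv1, map_mul]
      have : (ρ v * ρ (cs.wordProd (alternatingWord i j k))) (α i)
          = a • ρ v (α i) + b • ρ v (α j) := by
        rw [end_mul_apply, hab, map_add, map_nsmul, map_nsmul]
      rw [this]
      exact add_nonneg (nsmul_nonneg p1 a) (nsmul_nonneg p2 b)

/-- If `ℓ (w s_i) < ℓ w` then `w (α i)` is nonpositive. -/
theorem nonpos_of_gt (ρ : W →* AddMonoid.End V) (α : B → V) (hα : ∀ i, 0 ≤ α i)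
    (hs : ∀ i, ρ (cs.simple i) (α i) = - α i)
    (h2 : RankTwo cs ρ α) (w : W) (i : B) (hw : cs.length (w * cs.simple i) < cs.length w) :
    ρ w (α i) ≤ 0 := by
  have h := nonneg_of_lt cs ρ α hα h2 (w * cs.simple i) i (by
    rw [mul_assoc, simple_mul_simple_self, mul_one]; exact hw)
  rw [map_mul, end_mul_apply, hs, map_neg] at h
  exact neg_nonneg.mp h

/-- An element fixing all simple roots is trivial. -/
theorem eq_one_of_fix (ρ : W →* AddMonoid.End V) (α : B → V) (hα : ∀ i, 0 ≤ α i)
    (hα' : ∀ i, α i ≠ 0) (hs : ∀ i, ρ (cs.simple i) (α i) = - α i)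
    (h2 : RankTwo cs ρ α) (w : W) (hw : ∀ i, ρ w (α i) = α i) : w = 1 := by
  by_contra h1
  obtain ⟨j, hj⟩ := cs.exists_rightDescent_of_ne_one h1
  have := nonpos_of_gt cs ρ α hα hs h2 w j hj
  rw [hw j] at this
  exact hα' j (le_antisymm this (hα j))

/-- An element mapping all simple roots to nonnegative vectors is trivial. -/
theorem eq_one_of_nonneg (ρ : W →* AddMonoid.End V) (α : B → V) (hα : ∀ i, 0 ≤ α i)
    (hα' : ∀ i, α i ≠ 0) (hs : ∀ i, ρ (cs.simple i) (α i) = - α i)
    (h2 : RankTwo cs ρ α) (w : W) (hw : ∀ i, 0 ≤ ρ w (α i)) : w = 1 := by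
  by_contra h1
  obtain ⟨j, hj⟩ := cs.exists_rightDescent_of_ne_one h1
  have h3 := nonpos_of_gt cs ρ α hα hs h2 w j hj
  have h4 : ρ w (α j) = 0 := le_antisymm h3 (hw j)
  have h5 : ρ w⁻¹ (ρ w (α j)) = α j := by
    rw [← end_mul_apply, ← map_mul, inv_mul_cancel, map_one]; rfl
  rw [h4, map_zero] at h5
  exact hα' j h5.symm

/-- `ρ` is injective. -/
theorem injective_of_rankTwo (ρ : W →* AddMonoid.End V) (α : B → V) (hα : ∀ i, 0 ≤ α i)
    (hα' : ∀ i, α i ≠ 0) (hs : ∀ i, ρ (cs.simple i) (α i) = - α i)
    (h2 : RankTwo cs ρ α) : Function.Injective ρ := by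
  intro x y hxy
  have : x⁻¹ * y = 1 := by
    refine eq_one_of_fix cs ρ α hα hα' hs h2 _ fun i => ?_
    rw [map_mul, ← hxy, ← map_mul, inv_mul_cancel, map_one]; rfl
  exact (inv_mul_eq_one.mp this)

/-- Characterisation of the right descents. -/
theorem nonneg_iff (ρ : W →* AddMonoid.End V) (α : B → V) (hα : ∀ i, 0 ≤ α i)
    (hα' : ∀ i, α i ≠ 0) (hs : ∀ i, ρ (cs.simple i) (α i) = - α i)
    (h2 : RankTwo cs ρ α) (w : W) (i : B) :
    0 ≤ ρ w (α i) ↔ cs.length w < cs.length (w * cs.simple i) := by
  refine ⟨fun h => ?_, nonneg_of_lt cs ρ α hα h2 w i⟩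
  by_contra hcon
  have h1 : cs.length (w * cs.simple i) < cs.length w := by
    have := cs.length_mul_simple_ne w i
    omega
  have h3 := nonpos_of_gt cs ρ α hα hs h2 w i h1
  have h4 : ρ w (α i) = 0 := le_antisymm h3 h
  have h5 : ρ w⁻¹ (ρ w (α i)) = α i := by
    rw [← end_mul_apply, ← map_mul, inv_mul_cancel, map_one]; rfl
  rw [h4, map_zero] at h5
  exact hα' i h5.symm

end General

section Cartan

variable {B : Type*} [Fintype B] [DecidableEq B]

/-- The reflection `x ↦ x - ⟨x, α_i^∨⟩ α_i` of `B → ℤ` in the coordinates of the simple roots, with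
`A i j = ⟨α_j, α_i^∨⟩`. -/
def refl (A : B → B → ℤ) (i : B) : AddMonoid.End (B → ℤ) where
  toFun x := x - (∑ j, A i j * x j) • (Pi.single i (1 : ℤ) : B → ℤ)
  map_zero' := by simp
  map_add' x y := by
    simp only [Pi.add_apply, mul_add, Finset.sum_add_distrib, add_smul]
    abel

theorem refl_apply (A : B → B → ℤ) (i : B) (x : B → ℤ) :
    refl A i x = x - (∑ j, A i j * x j) • (Pi.single i (1 : ℤ) : B → ℤ) := rfl

/-- The functional `⟨x, α_i^∨⟩`. -/
def fnl (A : B → B → ℤ) (i : B) (x : B → ℤ) : ℤ := ∑ j, A i j * x j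

theorem refl_eq (A : B → B → ℤ) (i : B) (x : B → ℤ) :
    refl A i x = x - fnl A i x • (Pi.single i (1 : ℤ) : B → ℤ) := rfl

theorem fnl_single (A : B → B → ℤ) (i j : B) :
    fnl A i (Pi.single j (1 : ℤ) : B → ℤ) = A i j := by
  simp [fnl, Pi.single_apply]

omit [DecidableEq B] in
theorem fnl_add (A : B → B → ℤ) (i : B) (x y : B → ℤ) :
    fnl A i (x + y) = fnl A i x + fnl A i y := by
  simp [fnl, mul_add, Finset.sum_add_distrib]

omit [DecidableEq B] in
theorem fnl_smul (A : B → B → ℤ) (i : B) (c : ℤ) (x : B → ℤ) :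
    fnl A i (c • x) = c * fnl A i x := by
  simp [fnl, Finset.mul_sum, mul_left_comm]

omit [DecidableEq B] in
theorem fnl_sub (A : B → B → ℤ) (i : B) (x y : B → ℤ) :
    fnl A i (x - y) = fnl A i x - fnl A i y := by
  simp [fnl, mul_sub, Finset.sum_sub_distrib]

theorem refl_single (A : B → B → ℤ) (i j : B) :
    refl A i (Pi.single j (1 : ℤ) : B → ℤ) = Pi.single j 1 - A i j • (Pi.single i (1 : ℤ) : B → ℤ) := by
  rw [refl_eq, fnl_single]

theorem refl_single_self (A : B → B → ℤ) (i : B) (h : A i i = 2) :
    refl A i (Pi.single i (1 : ℤ) : B → ℤ) = - (Pi.single i (1 : ℤ) : B → ℤ) := by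
  rw [refl_single, h, two_smul]; abel

/-- Compatibility of a Cartan matrix with a Coxeter matrix (no infinite entries). -/
def Compat (M : CoxeterMatrix B) (A : B → B → ℤ) : Prop :=
  (∀ i, A i i = 2) ∧ ∀ i j, i ≠ j →
    (M i j = 2 ∧ A i j = 0 ∧ A j i = 0) ∨ (M i j = 3 ∧ A i j = -1 ∧ A j i = -1) ∨
    (M i j = 4 ∧ A i j = -1 ∧ A j i = -2) ∨ (M i j = 4 ∧ A i j = -2 ∧ A j i = -1) ∨
    (M i j = 6 ∧ A i j = -1 ∧ A j i = -3) ∨ (M i j = 6 ∧ A i j = -3 ∧ A j i = -1)

set_option backward.isDefEq.respectTransparency false in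
instance instDecidableCompat (M : CoxeterMatrix B) (A : B → B → ℤ) : Decidable (Compat M A) := by
  unfold Compat; infer_instance

/-- `s_i` on `x + u α_i + v α_j`. -/
theorem refl_comb_left (A : B → B → ℤ) (i j : B) (hi : A i i = 2) (x : B → ℤ) (u v : ℤ) :
    refl A i (x + u • (Pi.single i (1 : ℤ) : B → ℤ) + v • (Pi.single j (1 : ℤ) : B → ℤ)) =
      x + (-u - A i j * v - fnl A i x) • (Pi.single i (1 : ℤ) : B → ℤ)
        + v • (Pi.single j (1 : ℤ) : B → ℤ) := by
  rw [refl_eq]
  simp only [fnl_add, fnl_smul, fnl_single, hi]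
  module

/-- `s_j` on `x + u α_i + v α_j`. -/
theorem refl_comb_right (A : B → B → ℤ) (i j : B) (hj : A j j = 2) (x : B → ℤ) (u v : ℤ) :
    refl A j (x + u • (Pi.single i (1 : ℤ) : B → ℤ) + v • (Pi.single j (1 : ℤ) : B → ℤ)) =
      x + u • (Pi.single i (1 : ℤ) : B → ℤ)
        + (-v - A j i * u - fnl A j x) • (Pi.single j (1 : ℤ) : B → ℤ) := by
  rw [refl_eq]
  simp only [fnl_add, fnl_smul, fnl_single, hj]
  module

theorem refl_mul_refl_comb (A : B → B → ℤ) (i j : B) (hi : A i i = 2) (hj : A j j = 2)
    (x : B → ℤ) (u v : ℤ) :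
    (refl A i * refl A j) (x + u • (Pi.single i (1 : ℤ) : B → ℤ) + v • (Pi.single j (1 : ℤ) : B → ℤ)) =
      x + (-u - A i j * (-v - A j i * u - fnl A j x) - fnl A i x) • (Pi.single i (1 : ℤ) : B → ℤ)
        + (-v - A j i * u - fnl A j x) • (Pi.single j (1 : ℤ) : B → ℤ) := by
  rw [end_mul_apply, refl_comb_right A i j hj, refl_comb_left A i j hi]

theorem refl_mul_self (A : B → B → ℤ) (i : B) (hi : A i i = 2) : refl A i * refl A i = 1 := by
  refine end_ext fun x => ?_
  rw [end_mul_apply, end_one_apply, refl_eq, refl_eq, fnl_sub, fnl_smul, fnl_single, hi]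
  module

theorem isLiftable_refl {M : CoxeterMatrix B} {A : B → B → ℤ} (h : Compat M A) :
    M.IsLiftable (refl A) := by
  intro i j
  by_cases hij : i = j
  · subst hij
    rw [M.diagonal, pow_one, refl_mul_self A i (h.1 i)]
  · have hi := h.1 i
    have hj := h.1 j
    refine end_ext fun x => ?_
    have hx : x = x + (0 : ℤ) • (Pi.single i (1 : ℤ) : B → ℤ)
        + (0 : ℤ) • (Pi.single j (1 : ℤ) : B → ℤ) := by simp
    rw [end_one_apply]
    rcases h.2 i j hij with ⟨hM, h1, h2⟩ | ⟨hM, h1, h2⟩ | ⟨hM, h1, h2⟩ | ⟨hM, h1, h2⟩ | ⟨hM, h1, h2⟩ |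
      ⟨hM, h1, h2⟩ <;> rw [hM] <;> simp only [pow_succ, pow_zero, one_mul, mul_assoc] <;>
      conv_lhs => rw [hx]
    all_goals
      simp only [end_mul_apply, refl_comb_right A i j hj, refl_comb_left A i j hi, h1, h2]
      module

variable {W : Type*} [Group W] {M : CoxeterMatrix B} (cs : CoxeterSystem M W)

/-- The reflection representation on the root lattice. -/
def reflRep {A : B → B → ℤ} (h : Compat M A) : W →* AddMonoid.End (B → ℤ) :=
  cs.lift ⟨refl A, isLiftable_refl h⟩

@[simp] theorem reflRep_simple {A : B → B → ℤ} (h : Compat M A) (i : B) :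
    reflRep cs h (cs.simple i) = refl A i := by
  rw [reflRep, cs.lift_apply_simple]

/-- Coefficients of the alternating words of a dihedral group applied to `α_i`. -/
def altCoef (a b : ℤ) : ℕ → ℤ × ℤ
  | 0 => (1, 0)
  | k + 1 => if k % 2 = 0 then ((altCoef a b k).1, -(altCoef a b k).2 - b * (altCoef a b k).1)
      else (-(altCoef a b k).1 - a * (altCoef a b k).2, (altCoef a b k).2)

theorem reflRep_alternating {A : B → B → ℤ} (h : Compat M A) (i j : B) (k : ℕ) :
    reflRep cs h (cs.wordProd (alternatingWord i j k)) (Pi.single i (1 : ℤ) : B → ℤ) =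
      (altCoef (A i j) (A j i) k).1 • (Pi.single i (1 : ℤ) : B → ℤ)
        + (altCoef (A i j) (A j i) k).2 • (Pi.single j (1 : ℤ) : B → ℤ) := by
  have hi := h.1 i
  have hj := h.1 j
  induction k with
  | zero => simp [alternatingWord, altCoef, end_one_apply]
  | succ k ih =>
    rw [alternatingWord_succ', cs.wordProd_cons, map_mul, end_mul_apply, ih, reflRep_simple]
    by_cases hk : Even k
    · have hk' : k % 2 = 0 := Nat.even_iff.mp hk
      rw [if_pos hk, altCoef, if_pos hk', refl_eq]
      simp only [fnl_add, fnl_smul, fnl_single, hj]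
      module
    · have hk' : ¬ k % 2 = 0 := fun hh => hk (Nat.even_iff.mpr hh)
      rw [if_neg hk, altCoef, if_neg hk', refl_eq]
      simp only [fnl_add, fnl_smul, fnl_single, hi]
      module

theorem rankTwo_reflRep {A : B → B → ℤ} (h : Compat M A) :
    RankTwo cs (reflRep cs h) (fun i => (Pi.single i (1 : ℤ) : B → ℤ)) := by
  intro i j hij k hk
  have key : 0 ≤ (altCoef (A i j) (A j i) k).1 ∧ 0 ≤ (altCoef (A i j) (A j i) k).2 := by
    rcases h.2 i j hij with ⟨hM, h1, h2⟩ | ⟨hM, h1, h2⟩ | ⟨hM, h1, h2⟩ | ⟨hM, h1, h2⟩ |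
      ⟨hM, h1, h2⟩ | ⟨hM, h1, h2⟩ <;> rw [h1, h2] <;> rw [hM] at hk <;>
      replace hk := hk.resolve_left (by norm_num) <;> clear hM h1 h2 <;> revert k <;> decide
  obtain ⟨a, ha⟩ := Int.eq_ofNat_of_zero_le key.1
  obtain ⟨b, hb⟩ := Int.eq_ofNat_of_zero_le key.2
  exact ⟨a, b, by rw [reflRep_alternating, ha, hb]; simp⟩

omit [Fintype B] in
theorem single_nonneg' (i : B) : 0 ≤ (Pi.single i (1 : ℤ) : B → ℤ) := by
  simp

omit [Fintype B] in
theorem single_ne_zero' (i : B) : (Pi.single i (1 : ℤ) : B → ℤ) ≠ 0 := by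
  simp

/-- The reflection representation of an abstract Coxeter system with a compatible Cartan matrix is
faithful. -/
theorem reflRep_injective {A : B → B → ℤ} (h : Compat M A) :
    Function.Injective (reflRep cs h) :=
  injective_of_rankTwo cs (reflRep cs h) (fun i => (Pi.single i (1 : ℤ) : B → ℤ)) single_nonneg'
    single_ne_zero' (fun i => by rw [reflRep_simple, refl_single_self A i (h.1 i)])
    (rankTwo_reflRep cs h)

/-- `w α_i ≥ 0` iff `s_i` is not a right descent. -/
theorem reflRep_nonneg_iff {A : B → B → ℤ} (h : Compat M A) (w : W) (i : B) :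
    0 ≤ reflRep cs h w (Pi.single i (1 : ℤ) : B → ℤ) ↔ cs.length w < cs.length (w * cs.simple i) :=
  nonneg_iff cs (reflRep cs h) (fun i => (Pi.single i (1 : ℤ) : B → ℤ)) single_nonneg'
    single_ne_zero' (fun i => by rw [reflRep_simple, refl_single_self A i (h.1 i)])
    (rankTwo_reflRep cs h) w i

/-- If `ℓ (w s_i) < ℓ w` then `w α_i ≤ 0`. -/
theorem reflRep_nonpos_of_gt {A : B → B → ℤ} (h : Compat M A) (w : W) (i : B)
    (hw : cs.length (w * cs.simple i) < cs.length w) :
    reflRep cs h w (Pi.single i (1 : ℤ) : B → ℤ) ≤ 0 :=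
  nonpos_of_gt cs (reflRep cs h) (fun i => (Pi.single i (1 : ℤ) : B → ℤ)) single_nonneg'
    (fun i => by rw [reflRep_simple, refl_single_self A i (h.1 i)])
    (rankTwo_reflRep cs h) w i hw

/-- An element keeping all simple roots nonnegative is trivial. -/
theorem eq_one_of_reflRep_nonneg {A : B → B → ℤ} (h : Compat M A) (w : W)
    (hw : ∀ i, 0 ≤ reflRep cs h w (Pi.single i (1 : ℤ) : B → ℤ)) : w = 1 :=
  eq_one_of_nonneg cs (reflRep cs h) (fun i => (Pi.single i (1 : ℤ) : B → ℤ)) single_nonneg'
    single_ne_zero' (fun i => by rw [reflRep_simple, refl_single_self A i (h.1 i)])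
    (rankTwo_reflRep cs h) w hw

/-- An action on a set of roots: if `c : Φ → (B → ℤ)` (coordinates) intertwines the action of `W`
through `φ` with the reflections, then it intertwines `φ` with the reflection representation. -/
theorem coord_action {A : B → B → ℤ} (h : Compat M A) {Φ : Type*} (φ : W →* Equiv.Perm Φ)
    (c : Φ → (B → ℤ)) (hc : ∀ i r, c (φ (cs.simple i) r) = refl A i (c r)) (w : W) (r : Φ) :
    c (φ w r) = reflRep cs h w (c r) := by
  induction w using cs.simple_induction_left generalizing r with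
  | one => simp [end_one_apply]
  | mul_simple_left w i ih =>
    rw [map_mul, Equiv.Perm.mul_apply, hc, ih, map_mul, end_mul_apply, reflRep_simple]

/-- An element of `W` acting trivially on the simple roots in a permutation action on roots
is trivial. -/
theorem eq_one_of_perm {A : B → B → ℤ} (h : Compat M A) {Φ : Type*} (φ : W →* Equiv.Perm Φ)
    (c : Φ → (B → ℤ)) (hc : ∀ i r, c (φ (cs.simple i) r) = refl A i (c r))
    (α : B → Φ) (hα : ∀ i, c (α i) = (Pi.single i (1 : ℤ) : B → ℤ)) (w : W)
    (hw : ∀ i, 0 ≤ c (φ w (α i))) : w = 1 :=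
  eq_one_of_reflRep_nonneg cs h w fun i => by
    rw [← hα i, ← coord_action cs h φ c hc]; exact hw i

theorem perm_injective {A : B → B → ℤ} (h : Compat M A) {Φ : Type*} (φ : W →* Equiv.Perm Φ)
    (c : Φ → (B → ℤ)) (hc : ∀ i r, c (φ (cs.simple i) r) = refl A i (c r))
    (α : B → Φ) (hα : ∀ i, c (α i) = (Pi.single i (1 : ℤ) : B → ℤ)) :
    Function.Injective φ := by
  refine (injective_iff_map_eq_one φ).mpr fun w hw => ?_
  refine eq_one_of_perm cs h φ c hc α hα w fun i => ?_
  rw [hw, Equiv.Perm.one_apply, hα]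
  exact single_nonneg' i

end Cartan

end Cfsg.Agent.ChevalleyStructure.CoxeterFaithful
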