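import Mathlib
import Cfsg.Agent.ChevalleyStructure.CoxeterFaithful
set_option linter.all false

/-!
# Orders of Coxeter elements by computation with integer vectors
-/

set_option autoImplicit false

namespace Cfsg.Agent.ChevalleyStructure.CoxeterElement

open CoxeterFaithful

/-- Vector of a list. -/
def vec (l : ℕ) (v : List ℤ) : Fin l → ℤ := fun i => v.getD i 0

/-- Dot product of lists. -/
def dot : List ℤ → List ℤ → ℤ
  | a :: as, b :: bs => a * b + dot as bs
  | _, _ => 0

/-- Subtract `c` from the `i`-th entry. -/
def subAt : ℕ → ℤ → List ℤ → List ℤ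
  | _, _, [] => []
  | 0, c, x :: xs => (x - c) :: xs
  | i + 1, c, x :: xs => x :: subAt i c xs

theorem dot_eq (l : ℕ) : ∀ (r v : List ℤ), r.length = l → v.length = l →
    dot r v = ∑ j : Fin l, r.getD j 0 * v.getD j 0 := by
  induction l with
  | zero =>
    intro r v hr hv
    rw [List.length_eq_zero_iff] at hr hv
    subst hr hv; rfl
  | succ l ih =>
    intro r v hr hv
    match r, v, hr, hv with
    | a :: as, b :: bs, hr, hv =>
      rw [Fin.sum_univ_succ, dot, ih as bs (by simpa using hr) (by simpa using hv)]
      simp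

theorem length_subAt (i : ℕ) (c : ℤ) (v : List ℤ) : (subAt i c v).length = v.length := by
  induction v generalizing i with
  | nil => cases i <;> rfl
  | cons x xs ih => cases i with
    | zero => rfl
    | succ i => simp [subAt, ih]

theorem getD_subAt (i : ℕ) (c : ℤ) (v : List ℤ) (hi : i < v.length) (k : ℕ) :
    (subAt i c v).getD k 0 = v.getD k 0 - if k = i then c else 0 := by
  induction v generalizing i k with
  | nil => simp at hi
  | cons x xs ih =>
    cases i with
    | zero => cases k with
      | zero => simp [subAt]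
      | succ k => simp [subAt]
    | succ i => cases k with
      | zero => simp [subAt]
      | succ k =>
        have := ih i (by simpa using hi) k
        simpa [subAt] using this

/-- The reflection on lists. `rows` is the list of rows of the Cartan matrix. -/
def step (rows : List (List ℤ)) (i : ℕ) (v : List ℤ) : List ℤ :=
  subAt i (dot (rows.getD i []) v) v

/-- Apply the Coxeter element `s_0 s_1 ⋯ s_{l-1}`: first `s_{l-1}`, last `s_0`. -/
def cox (rows : List (List ℤ)) (l : ℕ) (v : List ℤ) : List ℤ :=
  (List.range l).foldr (fun i v => step rows i v) v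

/-- The Cartan matrix of a list of rows. -/
def mat (rows : List (List ℤ)) (l : ℕ) : Fin l → Fin l → ℤ :=
  fun i j => (rows.getD i []).getD j 0

theorem length_step (rows : List (List ℤ)) (i : ℕ) (v : List ℤ) :
    (step rows i v).length = v.length := length_subAt _ _ _

theorem vec_step (l : ℕ) (rows : List (List ℤ)) (hr : ∀ i < l, (rows.getD i []).length = l)
    (i : Fin l) (v : List ℤ) (hv : v.length = l) :
    vec l (step rows i v) = refl (mat rows l) i (vec l v) := by
  funext k
  rw [refl_apply]
  simp only [vec, step, mat, Pi.sub_apply, Pi.smul_apply, Pi.single_apply, smul_eq_mul]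
  rw [getD_subAt _ _ _ (by rw [hv]; exact i.2), dot_eq l _ _ (hr i i.2) hv]
  simp only [Fin.ext_iff]
  split_ifs <;> simp

theorem vec_foldr (l : ℕ) (rows : List (List ℤ)) (hr : ∀ i < l, (rows.getD i []).length = l)
    (v : List ℤ) (hv : v.length = l) (w : List (Fin l)) :
    (w.foldr (fun (i : Fin l) v => step rows i.1 v) v).length = l ∧
    vec l (w.foldr (fun (i : Fin l) v => step rows i.1 v) v)
      = ((w.map (refl (mat rows l))).prod : AddMonoid.End (Fin l → ℤ)) (vec l v) := by
  induction w with
  | nil => exact ⟨hv, by simp [end_one_apply]⟩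
  | cons i w ih =>
    refine ⟨by rw [List.foldr_cons, length_step]; exact ih.1, ?_⟩
    rw [List.foldr_cons, vec_step l rows hr i _ ih.1, ih.2, List.map_cons, List.prod_cons,
      end_mul_apply]

/-- `coxIter n v`: apply the Coxeter element `n` times. -/
def coxIter (rows : List (List ℤ)) (l : ℕ) : ℕ → List ℤ → List ℤ
  | 0, v => v
  | n + 1, v => cox rows l (coxIter rows l n v)

/-- The Coxeter element of the reflection group. -/
def coxEnd (rows : List (List ℤ)) (l : ℕ) : AddMonoid.End (Fin l → ℤ) :=
  ((List.finRange l).map (refl (mat rows l))).prod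

theorem vec_cox (l : ℕ) (rows : List (List ℤ)) (hr : ∀ i < l, (rows.getD i []).length = l)
    (v : List ℤ) (hv : v.length = l) :
    (cox rows l v).length = l ∧ vec l (cox rows l v) = coxEnd rows l (vec l v) := by
  have h := vec_foldr l rows hr v hv (List.finRange l)
  have e : cox rows l v = (List.finRange l).foldr (fun (i : Fin l) v => step rows i.1 v) v := by
    unfold cox
    rw [← List.map_coe_finRange_eq_range, List.foldr_map]
  rw [e]
  exact h

theorem vec_coxIter (l : ℕ) (rows : List (List ℤ)) (hr : ∀ i < l, (rows.getD i []).length = l)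
    (v : List ℤ) (hv : v.length = l) (n : ℕ) :
    (coxIter rows l n v).length = l ∧
      vec l (coxIter rows l n v) = (coxEnd rows l ^ n : AddMonoid.End (Fin l → ℤ)) (vec l v) := by
  induction n with
  | zero => exact ⟨hv, by simp [coxIter, end_one_apply]⟩
  | succ n ih =>
    have h := vec_cox l rows hr _ ih.1
    refine ⟨h.1, ?_⟩
    rw [coxIter, h.2, ih.2, pow_succ', end_mul_apply]

/-- Unit vector as a list. -/
def unitL (l i : ℕ) : List ℤ := (List.range l).map fun j => if j = i then 1 else 0

theorem length_unitL (l i : ℕ) : (unitL l i).length = l := by simp [unitL]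

theorem vec_unitL (l : ℕ) (i : Fin l) : vec l (unitL l i) = Pi.single i (1 : ℤ) := by
  funext k
  simp [vec, unitL, Pi.single_apply, List.getD_eq_getElem?_getD, Fin.ext_iff]

/-- All data check for `order = h`: the power `h` fixes all unit vectors, and for each prime `q`
in `ps`, the power `h / q` moves some unit vector. -/
def check (rows : List (List ℤ)) (l h : ℕ) (ps : List ℕ) : Bool :=
  (List.range l).all (fun i => (rows.getD i []).length == l) &&
  (List.range l).all (fun i => coxIter rows l h (unitL l i) == unitL l i) &&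
  ps.all (fun q => !(coxIter rows l (h / q) (unitL l 0) == unitL l 0))

theorem ext_unit {l : ℕ} {f g : AddMonoid.End (Fin l → ℤ)}
    (h : ∀ i, f (Pi.single i (1 : ℤ)) = g (Pi.single i (1 : ℤ))) : f = g := by
  refine end_ext fun x => ?_
  have hx : x = ∑ i, x i • (Pi.single i (1 : ℤ) : Fin l → ℤ) := by
    funext k; simp [Finset.sum_apply, Pi.single_apply]
  rw [hx, map_sum, map_sum]
  refine Finset.sum_congr rfl fun i _ => ?_
  rw [map_zsmul, map_zsmul, h]

theorem orderOf_coxEnd {rows : List (List ℤ)} {l h : ℕ} {ps : List ℕ} (hl : 0 < l)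
    (hh : 0 < h) (hc : check rows l h ps = true) (hps : ∀ q, q.Prime → q ∣ h → q ∈ ps) :
    orderOf (coxEnd rows l) = h := by
  simp only [check, Bool.and_eq_true, List.all_eq_true, List.mem_range, beq_iff_eq,
    Bool.not_eq_true', beq_eq_false_iff_ne] at hc
  obtain ⟨⟨h1, h2⟩, h3⟩ := hc
  refine orderOf_eq_of_pow_and_pow_div_prime hh ?_ ?_
  · refine ext_unit fun i => ?_
    rw [← vec_unitL l i, ← (vec_coxIter l rows h1 _ (length_unitL l i) h).2, h2 i i.2,
      end_one_apply]
  · intro q hq hqh hcon
    have h4 := h3 q (hps q hq hqh)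
    apply h4
    have h5 := vec_coxIter l rows h1 _ (length_unitL l 0) (h / q)
    rw [hcon, end_one_apply] at h5
    refine List.ext_getElem (by rw [h5.1, length_unitL]) fun n hn1 hn2 => ?_
    have h6 := congrFun h5.2 ⟨n, by rw [length_unitL] at hn2; exact hn2⟩
    simp only [vec] at h6
    rwa [List.getD_eq_getElem _ _ hn1, List.getD_eq_getElem _ _ hn2] at h6

theorem orderOf_coxeterElement {l : ℕ} {M : CoxeterMatrix (Fin l)} {rows : List (List ℤ)}
    {h : ℕ} {ps : List ℕ} (hM : Compat M (mat rows l)) (hl : 0 < l)
    (hh : 0 < h) (hc : check rows l h ps = true) (hps : ∀ q, q.Prime → q ∣ h → q ∈ ps) :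
    orderOf ((List.finRange l).map M.simple).prod = h := by
  rw [← orderOf_coxEnd hl hh hc hps,
    ← orderOf_injective (reflRep M.toCoxeterSystem hM) (reflRep_injective M.toCoxeterSystem hM)]
  congr 1
  rw [map_list_prod, List.map_map, coxEnd]
  exact congrArg List.prod
    (List.map_congr_left fun i _ => (reflRep_simple M.toCoxeterSystem hM i).symm)

end Cfsg.Agent.ChevalleyStructure.CoxeterElement
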