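import Cfsg.Prelude.Def_E6
import Cfsg.Prelude.Def_ChevStructure
import Cfsg.Prelude.Def_ChevE6
import Cfsg.Agent.ChevalleyStructure.FastBase
import Cfsg.Agent.ChevalleyStructure.XColumns
import Cfsg.Agent.ChevalleyStructure.Elts
import Cfsg.Agent.ChevalleyStructure.E6Form.Cubic
set_option linter.all false

-- part: ChevalleyStructure/E6AdTab
section
/-!
# The 27-dimensional representation of the root vectors of type `E₆`: tables and kernel checks

The coordinate `(k, i, j)` has number `9k + 3i + j`. A *state* is a natural number `v`: the states `0`, `1` stand for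
the zero vector, the state `2(λ+1)` for the basis vector `e_λ`, the state `2(λ+1)+1` for `-e_λ` (`λ < 27`). The matrix
of the root vector of the root `r` (numbering and signs of `chevE6`) is packed in the number `P r`: its field number
`λ+1` (6 bits each) is the state of the image of `e_λ`. `hv i λ` is the eigenvalue of the `i`-th fundamental coroot on
`e_λ`; `wTab` is a left inverse of the matrix `hv`.
-/

set_option autoImplicit false

namespace Cfsg.Agent.ChevalleyStructure.E6AdTab

open Cfsg.Lie
open Cfsg.Agent.ChevalleyStructure.FastBase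

/-- The packed matrices of the 72 root vectors. -/
def pk : List ℕ := [
  0x100440000000000000029b80000000018025000000, 0x96384000040000a000100000,
  0x65754000000040000a000100, 0x100440000bf4000000000014021000000,
  0x5010000000000a40d00000000017022000000, 0x42c000000000000002ac40000640900000000000,
  0x800000000940000003000100bc0030000000000, 0x8c00240000000000000c0004a4002a000000000,
  0x500000000640140006000000000bc0030000000, 0x5c0018000000005000180000000a4002a000000,
  0xd0002e000a00000000000000000007143000000, 0x42c0000c37000000540800000000000,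
  0x14a000000000a80dc00005808c0000000000, 0x210008800000c0004000d40036000000000,
  0x15000585000180000000000d40036000000, 0xdc0031000ac0000000000000184080000000000,
  0x2d0000000000000000027b00000000000000600940, 0x80000000094000000000f00040000002d000b80000,
  0x8c00240000000000000003c0010000027000a00000, 0x50000000064000044001200000000000002d000b80,
  0x5c0018000000000011000480000000000027000a00, 0xd0002e000a0000000000000000000001344f000000,
  0xc2eb0000000000094001f000640000000000000000, 0xaa89800000000000250007c0019000000000000000,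
  0xc0380000000000000000000a2f00001e940000000, 0x1804c0000000000a6e00000000000000065e000000,
  0x2d0000000b72000000000000000500840, 0xa4400000000009c0c800000000000005c0880,
  0x210008800000003c0010000000033000d00000, 0x15000580011000480000000000000033000d00,
  0x20000000025000000009000280b00000000c40000, 0x2300090000000000000024000a980000000ac0000,
  0x258e1380008000080000, 0x1500000001800028000d000000000b40000000c00,
  0x1600064000000000a0003400000009c0000000a80, 0xc6fb4080001a000500000000000000000,
  0x2ba67000000022000700016000000000000000, 0x803c000000002fd0000001b800000000,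
  0x200f00000000000002803500001d880000000, 0x195d500000000000048000c000180,
  0x1c04aed4000000000000000051b000000, 0x701200002903400000000000000059d000000,
  0x2240000000000000000000ab17a5000000000000, 0x6340000000000ab10000000000187c0000000000,
  0x6800000007c00800000001c002f000c00000000, 0x70001f000000003000000006028000ac0000000,
  0x80002300000020000b000cc0000000d80000, 0x54001600b000300000000000c80000000dc0,
  0xdb4ca10006c0015000000000000000000, 0x36d32000023000740017000000000000000000,
  0x36000c0002a00000000000000034b240000000000, 0x2240000000030dc06a1000000000000,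
  0x8900000000000002b036723000000000000, 0x6370dc00000000000146c0000000000,
  0x18d00002b036000000000016740000000000, 0x1a000743000000006000034000dc0000000,
  0xcc002d0009c0000000000000000000000000490380, 0x20f0000000000000000000009ad0000000007a5000,
  0x3130000000000009ad0000000000000000000187c0, 0x6c00000007800003c0000000480000000b0002f000,
  0x74001e00000000000e0000000130000009c0028000, 0x32000b0002600000000000000000000000034b240,
  0x20f00000000002ccc00000000006a1000, 0x83c0000000000000027032000000000723000,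
  0x31302ccc00000000000000000000146c0, 0xc4c0000027032000000000000000000016740,
  0x1b00070000e000000013000000000cc0034000, 0x1a00000001f00020000000034002c000000031000,
  0x1c0007c000000000900000000c02700000002a000, 0x1f75b00e000200002000,
  0x1f75b000000000012000300006000, 0x68001d00900000000c000033000000036000]

/-- The eigenvalues of the fundamental coroots on the basis vectors. -/
def hTab : List (List ℤ) := [
  [-1, -1, -1, 0, 0, 0, 1, 1, 1, 0, 0, 0, 0, 0, 0, 0, 0, 0, 1, 0, -1, 1, 0, -1, 1, 0, -1],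
  [0, 0, -1, 1, 1, 0, 0, 0, -1, 0, 0, -1, 0, 0, -1, 1, 1, 0, 0, -1, 0, 0, -1, 0, 1, 0, 1],
  [1, 0, 0, 1, 0, 0, 0, -1, -1, -1, -1, 0, 0, 0, 1, 0, 0, 1, 0, 0, 1, 0, 0, 1, -1, -1, 0],
  [-1, 0, 1, -1, 0, 1, -1, 0, 1, 1, 1, 1, 0, 0, 0, -1, -1, -1, 0, 0, 0, 0, 0, 0, 0, 0, 0],
  [1, 0, 0, 0, -1, -1, 1, 0, 0, 0, -1, -1, 1, 0, 0, 1, 0, 0, -1, 0, -1, 0, 1, 0, 0, 1, 0],
  [0, 0, 0, 0, 0, 0, 0, 0, 0, -1, 1, 0, -1, 1, 0, -1, 1, 0, 1, 1, 1, -1, -1, -1, 0, 0, 0]]

/-- A left inverse of `hTab`. -/
def wTab : List (List (ℕ × ℤ)) := [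
  [(1, -1)],
  [(0, 1), (1, -1), (3, 1), (9, 1), (10, 1)],
  [(1, -1), (2, 1), (3, 1)],
  [(0, 1), (1, -2), (2, 1), (3, 1), (9, 1), (10, 1)],
  [(0, 2), (1, -2), (9, 1), (10, 1)],
  [(0, 1), (1, -1), (10, 1)]]

/-- The packed matrix of the root vector of `r`. -/
def P (r : ℕ) : ℕ := pk.getD r 0

/-- The eigenvalue of the `i`-th fundamental coroot on `e_l`. -/
def hv (i l : ℕ) : ℤ := (hTab.getD i []).getD l 0

/-- The eigenvalue of the coroot of `r` on `e_l`. -/
def cv (r l : ℕ) : ℤ := ((List.range 6).map fun i => (chevE6.coroot.getD r #[]).getD i 0 * hv i l).sum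

/-- Image of the basis vector with state `2(v/2)`. -/
def lk (P v : ℕ) : ℕ := Nat.land (Nat.shiftRight P (Nat.mul 6 (Nat.div v 2))) 63

/-- Image of a state. -/
def lks (P v : ℕ) : ℕ := Nat.xor (lk P v) (Nat.mod v 2)

/-- Two states stand for the same vector. -/
def eqS (x y : ℕ) : Bool := or (Nat.beq x y) (and (Nat.ble x 1) (Nat.ble y 1))

/-- The vector of `a` is the sum of those of `b` and `d` (sufficient). -/
def addS (a b d : ℕ) : Bool :=
  or (and (Nat.ble b 1) (eqS a d)) (or (and (Nat.ble d 1) (eqS a b)) (and (Nat.ble a 1) (eqS b (Nat.xor d 1))))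

/-- The state of the basis vector `e_k`. -/
def st (k : ℕ) : ℕ := Nat.mul 2 (Nat.add k 1)

/-- `N_r N_s = N_s N_r`. -/
def comOK (Pr Ps : ℕ) : Bool :=
  allLt 27 fun k => force (st k) fun v => force (lks Pr (lk Ps v)) fun a => force (lks Ps (lk Pr v)) fun b => eqS a b

/-- `N_r N_s = N_s N_r + c N_u` (`s = 0` for `c = 1`, `s = 1` for `c = -1`), `N_u N_r = 0`. -/
def braOK (Pr Ps Pu c : ℕ) : Bool :=
  allLt 27 fun k => force (st k) fun v => force (lk Pr v) fun e => force (lks Pr (lk Ps v)) fun a =>
    force (lks Ps e) fun b => force (Nat.xor (lk Pu v) c) fun d => and (addS a b d) (Nat.ble (lks Pu e) 1)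

/-- The check for a pair of roots. -/
def pairOK (r s : ℕ) : Bool :=
  or (Nat.beq s r) (or (Nat.beq s (chevE6.neg r))
  (match chevE6.chainEntry r s with
  | [] => force (P r) fun p => force (P s) fun q => comOK p q
  | [(u, Int.ofNat 1)] => force (P r) fun p => force (P s) fun q => force (P u) fun w =>
      and (Nat.ble u 71) (braOK p q w 0)
  | [(u, Int.negSucc 0)] => force (P r) fun p => force (P s) fun q => force (P u) fun w =>
      and (Nat.ble u 71) (braOK p q w 1)
  | _ => false))

/-- The check for `N_r`, `N_{-r}` and the coroots, at the basis vector `e_k`. -/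
def corOK (p q : ℕ) (r k : ℕ) : Bool :=
  force (st k) fun v => force (lk p v) fun e =>
  force (lks p (lk q v)) fun a => force (lks q e) fun b =>
  -- `N_r² = 0`, `N_{-r}` is the transpose of `N_r`
  and (Nat.ble e 55) <| and (Nat.ble (lks p e) 1) <| and (or (Nat.ble e 1) (Nat.beq b v)) <|
  -- `[N_r, N_{-r}]`
  and (or (and (and (Nat.beq a v) (Nat.ble b 1)) (decide (cv r k = 1)))
    (or (and (and (Nat.ble a 1) (Nat.beq b v)) (decide (cv r k = -1)))
      (and (and (Nat.ble a 1) (Nat.ble b 1)) (decide (cv r k = 0))))) <|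
  -- `h_r N_r = N_r`, `[h_i, N_r] = A_{ir} N_r`
  or (Nat.ble e 1) (and (decide (cv r (e / 2 - 1) = 1))
    ((List.range 6).all fun i => decide (hv i (e / 2 - 1) - hv i k = chevE6.cartan i r)))

/-- The check for a root. -/
def rootOK (r : ℕ) : Bool :=
  and (Nat.ble (chevE6.neg r) 71) <| and (!(Nat.beq (chevE6.neg r) r)) <| and (Nat.beq (chevE6.neg (chevE6.neg r)) r) <|
  and (Nat.beq (Nat.land (P r) 63) 0) <| and (Nat.ble (P r) (Nat.pow 2 168 - 1)) <|
  force (P r) fun p => force (P (chevE6.neg r)) fun q => allLt 27 fun k => corOK p q r k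

end Cfsg.Agent.ChevalleyStructure.E6AdTab
end

-- part: ChevalleyStructure/E6AdCheck0
section
/-!
Kernel checks for the 27-dimensional representation of type `E₆`: the pairs of roots `(r, s)` with
`0 ≤ r < 18`, and the roots `r` in that range.
-/

set_option autoImplicit false

namespace Cfsg.Agent.ChevalleyStructure.E6AdCheck0

open Cfsg.Agent.ChevalleyStructure.FastBase
open Cfsg.Agent.ChevalleyStructure.E6AdTab

set_option maxRecDepth 100000 in
theorem pairs : allLt 18 (fun k => force (Nat.add k 0) fun r => allLt 72 fun s => pairOK r s) = true := by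
  decide +kernel

set_option maxRecDepth 100000 in
theorem roots : allLt 18 (fun k => force (Nat.add k 0) fun r => rootOK r) = true := by
  decide +kernel

end Cfsg.Agent.ChevalleyStructure.E6AdCheck0
end

-- part: ChevalleyStructure/E6AdCheck1
section
/-!
Kernel checks for the 27-dimensional representation of type `E₆`: the pairs of roots `(r, s)` with
`18 ≤ r < 36`, and the roots `r` in that range.
-/

set_option autoImplicit false

namespace Cfsg.Agent.ChevalleyStructure.E6AdCheck1

open Cfsg.Agent.ChevalleyStructure.FastBase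
open Cfsg.Agent.ChevalleyStructure.E6AdTab

set_option maxRecDepth 100000 in
theorem pairs : allLt 18 (fun k => force (Nat.add k 18) fun r => allLt 72 fun s => pairOK r s) = true := by
  decide +kernel

set_option maxRecDepth 100000 in
theorem roots : allLt 18 (fun k => force (Nat.add k 18) fun r => rootOK r) = true := by
  decide +kernel

end Cfsg.Agent.ChevalleyStructure.E6AdCheck1
end

-- part: ChevalleyStructure/E6AdCheck2
section
/-!
Kernel checks for the 27-dimensional representation of type `E₆`: the pairs of roots `(r, s)` with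
`36 ≤ r < 54`, and the roots `r` in that range.
-/

set_option autoImplicit false

namespace Cfsg.Agent.ChevalleyStructure.E6AdCheck2

open Cfsg.Agent.ChevalleyStructure.FastBase
open Cfsg.Agent.ChevalleyStructure.E6AdTab

set_option maxRecDepth 100000 in
theorem pairs : allLt 18 (fun k => force (Nat.add k 36) fun r => allLt 72 fun s => pairOK r s) = true := by
  decide +kernel

set_option maxRecDepth 100000 in
theorem roots : allLt 18 (fun k => force (Nat.add k 36) fun r => rootOK r) = true := by
  decide +kernel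

end Cfsg.Agent.ChevalleyStructure.E6AdCheck2
end

-- part: ChevalleyStructure/E6AdCheck3
section
/-!
Kernel checks for the 27-dimensional representation of type `E₆`: the pairs of roots `(r, s)` with
`54 ≤ r < 72`, and the roots `r` in that range.
-/

set_option autoImplicit false

namespace Cfsg.Agent.ChevalleyStructure.E6AdCheck3

open Cfsg.Agent.ChevalleyStructure.FastBase
open Cfsg.Agent.ChevalleyStructure.E6AdTab

set_option maxRecDepth 100000 in
theorem pairs : allLt 18 (fun k => force (Nat.add k 54) fun r => allLt 72 fun s => pairOK r s) = true := by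
  decide +kernel

set_option maxRecDepth 100000 in
theorem roots : allLt 18 (fun k => force (Nat.add k 54) fun r => rootOK r) = true := by
  decide +kernel

end Cfsg.Agent.ChevalleyStructure.E6AdCheck3
end

-- part: ChevalleyStructure/E6AdMat
section
/-!
# The matrices of the root vectors of type `E₆` on the 27-dimensional module

`N F r` is the matrix of the root vector of `r`, `Hm F i` that of the `i`-th fundamental coroot, `Cm F r` that of the
coroot of `r`. The relations: `N_comm`, `N_bra` (brackets), `N_sq`, `N_neg` (`[N_r, N_{-r}]`), `N_H`, `Cm_N`.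
-/

set_option autoImplicit false

namespace Cfsg.Agent.ChevalleyStructure.E6AdMat

open Cfsg.Lie
open Cfsg.Agent.ChevalleyStructure.FastBase
open Cfsg.Agent.ChevalleyStructure.E6AdTab
open scoped Matrix

universe u

/-! ### The checks -/

theorem pairOK_all {r s : ℕ} (hr : r < 72) (hs : s < 72) : pairOK r s = true := by
  have key : ∀ (j k : ℕ), r = Nat.add k j → k < 18 →
      allLt 18 (fun k => force (Nat.add k j) fun r => allLt 72 fun s => pairOK r s) = true → pairOK r s = true := by
    intro j k hk hk' h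
    have h1 := allLt_iff.1 h k hk'
    rw [force_eq, ← hk] at h1
    exact allLt_iff.1 h1 s hs
  rcases Nat.lt_or_ge r 18 with h0 | h0
  · exact key 0 r rfl h0 E6AdCheck0.pairs
  rcases Nat.lt_or_ge r 36 with h1 | h1
  · exact key 18 (r - 18) (Nat.sub_add_cancel h0).symm (by omega) E6AdCheck1.pairs
  rcases Nat.lt_or_ge r 54 with h2 | h2
  · exact key 36 (r - 36) (Nat.sub_add_cancel h1).symm (by omega) E6AdCheck2.pairs
  · exact key 54 (r - 54) (Nat.sub_add_cancel h2).symm (by omega) E6AdCheck3.pairs

theorem rootOK_all {r : ℕ} (hr : r < 72) : rootOK r = true := by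
  have key : ∀ (j k : ℕ), r = Nat.add k j → k < 18 →
      allLt 18 (fun k => force (Nat.add k j) fun r => rootOK r) = true → rootOK r = true := by
    intro j k hk hk' h
    have h1 := allLt_iff.1 h k hk'
    rw [force_eq, ← hk] at h1
    exact h1
  rcases Nat.lt_or_ge r 18 with h0 | h0
  · exact key 0 r rfl h0 E6AdCheck0.roots
  rcases Nat.lt_or_ge r 36 with h1 | h1
  · exact key 18 (r - 18) (Nat.sub_add_cancel h0).symm (by omega) E6AdCheck1.roots
  rcases Nat.lt_or_ge r 54 with h2 | h2
  · exact key 36 (r - 36) (Nat.sub_add_cancel h1).symm (by omega) E6AdCheck2.roots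
  · exact key 54 (r - 54) (Nat.sub_add_cancel h2).symm (by omega) E6AdCheck3.roots

/-! ### Numbering of the coordinates -/

/-- The number of a coordinate. -/
def num (a : I27) : ℕ := 9 * a.1.val + 3 * a.2.1.val + a.2.2.val

theorem num_lt (a : I27) : num a < 27 := by
  obtain ⟨i, j, k⟩ := a
  simp only [num]; omega

theorem num_inj {a b : I27} (h : num a = num b) : a = b := by
  obtain ⟨i, j, k⟩ := a
  obtain ⟨i', j', k'⟩ := b
  simp only [num] at h
  have h1 : i = i' := Fin.ext (by omega)
  have h2 : j = j' := Fin.ext (by omega)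
  have h3 : k = k' := Fin.ext (by omega)
  rw [h1, h2, h3]

theorem exists_num {k : ℕ} (hk : k < 27) : ∃ a : I27, num a = k :=
  ⟨(⟨k / 9, by omega⟩, ⟨k / 3 % 3, by omega⟩, ⟨k % 3, by omega⟩), by simp only [num]; omega⟩

/-! ### States -/

section
variable (F : Type u) [Field F]

/-- The vector with state `v`. -/
def dec (v : ℕ) : I27 → F := fun a => if v / 2 = num a + 1 then (if v % 2 = 0 then 1 else -1) else 0

variable {F}

theorem dec_le_one {v : ℕ} (h : v ≤ 1) : dec F v = 0 := by
  funext a
  rw [dec, if_neg (by omega)]; rfl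

theorem dec_ge {v : ℕ} (h : 56 ≤ v) : dec F v = 0 := by
  funext a
  have := num_lt a
  rw [dec, if_neg (by omega)]; rfl

theorem dec_st (b : I27) : dec F (st (num b)) = Pi.single b 1 := by
  funext a
  have h1 : st (num b) = 2 * (num b + 1) := rfl
  rw [dec, h1]
  by_cases h : a = b
  · rw [h, if_pos (by omega), if_pos (by omega), Pi.single_eq_same]
  · rw [if_neg, Pi.single_eq_of_ne h]
    intro h2
    exact h (num_inj (by omega))

theorem dec_xor (w : ℕ) : dec F (Nat.xor w 1) = - dec F w := by
  funext a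
  have h1 : Nat.xor w 1 / 2 = w / 2 := by
    exact (Nat.xor_div_two (a := w) (b := 1)).trans (by simp)
  have h2 : Nat.xor w 1 % 2 = (w + 1) % 2 := by
    exact Nat.xor_mod_two_eq (m := w) (n := 1)
  rw [Pi.neg_apply, dec, dec, h1, h2]
  by_cases h : w / 2 = num a + 1
  · rw [if_pos h, if_pos h]
    by_cases h' : w % 2 = 0
    · rw [if_neg (by omega), if_pos h']
    · rw [if_pos (by omega), if_neg h', neg_neg]
  · rw [if_neg h, if_neg h, neg_zero]

theorem dec_xor_zero (w : ℕ) : dec F (Nat.xor w 0) = dec F w := by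
  have : Nat.xor w 0 = w := Nat.xor_zero w
  rw [this]

theorem eqS_sound {x y : ℕ} (h : eqS x y = true) : dec F x = dec F y := by
  simp only [eqS, Bool.or_eq_true, Bool.and_eq_true, Nat.ble_eq, Nat.beq_eq] at h
  rcases h with h | ⟨h1, h2⟩
  · rw [h]
  · rw [dec_le_one h1, dec_le_one h2]

theorem addS_sound {a b d : ℕ} (h : addS a b d = true) : dec F a = dec F b + dec F d := by
  simp only [addS, Bool.or_eq_true, Bool.and_eq_true, Nat.ble_eq] at h
  rcases h with ⟨h1, h2⟩ | ⟨h1, h2⟩ | ⟨h1, h2⟩
  · rw [dec_le_one h1, eqS_sound h2, zero_add]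
  · rw [dec_le_one h1, eqS_sound h2, add_zero]
  · rw [dec_le_one h1, eqS_sound h2, dec_xor, neg_add_cancel]

/-- A vector given by a state at least 2 and less than 56 is plus or minus a basis vector. -/
theorem exists_dec {v : ℕ} (h2 : 2 ≤ v) (h56 : v < 56) : ∃ b : I27, v / 2 = num b + 1 ∧
    ((v % 2 = 0 ∧ v = st (num b) ∧ dec F v = Pi.single b 1) ∨
      (v % 2 = 1 ∧ v = Nat.xor (st (num b)) 1 ∧ dec F v = -Pi.single b 1)) := by
  obtain ⟨b, hb⟩ := exists_num (k := v / 2 - 1) (by omega)
  refine ⟨b, by omega, ?_⟩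
  have hst : st (num b) = 2 * (num b + 1) := rfl
  rcases Nat.mod_two_eq_zero_or_one v with h | h
  · left
    have hv : v = st (num b) := by rw [hst]; omega
    exact ⟨h, hv, by rw [hv, dec_st]⟩
  · right
    have hx : Nat.xor (st (num b)) 1 = 2 * (num b + 1) + 1 := by
      have h1 : Nat.xor (st (num b)) 1 / 2 = num b + 1 := by
        have := Nat.xor_div_two (a := st (num b)) (b := 1)
        rw [hst] at this ⊢
        simp only [Nat.reduceDiv, Nat.xor_zero] at this
        have h3 : Nat.xor (2 * (num b + 1)) 1 = (2 * (num b + 1)) ^^^ 1 := rfl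
        rw [h3, this]; omega
      have h2 : Nat.xor (st (num b)) 1 % 2 = 1 := by
        have := Nat.xor_mod_two_eq (m := st (num b)) (n := 1)
        rw [hst] at this ⊢
        have h3 : Nat.xor (2 * (num b + 1)) 1 = (2 * (num b + 1)) ^^^ 1 := rfl
        rw [h3, this]; omega
      omega
    have hv : v = Nat.xor (st (num b)) 1 := by rw [hx]; omega
    refine ⟨h, hv, ?_⟩
    rw [hv, dec_xor, dec_st]

end

/-! ### The matrices -/

variable (F : Type u) [Field F]

/-- The matrix of the root vector of `r`. -/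
def N (r : ℕ) : Matrix I27 I27 F := Matrix.of fun a b => dec F (lk (P r) (st (num b))) a

/-- The matrix of the `i`-th fundamental coroot. -/
def Hm (i : ℕ) : Matrix I27 I27 F := Matrix.diagonal fun a => ((hv i (num a) : ℤ) : F)

/-- The matrix of the coroot of `r`. -/
def Cm (r : ℕ) : Matrix I27 I27 F := Matrix.diagonal fun a => ((cv r (num a) : ℤ) : F)

variable {F}

theorem N_mulVec_single (r : ℕ) (b : I27) : N F r *ᵥ Pi.single b 1 = dec F (lk (P r) (st (num b))) := by
  rw [Matrix.mulVec_single_one]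
  rfl

/-- The facts in `rootOK`. -/
theorem root_facts {r : ℕ} (hr : r < 72) : chevE6.neg r < 72 ∧ chevE6.neg r ≠ r ∧ chevE6.neg (chevE6.neg r) = r ∧
    P r % 64 = 0 ∧ P r < 2 ^ 168 ∧ ∀ k < 27, corOK (P r) (P (chevE6.neg r)) r k = true := by
  have h := rootOK_all hr
  simp only [rootOK, Bool.and_eq_true, Nat.ble_eq, Nat.beq_eq, Bool.not_eq_true', force_eq, allLt_iff] at h
  obtain ⟨h1, h2, h3, h4, h5, h6⟩ := h
  refine ⟨by omega, ?_, h3, ?_, ?_, h6⟩
  · intro h'
    rw [h'] at h2
    have : Nat.beq r r = true := Nat.beq_refl r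
    rw [this] at h2
    exact absurd h2 (by decide)
  · have : P r &&& 63 = P r % 2 ^ 6 := Nat.and_two_pow_sub_one_eq_mod (P r) 6
    have h4' : P r &&& 63 = 0 := h4
    omega
  · have h5' : P r ≤ 2 ^ 168 - 1 := h5
    have : 0 < 2 ^ 168 := by positivity
    omega

theorem lk_eq (p v : ℕ) : lk p v = p / 2 ^ (6 * (v / 2)) % 64 := by
  have h1 : lk p v = (p >>> (6 * (v / 2))) &&& 63 := rfl
  rw [h1, Nat.shiftRight_eq_div_pow]
  exact Nat.and_two_pow_sub_one_eq_mod _ 6

theorem lks_eq_of_even (p : ℕ) {v : ℕ} (h : v % 2 = 0) : lks p v = lk p v := by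
  have h1 : lks p v = lk p v ^^^ (v % 2) := rfl
  rw [h1, h, Nat.xor_zero]

theorem lks_eq_of_odd (p : ℕ) {v : ℕ} (h : v % 2 = 1) : lks p v = Nat.xor (lk p v) 1 := by
  have h1 : lks p v = Nat.xor (lk p v) (v % 2) := rfl
  rw [h1, h]

theorem lk_of_div {p v w : ℕ} (h : v / 2 = w / 2) : lk p v = lk p w := by
  rw [lk_eq, lk_eq, h]

theorem mulVec_dec {r : ℕ} (hr : r < 72) (v : ℕ) : N F r *ᵥ dec F v = dec F (lks (P r) v) := by
  obtain ⟨-, -, -, h0, h1, -⟩ := root_facts hr
  rcases Nat.lt_or_ge v 2 with hv | hv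
  · rw [dec_le_one (by omega), Matrix.mulVec_zero]
    have hk : lk (P r) v = 0 := by
      rw [lk_eq]
      have : v / 2 = 0 := by omega
      rw [this]; simpa using h0
    rcases Nat.mod_two_eq_zero_or_one v with h | h
    · rw [lks_eq_of_even _ h, hk, dec_le_one (by omega)]
    · rw [lks_eq_of_odd _ h, hk, dec_xor, dec_le_one (by omega), neg_zero]
  rcases Nat.lt_or_ge v 56 with hv' | hv'
  · obtain ⟨b, hb, ⟨h, -, h'⟩ | ⟨h, -, h'⟩⟩ := exists_dec (F := F) hv hv'
    · rw [lks_eq_of_even _ h, h', N_mulVec_single, lk_of_div (v := v) (w := st (num b))]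
      have : st (num b) = 2 * (num b + 1) := rfl
      omega
    · rw [lks_eq_of_odd _ h, h', dec_xor, Matrix.mulVec_neg, N_mulVec_single,
        lk_of_div (v := v) (w := st (num b))]
      have : st (num b) = 2 * (num b + 1) := rfl
      omega
  · rw [dec_ge hv', Matrix.mulVec_zero]
    have hk : lk (P r) v = 0 := by
      rw [lk_eq, Nat.div_eq_of_lt]
      refine lt_of_lt_of_le h1 (Nat.pow_le_pow_right (by norm_num) ?_)
      omega
    rcases Nat.mod_two_eq_zero_or_one v with h | h
    · rw [lks_eq_of_even _ h, hk, dec_le_one (by omega)]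
    · rw [lks_eq_of_odd _ h, hk, dec_xor, dec_le_one (by omega), neg_zero]

theorem ext_single {A B : Matrix I27 I27 F} (h : ∀ b : I27, A *ᵥ Pi.single b 1 = B *ᵥ Pi.single b 1) : A = B := by
  ext a b
  have := congrFun (h b) a
  rwa [Matrix.mulVec_single_one, Matrix.mulVec_single_one] at this

theorem NN_single {r s : ℕ} (hr : r < 72) (b : I27) :
    (N F r * N F s) *ᵥ Pi.single b 1 = dec F (lks (P r) (lk (P s) (st (num b)))) := by
  rw [← Matrix.mulVec_mulVec, N_mulVec_single, mulVec_dec hr]

theorem ble_one {v : ℕ} (h : Nat.ble v 1 = true) : dec F v = 0 := dec_le_one (Nat.le_of_ble_eq_true h)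

/-- The relations between `N r` and `N s`, `s ≠ ±r`. -/
theorem N_pair {r s : ℕ} (hr : r < 72) (hs : s < 72) (h1 : s ≠ r) (h2 : s ≠ chevE6.neg r) :
    (chevE6.chainEntry r s = [] ∧ N F r * N F s = N F s * N F r) ∨
    ∃ (u : ℕ) (c : ℤ), chevE6.chainEntry r s = [(u, c)] ∧ u < 72 ∧
      N F r * N F s = N F s * N F r + (c : F) • N F u ∧ N F u * N F r = 0 := by
  have h := pairOK_all hr hs
  have e1 : Nat.beq s r = false := by
    rw [Bool.eq_false_iff]; intro h'; exact h1 (Nat.eq_of_beq_eq_true h')
  have e2 : Nat.beq s (chevE6.neg r) = false := by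
    rw [Bool.eq_false_iff]; intro h'; exact h2 (Nat.eq_of_beq_eq_true h')
  rw [pairOK, e1, e2, Bool.false_or, Bool.false_or] at h
  split at h
  · rename_i h3
    left
    refine ⟨h3, ext_single fun b => ?_⟩
    rw [NN_single hr, NN_single hs]
    simp only [force_eq, comOK, allLt_iff] at h
    exact eqS_sound (h (num b) (num_lt b))
  · rename_i u h3
    right
    simp only [force_eq, Bool.and_eq_true, Nat.ble_eq] at h
    obtain ⟨hu, h⟩ := h
    simp only [force_eq, braOK, allLt_iff, Bool.and_eq_true] at h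
    refine ⟨u, 1, h3, by omega, ext_single fun b => ?_, ext_single fun b => ?_⟩
    · rw [Matrix.add_mulVec, Matrix.smul_mulVec, NN_single hr, NN_single hs, N_mulVec_single,
        Int.cast_one, one_smul, addS_sound (h (num b) (num_lt b)).1, dec_xor_zero]
    · rw [NN_single (by omega), Matrix.zero_mulVec]
      exact ble_one (h (num b) (num_lt b)).2
  · rename_i u h3
    right
    simp only [force_eq, Bool.and_eq_true, Nat.ble_eq] at h
    obtain ⟨hu, h⟩ := h
    simp only [force_eq, braOK, allLt_iff, Bool.and_eq_true] at h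
    refine ⟨u, -1, by rw [h3]; rfl, by omega, ext_single fun b => ?_, ext_single fun b => ?_⟩
    · rw [Matrix.add_mulVec, Matrix.smul_mulVec, NN_single hr, NN_single hs, N_mulVec_single,
        Int.cast_neg, Int.cast_one, neg_smul, one_smul, addS_sound (h (num b) (num_lt b)).1, dec_xor]
    · rw [NN_single (by omega), Matrix.zero_mulVec]
      exact ble_one (h (num b) (num_lt b)).2
  · exact absurd h (by decide)

/-- The facts in `corOK` in terms of states. -/
theorem cor_facts {r : ℕ} (hr : r < 72) {k : ℕ} (hk : k < 27) :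
    lk (P r) (st k) < 56 ∧ lks (P r) (lk (P r) (st k)) ≤ 1 ∧
    (lk (P r) (st k) ≤ 1 ∨ lks (P (chevE6.neg r)) (lk (P r) (st k)) = st k) ∧
    ((lks (P r) (lk (P (chevE6.neg r)) (st k)) = st k ∧ lks (P (chevE6.neg r)) (lk (P r) (st k)) ≤ 1 ∧ cv r k = 1) ∨
      (lks (P r) (lk (P (chevE6.neg r)) (st k)) ≤ 1 ∧ lks (P (chevE6.neg r)) (lk (P r) (st k)) = st k ∧ cv r k = -1) ∨
      (lks (P r) (lk (P (chevE6.neg r)) (st k)) ≤ 1 ∧ lks (P (chevE6.neg r)) (lk (P r) (st k)) ≤ 1 ∧ cv r k = 0)) ∧
    (lk (P r) (st k) ≤ 1 ∨ (cv r (lk (P r) (st k) / 2 - 1) = 1 ∧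
      ∀ i < 6, hv i (lk (P r) (st k) / 2 - 1) - hv i k = chevE6.cartan i r)) := by
  obtain ⟨-, -, -, -, -, h⟩ := root_facts hr
  have h := h k hk
  simp only [corOK, force_eq, Bool.and_eq_true, Bool.or_eq_true, Nat.ble_eq, Nat.beq_eq, decide_eq_true_eq,
    List.all_eq_true, List.mem_range] at h
  obtain ⟨h1, h2, h3, h4, h5⟩ := h
  refine ⟨by omega, h2, h3, ?_, h5⟩
  rcases h4 with ⟨⟨a, b⟩, c⟩ | ⟨⟨a, b⟩, c⟩ | ⟨⟨a, b⟩, c⟩
  · exact Or.inl ⟨a, b, c⟩
  · exact Or.inr (Or.inl ⟨a, b, c⟩)
  · exact Or.inr (Or.inr ⟨a, b, c⟩)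

theorem N_sq {r : ℕ} (hr : r < 72) : N F r * N F r = 0 := by
  refine ext_single fun b => ?_
  rw [NN_single hr, Matrix.zero_mulVec]
  exact dec_le_one (cor_facts hr (num_lt b)).2.1

theorem diagonal_mulVec_single (d : I27 → F) (b : I27) :
    Matrix.diagonal d *ᵥ Pi.single b 1 = d b • (Pi.single b 1 : I27 → F) := by
  funext a
  rw [Matrix.mulVec_diagonal, Pi.smul_apply, smul_eq_mul]
  by_cases h : a = b
  · rw [h]
  · rw [Pi.single_eq_of_ne h, mul_zero, mul_zero]

theorem N_neg {r : ℕ} (hr : r < 72) :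
    N F r * N F (chevE6.neg r) = N F (chevE6.neg r) * N F r + Cm F r := by
  have hn := (root_facts hr).1
  refine ext_single fun b => ?_
  rw [Matrix.add_mulVec, NN_single hr, NN_single hn, Cm, diagonal_mulVec_single, ← dec_st]
  rcases (cor_facts hr (num_lt b)).2.2.2.1 with ⟨h1, h2, h3⟩ | ⟨h1, h2, h3⟩ | ⟨h1, h2, h3⟩
  · rw [h1, dec_le_one h2, h3, Int.cast_one, one_smul, zero_add]
  · rw [dec_le_one h1, h2, h3, Int.cast_neg, Int.cast_one, neg_smul, one_smul, add_neg_cancel]
  · rw [dec_le_one h1, dec_le_one h2, h3, Int.cast_zero, zero_smul, add_zero]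

theorem Cm_N {r : ℕ} (hr : r < 72) : Cm F r * N F r = N F r := by
  refine ext_single fun b => ?_
  rw [← Matrix.mulVec_mulVec, N_mulVec_single]
  obtain ⟨h1, -, -, -, h2⟩ := cor_facts hr (num_lt b)
  rcases Nat.lt_or_ge (lk (P r) (st (num b))) 2 with h3 | h3
  · rw [dec_le_one (by omega), Matrix.mulVec_zero]
  · obtain ⟨c, hc, hd⟩ := exists_dec (F := F) h3 h1
    have h4 : cv r (num c) = 1 := by
      rcases h2 with h2 | h2
      · omega
      · rw [hc] at h2; exact h2.1
    have h5 : Cm F r *ᵥ Pi.single c 1 = Pi.single c 1 := by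
      rw [Cm, diagonal_mulVec_single, h4, Int.cast_one, one_smul]
    rcases hd with ⟨-, -, hd⟩ | ⟨-, -, hd⟩
    · rw [hd, h5]
    · rw [hd, Matrix.mulVec_neg, h5]

theorem N_H {r : ℕ} (hr : r < 72) {i : ℕ} (hi : i < 6) :
    N F r * Hm F i = Hm F i * N F r - (chevE6.cartan i r : F) • N F r := by
  refine ext_single fun b => ?_
  rw [Matrix.sub_mulVec, ← Matrix.mulVec_mulVec, ← Matrix.mulVec_mulVec, Matrix.smul_mulVec, N_mulVec_single,
    Hm, diagonal_mulVec_single, Matrix.mulVec_smul, N_mulVec_single]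
  obtain ⟨h1, -, -, -, h2⟩ := cor_facts hr (num_lt b)
  rcases Nat.lt_or_ge (lk (P r) (st (num b))) 2 with h3 | h3
  · rw [dec_le_one (by omega), Matrix.mulVec_zero, smul_zero, smul_zero, sub_zero]
  · obtain ⟨c, hc, hd⟩ := exists_dec (F := F) h3 h1
    have h4 : hv i (num c) - hv i (num b) = chevE6.cartan i r := by
      rcases h2 with h2 | h2
      · omega
      · rw [hc] at h2; exact h2.2 i hi
    have h5 : ((hv i (num b) : ℤ) : F) = ((hv i (num c) : ℤ) : F) - (chevE6.cartan i r : F) := by
      rw [← h4]; push_cast; ring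
    rcases hd with ⟨-, -, hd⟩ | ⟨-, -, hd⟩
    · rw [hd, diagonal_mulVec_single, h5, sub_smul]
    · rw [hd, Matrix.mulVec_neg, diagonal_mulVec_single, h5, sub_smul, smul_neg, smul_neg, sub_neg_eq_add]

end Cfsg.Agent.ChevalleyStructure.E6AdMat
end

-- part: ChevalleyStructure/E6AdPhi
section
/-!
# The adjoint module of type `E₆` inside the matrices of the 27-dimensional module

`phi` sends the basis vectors `e_s`, `h_i` of the adjoint module to the matrices `N s`, `Hm i`. It is injective, and
`(1 + t N_r) phi(v) = phi(x_r(t) v) (1 + t N_r)` (`rel_Z`).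
-/

set_option autoImplicit false

namespace Cfsg.Agent.ChevalleyStructure.E6AdPhi

open Cfsg.Lie
open Cfsg.Agent.ChevalleyStructure.E6AdTab
open Cfsg.Agent.ChevalleyStructure.E6AdMat
open Cfsg.Agent.ChevalleyStructure.XColumns
open scoped Matrix

universe u

/-! ### More checks -/

set_option maxRecDepth 100000 in
theorem nodup_all : (List.range 72).all (fun r => decide ((row chevE6 r).map Prod.fst).Nodup) = true := by
  decide +kernel

theorem nodup_row {r : ℕ} (hr : r < 72) : ((row chevE6 r).map Prod.fst).Nodup := by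
  have := List.all_eq_true.1 nodup_all r (List.mem_range.2 hr)
  exact of_decide_eq_true this

/-- The first entry `(row, column, sign)` of `N r`. -/
def fe (r : ℕ) : ℕ × ℕ :=
  match (List.range 27).find? (fun k => Nat.ble 2 (lk (P r) (st k))) with
  | some k => (k, lk (P r) (st k))
  | none => (0, 0)

set_option maxRecDepth 100000 in
theorem fe_all : (List.range 72).all (fun r => decide ((fe r).1 < 27) && Nat.ble 2 (fe r).2 && Nat.ble (fe r).2 55 &&
    !(Nat.beq ((fe r).2 / 2) ((fe r).1 + 1)) &&
    (List.range 72).all fun s => Nat.beq r s || !(Nat.beq (lk (P s) (st (fe r).1) / 2) ((fe r).2 / 2))) = true := by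
  decide +kernel

theorem fe_self (r : ℕ) : (fe r).2 = lk (P r) (st (fe r).1) ∨ (fe r) = (0, 0) := by
  unfold fe
  split
  · left; rfl
  · right; rfl

theorem wTab_all : (List.range 6).all (fun i => (wTab.getD i []).all (fun p => decide (p.1 < 27)) &&
    (List.range 6).all fun j => decide (((wTab.getD i []).map fun p => p.2 * E6AdTab.hv j p.1).sum =
      if i = j then 1 else 0)) = true := by decide +kernel

/-- The root whose coroot is the `i`-th fundamental one. -/
def sr (i : ℕ) : ℕ := chevE6.simple i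

theorem sr_all : (List.range 6).all (fun i => decide (sr i < 72) &&
    (List.range 6).all fun j => decide ((chevE6.coroot.getD (sr i) #[]).getD j 0 = if j = i then 1 else 0)) = true := by
  decide +kernel

/-! ### The map -/

variable (F : Type u) [Field F]

/-- The adjoint module as matrices on the 27-dimensional module. -/
def phi : (chevE6.Idx → F) →ₗ[F] Matrix I27 I27 F where
  toFun v := (∑ i : Fin chevE6.rank, v (Sum.inl i) • Hm F i.val) +
    ∑ s : Fin chevE6.nroots, v (Sum.inr s) • N F s.val
  map_add' v w := by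
    simp only [Pi.add_apply, add_smul, Finset.sum_add_distrib]
    abel
  map_smul' c v := by
    simp only [Pi.smul_apply, smul_eq_mul, mul_smul, RingHom.id_apply, smul_add, Finset.smul_sum]

variable {F}

theorem phi_apply (v : chevE6.Idx → F) : phi F v = (∑ i : Fin chevE6.rank, v (Sum.inl i) • Hm F i.val) +
    ∑ s : Fin chevE6.nroots, v (Sum.inr s) • N F s.val := rfl

theorem phi_ev {s : ℕ} (hs : s < 72) : phi F (ev chevE6 F s) = N F s := by
  rw [phi_apply]
  have h1 : ∑ i : Fin chevE6.rank, ev chevE6 F s (Sum.inl i) • Hm F i.val = 0 :=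
    Finset.sum_eq_zero fun i _ => by rw [ev_inl, zero_smul]
  rw [h1, zero_add, Finset.sum_eq_single (⟨s, hs⟩ : Fin chevE6.nroots)]
  · rw [ev_inr, if_pos rfl, one_smul]
  · intro b _ hb
    rw [ev_inr, if_neg, zero_smul]
    intro h
    exact hb (Fin.ext h)
  · intro h; exact absurd (Finset.mem_univ _) h

theorem phi_hv {i : ℕ} (hi : i < 6) : phi F (XColumns.hv chevE6 F i) = Hm F i := by
  rw [phi_apply]
  have h1 : ∑ s : Fin chevE6.nroots, XColumns.hv chevE6 F i (Sum.inr s) • N F s.val = 0 :=
    Finset.sum_eq_zero fun s _ => by rw [hv_inr, zero_smul]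
  rw [h1, add_zero, Finset.sum_eq_single (⟨i, hi⟩ : Fin chevE6.rank)]
  · rw [hv_inl, if_pos rfl, one_smul]
  · intro b _ hb
    rw [hv_inl, if_neg, zero_smul]
    intro h
    exact hb (Fin.ext h)
  · intro h; exact absurd (Finset.mem_univ _) h

theorem cv_eq (r l : ℕ) : cv r l = ∑ i : Fin 6, (chevE6.coroot.getD r #[]).getD i.val 0 * E6AdTab.hv i.val l := by
  rw [cv, Fin.sum_univ_def]
  rfl

theorem phi_corv (r : ℕ) : phi F (corv chevE6 F r) = Cm F r := by
  rw [phi_apply]
  have h1 : ∑ s : Fin chevE6.nroots, corv chevE6 F r (Sum.inr s) • N F s.val = 0 :=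
    Finset.sum_eq_zero fun s _ => by rw [corv_inr, zero_smul]
  rw [h1, add_zero]
  ext a b
  rw [Matrix.sum_apply]
  by_cases h : a = b
  · subst h
    simp only [corv_inl, Matrix.smul_apply, Hm, Cm, Matrix.diagonal_apply_eq, smul_eq_mul]
    rw [cv_eq, Int.cast_sum]
    exact Finset.sum_congr rfl fun i _ => by push_cast; rfl
  · simp only [Matrix.smul_apply, Hm, Cm, Matrix.diagonal_apply_ne _ h, smul_zero, Finset.sum_const_zero]

/-! ### Injectivity -/

theorem diag_zero_of_N (s : ℕ) (hs : s < 72) (a : I27) : N F s a a = 0 := by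
  by_contra h
  have h1 : (N F s * N F s) a a = N F s a a * N F s a a := by
    rw [Matrix.mul_apply, Finset.sum_eq_single a]
    · intro b _ hb
      -- column `a` of `N s` has only one non-zero entry
      have h2 : N F s b a = 0 := by
        by_contra h3
        simp only [N, Matrix.of_apply, dec] at h h3
        by_cases h4 : lk (P s) (st (num a)) / 2 = num a + 1
        · by_cases h5 : lk (P s) (st (num a)) / 2 = num b + 1
          · exact hb (num_inj (by omega))
          · rw [if_neg h5] at h3; exact h3 rfl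
        · rw [if_neg h4] at h; exact h rfl
      rw [h2, mul_zero]
    · intro h; exact absurd (Finset.mem_univ _) h
  rw [N_sq hs] at h1
  exact h ((mul_self_eq_zero).1 (h1.symm.trans rfl) )

theorem phi_injective : Function.Injective (phi F) := by
  rw [injective_iff_map_eq_zero]
  intro v hv
  rw [phi_apply] at hv
  -- the coefficients of the root vectors
  have hs : ∀ s : Fin chevE6.nroots, v (Sum.inr s) = 0 := by
    intro s
    have h := List.all_eq_true.1 fe_all s.val (List.mem_range.2 s.isLt)
    simp only [Bool.and_eq_true, decide_eq_true_eq, Nat.ble_eq, Bool.not_eq_true', List.all_eq_true,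
      List.mem_range, Bool.or_eq_true] at h
    obtain ⟨⟨⟨⟨h1, h2⟩, h3⟩, h4⟩, h5⟩ := h
    have h6 : (fe s.val).2 = lk (P s.val) (st (fe s.val).1) := by
      rcases fe_self s.val with h6 | h6
      · exact h6
      · rw [h6] at h2; simp at h2
    obtain ⟨b, hb⟩ := exists_num h1
    obtain ⟨a, ha⟩ := exists_num (k := (fe s.val).2 / 2 - 1) (by omega)
    have hab : (fe s.val).2 / 2 = num a + 1 := by omega
    have hne : a ≠ b := by
      rintro rfl
      rw [hab, ← hb] at h4
      have : Nat.beq (num a + 1) (num a + 1) = true := Nat.beq_refl _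
      rw [this] at h4
      exact absurd h4 (by decide)
    have hv' := congrFun (congrFun hv a) b
    rw [Matrix.add_apply, Matrix.sum_apply, Matrix.sum_apply, Matrix.zero_apply] at hv'
    have e1 : ∑ c : Fin chevE6.rank, (v (Sum.inl c) • Hm F c.val) a b = 0 :=
      Finset.sum_eq_zero fun c _ => by
        rw [Matrix.smul_apply, Hm, Matrix.diagonal_apply_ne _ hne, smul_zero]
    rw [e1, zero_add, Finset.sum_eq_single s] at hv'
    · rw [Matrix.smul_apply, N, Matrix.of_apply, hb, ← h6, dec, if_pos hab, smul_eq_mul, mul_eq_zero] at hv'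
      rcases hv' with h | h
      · exact h
      · exfalso
        split at h
        · exact one_ne_zero h
        · exact one_ne_zero (neg_eq_zero.1 h)
    · intro t _ ht
      have h7 := h5 t.val t.isLt
      rw [Matrix.smul_apply, N, Matrix.of_apply, hb, dec, if_neg, smul_zero]
      intro h8
      rcases h7 with h7 | h7
      · exact ht (Fin.ext (Nat.eq_of_beq_eq_true h7).symm)
      · rw [h8, hab] at h7
        have : Nat.beq (num a + 1) (num a + 1) = true := Nat.beq_refl _
        rw [this] at h7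
        exact absurd h7 (by decide)
    · intro h; exact absurd (Finset.mem_univ _) h
  -- the coefficients of the coroots
  have hdiag : ∀ l < 27, ∑ j : Fin chevE6.rank, v (Sum.inl j) * ((E6AdTab.hv j.val l : ℤ) : F) = 0 := by
    intro l hl
    obtain ⟨a, ha⟩ := exists_num hl
    have hv' := congrFun (congrFun hv a) a
    rw [Matrix.add_apply, Matrix.sum_apply, Matrix.sum_apply, Matrix.zero_apply] at hv'
    have e1 : ∑ c : Fin chevE6.nroots, (v (Sum.inr c) • N F c.val) a a = 0 :=
      Finset.sum_eq_zero fun c _ => by rw [hs c, zero_smul]; rfl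
    rw [e1, add_zero] at hv'
    rw [← hv']
    refine Finset.sum_congr rfl fun j _ => ?_
    rw [Matrix.smul_apply, Hm, Matrix.diagonal_apply_eq, ha, smul_eq_mul]
  have hi : ∀ i : Fin chevE6.rank, v (Sum.inl i) = 0 := by
    intro i
    have h := List.all_eq_true.1 wTab_all i.val (List.mem_range.2 i.isLt)
    simp only [Bool.and_eq_true, List.all_eq_true, decide_eq_true_eq, List.mem_range] at h
    obtain ⟨h1, h2⟩ := h
    have key : ∀ W : List (ℕ × ℤ), (∀ p ∈ W, p.1 < 27) →
        ∑ j : Fin chevE6.rank, v (Sum.inl j) * (((W.map fun p => p.2 * E6AdTab.hv j.val p.1).sum : ℤ) : F) = 0 := by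
      intro W hW
      induction W with
      | nil => simp
      | cons p W ih =>
        have h3 := ih fun q hq => hW q (List.mem_cons_of_mem _ hq)
        have h4 := hdiag p.1 (hW p List.mem_cons_self)
        have : ∀ j : Fin chevE6.rank,
            v (Sum.inl j) * ((((p :: W).map fun p => p.2 * E6AdTab.hv j.val p.1).sum : ℤ) : F) =
            (p.2 : F) * (v (Sum.inl j) * ((E6AdTab.hv j.val p.1 : ℤ) : F)) +
            v (Sum.inl j) * (((W.map fun p => p.2 * E6AdTab.hv j.val p.1).sum : ℤ) : F) := by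
          intro j
          rw [List.map_cons, List.sum_cons]
          push_cast
          ring
        rw [Finset.sum_congr rfl fun j _ => this j, Finset.sum_add_distrib, h3, ← Finset.mul_sum, h4, mul_zero,
          add_zero]
    have h3 := key _ h1
    rw [Finset.sum_eq_single i] at h3
    · rw [h2 i.val i.isLt, if_pos rfl, Int.cast_one, mul_one] at h3
      exact h3
    · intro j _ hj
      rw [h2 j.val j.isLt, if_neg, Int.cast_zero, mul_zero]
      intro h; exact hj (Fin.ext h).symm
    · intro h; exact absurd (Finset.mem_univ _) h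
  funext a
  rcases a with i | s
  · exact hi i
  · exact hs s

/-! ### The intertwining relation -/

/-- `g phi(v) = phi(k v) g` for all `v`. -/
def Rel (g : Matrix I27 I27 F) (k : Matrix chevE6.Idx chevE6.Idx F) : Prop :=
  ∀ v : chevE6.Idx → F, g * phi F v = phi F (k *ᵥ v) * g

theorem rel_of_basis {g : Matrix I27 I27 F} {k : Matrix chevE6.Idx chevE6.Idx F}
    (h1 : ∀ i < 6, g * Hm F i = phi F (k *ᵥ XColumns.hv chevE6 F i) * g)
    (h2 : ∀ s < 72, g * N F s = phi F (k *ᵥ ev chevE6 F s) * g) : Rel g k := by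
  have key : (LinearMap.mulLeft F g) ∘ₗ phi F = (LinearMap.mulRight F g) ∘ₗ phi F ∘ₗ k.mulVecLin := by
    refine LinearMap.pi_ext' fun a => LinearMap.ext_ring ?_
    show g * phi F (Pi.single a 1) = phi F (k *ᵥ Pi.single a 1) * g
    rcases a with i | s
    · have := hv_eq_single (D := chevE6) (F := F) i.isLt
      rw [Fin.eta] at this
      rw [← this, phi_hv i.isLt]
      exact h1 i.val i.isLt
    · have := ev_eq_single (D := chevE6) (F := F) s.isLt
      rw [Fin.eta] at this
      rw [← this, phi_ev s.isLt]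
      exact h2 s.val s.isLt
  intro v
  exact LinearMap.congr_fun key v

/-- The relation between the root elements of the two modules. -/
theorem rel_Z {r : ℕ} (hr : r < 72) (t : F) : Rel (1 + t • N F r) (chevE6.x F r t) := by
  have hr' : r < chevE6.nroots := hr
  have hnr : chevE6.neg r < chevE6.nroots := (root_facts hr).1
  refine rel_of_basis ?_ ?_
  · intro i hi
    rw [x_mulVec_hv hr' hi, map_sub, map_smul, phi_ev hr, phi_hv hi]
    have h := N_H (F := F) hr hi
    simp only [add_mul, sub_mul, mul_add, one_mul, mul_one, smul_mul_assoc, mul_smul_comm, N_sq hr, smul_zero, h,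
      smul_sub, smul_smul]
    rw [mul_comm t]
    abel
  · intro s hs
    have hs' : s < chevE6.nroots := hs
    by_cases h1 : s = r
    · subst h1
      rw [x_mulVec_ev_self hr', phi_ev hr]
      simp only [add_mul, mul_add, one_mul, mul_one, smul_mul_assoc, mul_smul_comm]
    by_cases h2 : s = chevE6.neg r
    · subst h2
      rw [x_mulVec_ev_neg hr' hnr (root_facts hr).2.1, map_sub, map_add, map_smul, map_smul, phi_ev hr,
        phi_ev (root_facts hr).1, phi_corv]
      simp only [add_mul, sub_mul, mul_add, one_mul, mul_one, smul_mul_assoc, mul_smul_comm, N_sq hr, smul_zero,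
        sub_zero, Cm_N hr, N_neg hr, smul_add, pow_two, mul_smul]
      abel
    · rw [x_mulVec_ev hr' hs' h1 h2 (nodup_row hr)]
      rcases N_pair (F := F) hr hs h1 h2 with ⟨h3, h4⟩ | ⟨u, c, h3, hu, h4, h5⟩
      · rw [h3]
        simp only [List.zipIdx_nil, List.map_nil, List.sum_nil, add_zero, phi_ev hs, add_mul, mul_add, one_mul, mul_one,
          smul_mul_assoc, mul_smul_comm, h4]
      · rw [h3]
        simp only [List.zipIdx_cons, List.zipIdx_nil, List.map_cons, List.map_nil, List.sum_cons, List.sum_nil,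
          add_zero, zero_add, pow_one, map_add, map_smul, phi_ev hs, phi_ev hu, add_mul, mul_add, one_mul, mul_one,
          smul_mul_assoc, mul_smul_comm, h4, h5, smul_zero, smul_add, smul_smul]
        rw [mul_comm t]
        abel

end Cfsg.Agent.ChevalleyStructure.E6AdPhi
end

-- part: ChevalleyStructure/E6Ad
section
/-!
# The action of the group of the 27-dimensional module of type `E₆` on the adjoint module

`Z r t` is the root element `1 + t N_r` of the 27-dimensional module. If `Γ` is the subgroup of `GL I27 F` generated by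
the `Z r t`, then `Γ / Z(Γ)` is isomorphic to the Chevalley group `chevE6.group F` (`quot_equiv`).
-/

set_option autoImplicit false

namespace Cfsg.Agent.ChevalleyStructure.E6Ad

open Cfsg.Lie
open Cfsg.Agent.ChevalleyStructure.E6AdTab
open Cfsg.Agent.ChevalleyStructure.E6AdMat
open Cfsg.Agent.ChevalleyStructure.E6AdPhi
open Cfsg.Agent.ChevalleyStructure.XColumns
open scoped Matrix

universe u v w

/-! ### An isomorphism from an intertwining relation -/

theorem nonempty_equiv_of_rel {G : Type u} {K : Type v} {ι : Type w} [Group G] [Group K] (Γ : Subgroup G)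
    (X : Subgroup K) (R : G → K → Prop) (h1 : R 1 1) (hmul : ∀ g g' k k', R g k → R g' k' → R (g * g') (k * k'))
    (hinv : ∀ g k, R g k → R g⁻¹ k⁻¹) (hinj : ∀ k, R 1 k → k = 1) (z : ι → G) (x : ι → K)
    (hz : Γ = Subgroup.closure (Set.range z)) (hx : X = Subgroup.closure (Set.range x))
    (hR : ∀ i, R (z i) (x i)) (hcen : ∀ g : Γ, R (g : G) 1 ↔ g ∈ Subgroup.center Γ) :
    Nonempty (Γ ⧸ Subgroup.center Γ ≃* X) := by
  have hex : ∀ g ∈ Γ, ∃ k ∈ X, R g k := by
    intro g hg
    rw [hz] at hg
    induction hg using Subgroup.closure_induction with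
    | mem g hg =>
      obtain ⟨i, rfl⟩ := hg
      exact ⟨x i, hx ▸ Subgroup.subset_closure ⟨i, rfl⟩, hR i⟩
    | one => exact ⟨1, X.one_mem, h1⟩
    | mul a b _ _ ha hb =>
      obtain ⟨k, hk, hk'⟩ := ha
      obtain ⟨l, hl, hl'⟩ := hb
      exact ⟨k * l, X.mul_mem hk hl, hmul _ _ _ _ hk' hl'⟩
    | inv a _ ha =>
      obtain ⟨k, hk, hk'⟩ := ha
      exact ⟨k⁻¹, X.inv_mem hk, hinv _ _ hk'⟩
  have huniq : ∀ g k l, R g k → R g l → k = l := by
    intro g k l hk hl
    have := hmul _ _ _ _ (hinv _ _ hk) hl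
    rw [inv_mul_cancel] at this
    exact inv_mul_eq_one.1 (hinj _ this)
  choose ρ hρX hρR using hex
  let f : Γ →* X := MonoidHom.mk' (fun g => ⟨ρ g.1 g.2, hρX g.1 g.2⟩) (by
    intro a b
    refine Subtype.ext ?_
    exact huniq _ _ _ (hρR (a * b).1 (a * b).2) (hmul _ _ _ _ (hρR a.1 a.2) (hρR b.1 b.2)))
  have hf : ∀ g : Γ, R (g : G) (f g : K) := fun g => hρR g.1 g.2
  have hsurj : Function.Surjective f := by
    rintro ⟨k, hk⟩
    have : ∃ g ∈ Γ, R g k := by
      rw [hx] at hk
      induction hk using Subgroup.closure_induction with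
      | mem k hk =>
        obtain ⟨i, rfl⟩ := hk
        exact ⟨z i, hz ▸ Subgroup.subset_closure ⟨i, rfl⟩, hR i⟩
      | one => exact ⟨1, Γ.one_mem, h1⟩
      | mul a b _ _ ha hb =>
        obtain ⟨g, hg, hg'⟩ := ha
        obtain ⟨g', hg1, hg2⟩ := hb
        exact ⟨g * g', Γ.mul_mem hg hg1, hmul _ _ _ _ hg' hg2⟩
      | inv a _ ha =>
        obtain ⟨g, hg, hg'⟩ := ha
        exact ⟨g⁻¹, Γ.inv_mem hg, hinv _ _ hg'⟩
    obtain ⟨g, hg, hg'⟩ := this
    exact ⟨⟨g, hg⟩, Subtype.ext (huniq _ _ _ (hf ⟨g, hg⟩) hg')⟩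
  have hker : f.ker = Subgroup.center Γ := by
    ext g
    rw [← hcen, MonoidHom.mem_ker]
    constructor
    · intro h
      have := hf g
      rw [h] at this
      exact this
    · intro h
      exact Subtype.ext (huniq _ _ _ (hf g) h)
  exact ⟨(QuotientGroup.quotientMulEquivOfEq hker.symm).trans (QuotientGroup.quotientKerEquivOfSurjective f hsurj)⟩

/-! ### The root elements -/

variable {F : Type u} [Field F]

/-- The root element `1 + t N_r`. -/
def Z (r : Fin 72) (t : F) : GL I27 F where
  val := 1 + t • N F r.val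
  inv := 1 - t • N F r.val
  val_inv := by
    rw [add_mul, one_mul, mul_sub, mul_one, smul_mul_smul_comm, N_sq r.isLt, smul_zero, sub_zero, sub_add_cancel]
  inv_val := by
    rw [sub_mul, one_mul, mul_add, mul_one, smul_mul_smul_comm, N_sq r.isLt, smul_zero, add_zero,
      add_sub_cancel_right]

theorem coe_Z (r : Fin 72) (t : F) : ((Z r t : GL I27 F) : Matrix I27 I27 F) = 1 + t • N F r.val := rfl

/-- The group generated by the root elements of the 27-dimensional module. -/
def Gam (F : Type u) [Field F] : Subgroup (GL I27 F) := Subgroup.closure {g | ∃ (r : Fin 72) (t : F), g = Z r t}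

theorem Z_mem_Gam (r : Fin 72) (t : F) : Z r t ∈ Gam F := Subgroup.subset_closure ⟨r, t, rfl⟩

/-! ### The centre -/

theorem commute_N {g : GL I27 F} (h : ∀ r t, Z r t * g = g * Z r t) {s : ℕ} (hs : s < 72) :
    (g : Matrix I27 I27 F) * N F s = N F s * g := by
  have h1 := congrArg (fun x : GL I27 F => (x : Matrix I27 I27 F)) (h ⟨s, hs⟩ 1)
  simp only [Units.val_mul, coe_Z, one_smul, add_mul, mul_add, one_mul, mul_one] at h1
  exact (add_left_cancel h1).symm

theorem Hm_eq_Cm {i : ℕ} (hi : i < 6) : Hm F i = Cm F (sr i) := by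
  have h := List.all_eq_true.1 sr_all i (List.mem_range.2 hi)
  simp only [Bool.and_eq_true, decide_eq_true_eq, List.all_eq_true, List.mem_range] at h
  rw [Hm, Cm]
  congr 1
  funext a
  rw [cv_eq, Finset.sum_eq_single (⟨i, hi⟩ : Fin 6)]
  · rw [h.2 i hi, if_pos rfl, one_mul]
  · intro j _ hj
    rw [h.2 j.val j.isLt, if_neg, zero_mul]
    intro h'; exact hj (Fin.ext h')
  · intro h; exact absurd (Finset.mem_univ _) h

theorem commute_phi {g : GL I27 F} (h : ∀ r t, Z r t * g = g * Z r t) (v : chevE6.Idx → F) :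
    (g : Matrix I27 I27 F) * phi F v = phi F v * g := by
  have hC : ∀ r < 72, (g : Matrix I27 I27 F) * Cm F r = Cm F r * g := by
    intro r hr
    have hn := (root_facts hr).1
    have h1 := N_neg (F := F) hr
    have h2 : Cm F r = N F r * N F (chevE6.neg r) - N F (chevE6.neg r) * N F r := by
      rw [h1]; abel
    rw [h2, mul_sub, sub_mul, ← mul_assoc, commute_N h hr, mul_assoc, commute_N h hn, ← mul_assoc, ← mul_assoc,
      commute_N h hn, mul_assoc (N F (chevE6.neg r)), commute_N h hr, ← mul_assoc]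
  rw [phi_apply, mul_add, add_mul, Finset.mul_sum, Finset.mul_sum, Finset.sum_mul, Finset.sum_mul]
  congr 1
  · refine Finset.sum_congr rfl fun i _ => ?_
    have h1 := List.all_eq_true.1 sr_all i.val (List.mem_range.2 i.isLt)
    simp only [Bool.and_eq_true, decide_eq_true_eq] at h1
    rw [mul_smul_comm, smul_mul_assoc, Hm_eq_Cm i.isLt, hC _ h1.1]
  · refine Finset.sum_congr rfl fun s _ => ?_
    rw [mul_smul_comm, smul_mul_assoc, commute_N h s.isLt]

theorem inList : Elts.InList chevE6 := by
  simp [Elts.InList]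

theorem rel_one : Rel (F := F) 1 1 := fun v => by rw [one_mul, Matrix.one_mulVec, mul_one]

theorem rel_mul {g g' : Matrix I27 I27 F} {k k' : Matrix chevE6.Idx chevE6.Idx F} (h : Rel g k) (h' : Rel g' k') :
    Rel (g * g') (k * k') := by
  intro v
  rw [mul_assoc, h' v, ← mul_assoc, h, mul_assoc, Matrix.mulVec_mulVec]

theorem rel_inv {g : GL I27 F} {k : GL chevE6.Idx F} (h : Rel (F := F) g k) :
    Rel (F := F) (g⁻¹ : GL I27 F) (k⁻¹ : GL chevE6.Idx F) := by
  intro v
  have h1 := h (((k⁻¹ : GL chevE6.Idx F) : Matrix chevE6.Idx chevE6.Idx F) *ᵥ v)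
  rw [Matrix.mulVec_mulVec, ← Units.val_mul, mul_inv_cancel, Units.val_one, Matrix.one_mulVec] at h1
  have h2 : ((g⁻¹ : GL I27 F) : Matrix I27 I27 F) * g = 1 := by
    rw [← Units.val_mul, inv_mul_cancel, Units.val_one]
  have h3 : (g : Matrix I27 I27 F) * ((g⁻¹ : GL I27 F) : Matrix I27 I27 F) = 1 := by
    rw [← Units.val_mul, mul_inv_cancel, Units.val_one]
  calc ((g⁻¹ : GL I27 F) : Matrix I27 I27 F) * phi F v
      = (g⁻¹ : GL I27 F) * (phi F v * g) * (g⁻¹ : GL I27 F) := by rw [mul_assoc, mul_assoc, h3, mul_one]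
    _ = _ := by rw [← h1, ← mul_assoc, h2, one_mul]

theorem rel_one_left {k : GL chevE6.Idx F} (h : Rel (F := F) 1 k) : k = 1 := by
  refine Units.ext ?_
  have h1 : ∀ v, (k : Matrix chevE6.Idx chevE6.Idx F) *ᵥ v = v := by
    intro v
    have := h v
    rw [one_mul, mul_one] at this
    exact (phi_injective this).symm
  ext a b
  have := congrFun (h1 (Pi.single b 1)) a
  rw [Matrix.mulVec_single_one] at this
  rw [Units.val_one, Matrix.one_apply, ← Pi.single_apply]
  exact this

/-- The group generated by the root elements, modulo its centre. -/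
theorem quot_equiv (F : Type u) [Field F] :
    Nonempty (Gam F ⧸ Subgroup.center (Gam F) ≃* ↥(chevE6.group F)) := by
  refine nonempty_equiv_of_rel (ι := Fin 72 × F) (Gam F) (chevE6.group F) (fun g k => Rel (F := F) g k) rel_one
    (fun g g' k k' h h' => ?_) (fun g k h => rel_inv h) (fun k h => rel_one_left h) (fun p => Z p.1 p.2)
    (fun p => Elts.xG inList p.1.val p.2) ?_ ?_ (fun p => ?_) (fun g => ?_)
  · exact rel_mul h h'
  · unfold Gam
    congr 1
    ext g
    constructor
    · rintro ⟨r, t, rfl⟩; exact ⟨(r, t), rfl⟩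
    · rintro ⟨⟨r, t⟩, rfl⟩; exact ⟨r, t, rfl⟩
  · unfold ChevalleyDatum.group
    congr 1
    ext g
    constructor
    · rintro ⟨r, t, h⟩
      refine ⟨(r, t), ?_⟩
      exact ((Elts.eq_xG_iff inList g r.val t).2 (h.trans (Elts.x_of_lt r.isLt t).symm)).symm
    · rintro ⟨⟨r, t⟩, rfl⟩
      exact ⟨r, t, Elts.x_of_lt r.isLt t⟩
  · exact rel_Z p.1.isLt p.2
  · constructor
    · intro h
      have hN : ∀ s : Fin 72, ((g : GL I27 F) : Matrix I27 I27 F) * N F s.val =
          N F s.val * ((g : GL I27 F) : Matrix I27 I27 F) := by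
        intro s
        have := h (ev chevE6 F s.val)
        rw [Units.val_one, Matrix.one_mulVec, phi_ev s.isLt] at this
        exact this
      rw [Subgroup.mem_center_iff]
      rintro ⟨x, hx⟩
      refine Subtype.ext ?_
      show x * (g : GL I27 F) = (g : GL I27 F) * x
      unfold Gam at hx
      induction hx using Subgroup.closure_induction with
      | mem x hx =>
        obtain ⟨r, t, rfl⟩ := hx
        refine Units.ext ?_
        rw [Units.val_mul, Units.val_mul, coe_Z, add_mul, mul_add, one_mul, mul_one, smul_mul_assoc, mul_smul_comm,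
          hN]
      | one => rw [one_mul, mul_one]
      | mul a b _ _ ha hb => rw [mul_assoc, hb, ← mul_assoc, ha, mul_assoc]
      | inv a _ ha => rw [inv_mul_eq_iff_eq_mul, ← mul_assoc, ha, mul_inv_cancel_right]
    · intro h v
      rw [Units.val_one, Matrix.one_mulVec]
      refine commute_phi (fun r t => ?_) v
      have := Subgroup.mem_center_iff.1 h ⟨Z r t, Z_mem_Gam r t⟩
      exact congrArg Subtype.val this

end Cfsg.Agent.ChevalleyStructure.E6Ad
end

-- part: ChevalleyStructure/E6AdCubic
section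
/-!
# The root elements of the 27-dimensional module of type `E₆` preserve the cubic form
-/

set_option autoImplicit false

namespace Cfsg.Agent.ChevalleyStructure.E6AdCubic

open Cfsg.Lie
open Cfsg.Agent.ChevalleyStructure.FastBase (force force_eq allLt allLt_iff)
open Cfsg.Agent.ChevalleyStructure.E6AdTab
open Cfsg.Agent.ChevalleyStructure.E6AdMat
open Cfsg.Agent.ChevalleyStructure.E6Ad
open Cfsg.Agent.ChevalleyStructure.E6Form.Cubic (mono term Q cubicT_eq cubicT_add_smul)
open scoped Matrix

universe u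

variable {F : Type u} [Field F]

/-! ### The transpose -/

theorem N_transpose_aux {r : ℕ} (hr : r < 72) {a b : I27} (h : N F r a b ≠ 0) :
    N F (chevE6.neg r) b a = N F r a b := by
  simp only [N, Matrix.of_apply] at h ⊢
  have hst : ∀ c : I27, st (num c) = 2 * (num c + 1) := fun _ => rfl
  have h1 : lk (P r) (st (num b)) / 2 = num a + 1 := by
    by_contra h'
    exact h (by rw [dec, if_neg h'])
  have h2 : lks (P (chevE6.neg r)) (lk (P r) (st (num b))) = st (num b) := by
    rcases (cor_facts hr (num_lt b)).2.2.1 with h' | h'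
    · omega
    · exact h'
  have h3 : lk (P (chevE6.neg r)) (st (num a)) = lk (P (chevE6.neg r)) (lk (P r) (st (num b))) :=
    lk_of_div (by rw [h1, hst]; omega)
  have h6 : dec F (st (num b)) b = 1 := by rw [dec_st, Pi.single_eq_same]
  rcases Nat.mod_two_eq_zero_or_one (lk (P r) (st (num b))) with h4 | h4
  · rw [lks_eq_of_even _ h4] at h2
    rw [h3, h2, h6, dec, if_pos h1, if_pos h4]
  · rw [lks_eq_of_odd _ h4] at h2
    have h5 : dec F (lk (P (chevE6.neg r)) (lk (P r) (st (num b)))) = - dec F (st (num b)) := by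
      have h7 := congrArg (dec F) h2
      rw [dec_xor] at h7
      rw [← h7, neg_neg]
    rw [h3, h5, Pi.neg_apply, h6, dec, if_pos h1, if_neg (by omega)]

theorem N_transpose {r : ℕ} (hr : r < 72) (a b : I27) : N F r a b = N F (chevE6.neg r) b a := by
  by_cases h : N F r a b = 0
  · by_cases h' : N F (chevE6.neg r) b a = 0
    · rw [h, h']
    · have := N_transpose_aux (root_facts hr).1 h'
      rw [(root_facts hr).2.2.1] at this
      exact this
  · exact (N_transpose_aux hr h).symm

/-! ### The checks -/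

/-- The coordinate with number `k`. -/
def ix (k : ℕ) : I27 := (⟨k / 9 % 3, Nat.mod_lt _ (by norm_num)⟩, ⟨k / 3 % 3, Nat.mod_lt _ (by norm_num)⟩,
  ⟨k % 3, Nat.mod_lt _ (by norm_num)⟩)

theorem ix_num (a : I27) : ix (num a) = a := by
  obtain ⟨i, j, k⟩ := a
  simp only [ix, num]
  refine Prod.ext (Fin.ext ?_) (Prod.ext (Fin.ext ?_) (Fin.ext ?_)) <;> simp only <;> omega

/-- The value of a state on a vector. -/
def vl (x : I27 → F) (w : ℕ) : F :=
  if w ≤ 1 then 0 else if w % 2 = 0 then x (ix (w / 2 - 1)) else - x (ix (w / 2 - 1))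

theorem N_mulVec {r : ℕ} (hr : r < 72) (x : I27 → F) (a : I27) :
    (N F r *ᵥ x) a = vl x (lk (P (chevE6.neg r)) (st (num a))) := by
  have h1 : (N F r *ᵥ x) a = ∑ b, dec F (lk (P (chevE6.neg r)) (st (num a))) b * x b := by
    rw [Matrix.mulVec, dotProduct]
    refine Finset.sum_congr rfl fun b _ => ?_
    rw [N_transpose hr]
    rfl
  rw [h1]
  have h56 := (cor_facts (root_facts hr).1 (num_lt a)).1
  generalize lk (P (chevE6.neg r)) (st (num a)) = w at h56
  rcases Nat.lt_or_ge w 2 with hw | hw
  · rw [dec_le_one (by omega), vl, if_pos (by omega)]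
    simp
  · obtain ⟨c, hc, ⟨h2, -, h3⟩ | ⟨h2, -, h3⟩⟩ := exists_dec (F := F) hw h56
    · rw [h3, vl, if_neg (by omega), if_pos h2, hc, Nat.add_sub_cancel, ix_num, Finset.sum_eq_single c]
      · rw [Pi.single_eq_same, one_mul]
      · intro b _ hb
        rw [Pi.single_eq_of_ne hb, zero_mul]
      · intro h; exact absurd (Finset.mem_univ _) h
    · rw [h3, vl, if_neg (by omega), if_neg (by omega), hc, Nat.add_sub_cancel, ix_num, Finset.sum_eq_single c]
      · rw [Pi.neg_apply, Pi.single_eq_same, neg_one_mul]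
      · intro b _ hb
        rw [Pi.neg_apply, Pi.single_eq_of_ne hb, neg_zero, zero_mul]
      · intro h; exact absurd (Finset.mem_univ _) h

/-- Code of a monomial of degree three. -/
def code (a b c : ℕ) : ℕ :=
  let p := min a b
  let q := max a b
  let t := max p c
  min p c + 32 * (min q t + 32 * max q t)

/-- The monomial with a given code. -/
def pc (x : ℕ → F) (n : ℕ) : F := x (n % 32) * (x (n / 32 % 32) * x (n / 32 / 32))

theorem min_max (x : ℕ → F) (a b : ℕ) : x (min a b) * x (max a b) = x a * x b := by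
  rcases le_total a b with h | h
  · rw [min_eq_left h, max_eq_right h]
  · rw [min_eq_right h, max_eq_left h, mul_comm]

theorem pc_code (x : ℕ → F) {a b c : ℕ} (ha : a < 27) (hb : b < 27) (hc : c < 27) :
    pc x (code a b c) = x a * x b * x c := by
  have h1 : pc x (code a b c) = x (min (min a b) c) * (x (min (max a b) (max (min a b) c)) *
      x (max (max a b) (max (min a b) c))) := by
    have e : ∀ lo mi hi : ℕ, lo < 32 → mi < 32 → pc x (lo + 32 * (mi + 32 * hi)) = x lo * (x mi * x hi) := by
      intro lo mi hi h1 h2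
      rw [pc]
      have e1 : (lo + 32 * (mi + 32 * hi)) % 32 = lo := by omega
      have e2 : (lo + 32 * (mi + 32 * hi)) / 32 = mi + 32 * hi := by omega
      have e3 : (mi + 32 * hi) % 32 = mi := by omega
      have e4 : (mi + 32 * hi) / 32 = hi := by omega
      rw [e1, e2, e3, e4]
    exact e _ _ _ (by omega) (by omega)
  rw [h1, min_max, mul_left_comm, min_max]
  rw [mul_comm (x (max a b)), mul_right_comm, min_max]

/-- The terms of the polar form `Q x (N_r x)` coming from one monomial: `q` is the packed matrix of `-r`. -/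
def tm (q : ℕ) (m : ℤ × I27 × I27 × I27) : List (ℤ × ℕ) :=
  [(m.1 * (if lk q (st (num m.2.2.2)) % 2 = 0 then 1 else -1), lk q (st (num m.2.2.2)),
      code (num m.2.1) (num m.2.2.1) (lk q (st (num m.2.2.2)) / 2 - 1)),
    (m.1 * (if lk q (st (num m.2.2.1)) % 2 = 0 then 1 else -1), lk q (st (num m.2.2.1)),
      code (num m.2.1) (lk q (st (num m.2.2.1)) / 2 - 1) (num m.2.2.2)),
    (m.1 * (if lk q (st (num m.2.1)) % 2 = 0 then 1 else -1), lk q (st (num m.2.1)),
      code (lk q (st (num m.2.1)) / 2 - 1) (num m.2.2.1) (num m.2.2.2))].filterMap fun e =>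
        if e.2.1 ≤ 1 then none else some (e.1, e.2.2)

/-- The check that `Q x (N_r x) = 0`. -/
def qOK (r : ℕ) : Bool :=
  force (P (chevE6.neg r)) fun q =>
  let L := mono.flatMap (tm q)
  L.all (fun e => decide (e.1 = 1 ∨ e.1 = -1)) &&
  ((L.filter fun e => decide (e.1 = 1)).map Prod.snd).isPerm ((L.filter fun e => !decide (e.1 = 1)).map Prod.snd) &&
  mono.all fun m => (Nat.ble (lk q (st (num m.2.1))) 1 && Nat.ble (lk q (st (num m.2.2.1))) 1) ||
    (Nat.ble (lk q (st (num m.2.1))) 1 && Nat.ble (lk q (st (num m.2.2.2))) 1) ||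
    (Nat.ble (lk q (st (num m.2.2.1))) 1 && Nat.ble (lk q (st (num m.2.2.2))) 1)

set_option maxRecDepth 100000 in
theorem qOK_all : (List.range 72).all qOK = true := by decide +kernel

/-- The value of an element of the list `tm`. -/
def gv (x : I27 → F) (e : ℤ × ℕ) : F := (e.1 : F) * pc (fun k => x (ix k)) e.2

theorem sum_filterMap (x : I27 → F) (l : List (ℤ × ℕ × ℕ)) :
    ((l.filterMap fun e => if e.2.1 ≤ 1 then none else some (e.1, e.2.2)).map (gv x)).sum =
      (l.map fun e => if e.2.1 ≤ 1 then 0 else gv x (e.1, e.2.2)).sum := by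
  induction l with
  | nil => rfl
  | cons e l ih =>
    rw [List.filterMap_cons, List.map_cons, List.sum_cons]
    by_cases h : e.2.1 ≤ 1
    · simp only [if_pos h, zero_add]
      exact ih
    · simp only [if_neg h, List.map_cons, List.sum_cons]
      rw [ih]

theorem gv_eq (x : I27 → F) (c : ℤ) {w n : ℕ} {a b : F} (h : 2 ≤ w →
    pc (fun k => x (ix k)) n = a * b * x (ix (w / 2 - 1))) :
    (if w ≤ 1 then 0 else gv x (c * (if w % 2 = 0 then 1 else -1), n)) = (c : F) * (a * b * vl x w) := by
  by_cases hw : w ≤ 1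
  · rw [if_pos hw, vl, if_pos hw, mul_zero, mul_zero]
  · rw [if_neg hw, vl, if_neg hw, gv, h (by omega)]
    by_cases h2 : w % 2 = 0
    · rw [if_pos h2, if_pos h2, mul_one]
    · rw [if_neg h2, if_neg h2]
      push_cast
      ring

theorem tm_sum {r : ℕ} (hr : r < 72) (x : I27 → F) (m : ℤ × I27 × I27 × I27) :
    term m x x (N F r *ᵥ x) + term m x (N F r *ᵥ x) x + term m (N F r *ᵥ x) x x =
      ((tm (P (chevE6.neg r)) m).map (gv x)).sum := by
  have h56 : ∀ a, lk (P (chevE6.neg r)) (st (num a)) < 56 := fun a => (cor_facts (root_facts hr).1 (num_lt a)).1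
  rw [tm, sum_filterMap]
  simp only [List.map_cons, List.map_nil, List.sum_cons, List.sum_nil, add_zero]
  rw [gv_eq x m.1 (a := x m.2.1) (b := x m.2.2.1) fun h => by
      rw [pc_code _ (num_lt _) (num_lt _) (by have := h56 m.2.2.2; omega), ix_num, ix_num],
    gv_eq x m.1 (a := x m.2.1) (b := x m.2.2.2) fun h => by
      rw [pc_code _ (num_lt _) (by have := h56 m.2.2.1; omega) (num_lt _), ix_num, ix_num]; ring,
    gv_eq x m.1 (a := x m.2.2.1) (b := x m.2.2.2) fun h => by
      rw [pc_code _ (by have := h56 m.2.1; omega) (num_lt _) (num_lt _), ix_num, ix_num]; ring]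
  simp only [term, N_mulVec hr]
  ring

theorem sum_split (x : I27 → F) (L : List (ℤ × ℕ)) (h : ∀ e ∈ L, e.1 = 1 ∨ e.1 = -1) :
    (L.map (gv x)).sum = (((L.filter fun e => decide (e.1 = 1)).map Prod.snd).map (pc fun k => x (ix k))).sum -
      (((L.filter fun e => !decide (e.1 = 1)).map Prod.snd).map (pc fun k => x (ix k))).sum := by
  induction L with
  | nil => simp
  | cons e L ih =>
    have ih' := ih fun e he => h e (List.mem_cons_of_mem _ he)
    rw [List.map_cons, List.sum_cons, ih', List.filter_cons, List.filter_cons, gv]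
    rcases h e List.mem_cons_self with h1 | h1
    · rw [if_pos (by simp [h1]), if_neg (by simp [h1]), List.map_cons, List.map_cons, List.sum_cons, h1]
      push_cast; ring
    · rw [if_neg (by simp [h1]), if_pos (by simp [h1]), List.map_cons, List.map_cons, List.sum_cons, h1]
      push_cast; ring

theorem qOK_facts {r : ℕ} (hr : r < 72) :
    (∀ e ∈ mono.flatMap (tm (P (chevE6.neg r))), e.1 = 1 ∨ e.1 = -1) ∧
    (((mono.flatMap (tm (P (chevE6.neg r)))).filter fun e => decide (e.1 = 1)).map Prod.snd).Perm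
      (((mono.flatMap (tm (P (chevE6.neg r)))).filter fun e => !decide (e.1 = 1)).map Prod.snd) ∧
    ∀ m ∈ mono, (lk (P (chevE6.neg r)) (st (num m.2.1)) ≤ 1 ∧ lk (P (chevE6.neg r)) (st (num m.2.2.1)) ≤ 1) ∨
      (lk (P (chevE6.neg r)) (st (num m.2.1)) ≤ 1 ∧ lk (P (chevE6.neg r)) (st (num m.2.2.2)) ≤ 1) ∨
      (lk (P (chevE6.neg r)) (st (num m.2.2.1)) ≤ 1 ∧ lk (P (chevE6.neg r)) (st (num m.2.2.2)) ≤ 1) := by
  have h := List.all_eq_true.1 qOK_all r (List.mem_range.2 hr)
  simp only [qOK, force_eq, Bool.and_eq_true, List.isPerm_iff] at h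
  obtain ⟨⟨h1, h2⟩, h3⟩ := h
  refine ⟨fun e he => of_decide_eq_true (List.all_eq_true.1 h1 e he), h2, fun m hm => ?_⟩
  have := List.all_eq_true.1 h3 m hm
  simp only [Bool.and_eq_true, Bool.or_eq_true, Nat.ble_eq] at this
  exact or_assoc.1 this

theorem Q_N {r : ℕ} (hr : r < 72) (x : I27 → F) : Q x (N F r *ᵥ x) = 0 := by
  obtain ⟨h1, h2, -⟩ := qOK_facts hr
  have h3 : Q x (N F r *ᵥ x) = ((mono.flatMap (tm (P (chevE6.neg r)))).map (gv x)).sum := by
    rw [Q]
    generalize mono = l
    induction l with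
    | nil => rfl
    | cons m l ih =>
      rw [List.map_cons, List.sum_cons, ih, List.flatMap_cons, List.map_append, List.sum_append, tm_sum hr]
  rw [h3, sum_split x _ h1, (h2.map _).sum_eq, sub_self]

theorem two_zero {r : ℕ} (hr : r < 72) (x : I27 → F) {m : ℤ × I27 × I27 × I27} (hm : m ∈ mono) :
    ((N F r *ᵥ x) m.2.1 = 0 ∧ (N F r *ᵥ x) m.2.2.1 = 0) ∨ ((N F r *ᵥ x) m.2.1 = 0 ∧ (N F r *ᵥ x) m.2.2.2 = 0) ∨
      ((N F r *ᵥ x) m.2.2.1 = 0 ∧ (N F r *ᵥ x) m.2.2.2 = 0) := by
  simp only [N_mulVec hr]
  rcases (qOK_facts hr).2.2 m hm with ⟨h1, h2⟩ | ⟨h1, h2⟩ | ⟨h1, h2⟩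
  · exact Or.inl ⟨if_pos h1, if_pos h2⟩
  · exact Or.inr (Or.inl ⟨if_pos h1, if_pos h2⟩)
  · exact Or.inr (Or.inr ⟨if_pos h1, if_pos h2⟩)

theorem sum_zero {α : Type*} (l : List α) (f : α → F) (h : ∀ m ∈ l, f m = 0) : (l.map f).sum = 0 := by
  induction l with
  | nil => rfl
  | cons m l ih =>
    rw [List.map_cons, List.sum_cons, h m List.mem_cons_self, ih fun m hm => h m (List.mem_cons_of_mem _ hm), add_zero]

theorem Q_N' {r : ℕ} (hr : r < 72) (x : I27 → F) : Q (N F r *ᵥ x) x = 0 := by
  rw [Q]
  refine sum_zero _ _ fun m hm => ?_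
  simp only [term]
  rcases two_zero hr x hm with ⟨h1, h2⟩ | ⟨h1, h2⟩ | ⟨h1, h2⟩ <;> rw [h1, h2] <;> ring

theorem cubicT_N {r : ℕ} (hr : r < 72) (x : I27 → F) : cubicT (N F r *ᵥ x) = 0 := by
  rw [cubicT_eq]
  refine sum_zero _ _ fun m hm => ?_
  simp only [term]
  rcases two_zero hr x hm with ⟨h1, h2⟩ | ⟨h1, h2⟩ | ⟨h1, h2⟩ <;> rw [h1, h2] <;> ring

/-- The root elements preserve the cubic form. -/
theorem Z_mem (r : Fin 72) (t : F) : Z r t ∈ E6univ F := by
  have h : ∀ v, cubicT ((Units.coeHom (Matrix I27 I27 F) (Z r t)) *ᵥ v) = cubicT v := by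
    intro v
    rw [Units.coeHom_apply, coe_Z, Matrix.add_mulVec, Matrix.one_mulVec, Matrix.smul_mulVec, cubicT_add_smul,
      Q_N r.isLt, Q_N' r.isLt, cubicT_N r.isLt]
    ring
  exact h

theorem Gam_le : Gam F ≤ E6univ F := by
  unfold Gam
  rw [Subgroup.closure_le]
  rintro _ ⟨r, t, rfl⟩
  exact Z_mem r t

/-- If the isometries of the cubic form are generated by the root elements, then the isometry group modulo its centre is
the Chevalley group. -/
theorem main (h : E6univ F ≤ Subgroup.closure {g | ∃ (r : Fin 72) (t : F), g = Z r t}) :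
    Nonempty (E6 F ≃* ↥(chevE6.group F)) := by
  have h1 : E6univ F = Gam F := le_antisymm h Gam_le
  have h2 := quot_equiv F
  rw [← h1] at h2
  exact h2

end Cfsg.Agent.ChevalleyStructure.E6AdCubic
end
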