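import Cfsg.Agent.ChevalleyStructure.G2Perm
set_option linter.all false

/-!
Type G₂, any field: `H` is normal in `N`, `N = H ⟨n_a, n_b⟩`, every element of `N` is `h (n_a n_b)^k n_a^e`, and an
element of `N` fixing all the root lines lies in `H`.
-/

set_option autoImplicit false

namespace Cfsg.Agent.ChevalleyStructure.G2Mono

open Cfsg.Lie Cfsg.Agent.ChevalleyStructure.G2Sym Cfsg.Agent.ChevalleyStructure.G2N
  Cfsg.Agent.ChevalleyStructure.G2Perm

/-! ### Abstract group theory -/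

section abs
variable {G : Type*} [Group G] {H : Subgroup G}

theorem mem_normalizer_of {a : G} (ha : ∀ h ∈ H, a * h * a⁻¹ ∈ H) (ha2 : a * a ∈ H) :
    a ∈ Subgroup.normalizer (H : Set G) := by
  rw [Subgroup.mem_normalizer_iff]
  intro h
  refine ⟨ha h, fun hh => ?_⟩
  have h1 := ha _ hh
  have h2 : h = (a * a)⁻¹ * (a * (a * h * a⁻¹) * a⁻¹) * (a * a) := by group
  rw [h2]
  exact H.mul_mem (H.mul_mem (H.inv_mem ha2) h1) ha2

theorem exists_rep {a b : G} (ha : ∀ h ∈ H, a * h * a⁻¹ ∈ H) (hb : ∀ h ∈ H, b * h * b⁻¹ ∈ H) (ha2 : a * a ∈ H)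
    (hb2 : b * b ∈ H) {g : G} (hg : g ∈ H ⊔ Subgroup.closure {a, b}) :
    ∃ h ∈ H, ∃ k : ℤ, ∃ e : ℕ, e < 2 ∧ g = h * (a * b) ^ k * a ^ e := by
  have hna := mem_normalizer_of ha ha2
  have hnb := mem_normalizer_of hb hb2
  have hnc : ∀ k : ℤ, (a * b) ^ k ∈ Subgroup.normalizer (H : Set G) := fun k =>
    Subgroup.zpow_mem _ (Subgroup.mul_mem _ hna hnb) k
  have key : ∀ x ∈ Subgroup.normalizer (H : Set G), ∀ h ∈ H, x * h * x⁻¹ ∈ H := fun x hx h hh =>
    (Subgroup.mem_normalizer_iff.1 hx h).1 hh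
  -- right multiplication by `H`
  have stepH : ∀ g : G, (∃ h ∈ H, ∃ k : ℤ, ∃ e : ℕ, e < 2 ∧ g = h * (a * b) ^ k * a ^ e) → ∀ h' ∈ H,
      ∃ h ∈ H, ∃ k : ℤ, ∃ e : ℕ, e < 2 ∧ g * h' = h * (a * b) ^ k * a ^ e := by
    rintro g ⟨h, hh, k, e, he, rfl⟩ h' hh'
    have hx : (a * b) ^ k * a ^ e ∈ Subgroup.normalizer (H : Set G) :=
      Subgroup.mul_mem _ (hnc k) (Subgroup.pow_mem _ hna e)
    refine ⟨h * (((a * b) ^ k * a ^ e) * h' * ((a * b) ^ k * a ^ e)⁻¹), H.mul_mem hh (key _ hx _ hh'), k, e, he, ?_⟩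
    group
  have stepa : ∀ g : G, (∃ h ∈ H, ∃ k : ℤ, ∃ e : ℕ, e < 2 ∧ g = h * (a * b) ^ k * a ^ e) →
      ∃ h ∈ H, ∃ k : ℤ, ∃ e : ℕ, e < 2 ∧ g * a = h * (a * b) ^ k * a ^ e := by
    rintro g ⟨h, hh, k, e, he, rfl⟩
    obtain rfl | rfl : e = 0 ∨ e = 1 := by omega
    · exact ⟨h, hh, k, 1, by norm_num, by group⟩
    · refine ⟨h * ((a * b) ^ k * (a * a) * ((a * b) ^ k)⁻¹), H.mul_mem hh (key _ (hnc k) _ ha2), k, 0, by norm_num, ?_⟩
      rw [pow_one, pow_zero, mul_one]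
      simp only [mul_assoc, inv_mul_cancel, mul_one]
  have stepb : ∀ g : G, (∃ h ∈ H, ∃ k : ℤ, ∃ e : ℕ, e < 2 ∧ g = h * (a * b) ^ k * a ^ e) →
      ∃ h ∈ H, ∃ k : ℤ, ∃ e : ℕ, e < 2 ∧ g * b = h * (a * b) ^ k * a ^ e := by
    rintro g ⟨h, hh, k, e, he, rfl⟩
    obtain rfl | rfl : e = 0 ∨ e = 1 := by omega
    · refine ⟨h * (((a * b) ^ (k - 1) * a) * (b * b) * ((a * b) ^ (k - 1) * a)⁻¹),
        H.mul_mem hh (key _ (Subgroup.mul_mem _ (hnc (k - 1)) hna) _ hb2), k - 1, 1, by norm_num, ?_⟩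
      have h1 : (a * b) ^ k = (a * b) ^ (k - 1) * (a * b) := by
        rw [← zpow_add_one, sub_add_cancel]
      rw [h1]
      group
    · refine ⟨h, hh, k + 1, 0, by norm_num, ?_⟩
      rw [zpow_add_one, pow_one, pow_zero, mul_one, mul_assoc, mul_assoc]
  have hcl : H ⊔ Subgroup.closure {a, b} = Subgroup.closure ((H : Set G) ∪ {a, b}) := by
    rw [Subgroup.closure_union, Subgroup.closure_eq]
  rw [hcl] at hg
  induction hg using Subgroup.closure_induction_right with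
  | one => exact ⟨1, H.one_mem, 0, 0, by norm_num, by simp⟩
  | mul_right x hx y hy ih =>
    rcases hy with hy | rfl | rfl
    · exact stepH x ih y hy
    · exact stepa x ih
    · exact stepb x ih
  | mul_inv_cancel x hx y hy ih =>
    rcases hy with hy | rfl | rfl
    · exact stepH x ih _ (H.inv_mem hy)
    · have h1 := stepH _ (stepa x ih) _ (H.inv_mem ha2)
      have h2 : x * y * (y * y)⁻¹ = x * y⁻¹ := by group
      rwa [h2] at h1
    · have h1 := stepH _ (stepb x ih) _ (H.inv_mem hb2)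
      have h2 : x * y * (y * y)⁻¹ = x * y⁻¹ := by group
      rwa [h2] at h1

end abs

theorem zpow_reduce {G : Type*} [Group G] (c : G) (hc : c ^ 6 = 1) (k : ℤ) (k' : ℕ) (hk : k % 6 = k') :
    c ^ k = c ^ k' := by
  conv_lhs => rw [← Int.emod_add_mul_ediv k 6]
  rw [zpow_add, zpow_mul, hk]
  have : c ^ (6 : ℤ) = 1 := by exact_mod_cast hc
  rw [this, one_zpow, mul_one, zpow_natCast]

variable {F : Type*} [Field F]

/-! ### The subgroups `H` and `N` of type G₂ -/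

theorem hG_mem {r : ℕ} (hr : r < 12) {t : F} (ht : t ≠ 0) : hG r t ∈ chevG2.diagonalSubgroup F :=
  Subgroup.subset_closure ⟨r, t, hr, ht, coe_hG r t⟩

theorem nG_mem {r : ℕ} (hr : r < 12) : nG r (1 : F) ∈ chevG2.monomialSubgroup F :=
  (le_sup_right : _ ≤ chevG2.monomialSubgroup F) (Subgroup.subset_closure ⟨r, hr, coe_nG r 1⟩)

theorem diagonal_le : chevG2.diagonalSubgroup F ≤ chevG2.monomialSubgroup F := le_sup_left

/-- an induction principle for `H` -/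
theorem diagonal_le_iff {K : Subgroup (GL chevG2.Idx F)} :
    chevG2.diagonalSubgroup F ≤ K ↔ ∀ r < 12, ∀ t : F, t ≠ 0 → hG r t ∈ K := by
  constructor
  · intro h r hr t ht
    exact h (hG_mem hr ht)
  · intro h
    refine (Subgroup.closure_le K).2 ?_
    rintro g ⟨r, t, hr, ht, hg⟩
    have : g = hG r t := Units.ext (hg.trans (coe_hG r t).symm)
    rw [this]
    exact h r hr t ht

theorem hG_neg_one_inv (r : ℕ) : (hG r (-1 : F))⁻¹ = nG r 1 * nG r 1 := by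
  rw [hG, mul_inv_rev, nG_inv, neg_neg]

theorem nG_sq_mem {r : ℕ} (hr : r < 12) : nG r (1 : F) * nG r 1 ∈ chevG2.diagonalSubgroup F := by
  rw [← hG_neg_one_inv]
  exact Subgroup.inv_mem _ (hG_mem hr (by simp))

theorem conj_h_mem {p : ℕ} (hp : p = 7 ∨ p = 6) {s : ℕ} (hs : s < 12) {t : F} (ht : t ≠ 0) :
    nG p 1 * hG s t * (nG p 1)⁻¹ ∈ chevG2.diagonalSubgroup F := by
  have hp' : p < 12 := by rcases hp with rfl | rfl <;> norm_num
  have hW := W_lt p s hp' hs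
  have e1 : nG p 1 * hG s t * (nG p 1)⁻¹ = (nG p 1 * nG s t * (nG p 1)⁻¹) * (nG p 1 * nG s (-1) * (nG p 1)⁻¹) := by
    rw [hG]
    group
  rw [e1, conj_n hp hs, conj_n hp hs]
  rcases E_cast (F := F) p s hp' hs with h | h
  · rw [h, one_mul, one_mul]
    exact hG_mem hW ht
  · rw [h, neg_one_mul, neg_one_mul, neg_neg]
    have e2 : nG (W p s) (-t) * nG (W p s) 1 = hG (W p s) (-t) * (hG (W p s) (-1))⁻¹ := by
      have h3 : nG (W p s) (-1 : F) = (nG (W p s) 1)⁻¹ := (nG_inv _ _).symm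
      rw [hG_neg_one_inv, hG, h3]
      group
    rw [e2]
    exact Subgroup.mul_mem _ (hG_mem hW (neg_ne_zero.2 ht)) (Subgroup.inv_mem _ (hG_mem hW (by simp)))

theorem conj_diagonal_mem {p : ℕ} (hp : p = 7 ∨ p = 6) : ∀ h ∈ chevG2.diagonalSubgroup F,
    nG p (1 : F) * h * (nG p 1)⁻¹ ∈ chevG2.diagonalSubgroup F := by
  intro h hh
  have h1 : chevG2.diagonalSubgroup F ≤ (chevG2.diagonalSubgroup F).comap (MulAut.conj (nG p (1 : F))).toMonoidHom := by
    rw [diagonal_le_iff]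
    intro r hr t ht
    exact conj_h_mem hp hr ht
  exact h1 hh

/-- all `n_r` lie in `⟨H, n_a, n_b⟩` -/
theorem nG_mem_sup {r : ℕ} (hr : r < 12) :
    nG r (1 : F) ∈ chevG2.diagonalSubgroup F ⊔ Subgroup.closure {nG 7 (1 : F), nG 6 1} := by
  set M := chevG2.diagonalSubgroup F ⊔ Subgroup.closure {nG 7 (1 : F), nG 6 1} with hM
  have h7 : nG 7 (1 : F) ∈ M := (le_sup_right : _ ≤ M) (Subgroup.subset_closure (Set.mem_insert _ _))
  have h6 : nG 6 (1 : F) ∈ M :=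
    (le_sup_right : _ ≤ M) (Subgroup.subset_closure (Set.mem_insert_of_mem _ (Set.mem_singleton _)))
  have step : ∀ p : ℕ, p = 7 ∨ p = 6 → nG p (1 : F) ∈ M → ∀ s < 12, nG s (1 : F) ∈ M → nG (W p s) (1 : F) ∈ M := by
    intro p hp hpM s hs hsM
    have hp' : p < 12 := by rcases hp with rfl | rfl <;> norm_num
    have h1 : nG p 1 * nG s 1 * (nG p 1)⁻¹ ∈ M := M.mul_mem (M.mul_mem hpM hsM) (M.inv_mem hpM)
    rw [conj_n hp hs, mul_one] at h1
    rcases E_cast (F := F) p s hp' hs with h | h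
    · rwa [h] at h1
    · rw [h, ← nG_inv] at h1
      exact (M.inv_mem_iff).1 h1
  have s7 := fun s hs h => step 7 (Or.inl rfl) h7 s hs h
  have s6 := fun s hs h => step 6 (Or.inr rfl) h6 s hs h
  have h4 : nG 4 (1 : F) ∈ M := s7 7 (by norm_num) h7
  have h5 : nG 5 (1 : F) ∈ M := s6 6 (by norm_num) h6
  have h10 : nG 10 (1 : F) ∈ M := s7 6 (by norm_num) h6
  have h8 : nG 8 (1 : F) ∈ M := s6 7 (by norm_num) h7
  have h11 : nG 11 (1 : F) ∈ M := s6 10 (by norm_num) h10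
  have h9 : nG 9 (1 : F) ∈ M := s7 8 (by norm_num) h8
  have h3 : nG 3 (1 : F) ∈ M := s6 4 (by norm_num) h4
  have h1 : nG 1 (1 : F) ∈ M := s7 5 (by norm_num) h5
  have h2 : nG 2 (1 : F) ∈ M := s7 3 (by norm_num) h3
  have h0 : nG 0 (1 : F) ∈ M := s6 1 (by norm_num) h1
  interval_cases r <;> assumption

/-- `N = ⟨H, n_a, n_b⟩` -/
theorem monomial_eq : chevG2.monomialSubgroup F =
    chevG2.diagonalSubgroup F ⊔ Subgroup.closure {nG 7 (1 : F), nG 6 1} := by
  apply le_antisymm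
  · refine sup_le le_sup_left ((Subgroup.closure_le _).2 ?_)
    rintro g ⟨r, hr, hg⟩
    have : g = nG r 1 := Units.ext (hg.trans (coe_nG r 1).symm)
    rw [this]
    exact nG_mem_sup hr
  · refine sup_le diagonal_le ((Subgroup.closure_le _).2 ?_)
    rintro g (rfl | rfl)
    · exact nG_mem (by norm_num)
    · exact nG_mem (by norm_num)

/-- Every element of `N` is `h (n_a n_b)^k n_a^e`. -/
theorem exists_rep_monomial {g : GL chevG2.Idx F} (hg : g ∈ chevG2.monomialSubgroup F) :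
    ∃ h ∈ chevG2.diagonalSubgroup F, ∃ k : ℤ, ∃ e : ℕ, e < 2 ∧ g = h * (nG 7 1 * nG 6 1) ^ k * nG 7 1 ^ e := by
  rw [monomial_eq] at hg
  exact exists_rep (conj_diagonal_mem (Or.inl rfl)) (conj_diagonal_mem (Or.inr rfl)) (nG_sq_mem (by norm_num))
    (nG_sq_mem (by norm_num)) hg

theorem hasPerm_of_mem_diagonal {h : GL chevG2.Idx F} (hh : h ∈ chevG2.diagonalSubgroup F) : HasPerm h 1 := by
  have h1 : chevG2.diagonalSubgroup F ≤
      { carrier := {g : GL chevG2.Idx F | HasPerm g 1}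
        mul_mem' := fun {a b} ha hb => by
          have := HasPerm.mul (show HasPerm a 1 from ha) (show HasPerm b 1 from hb)
          simpa using this
        one_mem' := HasPerm.one
        inv_mem' := fun {a} ha => by
          have := HasPerm.inv (show HasPerm a 1 from ha)
          simpa using this } := by
    rw [diagonal_le_iff]
    intro r hr t ht
    exact hasPerm_h ⟨r, hr⟩ ht
  exact h1 hh

/-- the pairs (monomial matrix, permutation) -/
def pairs (F : Type*) [Field F] : Subgroup (GL chevG2.Idx F × Equiv.Perm (Fin 12)) where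
  carrier := {x | HasPerm x.1 x.2}
  mul_mem' := fun {_ _} ha hb => HasPerm.mul ha hb
  one_mem' := HasPerm.one
  inv_mem' := fun {_} ha => HasPerm.inv ha

theorem hasPerm_zpow {g : GL chevG2.Idx F} {π : Equiv.Perm (Fin 12)} (h : HasPerm g π) (k : ℤ) :
    HasPerm (g ^ k) (π ^ k) :=
  (pairs F).zpow_mem (show (g, π) ∈ pairs F from h) k

theorem hasPerm_pow {g : GL chevG2.Idx F} {π : Equiv.Perm (Fin 12)} (h : HasPerm g π) (k : ℕ) :
    HasPerm (g ^ k) (π ^ k) :=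
  (pairs F).pow_mem (show (g, π) ∈ pairs F from h) k

def cW : List (ℕ × Poly) := nW 7 ++ nW 6

theorem check_c6 : chk 0 (cW ++ cW ++ cW ++ cW ++ cW ++ cW) [] = true := by decide +kernel

/-- `(n_a n_b)^6 = 1` -/
theorem c_pow_six : (nG 7 (1 : F) * nG 6 1) ^ 6 = 1 := by
  apply Units.ext
  have h := word_eq (F := F) cast_zero_int (fun _ => 0) _ _ check_c6
  have h7 : chevG2.wordMat F ((nW 7).map fun l => (l.1, evP (fun _ => (0 : F)) l.2)) = (nG 7 (1 : F)).1 := by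
    rw [coe_nG]
    have := neg_eq (r := 7) (by norm_num)
    simp [nW, evP_cst, ChevalleyDatum.nMat, ChevalleyDatum.nWord, this]
  have h6 : chevG2.wordMat F ((nW 6).map fun l => (l.1, evP (fun _ => (0 : F)) l.2)) = (nG 6 (1 : F)).1 := by
    rw [coe_nG]
    have := neg_eq (r := 6) (by norm_num)
    simp [nW, evP_cst, ChevalleyDatum.nMat, ChevalleyDatum.nWord, this]
  have happ : ∀ w w' : List (ℕ × F), chevG2.wordMat F (w ++ w') = chevG2.wordMat F w * chevG2.wordMat F w' := by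
    intro w w'
    simp [ChevalleyDatum.wordMat]
  simp only [cW, List.map_append, happ, h7, h6] at h
  have h0 : chevG2.wordMat F [] = 1 := rfl
  rw [List.map_nil, h0] at h
  rw [Units.val_pow_eq_pow_val, Units.val_mul]
  simp only [pow_succ, pow_zero, one_mul]
  exact h

theorem perm_check : ∀ k : Fin 6, ∀ e : Fin 2, (wP 7 * wP 6) ^ k.val * (wP 7) ^ e.val = 1 → k.val = 0 ∧ e.val = 0 := by
  decide +kernel

/-- Every element of `N` is `h (n_a n_b)^k n_a^e` with `h ∈ H`, `k < 6`, `e < 2`; its permutation of the roots is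
`(w_a w_b)^k w_a^e`. -/
theorem exists_rep_hasPerm {g : GL chevG2.Idx F} (hg : g ∈ chevG2.monomialSubgroup F) :
    ∃ h ∈ chevG2.diagonalSubgroup F, ∃ k : Fin 6, ∃ e : Fin 2,
      g = h * ((nG 7 1 * nG 6 1) ^ k.val * nG 7 1 ^ e.val) ∧ HasPerm g ((wP 7 * wP 6) ^ k.val * (wP 7) ^ e.val) := by
  obtain ⟨h, hh, k, e, he, rfl⟩ := exists_rep_monomial hg
  have hk0 : 0 ≤ k % 6 := Int.emod_nonneg k (by norm_num)
  have hk1 : k % 6 < 6 := Int.emod_lt_of_pos k (by norm_num)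
  obtain ⟨k', hk'⟩ := Int.eq_ofNat_of_zero_le hk0
  have hk6 : k' < 6 := by omega
  have hc : (nG 7 (1 : F) * nG 6 1) ^ k = (nG 7 (1 : F) * nG 6 1) ^ k' :=
    zpow_reduce _ c_pow_six k k' hk'
  have h7 : HasPerm (nG 7 (1 : F)) (wP 7) := hasPerm_n_one 7
  have h6 : HasPerm (nG 6 (1 : F)) (wP 6) := hasPerm_n_one 6
  have h1 : HasPerm ((nG 7 (1 : F) * nG 6 1) ^ k') ((wP 7 * wP 6) ^ k') := hasPerm_pow (h7.mul h6) k'
  have h2 : HasPerm (nG 7 (1 : F) ^ e) (wP 7 ^ e) := hasPerm_pow h7 e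
  have h3 : HasPerm (h * ((nG 7 (1 : F) * nG 6 1) ^ k' * nG 7 (1 : F) ^ e)) (1 * ((wP 7 * wP 6) ^ k' * wP 7 ^ e)) :=
    (hasPerm_of_mem_diagonal hh).mul (h1.mul h2)
  rw [one_mul ((wP 7 * wP 6) ^ k' * wP 7 ^ e)] at h3
  have h4 : h * (nG 7 (1 : F) * nG 6 1) ^ k * nG 7 (1 : F) ^ e =
      h * ((nG 7 (1 : F) * nG 6 1) ^ k' * nG 7 (1 : F) ^ e) := by rw [hc, mul_assoc]
  exact ⟨h, hh, ⟨k', hk6⟩, ⟨e, he⟩, h4, h4 ▸ h3⟩

/-- An element of `N` fixing all root lines lies in `H`. -/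
theorem mem_diagonal_of_hasPerm_one {g : GL chevG2.Idx F} (hg : g ∈ chevG2.monomialSubgroup F) (h1 : HasPerm g 1) :
    g ∈ chevG2.diagonalSubgroup F := by
  obtain ⟨h, hh, k, e, rfl, hp⟩ := exists_rep_hasPerm hg
  obtain ⟨hk, he⟩ := perm_check k e (hp.unique h1)
  rw [hk, he, pow_zero, pow_zero, mul_one, mul_one]
  exact hh

end Cfsg.Agent.ChevalleyStructure.G2Mono
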