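import Mathlib
import Cfsg.Prelude.Def_ChevWords
set_option linter.all false

-- part: ChevalleyStructure/GraphSparse
section
/-!
Sparse vectors with polynomial coefficients modulo a prime `p`, as lists of triples
(index, exponent, coefficient), with kernel-friendly operations and their soundness over any field of
characteristic `p`.
-/
set_option autoImplicit false

namespace Cfsg.Agent.ChevalleyStructure.GraphSparse

/-- A sparse vector: list of (index, exponent of `t`, coefficient). -/
abbrev SV := List (ℕ × ℕ × ℕ)

section defs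

/-- multiply by `c t^k` -/
noncomputable def scale (k c : ℕ) (v : SV) : SV :=
  List.rec [] (fun q _ ih => (q.1, q.2.1 + k, q.2.2 * c) :: ih) v

/-- concatenation -/
noncomputable def app (u v : SV) : SV := List.rec v (fun q _ ih => q :: ih) u

/-- apply the linear map with columns `col` -/
noncomputable def ap (col : ℕ → SV) (v : SV) : SV :=
  List.rec [] (fun q _ ih => app (scale q.2.1 q.2.2 (col q.1)) ih) v

/-- apply the bilinear map with table `act` -/
noncomputable def ap2 (act : ℕ → ℕ → SV) (u v : SV) : SV :=
  List.rec [] (fun q _ ih => app (scale q.2.1 q.2.2 (ap (fun i => act i q.1) u)) ih) v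

/-- substitute `t ↦ t^k` -/
noncomputable def pw (k : ℕ) (v : SV) : SV :=
  List.rec [] (fun q _ ih => (q.1, q.2.1 * k, q.2.2) :: ih) v

/-- insert a term, merging with an existing term with the same key, modulo `p` -/
noncomputable def ins (p : ℕ) (q : ℕ × ℕ × ℕ) (v : SV) : SV :=
  List.rec (bif Nat.beq (q.2.2 % p) 0 then [] else [q])
    (fun q' l ih =>
      bif Nat.beq q'.1 q.1 then
        (bif Nat.beq q'.2.1 q.2.1 then
          (bif Nat.beq ((q.2.2 + q'.2.2) % p) 0 then l else (q.1, q.2.1, (q.2.2 + q'.2.2) % p) :: l)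
        else q' :: ih)
      else q' :: ih) v

/-- normal form -/
noncomputable def nf (p : ℕ) (v : SV) : SV := List.rec [] (fun q _ ih => ins p q ih) v

/-- the sparse vector is zero modulo `p` -/
noncomputable def isZ (p : ℕ) (l : SV) : Bool :=
  List.rec true (fun _ _ _ => false) (nf p l)

/-- equality modulo `p` -/
noncomputable def eqv (p : ℕ) (u v : SV) : Bool := isZ p (app u (scale 0 (p - 1) v))

/-- coefficient at index `a` of a sparse vector (forgetting exponents) -/
noncomputable def co (a : ℕ) (v : SV) : ℕ :=
  List.rec 0 (fun q _ ih => bif Nat.beq q.1 a then q.2.2 + ih else ih) v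

/-- bounded quantifier -/
noncomputable def allB (n : ℕ) (f : ℕ → Bool) : Bool := Nat.rec true (fun m ih => bif f m then ih else false) n

theorem scale_nil (k c : ℕ) : scale k c [] = [] := rfl
theorem scale_cons (k c : ℕ) (q : ℕ × ℕ × ℕ) (l : SV) :
    scale k c (q :: l) = (q.1, q.2.1 + k, q.2.2 * c) :: scale k c l := rfl
theorem app_eq (u v : SV) : app u v = u ++ v := by
  induction u with
  | nil => rfl
  | cons q l ih => rw [List.cons_append, ← ih]; rfl
theorem ap_nil (col : ℕ → SV) : ap col [] = [] := rfl
theorem ap_cons (col : ℕ → SV) (q : ℕ × ℕ × ℕ) (l : SV) :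
    ap col (q :: l) = scale q.2.1 q.2.2 (col q.1) ++ ap col l := by rw [← app_eq]; rfl
theorem ap2_nil (act : ℕ → ℕ → SV) (u : SV) : ap2 act u [] = [] := rfl
theorem ap2_cons (act : ℕ → ℕ → SV) (u : SV) (q : ℕ × ℕ × ℕ) (l : SV) :
    ap2 act u (q :: l) = scale q.2.1 q.2.2 (ap (fun i => act i q.1) u) ++ ap2 act u l := by
  rw [← app_eq]; rfl
theorem pw_nil (k : ℕ) : pw k [] = [] := rfl
theorem pw_cons (k : ℕ) (q : ℕ × ℕ × ℕ) (l : SV) :
    pw k (q :: l) = (q.1, q.2.1 * k, q.2.2) :: pw k l := rfl
theorem ins_nil (p : ℕ) (q : ℕ × ℕ × ℕ) :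
    ins p q [] = if Nat.beq (q.2.2 % p) 0 = true then [] else [q] := by
  change (bif Nat.beq (q.2.2 % p) 0 then ([] : SV) else [q]) = _
  rw [Bool.cond_eq_ite]
theorem ins_cons (p : ℕ) (q q' : ℕ × ℕ × ℕ) (l : SV) :
    ins p q (q' :: l) = if Nat.beq q'.1 q.1 && Nat.beq q'.2.1 q.2.1 then
      (if Nat.beq ((q.2.2 + q'.2.2) % p) 0 then l else (q.1, q.2.1, (q.2.2 + q'.2.2) % p) :: l)
    else q' :: ins p q l := by
  change (bif Nat.beq q'.1 q.1 then
        (bif Nat.beq q'.2.1 q.2.1 then
          (bif Nat.beq ((q.2.2 + q'.2.2) % p) 0 then l else (q.1, q.2.1, (q.2.2 + q'.2.2) % p) :: l)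
        else q' :: ins p q l)
      else q' :: ins p q l) = _
  cases Nat.beq q'.1 q.1 <;> cases Nat.beq q'.2.1 q.2.1 <;>
    cases Nat.beq ((q.2.2 + q'.2.2) % p) 0 <;> rfl
theorem nf_nil (p : ℕ) : nf p [] = [] := rfl
theorem nf_cons (p : ℕ) (q : ℕ × ℕ × ℕ) (l : SV) : nf p (q :: l) = ins p q (nf p l) := rfl
theorem nf_of_isZ {p : ℕ} {l : SV} (h : isZ p l = true) : nf p l = [] := by
  unfold isZ at h
  revert h
  generalize nf p l = m
  intro h
  cases m with
  | nil => rfl
  | cons a b => exact absurd h Bool.false_ne_true
theorem co_nil (a : ℕ) : co a [] = 0 := rfl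
theorem co_cons (a : ℕ) (q : ℕ × ℕ × ℕ) (l : SV) :
    co a (q :: l) = if Nat.beq q.1 a then q.2.2 + co a l else co a l := by
  change (bif Nat.beq q.1 a then q.2.2 + co a l else co a l) = _
  rw [Bool.cond_eq_ite]
theorem allB_zero (f : ℕ → Bool) : allB 0 f = true := rfl
theorem allB_succ (n : ℕ) (f : ℕ → Bool) : allB (n + 1) f = (f n && allB n f) := by
  change (bif f n then allB n f else false) = _
  cases f n <;> rfl

theorem allB_sound {n : ℕ} {f : ℕ → Bool} (h : allB n f = true) : ∀ i < n, f i = true := by
  induction n with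
  | zero => intro i hi; exact absurd hi (Nat.not_lt_zero _)
  | succ n ih =>
    intro i hi
    rw [allB_succ, Bool.and_eq_true] at h
    rcases Nat.lt_succ_iff_lt_or_eq.mp hi with h' | h'
    · exact ih h.2 i h'
    · rw [h']; exact h.1

end defs

section sound

variable {K : Type*} [Field K] {V : Type*} [AddCommGroup V] [Module K V]

/-- value of a sparse vector at `t`, with basis family `b` -/
def ev (b : ℕ → V) (t : K) : SV → V
  | [] => 0
  | q :: l => (((q.2.2 : ℕ) : K) * t ^ q.2.1) • b q.1 + ev b t l

variable (b : ℕ → V) (t : K)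

theorem ev_nil : ev b t [] = 0 := rfl

theorem ev_cons (q : ℕ × ℕ × ℕ) (l : SV) :
    ev b t (q :: l) = (((q.2.2 : ℕ) : K) * t ^ q.2.1) • b q.1 + ev b t l := rfl

theorem ev_append (u v : SV) : ev b t (u ++ v) = ev b t u + ev b t v := by
  induction u with
  | nil => simp [ev_nil]
  | cons q l ih => rw [List.cons_append, ev_cons, ev_cons, ih, add_assoc]

theorem ev_scale (k c : ℕ) (v : SV) : ev b t (scale k c v) = ((c : K) * t ^ k) • ev b t v := by
  induction v with
  | nil => simp [scale_nil, ev_nil]
  | cons q l ih =>
    simp only [scale_cons, ev_cons, ih, smul_add, smul_smul]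
    congr 2
    push_cast
    ring

theorem ev_pw (k : ℕ) (v : SV) : ev b t (pw k v) = ev b (t ^ k) v := by
  induction v with
  | nil => simp [pw_nil, ev_nil]
  | cons q l ih =>
    simp only [pw_cons, ev_cons, ih]
    congr 3
    rw [mul_comm, pow_mul]

theorem ev_ap {W : Type*} [AddCommGroup W] [Module K W] (b' : ℕ → W) (A : V →ₗ[K] W)
    (col : ℕ → SV) (h : ∀ i, A (b i) = ev b' t (col i)) (v : SV) :
    ev b' t (ap col v) = A (ev b t v) := by
  induction v with
  | nil => simp [ap_nil, ev_nil]
  | cons q l ih =>
    rw [ap_cons, ev_append, ev_scale, ih, ev_cons, map_add, map_smul, h]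

theorem ev_ap2 {W U : Type*} [AddCommGroup W] [Module K W] [AddCommGroup U] [Module K U]
    (b' : ℕ → W) (b'' : ℕ → U) (B : V →ₗ[K] W →ₗ[K] U)
    (act : ℕ → ℕ → SV) (h : ∀ i j, B (b i) (b' j) = ev b'' t (act i j)) (u v : SV) :
    ev b'' t (ap2 act u v) = B (ev b t u) (ev b' t v) := by
  induction v with
  | nil => simp [ap2_nil, ev_nil]
  | cons q l ih =>
    rw [ap2_cons, ev_append, ev_scale, ih, ev_cons, map_add, map_smul]
    congr 2
    exact ev_ap b t b'' (B.flip (b' q.1)) (fun i => act i q.1) (fun i => h i q.1) u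

variable (p : ℕ) [CharP K p]

theorem cast_eq_zero_of_beq (n : ℕ) (h : Nat.beq (n % p) 0 = true) : (n : K) = 0 := by
  rw [CharP.cast_eq_zero_iff K p]
  exact Nat.dvd_of_mod_eq_zero (Nat.eq_of_beq_eq_true h)

theorem cast_mod' (n : ℕ) : ((n % p : ℕ) : K) = (n : K) := by
  conv_rhs => rw [← Nat.mod_add_div n p]
  rw [Nat.cast_add, Nat.cast_mul, CharP.cast_eq_zero K p, zero_mul, add_zero]

theorem ev_ins (q : ℕ × ℕ × ℕ) (l : SV) : ev b t (ins p q l) = ev b t (q :: l) := by
  induction l with
  | nil =>
    rw [ins_nil]
    split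
    · rename_i h
      rw [ev_cons, cast_eq_zero_of_beq (K := K) p _ h]
      simp [ev_nil]
    · rfl
  | cons q' l ih =>
    rw [ins_cons]
    split
    · rename_i h
      rw [Bool.and_eq_true] at h
      have h1 := Nat.eq_of_beq_eq_true h.1
      have h2 := Nat.eq_of_beq_eq_true h.2
      split
      · rename_i h3
        have h4 := cast_eq_zero_of_beq (K := K) p _ h3
        rw [ev_cons, ev_cons, h1, h2, ← add_assoc, ← add_smul, ← add_mul]
        push_cast at h4
        rw [h4]
        simp
      · rw [ev_cons, ev_cons, ev_cons, h1, h2, ← add_assoc, ← add_smul, ← add_mul, cast_mod']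
        push_cast
        rfl
    · rw [ev_cons, ih, ev_cons, ev_cons, ev_cons]
      abel

theorem ev_nf (l : SV) : ev b t (nf p l) = ev b t l := by
  induction l with
  | nil => rfl
  | cons q l ih => rw [nf_cons, ev_ins, ev_cons, ev_cons, ih]

theorem ev_of_isZ {l : SV} (h : isZ p l = true) : ev b t l = 0 := by
  rw [← ev_nf b t p l, nf_of_isZ h]
  rfl

theorem ev_of_eqv {u v : SV} (hp : 0 < p) (h : eqv p u v = true) : ev b t u = ev b t v := by
  have h1 := ev_of_isZ b t p h
  rw [app_eq, ev_append, ev_scale] at h1
  have h2 : ((p - 1 : ℕ) : K) = -1 := by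
    rw [Nat.cast_sub hp, CharP.cast_eq_zero K p]
    simp
  rw [h2] at h1
  simpa [add_neg_eq_zero] using h1

/-- all exponents are zero -/
noncomputable def pz (v : SV) : Bool :=
  List.rec true (fun q _ ih => bif Nat.beq q.2.1 0 then ih else false) v

theorem pz_cons (q : ℕ × ℕ × ℕ) (l : SV) : pz (q :: l) = (Nat.beq q.2.1 0 && pz l) := by
  change (bif Nat.beq q.2.1 0 then pz l else false) = _
  cases Nat.beq q.2.1 0 <;> rfl

theorem ev_of_pz {l : SV} (h : pz l = true) (s : K) : ev b t l = ev b s l := by
  induction l with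
  | nil => rfl
  | cons q l ih =>
    rw [pz_cons, Bool.and_eq_true] at h
    rw [ev_cons, ev_cons, ih h.2, Nat.eq_of_beq_eq_true h.1]
    simp

end sound

end Cfsg.Agent.ChevalleyStructure.GraphSparse
end

-- part: ChevalleyStructure/GraphColumns
section
/-!
Columns of the root element matrices `x_r(t)` of a Chevalley datum as sparse vectors modulo `p`.
-/
set_option autoImplicit false

namespace Cfsg.Agent.ChevalleyStructure.GraphColumns

open Cfsg.Lie Cfsg.Agent.ChevalleyStructure.GraphSparse

variable (D : ChevalleyDatum)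

/-- flattened index -/
def enc : D.Idx → ℕ
  | Sum.inl i => i.val
  | Sum.inr u => D.rank + u.val

theorem enc_inl (i : Fin D.rank) : enc D (Sum.inl i) = i.val := rfl
theorem enc_inr (i : Fin D.nroots) : enc D (Sum.inr i) = D.rank + i.val := rfl

theorem enc_lt (a : D.Idx) : enc D a < D.rank + D.nroots := by
  cases a with
  | inl i => rw [enc_inl]; have := i.isLt; omega
  | inr i => rw [enc_inr]; have := i.isLt; omega

theorem enc_injective : Function.Injective (enc D) := by
  intro a b h
  cases a with
  | inl i =>
    cases b with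
    | inl j => rw [enc_inl, enc_inl] at h; rw [Fin.ext h]
    | inr j => rw [enc_inl, enc_inr] at h; have := i.isLt; omega
  | inr i =>
    cases b with
    | inl j => rw [enc_inl, enc_inr] at h; have := j.isLt; omega
    | inr j =>
      rw [enc_inr, enc_inr] at h
      have : i = j := Fin.ext (by omega)
      rw [this]

theorem exists_enc {j : ℕ} (h : j < D.rank + D.nroots) : ∃ a : D.Idx, enc D a = j := by
  by_cases h' : j < D.rank
  · exact ⟨Sum.inl ⟨j, h'⟩, rfl⟩
  · exact ⟨Sum.inr ⟨j - D.rank, by omega⟩, by rw [enc_inr]; simp only; omega⟩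

/-- reduction of an integer to a natural number modulo `p` -/
def md (p : ℕ) (z : ℤ) : ℕ := (z % (p : ℤ)).toNat

/-- the `j`-th column of `x_r(t)` modulo `p`, read off the tables -/
def colD (p : ℕ) (r j : ℕ) : SV :=
  if j < D.rank then
    [(j, 0, 1), (D.rank + r, 1, md p (-((D.cartanSR.getD j #[]).getD r 0)))]
  else
    if j - D.rank = r then [(j, 0, 1)]
    else if j - D.rank = D.negIdx.getD r 0 then
      (j, 0, 1) :: (D.rank + r, 2, md p (-1)) ::
        (List.range D.rank).map (fun i => (i, 1, md p ((D.coroot.getD r #[]).getD i 0)))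
    else
      (j, 0, 1) :: ((D.chain.getD r #[]).toList.filter (fun e => e.1 = j - D.rank)).flatMap
        fun e => e.2.toList.zipIdx.map fun q => (D.rank + q.1.1, q.2 + 1, md p q.1.2)

variable (K : Type*) [Field K]

/-- the basis vector with flattened index `j` (zero if out of range) -/
def bas (j : ℕ) : D.Idx → K := fun a => if enc D a = j then 1 else 0

theorem bas_enc (a : D.Idx) : bas D K (enc D a) = Pi.single a 1 := by
  funext c
  unfold bas
  by_cases h : c = a
  · subst h; simp
  · rw [if_neg (fun h' => h (enc_injective D h')), Pi.single_eq_of_ne h]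

theorem bas_out {j : ℕ} (h : ¬ j < D.rank + D.nroots) : bas D K j = 0 := by
  funext c
  change (if enc D c = j then (1 : K) else 0) = 0
  rw [if_neg]
  intro h'
  apply h
  rw [← h']
  exact enc_lt D c

theorem ev_apply (t : K) (l : SV) (a : D.Idx) :
    ev (bas D K) t l a = (l.map fun q => if enc D a = q.1 then ((q.2.2 : ℕ) : K) * t ^ q.2.1 else 0).sum := by
  induction l with
  | nil => rfl
  | cons q l ih =>
    rw [ev_cons, Pi.add_apply, ih, List.map_cons, List.sum_cons]
    congr 1
    rw [Pi.smul_apply, smul_eq_mul]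
    unfold bas
    split <;> simp

theorem md_cast (p : ℕ) [CharP K p] (hp : 0 < p) (z : ℤ) : ((md p z : ℕ) : K) = (z : K) := by
  have h1 : ((md p z : ℕ) : ℤ) = z % (p : ℤ) := by
    unfold md
    exact Int.toNat_of_nonneg (Int.emod_nonneg z (by omega))
  have h2 : ((md p z : ℕ) : K) = (((md p z : ℕ) : ℤ) : K) := by push_cast; rfl
  rw [h2, h1]
  conv_rhs => rw [← Int.emod_add_mul_ediv z p]
  push_cast
  rw [CharP.cast_eq_zero K p]
  ring

/-! entries of `xMat`, by definition -/

theorem xMat_ll (r : Fin D.nroots) (t : K) (i' i : Fin D.rank) :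
    D.xMat K r t (Sum.inl i') (Sum.inl i) = if i' = i then 1 else 0 := rfl

theorem xMat_rl (r : Fin D.nroots) (t : K) (u : Fin D.nroots) (i : Fin D.rank) :
    D.xMat K r t (Sum.inr u) (Sum.inl i) =
      if u = r then - (((D.cartanSR.getD i.val #[]).getD r.val 0 : ℤ) : K) * t else 0 := rfl

theorem xMat_lr (r : Fin D.nroots) (t : K) (i : Fin D.rank) (s : Fin D.nroots) :
    D.xMat K r t (Sum.inl i) (Sum.inr s) =
      if s = r then 0 else if s.val = D.negIdx.getD r.val 0 then
        (((D.coroot.getD r.val #[]).getD i.val 0 : ℤ) : K) * t else 0 := rfl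

theorem xMat_rr (r : Fin D.nroots) (t : K) (u s : Fin D.nroots) :
    D.xMat K r t (Sum.inr u) (Sum.inr s) =
      if s = r then (if u = r then 1 else 0) else if s.val = D.negIdx.getD r.val 0 then
        (if u = s then 1 else if u = r then -(t ^ 2) else 0) else
        (if u = s then 1 else 0) +
          ((D.chainCoeff r.val s.val u.val).map fun km => ((km.2 : ℤ) : K) * t ^ km.1).sum := rfl

theorem chain_sum (p : ℕ) [CharP K p] (hp : 0 < p) (t : K) (r s u : ℕ) :
    ((D.chainCoeff r s u).map fun km => ((km.2 : ℤ) : K) * t ^ km.1).sum =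
      ((((D.chain.getD r #[]).toList.filter (fun e => e.1 = s)).flatMap
        fun e => e.2.toList.zipIdx.map fun q => (D.rank + q.1.1, q.2 + 1, md p q.1.2)).map
        fun q => if D.rank + u = q.1 then ((q.2.2 : ℕ) : K) * t ^ q.2.1 else 0).sum := by
  change ((((D.chain.getD r #[]).toList.filter (fun e => e.1 = s)).flatMap fun e =>
    ((e.2.toList.zipIdx).filter (fun q => q.1.1 = u)).map fun q => (q.2 + 1, q.1.2)).map
      fun km => ((km.2 : ℤ) : K) * t ^ km.1).sum = _
  generalize ((D.chain.getD r #[]).toList.filter (fun e => e.1 = s)) = L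
  induction L with
  | nil => rfl
  | cons e L ih =>
    rw [List.flatMap_cons, List.flatMap_cons, List.map_append, List.map_append, List.sum_append,
      List.sum_append, ih]
    congr 1
    generalize e.2.toList.zipIdx = M
    induction M with
    | nil => rfl
    | cons q M ih' =>
      rw [List.map_cons, List.map_cons, List.sum_cons, List.filter_cons]
      by_cases h : q.1.1 = u
      · simp only [h, decide_true, if_true, List.map_cons, List.sum_cons]
        rw [ih', md_cast K p hp]
      · have h' : ¬ (D.rank + u = D.rank + q.1.1) := by omega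
        simp only [h, decide_false, h', if_false, zero_add]
        exact ih'

theorem xMat_mulVec_bas (p : ℕ) [CharP K p] (hp : 0 < p) (r : Fin D.nroots) (t : K) (j : ℕ)
    (hj : j < D.rank + D.nroots) :
    Matrix.mulVec (D.xMat K r t) (bas D K j) = ev (bas D K) t (colD D p r.val j) := by
  obtain ⟨c, rfl⟩ := exists_enc D hj
  funext a
  rw [bas_enc, Matrix.mulVec_single_one, ev_apply]
  change D.xMat K r t a c = _
  cases c with
  | inl i =>
    have hi : enc D (Sum.inl i) < D.rank := i.isLt
    unfold colD
    rw [if_pos hi]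
    simp only [List.map_cons, List.map_nil, List.sum_cons, List.sum_nil]
    cases a with
    | inl i' =>
      rw [xMat_ll, enc_inl, enc_inl]
      have hne : ¬ (i'.val = D.rank + r.val) := by have := i'.isLt; omega
      rw [if_neg hne]
      by_cases h : i' = i
      · subst h; simp
      · rw [if_neg h, if_neg (fun h' => h (Fin.ext h'))]; simp
    | inr u =>
      rw [xMat_rl, enc_inl, enc_inr]
      have hne : ¬ (D.rank + u.val = i.val) := by have := i.isLt; omega
      rw [if_neg hne]
      by_cases h : u = r
      · subst h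
        rw [if_pos rfl, if_pos rfl, md_cast K p hp]
        push_cast
        ring
      · rw [if_neg h, if_neg (fun h' => h (Fin.ext (by omega)))]; simp
  | inr s =>
    have hi : ¬ (enc D (Sum.inr s) < D.rank) := by rw [enc_inr]; omega
    have hs : enc D (Sum.inr s) - D.rank = s.val := by rw [enc_inr]; omega
    unfold colD
    rw [if_neg hi, hs]
    by_cases hsr : s.val = r.val
    · have hsr' : s = r := Fin.ext hsr
      rw [if_pos hsr]
      simp only [List.map_cons, List.map_nil, List.sum_cons, List.sum_nil]
      cases a with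
      | inl i' =>
        rw [xMat_lr, if_pos hsr', enc_inl, enc_inr]
        have hne : ¬ (i'.val = D.rank + s.val) := by have := i'.isLt; omega
        rw [if_neg hne]; simp
      | inr u =>
        rw [xMat_rr, if_pos hsr', enc_inr, enc_inr]
        by_cases h : u = r
        · subst h; subst hsr'; simp
        · have hne : ¬ (D.rank + u.val = D.rank + s.val) := fun h' => h (Fin.ext (by omega))
          rw [if_neg h, if_neg hne]; simp
    · have hsr' : ¬ s = r := fun h => hsr (by rw [h])
      rw [if_neg hsr]
      by_cases hneg : s.val = D.negIdx.getD r.val 0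
      · rw [if_pos hneg]
        rw [List.map_cons, List.sum_cons, List.map_cons, List.sum_cons]
        cases a with
        | inl i' =>
          rw [xMat_lr, if_neg hsr', if_pos hneg]
          have hne : ¬ (enc D (Sum.inl i') = enc D (Sum.inr s)) := by
            rw [enc_inl, enc_inr]; have := i'.isLt; omega
          have hne2 : ¬ (enc D (Sum.inl i') = D.rank + r.val) := by
            rw [enc_inl]; have := i'.isLt; omega
          rw [if_neg hne, if_neg hne2, zero_add, zero_add, enc_inl, List.map_map]
          have : ∀ (n : ℕ), i'.val < n → ((List.range n).map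
              ((fun q : ℕ × ℕ × ℕ => if i'.val = q.1 then ((q.2.2 : ℕ) : K) * t ^ q.2.1 else 0) ∘
                fun i => (i, 1, md p ((D.coroot.getD r.val #[]).getD i 0)))).sum
              = (((D.coroot.getD r.val #[]).getD i'.val 0 : ℤ) : K) * t := by
            intro n hn
            rw [List.sum_map_eq_nsmul_single i'.val]
            · rw [List.count_eq_one_of_mem List.nodup_range (List.mem_range.mpr hn)]
              simp [md_cast K p hp]
            · intro a' ha' _
              simp [Ne.symm ha']
          rw [this _ i'.isLt]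
        | inr u =>
          rw [xMat_rr, if_neg hsr', if_pos hneg]
          have hz : (((List.range D.rank).map
              (fun i => (i, 1, md p ((D.coroot.getD r.val #[]).getD i 0)))).map
              (fun q : ℕ × ℕ × ℕ => if enc D (Sum.inr u) = q.1 then ((q.2.2 : ℕ) : K) * t ^ q.2.1 else 0)).sum
              = 0 := by
            apply List.sum_eq_zero
            intro x hx
            rw [List.mem_map] at hx
            obtain ⟨q, hq, rfl⟩ := hx
            rw [List.mem_map] at hq
            obtain ⟨i, hi', rfl⟩ := hq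
            have : ¬ (enc D (Sum.inr u) = i) := by
              rw [enc_inr]; have := List.mem_range.mp hi'; omega
            simp [this]
          rw [hz, enc_inr, enc_inr, add_zero]
          by_cases h : u = s
          · subst h
            simp [hsr]
          · have hne : ¬ (D.rank + u.val = D.rank + s.val) := fun h' => h (Fin.ext (by omega))
            rw [if_neg h, if_neg hne, zero_add]
            by_cases h2 : u = r
            · subst h2; rw [if_pos rfl, if_pos rfl, md_cast K p hp]; push_cast; ring
            · have hne2 : ¬ (D.rank + u.val = D.rank + r.val) := fun h' => h2 (Fin.ext (by omega))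
              rw [if_neg h2, if_neg hne2]
      · rw [if_neg hneg]
        rw [List.map_cons, List.sum_cons]
        cases a with
        | inl i' =>
          rw [xMat_lr, if_neg hsr', if_neg hneg]
          have hne : ¬ (enc D (Sum.inl i') = enc D (Sum.inr s)) := by
            rw [enc_inl, enc_inr]; have := i'.isLt; omega
          rw [if_neg hne, zero_add]
          symm
          apply List.sum_eq_zero
          intro x hx
          rw [List.mem_map] at hx
          obtain ⟨q, hq, rfl⟩ := hx
          rw [List.mem_flatMap] at hq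
          obtain ⟨e, _, hq⟩ := hq
          rw [List.mem_map] at hq
          obtain ⟨q', _, rfl⟩ := hq
          have : ¬ (enc D (Sum.inl i') = D.rank + q'.1.1) := by
            rw [enc_inl]; have := i'.isLt; omega
          simp [this]
        | inr u =>
          rw [xMat_rr, if_neg hsr', if_neg hneg, chain_sum D K p hp t r.val s.val u.val, enc_inr, enc_inr]
          congr 1
          by_cases h : u = s
          · subst h; simp
          · have hne : ¬ (D.rank + u.val = D.rank + s.val) := fun h' => h (Fin.ext (by omega))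
            rw [if_neg h, if_neg hne]

theorem x_of_lt {r : ℕ} (hr : r < D.nroots) (t : K) : D.x K r t = D.xMat K ⟨r, hr⟩ t := by
  change (if h : r < D.nroots then D.xMat K ⟨r, h⟩ t else 1) = _
  rw [dif_pos hr]

theorem x_mulVec_bas (p : ℕ) [CharP K p] (hp : 0 < p) {r : ℕ} (hr : r < D.nroots) (t : K) (j : ℕ)
    (hj : j < D.rank + D.nroots) :
    Matrix.mulVec (D.x K r t) (bas D K j) = ev (bas D K) t (colD D p r j) := by
  rw [x_of_lt D K hr]
  exact xMat_mulVec_bas D K p hp ⟨r, hr⟩ t j hj

end Cfsg.Agent.ChevalleyStructure.GraphColumns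
end
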