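import Cfsg.Agent.ChevalleyStructure.SimpleComplementNorm
set_option linter.all false

/-!
`B ∪ B n_p B` is a subgroup, from the standard relations (taken as hypotheses).
-/

set_option autoImplicit false

namespace Cfsg.Agent.ChevalleyStructure.MinParabolic

open Cfsg.Lie
open Cfsg.Agent.ChevalleyStructure.SimpleComplement
open Cfsg.Agent.ChevalleyStructure.SimpleComplementNorm

/-- If `H` is contained in the normaliser of `K` then every element of `K ⊔ H` is a product `k h`. -/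
theorem mem_sup_of_le_normalizer {G : Type*} [Group G] {K H : Subgroup G}
    (h : H ≤ Subgroup.normalizer (K : Set G)) {g : G} (hg : g ∈ K ⊔ H) :
    ∃ k ∈ K, ∃ x ∈ H, g = k * x := by
  rw [← SetLike.mem_coe, Subgroup.sup_eq_closure] at hg
  have hconj : ∀ x ∈ H, ∀ k ∈ K, x * k * x⁻¹ ∈ K := Subgroup.le_normalizer_iff.1 h
  induction hg using Subgroup.closure_induction with
  | mem y hy =>
    rcases hy with hy | hy
    · exact ⟨y, hy, 1, one_mem _, (mul_one y).symm⟩
    · exact ⟨1, one_mem _, y, hy, (one_mul y).symm⟩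
  | one => exact ⟨1, one_mem _, 1, one_mem _, (mul_one 1).symm⟩
  | mul a b _ _ ha hb =>
    obtain ⟨k, hk, x, hx, rfl⟩ := ha
    obtain ⟨k', hk', x', hx', rfl⟩ := hb
    refine ⟨k * (x * k' * x⁻¹), mul_mem hk (hconj x hx k' hk'), x * x', mul_mem hx hx', ?_⟩
    group
  | inv a _ ha =>
    obtain ⟨k, hk, x, hx, rfl⟩ := ha
    refine ⟨x⁻¹ * k⁻¹ * x⁻¹⁻¹, hconj x⁻¹ (inv_mem hx) k⁻¹ (inv_mem hk), x⁻¹, inv_mem hx, ?_⟩
    group

/-- The abstract rank one step. -/
theorem union_doubleCoset {G : Type*} [Group G] (U H K X X' : Subgroup G) (n : G)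
    (hUH : H ≤ Subgroup.normalizer (U : Set G)) (hU : K ⊔ X = U)
    (hKX : X ⊔ X' ≤ Subgroup.normalizer (K : Set G)) (hn : n ∈ X ⊔ X')
    (hnX : ∀ x ∈ X, n * x * n⁻¹ ∈ X') (hnH : ∀ h ∈ H, n * h * n⁻¹ ∈ H) (hn2 : n * n ∈ H)
    (hX' : ∀ x ∈ X', x ∈ (U ⊔ H : Subgroup G) ∨
      x ∈ DoubleCoset.doubleCoset n ((U ⊔ H : Subgroup G) : Set G) (U ⊔ H : Subgroup G)) :
    ∃ P : Subgroup G, (P : Set G) = ((U ⊔ H : Subgroup G) : Set G) ∪
      DoubleCoset.doubleCoset n ((U ⊔ H : Subgroup G) : Set G) (U ⊔ H : Subgroup G) := by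
  set B : Subgroup G := U ⊔ H with hB
  have hHB : H ≤ B := le_sup_right
  have hKB : K ≤ B := (le_sup_left.trans hU.le).trans le_sup_left
  set S : Set G := (B : Set G) ∪ DoubleCoset.doubleCoset n (B : Set G) B with hS
  have memS : ∀ g, g ∈ S ↔ g ∈ B ∨ ∃ x ∈ B, ∃ y ∈ B, g = x * n * y := by
    intro g
    rw [hS, Set.mem_union, DoubleCoset.mem_doubleCoset]
    rfl
  have leftS : ∀ b ∈ B, ∀ g ∈ S, b * g ∈ S := by
    intro b hb g hg
    rw [memS] at hg ⊢
    rcases hg with hg | ⟨x, hx, y, hy, rfl⟩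
    · exact Or.inl (mul_mem hb hg)
    · exact Or.inr ⟨b * x, mul_mem hb hx, y, hy, by group⟩
  have rightS : ∀ b ∈ B, ∀ g ∈ S, g * b ∈ S := by
    intro b hb g hg
    rw [memS] at hg ⊢
    rcases hg with hg | ⟨x, hx, y, hy, rfl⟩
    · exact Or.inl (mul_mem hg hb)
    · exact Or.inr ⟨x, hx, y * b, mul_mem hy hb, by group⟩
  have hnK : ∀ k ∈ K, n * k * n⁻¹ ∈ K := Subgroup.le_normalizer_iff.1 hKX n hn
  -- the key inclusion
  have conjB : ∀ b ∈ B, n * b * n⁻¹ ∈ S := by
    intro b hb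
    obtain ⟨u, hu, h, hh, rfl⟩ := mem_sup_of_le_normalizer hUH hb
    obtain ⟨k, hk, x, hx, rfl⟩ := mem_sup_of_le_normalizer (le_sup_left.trans hKX) (hU.symm ▸ hu : u ∈ K ⊔ X)
    have e : n * (k * x * h) * n⁻¹ = (n * k * n⁻¹) * ((n * x * n⁻¹) * (n * h * n⁻¹)) := by group
    rw [e]
    apply leftS _ (hKB (hnK k hk))
    apply rightS _ (hHB (hnH h hh))
    exact (hS ▸ hX' _ (hnX x hx) : n * x * n⁻¹ ∈ S)
  have nBn : ∀ b ∈ B, n * b * n ∈ S := by
    intro b hb
    have e : n * b * n = (n * b * n⁻¹) * (n * n) := by group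
    rw [e]
    exact rightS _ (hHB hn2) _ (conjB b hb)
  have invn : n⁻¹ ∈ S := by
    have e : n⁻¹ = 1 * n * (n * n)⁻¹ := by group
    rw [memS]
    exact Or.inr ⟨1, one_mem _, (n * n)⁻¹, inv_mem (hHB hn2), e⟩
  refine ⟨{ carrier := S, mul_mem' := ?_, one_mem' := ?_, inv_mem' := ?_ }, rfl⟩
  · intro a b ha hb
    rw [memS] at ha
    rcases ha with ha | ⟨x, hx, y, hy, rfl⟩
    · exact leftS a ha b hb
    · rw [memS] at hb
      rcases hb with hb | ⟨x', hx', y', hy', rfl⟩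
      · have e : x * n * y * b = x * n * (y * b) := by group
        rw [memS, e]
        exact Or.inr ⟨x, hx, y * b, mul_mem hy hb, rfl⟩
      · have e : x * n * y * (x' * n * y') = x * ((n * (y * x') * n) * y') := by group
        rw [e]
        exact leftS x hx _ (rightS y' hy' _ (nBn _ (mul_mem hy hx')))
  · rw [memS]; exact Or.inl (one_mem _)
  · intro a ha
    rw [memS] at ha
    rcases ha with ha | ⟨x, hx, y, hy, rfl⟩
    · rw [memS]; exact Or.inl (inv_mem ha)
    · have e : (x * n * y)⁻¹ = y⁻¹ * (n⁻¹ * x⁻¹) := by group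
      show (x * n * y)⁻¹ ∈ S
      rw [e]
      exact leftS _ (inv_mem hy) _ (rightS _ (inv_mem hx) _ invn)

variable {F : Type*} [Field F] {D : ChevalleyDatum}

/-- `n_r(t)` in the general linear group. -/
def nU (hadd : Additive F D) (r : ℕ) (t : F) : GL D.Idx F := wU hadd (D.nWord r t)

theorem nU_eq (hadd : Additive F D) (r : ℕ) (t : F) :
    nU hadd r t = xU hadd r t * xU hadd (D.neg r) (-t⁻¹) * xU hadd r t := by
  simp [nU, wU, ChevalleyDatum.nWord, mul_assoc]

theorem wU_append (hadd : Additive F D) (v w : List (ℕ × F)) : wU hadd (v ++ w) = wU hadd v * wU hadd w := by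
  simp [wU]

/-- `h_r(t)` in the general linear group. -/
def hU (hadd : Additive F D) (r : ℕ) (t : F) : GL D.Idx F := wU hadd (D.hWord r t)

theorem hU_eq (hadd : Additive F D) (r : ℕ) (t : F) : hU hadd r t = nU hadd r t * nU hadd r (-1) :=
  wU_append hadd _ _

theorem nU_neg (hadd : Additive F D) (r : ℕ) (t : F) : nU hadd r (-t) = (nU hadd r t)⁻¹ := by
  have h : (-t)⁻¹ = -t⁻¹ := by rw [inv_neg]
  rw [nU_eq, nU_eq, mul_inv_rev, mul_inv_rev, xU_inv, xU_inv, neg_neg, h, neg_neg, ← mul_assoc]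

theorem hU_mem (hadd : Additive F D) {r : ℕ} (hr : r < D.nroots) {t : F} (ht : t ≠ 0) :
    hU hadd r t ∈ D.diagonalSubgroup F :=
  Subgroup.subset_closure ⟨r, t, hr, ht, coe_wU hadd _⟩

/-- `B ∪ B n_p B` is a subgroup, given the standard relations. -/
theorem main (hadd : Additive F D) (hcomm : CommFormula F D) {i : ℕ} (hf : SimpleFacts D i)
    (hUH : D.diagonalSubgroup F ≤ Subgroup.normalizer (D.posUnipotent F : Set (GL D.Idx F)))
    (hnX : ∀ t : F, ∃ u : F, D.nMat F (D.simple i) 1 * D.x F (D.simple i) t =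
      D.x F (D.neg (D.simple i)) u * D.nMat F (D.simple i) 1)
    (hHN : ((D.diagonalSubgroup F).subgroupOf (D.monomialSubgroup F)).Normal)
    (n : GL D.Idx F) (hn : (n : Matrix D.Idx D.Idx F) = D.nMat F (D.simple i) 1) :
    ∃ P : Subgroup (GL D.Idx F), (P : Set (GL D.Idx F)) =
      (D.borelSubgroup F : Set (GL D.Idx F)) ∪
        DoubleCoset.doubleCoset n (D.borelSubgroup F : Set (GL D.Idx F)) (D.borelSubgroup F) := by
  obtain ⟨hKX, hU'⟩ := SimpleComplementNorm.main hadd hcomm hf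
  set p := D.simple i with hp
  have hn' : n = nU hadd p 1 := Units.ext (hn.trans (coe_wU hadd _).symm)
  have hX : ∀ t : F, xU hadd p t ∈ D.rootSubgroup F p := fun t => (mem_rootSubgroup hadd).2 ⟨t, rfl⟩
  have hX' : ∀ t : F, xU hadd (D.neg p) t ∈ D.rootSubgroup F (D.neg p) :=
    fun t => (mem_rootSubgroup hadd).2 ⟨t, rfl⟩
  have h11 : nU hadd p (-1) = n⁻¹ := by rw [hn', nU_neg]
  have hnn : ∀ t : F, nU hadd p t = hU hadd p t * n := by
    intro t
    rw [hU_eq, h11, inv_mul_cancel_right]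
  refine union_doubleCoset (D.posUnipotent F) (D.diagonalSubgroup F) _ (D.rootSubgroup F p)
    (D.rootSubgroup F (D.neg p)) n hUH hU' hKX ?_ ?_ ?_ ?_ ?_
  · rw [hn', nU_eq]
    exact mul_mem (mul_mem (Subgroup.mem_sup_left (hX 1)) (Subgroup.mem_sup_right (hX' _)))
      (Subgroup.mem_sup_left (hX 1))
  · intro x hx
    obtain ⟨t, rfl⟩ := (mem_rootSubgroup hadd).1 hx
    obtain ⟨u, hu⟩ := hnX t
    have : n * xU hadd p t = xU hadd (D.neg p) u * n := by
      apply Units.ext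
      rw [Units.val_mul, Units.val_mul, hn]
      exact hu
    rw [this, mul_inv_cancel_right]
    exact hX' u
  · intro h hh
    have hnN : n ∈ D.monomialSubgroup F := by
      apply Subgroup.mem_sup_right
      exact Subgroup.subset_closure ⟨p, hf.pos.1, hn⟩
    have hhN : h ∈ D.monomialSubgroup F := Subgroup.mem_sup_left hh
    have := hHN.conj_mem ⟨h, hhN⟩ (Subgroup.mem_subgroupOf.2 hh) ⟨n, hnN⟩
    exact Subgroup.mem_subgroupOf.1 this
  · have h1 : hU hadd p (-1) = (n * n)⁻¹ := by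
      rw [hU_eq, h11, mul_inv_rev]
    have h2 : n * n = (hU hadd p (-1))⁻¹ := by rw [h1, inv_inv]
    rw [h2]
    exact inv_mem (hU_mem hadd hf.pos.1 (neg_ne_zero.2 one_ne_zero))
  · intro x hx
    obtain ⟨t, rfl⟩ := (mem_rootSubgroup hadd).1 hx
    by_cases ht : t = 0
    · left
      rw [ht, xU_zero]
      exact one_mem _
    · right
      rw [DoubleCoset.mem_doubleCoset]
      have hs : (-t⁻¹ : F) ≠ 0 := neg_ne_zero.2 (inv_ne_zero ht)
      have hs' : -(-t⁻¹ : F)⁻¹ = t := by rw [inv_neg, inv_inv, neg_neg]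
      have e : xU hadd (D.neg p) t = (xU hadd p (-(-t⁻¹)) * hU hadd p (-t⁻¹)) * n * xU hadd p (-(-t⁻¹)) := by
        have e1 := nU_eq hadd p (-t⁻¹)
        rw [hs', hnn] at e1
        rw [mul_assoc (xU hadd p (-(-t⁻¹))), e1, ← xU_inv]
        group
      have hXU : ∀ t : F, xU hadd p t ∈ D.posUnipotent F := fun t =>
        Subgroup.subset_closure ⟨p, t, hf.pos, rfl⟩
      exact ⟨_, mul_mem (Subgroup.mem_sup_left (hXU _)) (Subgroup.mem_sup_right (hU_mem hadd hf.pos.1 hs)),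
        _, Subgroup.mem_sup_left (hXU _), e⟩

end Cfsg.Agent.ChevalleyStructure.MinParabolic
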