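import Mathlib
import Cfsg.Agent.ChevalleyStructure.SparseHDiag
import Cfsg.Agent.ChevStructure.FieldMap
set_option linter.all false

-- part: ChevalleyStructure/IdealFix
section
/-!
# The "sigma-fixed" subgroup of `GL` without a graph automorphism

`ι` finite, `S : ι → Bool` (the basis vectors spanning an ideal `I`), `bar` an involution of `ι` exchanging `S` and
its complement, `φ : K →+* K`. `fixSub` is the subgroup of all `g` which preserve `I` (`g j i = 0` for `i ∈ S`, `j ∉ S`)
and whose block on `I` is the entrywise `φ`-image of the block on `L/I` (relabelled by `bar`):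
`g i j = φ (g (bar i) (bar j))` for `i j ∈ S`.
-/

set_option autoImplicit false
set_option linter.unusedSectionVars false

namespace Cfsg.Agent.ChevalleyStructure.IdealFix

open Matrix

variable {ι : Type*} [Fintype ι] [DecidableEq ι] {K : Type*} [Field K]

/-- preserves the span of the basis vectors in `S` -/
def Pres (S : ι → Bool) (M : Matrix ι ι K) : Prop := ∀ i j, S i = false → S j = true → M i j = 0

/-- block on `S` = `φ` of block on the complement -/
def Rel (S : ι → Bool) (bar : ι → ι) (φ : K →+* K) (M : Matrix ι ι K) : Prop :=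
  ∀ i j, S i = true → S j = true → M i j = φ (M (bar i) (bar j))

theorem pres_def {S : ι → Bool} {M : Matrix ι ι K} :
    Pres S M ↔ ∀ i j, S i = false → S j = true → M i j = 0 := Iff.rfl

theorem rel_def {S : ι → Bool} {bar : ι → ι} {φ : K →+* K} {M : Matrix ι ι K} :
    Rel S bar φ M ↔ ∀ i j, S i = true → S j = true → M i j = φ (M (bar i) (bar j)) := Iff.rfl

theorem pres_one (S : ι → Bool) : Pres S (1 : Matrix ι ι K) := by
  intro i j hi hj
  apply Matrix.one_apply_ne
  rintro rfl
  rw [hi] at hj
  exact Bool.noConfusion hj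

theorem Pres.mul {S : ι → Bool} {M N : Matrix ι ι K} (hM : Pres S M) (hN : Pres S N) : Pres S (M * N) := by
  intro i j hi hj
  rw [Matrix.mul_apply]
  apply Finset.sum_eq_zero
  intro k _
  cases hk : S k
  · rw [hN k j hk hj, mul_zero]
  · rw [hM i k hi hk, zero_mul]

/-- the product on the `S`-block -/
theorem mul_apply_S {S : ι → Bool} {M N : Matrix ι ι K} (hN : Pres S N) {i j : ι} (hj : S j = true) :
    (M * N) i j = ∑ k ∈ Finset.univ.filter (fun k => S k = true), M i k * N k j := by
  rw [Matrix.mul_apply, Finset.sum_filter]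
  apply Finset.sum_congr rfl
  intro k _
  by_cases hk : S k = true
  · rw [if_pos hk]
  · rw [if_neg hk, hN k j (Bool.eq_false_iff.2 hk) hj, mul_zero]

/-- the product on the complementary block -/
theorem mul_apply_not {S : ι → Bool} {M N : Matrix ι ι K} (hM : Pres S M) {i j : ι} (hi : S i = false) :
    (M * N) i j = ∑ k ∈ Finset.univ.filter (fun k => S k = false), M i k * N k j := by
  rw [Matrix.mul_apply, Finset.sum_filter]
  apply Finset.sum_congr rfl
  intro k _
  by_cases hk : S k = false
  · rw [if_pos hk]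
  · have hk' : S k = true := by simpa using hk
    rw [if_neg hk, hM i k hi hk', zero_mul]

section bar

variable {S : ι → Bool} {bar : ι → ι} (hbar : ∀ i, bar (bar i) = i) (hS : ∀ i, S (bar i) = !S i)

include hbar hS

theorem sum_bar (f : ι → K) : ∑ k ∈ Finset.univ.filter (fun k => S k = false), f k =
    ∑ k ∈ Finset.univ.filter (fun k => S k = true), f (bar k) := by
  symm
  apply Finset.sum_bij (fun k _ => bar k)
  · intro k hk
    rw [Finset.mem_filter] at hk ⊢
    exact ⟨Finset.mem_univ _, by rw [hS, hk.2]; rfl⟩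
  · intro a _ b _ hab
    rw [← hbar a, hab, hbar]
  · intro b hb
    rw [Finset.mem_filter] at hb
    exact ⟨bar b, by rw [Finset.mem_filter]; exact ⟨Finset.mem_univ _, by rw [hS, hb.2]; rfl⟩, hbar b⟩
  · intro a _; rfl

theorem rel_one (φ : K →+* K) : Rel S bar φ (1 : Matrix ι ι K) := by
  intro i j _ _
  by_cases h : i = j
  · subst h; simp
  · have h' : bar i ≠ bar j := fun hh => h (by rw [← hbar i, hh, hbar])
    rw [Matrix.one_apply_ne h, Matrix.one_apply_ne h', map_zero]

theorem Rel.mul {φ : K →+* K} {M N : Matrix ι ι K} (hM : Rel S bar φ M) (hN : Rel S bar φ N)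
    (hM' : Pres S M) (hN' : Pres S N) : Rel S bar φ (M * N) := by
  intro i j hi hj
  have hi' : S (bar i) = false := by rw [hS, hi]; rfl
  rw [mul_apply_S hN' hj, mul_apply_not hM' hi', map_sum, sum_bar hbar hS]
  apply Finset.sum_congr rfl
  intro k hk
  rw [Finset.mem_filter] at hk
  rw [hM i k hi hk.2, hN k j hk.2 hj, map_mul]

/-- inverse: if `M` satisfies both conditions and `M * N = 1` then so does `N` -/
theorem inv_mem {φ : K →+* K} {M N : Matrix ι ι K} (hM : Rel S bar φ M) (hM' : Pres S M) (h1 : M * N = 1) :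
    Pres S N ∧ Rel S bar φ N := by
  have h2 : N * M = 1 := mul_eq_one_comm.mp h1
  have hN' : Pres S N := by
    have hbt : M.BlockTriangular (fun i => if S i = true then (0 : ℕ) else 1) := by
      intro i j hij0
      have hij : (if S j = true then (0 : ℕ) else 1) < (if S i = true then (0 : ℕ) else 1) := hij0
      by_cases hi : S i = true
      · rw [if_pos hi] at hij
        simp at hij
      · by_cases hj : S j = true
        · exact hM' i j (Bool.eq_false_iff.2 hi) hj
        · rw [if_neg hi, if_neg hj] at hij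
          exact absurd hij (lt_irrefl _)
    have : Invertible M := ⟨N, h2, h1⟩
    have hinv : N = M⁻¹ := (Matrix.inv_eq_right_inv h1).symm
    have hN := Matrix.blockTriangular_inv_of_blockTriangular hbt
    rw [← hinv] at hN
    intro i j hi hj
    apply hN
    simp only [hi, hj]
    simp
  refine ⟨hN', ?_⟩
  -- `X k j = φ (N (bar k) (bar j))` is a right inverse of the `S`-block of `M`
  have hX : ∀ i j, S i = true → S j = true →
      ∑ k ∈ Finset.univ.filter (fun k => S k = true), M i k * φ (N (bar k) (bar j)) =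
        if i = j then 1 else 0 := by
    intro i j hi hj
    have hi' : S (bar i) = false := by rw [hS, hi]; rfl
    have h3 := mul_apply_not (N := N) hM' (i := bar i) (j := bar j) hi'
    rw [h1, sum_bar hbar hS] at h3
    have h4 := congrArg φ h3
    rw [map_sum] at h4
    have h5 : φ ((1 : Matrix ι ι K) (bar i) (bar j)) = if i = j then 1 else 0 := by
      by_cases h : i = j
      · subst h; simp
      · have h' : bar i ≠ bar j := fun hh => h (by rw [← hbar i, hh, hbar])
        rw [Matrix.one_apply_ne h', map_zero, if_neg h]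
    rw [← h5, h4]
    apply Finset.sum_congr rfl
    intro k hk
    rw [Finset.mem_filter] at hk
    rw [hM i k hi hk.2, map_mul]
  intro i j hi hj
  -- multiply on the left by the `S`-block of `N`
  have h6 : ∑ l ∈ Finset.univ.filter (fun k => S k = true), N i l *
      (∑ k ∈ Finset.univ.filter (fun k => S k = true), M l k * φ (N (bar k) (bar j))) = N i j := by
    have : ∀ l ∈ Finset.univ.filter (fun k => S k = true), N i l *
      (∑ k ∈ Finset.univ.filter (fun k => S k = true), M l k * φ (N (bar k) (bar j))) =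
        if l = j then N i l else 0 := by
      intro l hl
      rw [Finset.mem_filter] at hl
      rw [hX l j hl.2 hj]
      by_cases h : l = j
      · rw [if_pos h, if_pos h, mul_one]
      · rw [if_neg h, if_neg h, mul_zero]
    rw [Finset.sum_congr rfl this, Finset.sum_ite_eq' _ j]
    rw [if_pos (by rw [Finset.mem_filter]; exact ⟨Finset.mem_univ _, hj⟩)]
  have h7 : ∑ l ∈ Finset.univ.filter (fun k => S k = true), N i l *
      (∑ k ∈ Finset.univ.filter (fun k => S k = true), M l k * φ (N (bar k) (bar j))) =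
      φ (N (bar i) (bar j)) := by
    have e1 : ∀ l, N i l *
      (∑ k ∈ Finset.univ.filter (fun k => S k = true), M l k * φ (N (bar k) (bar j))) =
      ∑ k ∈ Finset.univ.filter (fun k => S k = true), N i l * M l k * φ (N (bar k) (bar j)) := by
      intro l
      rw [Finset.mul_sum]
      apply Finset.sum_congr rfl
      intro k _
      ring
    simp only [e1]
    rw [Finset.sum_comm]
    have e2 : ∀ k ∈ Finset.univ.filter (fun k => S k = true),
        ∑ l ∈ Finset.univ.filter (fun k => S k = true), N i l * M l k * φ (N (bar k) (bar j)) =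
        if i = k then φ (N (bar k) (bar j)) else 0 := by
      intro k hk
      rw [Finset.mem_filter] at hk
      rw [← Finset.sum_mul, ← mul_apply_S hM' hk.2, h2]
      by_cases h : i = k
      · subst h; simp
      · rw [Matrix.one_apply_ne h, zero_mul, if_neg h]
    rw [Finset.sum_congr rfl e2, Finset.sum_ite_eq _ i]
    rw [if_pos (by rw [Finset.mem_filter]; exact ⟨Finset.mem_univ _, hi⟩)]
  rw [← h6, h7]

end bar

/-- The subgroup of `GL` of the elements satisfying both conditions. -/
def fixSub (S : ι → Bool) (bar : ι → ι) (hbar : ∀ i, bar (bar i) = i) (hS : ∀ i, S (bar i) = !S i)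
    (φ : K →+* K) : Subgroup (GL ι K) where
  carrier := {g | Pres S (g : Matrix ι ι K) ∧ Rel S bar φ (g : Matrix ι ι K)}
  one_mem' := ⟨by rw [Units.val_one]; exact pres_one S, by rw [Units.val_one]; exact rel_one hbar hS φ⟩
  mul_mem' := by
    rintro a b ⟨ha, ha'⟩ ⟨hb, hb'⟩
    refine ⟨?_, ?_⟩
    · rw [Units.val_mul]; exact ha.mul hb
    · rw [Units.val_mul]; exact Rel.mul hbar hS ha' hb' ha hb
  inv_mem' := by
    rintro a ⟨ha, ha'⟩
    have h1 : (a : Matrix ι ι K) * ((a⁻¹ : GL ι K) : Matrix ι ι K) = 1 := by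
      rw [← Units.val_mul, mul_inv_cancel, Units.val_one]
    exact inv_mem hbar hS ha' ha h1

theorem mem_fixSub {S : ι → Bool} {bar : ι → ι} {hbar : ∀ i, bar (bar i) = i} {hS : ∀ i, S (bar i) = !S i}
    {φ : K →+* K} {g : GL ι K} :
    g ∈ fixSub S bar hbar hS φ ↔ (∀ i j, S i = false → S j = true → (g : Matrix ι ι K) i j = 0) ∧
      ∀ i j, S i = true → S j = true →
        (g : Matrix ι ι K) i j = φ ((g : Matrix ι ι K) (bar i) (bar j)) := Iff.rfl

end Cfsg.Agent.ChevalleyStructure.IdealFix
end

-- part: ChevalleyStructure/FixTables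
section
/-!
# The special isogeny read off the tables: `x_r(t^μ(r))` on `I` equals `x_{bar r}(t)` on `L/I`

Generic reduction of the statement "`twisted group ≤ fixSub`" to kernel checks (characteristic `p`, `p = 2` for
F₄ and B₂, `p = 3` for G₂). `SN n` says that the basis vector with number `n` lies in the ideal `I`, `barN` is the
relabelling (an involution of the numbers of basis vectors).
-/

set_option autoImplicit false

namespace Cfsg.Agent.ChevalleyStructure.FixTables

open Cfsg.Lie Cfsg.Lie.ChevalleyDatum Cfsg.Agent.ChevalleyStructure.Sparse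
  Cfsg.Agent.ChevalleyStructure.SparseHDiag Cfsg.Agent.ChevalleyStructure.IdealFix

noncomputable section

/-- one variable, exponents in `ℕ`, coefficients modulo `p` -/
def opsP (p : ℤ) : Ops ℕ := ⟨Nat.add, Nat.beq, fun c => Int.emod c p⟩

def evP {K : Type*} [Field K] {p : ℤ} (hp : (p : K) = 0) (t : K) : Ev (opsP p) K where
  ev a := t ^ a
  ev_add a b := pow_add t a b
  ev_beq a b h := by rw [Nat.eq_of_beq_eq_true h]
  nrm_eq c := by
    show ((Int.emod c p : ℤ) : K) = (c : K)
    have h := Int.emod_def c p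
    have h' : (Int.emod c p : ℤ) = c - p * (c / p) := h
    rw [h']
    push_cast
    rw [hp]
    ring

/-- difference of two lists of terms -/
def dif {E : Type} (O : Ops E) (A B : List (Term E)) : List (Term E) :=
  List.rec A (fun x _ ih => ins O x.j x.a (Int.neg x.c) ih) B

theorem dif_cons {E : Type} (O : Ops E) (A B : List (Term E)) (x : Term E) :
    dif O A (x :: B) = ins O x.j x.a (Int.neg x.c) (dif O A B) := rfl

theorem dif_sound {E : Type} {O : Ops E} {K : Type*} [Field K] (V : Ev O K) (A B : List (Term E)) (n : ℕ) :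
    evalV V (dif O A B) n = evalV V A n - evalV V B n := by
  induction B with
  | nil => simp [dif, evalV_nil]
  | cons x B ih =>
    rw [dif_cons, ins_sound, ih, evalV_cons, evalTerm]
    have : ((Int.neg x.c : ℤ) : K) = - (x.c : K) := by
      have : (Int.neg x.c : ℤ) = - x.c := rfl
      rw [this]; push_cast; ring
    rw [this]
    split_ifs <;> ring

/-- is the list empty? -/
def isNil {α : Type} (l : List α) : Bool := List.rec true (fun _ _ _ => false) l

theorem eq_nil_of_isNil {α : Type} {l : List α} (h : isNil l = true) : l = [] := by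
  cases l with
  | nil => rfl
  | cons a l => exact Bool.noConfusion h

/-- keep the terms with index satisfying `q`, relabelled by `f` -/
def filterMapT {E : Type} (q : ℕ → Bool) (f : ℕ → ℕ) (l : List (Term E)) : List (Term E) :=
  List.rec [] (fun x _ ih => bif q x.j then ⟨f x.j, x.a, x.c⟩ :: ih else ih) l

theorem filterMapT_cons {E : Type} (q : ℕ → Bool) (f : ℕ → ℕ) (x : Term E) (l : List (Term E)) :
    filterMapT q f (x :: l) = bif q x.j then ⟨f x.j, x.a, x.c⟩ :: filterMapT q f l else filterMapT q f l := rfl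

theorem filterMapT_sound {E : Type} {O : Ops E} {K : Type*} [Field K] (V : Ev O K) (q : ℕ → Bool) (f : ℕ → ℕ)
    (hf : Function.Injective f) (l : List (Term E)) (n : ℕ) (hn : q n = true) :
    evalV V (filterMapT q f l) (f n) = evalV V l n := by
  induction l with
  | nil => rfl
  | cons x l ih =>
    rw [filterMapT_cons, evalV_cons]
    cases h : q x.j
    · rw [cond_false, ih, evalTerm, if_neg, zero_add]
      rintro rfl
      rw [hn] at h
      exact Bool.noConfusion h
    · rw [cond_true, evalV_cons, ih, evalTerm, evalTerm]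
      by_cases hx : x.j = n
      · rw [if_pos hx, if_pos (by rw [hx])]
      · rw [if_neg hx, if_neg (fun hh => hx (hf hh))]

/-- the combinatorial data of the special isogeny -/
structure FixData where
  D : ChevalleyDatum
  p : ℕ
  SN : ℕ → Bool
  barN : ℕ → ℕ

/-- exponent `μ(r)`: `1` for `r` short, `p` for `r` long -/
def FixData.mu (T : FixData) (r : ℕ) : ℕ := bif T.SN (Nat.add T.D.rank r) then 1 else T.p

/-- the relabelling of roots -/
def FixData.rb (T : FixData) (r : ℕ) : ℕ := Nat.sub (T.barN (Nat.add T.D.rank r)) T.D.rank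

/-- all terms have index in `S` -/
def allS {E : Type} (SN : ℕ → Bool) (l : List (Term E)) : Bool :=
  List.rec true (fun x _ ih => bif SN x.j then ih else false) l

theorem evalV_of_allS {E : Type} {O : Ops E} {K : Type*} [Field K] (V : Ev O K) (SN : ℕ → Bool)
    (l : List (Term E)) (h : allS SN l = true) (n : ℕ) (hn : SN n = false) : evalV V l n = 0 := by
  induction l with
  | nil => rfl
  | cons x l ih =>
    have h' : (bif SN x.j then allS SN l else false) = true := h
    cases hx : SN x.j
    · rw [hx] at h'; exact Bool.noConfusion h'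
    · rw [hx, cond_true] at h'
      rw [evalV_cons, ih h', evalTerm, if_neg, zero_add]
      rintro rfl
      rw [hn] at hx
      exact Bool.noConfusion hx

/-- the kernel check for the root `r` -/
def rootCheck (T : FixData) (r : ℕ) : Bool :=
  bif decide (goodRow T.D r) then
  allRange (fun j => bif T.SN j then
    (bif allS T.SN (act T.D (opsP T.p) ⟨r, 1, 1⟩ [⟨j, 0, 1⟩]) then
      isNil (dif (opsP T.p) (filterMapT T.SN T.barN (act T.D (opsP T.p) ⟨r, T.mu r, 1⟩ [⟨j, 0, 1⟩]))
        (filterMapT (fun n => !(T.SN n)) (fun n => n) (act T.D (opsP T.p) ⟨T.rb r, 1, 1⟩ [⟨T.barN j, 0, 1⟩])))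
    else false) else true) 0 (Nat.add T.D.rank T.D.nroots)
  else false

/-- the conditions on the tables -/
structure Ok (T : FixData) : Prop where
  barN_barN : ∀ n, T.barN (T.barN n) = n
  barN_rank : ∀ n, n < T.D.rank → T.barN n < T.D.rank
  barN_roots : ∀ r, r < T.D.nroots → T.D.rank ≤ T.barN (T.D.rank + r) ∧
    T.barN (T.D.rank + r) < T.D.rank + T.D.nroots
  SN_barN : ∀ n, n < T.D.rank + T.D.nroots → T.SN (T.barN n) = !(T.SN n)
  root : ∀ r, r < T.D.nroots → rootCheck T r = true

variable {T : FixData} (hT : Ok T)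

include hT

theorem rb_lt {r : ℕ} (hr : r < T.D.nroots) : T.rb r < T.D.nroots := by
  have h := hT.barN_roots r hr
  show T.barN (T.D.rank + r) - T.D.rank < T.D.nroots
  omega

theorem rank_add_rb {r : ℕ} (hr : r < T.D.nroots) : T.D.rank + T.rb r = T.barN (T.D.rank + r) := by
  have h := hT.barN_roots r hr
  show T.D.rank + (T.barN (T.D.rank + r) - T.D.rank) = _
  omega

theorem rb_rb {r : ℕ} (hr : r < T.D.nroots) : T.rb (T.rb r) = r := by
  have h1 := rank_add_rb hT (rb_lt hT hr)
  rw [rank_add_rb hT hr, hT.barN_barN] at h1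
  omega

theorem barN_injective : Function.Injective T.barN := fun a b h => by
  rw [← hT.barN_barN a, h, hT.barN_barN]

omit hT in
/-- membership in `I` for an index -/
def S (T : FixData) : T.D.Idx → Bool := fun i => T.SN (idxNat T.D i)

/-- the relabelling of indices -/
def bar : T.D.Idx → T.D.Idx
  | Sum.inl i => Sum.inl ⟨T.barN i.val, hT.barN_rank i.val i.isLt⟩
  | Sum.inr r => Sum.inr ⟨T.rb r.val, rb_lt hT r.isLt⟩

theorem idxNat_bar (i : T.D.Idx) : idxNat T.D (bar hT i) = T.barN (idxNat T.D i) := by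
  rcases i with i | r
  · rfl
  · show T.D.rank + T.rb r.val = T.barN (T.D.rank + r.val)
    exact rank_add_rb hT r.isLt

theorem bar_bar (i : T.D.Idx) : bar hT (bar hT i) = i := by
  apply idxNat_injective
  rw [idxNat_bar, idxNat_bar, hT.barN_barN]

theorem S_bar (i : T.D.Idx) : S T (bar hT i) = !(S T i) := by
  unfold S
  rw [idxNat_bar]
  exact hT.SN_barN _ (idxNat_lt _ _)

theorem goodRow_of_lt {r : ℕ} (hr : r < T.D.nroots) : goodRow T.D r := by
  have h := hT.root r hr
  unfold rootCheck at h
  cases h1 : decide (goodRow T.D r)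
  · rw [h1] at h; exact Bool.noConfusion h
  · exact of_decide_eq_true h1

theorem root_col {r : ℕ} (hr : r < T.D.nroots) {j : T.D.Idx} (hj : S T j = true) :
    allS T.SN (act T.D (opsP T.p) ⟨r, 1, 1⟩ [⟨idxNat T.D j, 0, 1⟩]) = true ∧
      dif (opsP T.p) (filterMapT T.SN T.barN (act T.D (opsP T.p) ⟨r, T.mu r, 1⟩ [⟨idxNat T.D j, 0, 1⟩]))
        (filterMapT (fun n => !(T.SN n)) (fun n => n)
          (act T.D (opsP T.p) ⟨T.rb r, 1, 1⟩ [⟨T.barN (idxNat T.D j), 0, 1⟩])) = [] := by
  have h := hT.root r hr
  unfold rootCheck at h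
  rw [decide_eq_true (goodRow_of_lt hT hr), cond_true] at h
  have h2 := allRange_spec h (idxNat T.D j) (Nat.zero_le _) (by
    have h3 := idxNat_lt T.D j
    show _ < 0 + (T.D.rank + T.D.nroots)
    omega)
  have hj' : T.SN (idxNat T.D j) = true := hj
  simp only [hj', cond_true] at h2
  cases h3 : allS T.SN (act T.D (opsP T.p) ⟨r, 1, 1⟩ [⟨idxNat T.D j, 0, 1⟩])
  · rw [h3] at h2; exact Bool.noConfusion h2
  · rw [h3, cond_true] at h2
    exact ⟨rfl, eq_nil_of_isNil h2⟩

variable {K : Type*} [Field K] (hp : ((T.p : ℤ) : K) = 0)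

include hp

/-- a column of a root element by the sparse action -/
theorem x_apply {r : ℕ} (hr : r < T.D.nroots) (t : K) (e : ℕ) (i j : T.D.Idx) :
    T.D.x K r (t ^ e) i j = evalV (evP hp t) (act T.D (opsP T.p) ⟨r, e, 1⟩ [⟨idxNat T.D j, 0, 1⟩]) (idxNat T.D i) := by
  have h := act_sound T.D (evP hp t) ⟨r, e, 1⟩ (goodRow_of_lt hT hr) [⟨idxNat T.D j, 0, 1⟩]
  rw [vec_single] at h
  have e1 : (((1 : ℤ) : K)) * (evP hp t).ev 0 = 1 := by
    show ((1 : ℤ) : K) * t ^ 0 = 1
    simp
  have e2 : (((1 : ℤ) : K)) * (evP hp t).ev e = t ^ e := by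
    show ((1 : ℤ) : K) * t ^ e = t ^ e
    simp
  have e3 : T.D.x K r (t ^ e) = T.D.x K (Letter.mk r e (1 : ℤ)).r
      (((Letter.mk r e (1 : ℤ)).c : K) * (evP hp t).ev (Letter.mk r e (1 : ℤ)).a) := by
    show T.D.x K r (t ^ e) = T.D.x K r (((1 : ℤ) : K) * (evP hp t).ev e)
    rw [e2]
  rw [e3]
  have h2 := congrFun h i
  rw [e1, Matrix.mulVec_single_one] at h2
  exact h2

theorem pres_x {r : ℕ} (hr : r < T.D.nroots) (t : K) : Pres (S T) (T.D.x K r t) := by
  intro i j hi hj
  have h := x_apply hT hp hr t 1 i j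
  rw [pow_one] at h
  rw [h]
  exact evalV_of_allS _ _ _ (root_col hT hr hj).1 _ hi

/-- `x_r(t ^ μ(r))` on `I` is `x_{bar r}(t)` on `L/I` -/
theorem x_S_eq {r : ℕ} (hr : r < T.D.nroots) (t : K) {i j : T.D.Idx} (hi : S T i = true) (hj : S T j = true) :
    T.D.x K r (t ^ T.mu r) i j = T.D.x K (T.rb r) t (bar hT i) (bar hT j) := by
  have h1 := x_apply hT hp hr t (T.mu r) i j
  have h2 := x_apply hT hp (rb_lt hT hr) t 1 (bar hT i) (bar hT j)
  rw [pow_one, idxNat_bar, idxNat_bar] at h2
  rw [h1, h2]
  have h3 := dif_sound (evP hp t) (filterMapT T.SN T.barN (act T.D (opsP T.p) ⟨r, T.mu r, 1⟩ [⟨idxNat T.D j, 0, 1⟩]))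
        (filterMapT (fun n => !(T.SN n)) (fun n => n)
          (act T.D (opsP T.p) ⟨T.rb r, 1, 1⟩ [⟨T.barN (idxNat T.D j), 0, 1⟩])) (T.barN (idxNat T.D i))
  rw [(root_col hT hr hj).2, evalV_nil, filterMapT_sound _ _ _ (barN_injective hT) _ _ hi] at h3
  have h4 : (fun n => !(T.SN n)) (T.barN (idxNat T.D i)) = true := by
    show (!(T.SN (T.barN (idxNat T.D i)))) = true
    rw [hT.SN_barN _ (idxNat_lt _ _)]
    have : T.SN (idxNat T.D i) = true := hi
    rw [this]; rfl
  have h5 := filterMapT_sound (evP hp t) (fun n => !(T.SN n)) (fun n => n) (fun _ _ h => h)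
    (act T.D (opsP T.p) ⟨T.rb r, 1, 1⟩ [⟨T.barN (idxNat T.D j), 0, 1⟩]) (T.barN (idxNat T.D i)) h4
  rw [h5] at h3
  exact (sub_eq_zero.1 h3.symm)

omit hT hp in
/-- the word after applying `x_r(c) ↦ x_{bar r}(φ(c)^μ(bar r))` -/
def sigWord (T : FixData) (φ : K →+* K) (w : List (ℕ × K)) : List (ℕ × K) :=
  w.map fun q => (T.rb q.1, φ q.2 ^ T.mu (T.rb q.1))

theorem pres_word {w : List (ℕ × K)} (hw : ∀ q ∈ w, q.1 < T.D.nroots) : Pres (S T) (T.D.wordMat K w) := by
  induction w with
  | nil => exact pres_one _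
  | cons q w ih =>
    have h1 : T.D.wordMat K (q :: w) = T.D.x K q.1 q.2 * T.D.wordMat K w := by
      simp [ChevalleyDatum.wordMat]
    rw [h1]
    exact (pres_x hT hp (hw q List.mem_cons_self) q.2).mul (ih fun q' hq' => hw q' (List.mem_cons_of_mem _ hq'))

theorem word_S_eq (φ : K →+* K) {w : List (ℕ × K)} (hw : ∀ q ∈ w, q.1 < T.D.nroots) {i j : T.D.Idx}
    (hi : S T i = true) (hj : S T j = true) :
    T.D.wordMat K (sigWord T φ w) i j = φ (T.D.wordMat K w (bar hT i) (bar hT j)) := by
  induction w generalizing i with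
  | nil =>
    show (1 : Matrix T.D.Idx T.D.Idx K) i j = φ ((1 : Matrix T.D.Idx T.D.Idx K) (bar hT i) (bar hT j))
    exact rel_one (bar_bar hT) (S_bar hT) φ i j hi hj
  | cons q w ih =>
    have hw' : ∀ q ∈ w, q.1 < T.D.nroots := fun q' hq' => hw q' (List.mem_cons_of_mem _ hq')
    have hq := hw q List.mem_cons_self
    have h1 : T.D.wordMat K (q :: w) = T.D.x K q.1 q.2 * T.D.wordMat K w := by
      simp [ChevalleyDatum.wordMat]
    have h2 : T.D.wordMat K (sigWord T φ (q :: w)) =
        T.D.x K (T.rb q.1) (φ q.2 ^ T.mu (T.rb q.1)) * T.D.wordMat K (sigWord T φ w) := by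
      simp [ChevalleyDatum.wordMat, sigWord]
    have hsw : ∀ q' ∈ sigWord T φ w, q'.1 < T.D.nroots := by
      intro q' hq'
      rw [sigWord, List.mem_map] at hq'
      obtain ⟨a, ha, rfl⟩ := hq'
      exact rb_lt hT (hw' a ha)
    have hi' : S T (bar hT i) = false := by rw [S_bar hT, hi]; rfl
    rw [h1, h2, mul_apply_S (pres_word hT hp hsw) hj, mul_apply_not (pres_x hT hp hq q.2) hi', map_sum,
      sum_bar (bar_bar hT) (S_bar hT)]
    apply Finset.sum_congr rfl
    intro k hk
    rw [Finset.mem_filter] at hk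
    rw [map_mul, ih hw' hk.2]
    congr 1
    have h3 := x_S_eq hT hp (rb_lt hT hq) (φ q.2) hi hk.2
    rw [rb_rb hT hq] at h3
    rw [h3, ← Cfsg.Agent.ChevStructure.FieldMap.x_map T.D φ q.1 q.2]
    rfl

/-- the generated subgroup of a set of words fixed by `sigWord` lies in `fixSub` -/
theorem genSubgroup_le_fixSub (φ : K →+* K) (W : Set (List (ℕ × K)))
    (hW : ∀ w ∈ W, (∀ q ∈ w, q.1 < T.D.nroots) ∧ T.D.wordMat K (sigWord T φ w) = T.D.wordMat K w) :
    T.D.genSubgroup K W ≤ fixSub (S T) (bar hT) (bar_bar hT) (S_bar hT) φ := by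
  unfold ChevalleyDatum.genSubgroup
  rw [Subgroup.closure_le]
  rintro g ⟨w, hw, hg⟩
  obtain ⟨h1, h2⟩ := hW w hw
  refine ⟨?_, ?_⟩
  · rw [hg]; exact pres_word hT hp h1
  · rw [hg]
    intro i j hi hj
    rw [← word_S_eq hT hp φ h1 hi hj, h2]

end

end Cfsg.Agent.ChevalleyStructure.FixTables
end

-- part: ChevalleyStructure/SparseWordEq
section
/-!
# Kernel check of equality of two words in root elements with monomial parameters
-/

set_option autoImplicit false

namespace Cfsg.Agent.ChevalleyStructure.SparseWordEq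

open Cfsg.Lie Cfsg.Lie.ChevalleyDatum Cfsg.Agent.ChevalleyStructure.Sparse
  Cfsg.Agent.ChevalleyStructure.SparseHDiag Cfsg.Agent.ChevalleyStructure.FixTables

noncomputable section

/-- all letters have good rows -/
def goodLetters {E : Type} (D : ChevalleyDatum) (w : List (Letter E)) : Bool :=
  List.rec true (fun L _ ih => bif decide (goodRow D L.r) then ih else false) w

theorem goodLetters_spec {E : Type} {D : ChevalleyDatum} {w : List (Letter E)} (h : goodLetters D w = true) :
    ∀ L ∈ w, goodRow D L.r := by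
  induction w with
  | nil => intro L hL; simp at hL
  | cons M w ih =>
    have h' : (bif decide (goodRow D M.r) then goodLetters D w else false) = true := h
    cases h1 : decide (goodRow D M.r)
    · rw [h1] at h'; exact Bool.noConfusion h'
    · rw [h1, cond_true] at h'
      intro L hL
      rcases List.mem_cons.1 hL with rfl | hL
      · exact of_decide_eq_true h1
      · exact ih h' L hL

/-- the kernel check -/
def wordEqCheck {E : Type} (D : ChevalleyDatum) (O : Ops E) (z : E) (w₁ w₂ : List (Letter E)) : Bool :=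
  bif goodLetters D w₁ then bif goodLetters D w₂ then
    allRange (fun j => isNil (dif O (actWord D O w₁ [⟨j, z, 1⟩]) (actWord D O w₂ [⟨j, z, 1⟩]))) 0
      (Nat.add D.rank D.nroots)
  else false else false

theorem wordMat_eq_of_check {E : Type} {D : ChevalleyDatum} {O : Ops E} {z : E} {w₁ w₂ : List (Letter E)}
    (h : wordEqCheck D O z w₁ w₂ = true) {K : Type*} [Field K] (V : Ev O K) (hz : V.ev z = 1) :
    D.wordMat K (toWord V w₁) = D.wordMat K (toWord V w₂) := by
  unfold wordEqCheck at h
  cases h1 : goodLetters D w₁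
  · rw [h1] at h; exact Bool.noConfusion h
  cases h2 : goodLetters D w₂
  · rw [h1, h2] at h; exact Bool.noConfusion h
  rw [h1, h2, cond_true, cond_true] at h
  have g1 := goodLetters_spec h1
  have g2 := goodLetters_spec h2
  have hcol : ∀ u : D.Idx, (D.wordMat K (toWord V w₁)).mulVec (Pi.single u 1) =
      (D.wordMat K (toWord V w₂)).mulVec (Pi.single u 1) := by
    intro u
    have h3 := allRange_spec h (idxNat D u) (Nat.zero_le _) (by
      have := idxNat_lt D u
      show _ < 0 + (D.rank + D.nroots)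
      omega)
    have h4 := eq_nil_of_isNil h3
    have e1 := actWord_sound D V w₁ g1 [⟨idxNat D u, z, 1⟩]
    have e2 := actWord_sound D V w₂ g2 [⟨idxNat D u, z, 1⟩]
    rw [vec_single, hz] at e1 e2
    have e3 : (((1 : ℤ) : K)) * 1 = 1 := by simp
    rw [e3] at e1 e2
    rw [e1, e2]
    funext v
    have h5 := dif_sound V (actWord D O w₁ [⟨idxNat D u, z, 1⟩]) (actWord D O w₂ [⟨idxNat D u, z, 1⟩]) (idxNat D v)
    rw [h4, evalV_nil] at h5
    exact sub_eq_zero.1 h5.symm
  ext u v
  have := congrFun (hcol v) u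
  rw [Matrix.mulVec_single_one, Matrix.mulVec_single_one] at this
  exact this

/-- two variables, exponents in `ℕ`, coefficients modulo `p` -/
def opsNN (p : ℤ) : Ops (ℕ × ℕ) :=
  ⟨fun a b => (Nat.add a.1 b.1, Nat.add a.2 b.2), fun a b => Nat.beq a.1 b.1 && Nat.beq a.2 b.2,
    fun c => Int.emod c p⟩

def evNN {K : Type*} [Field K] {p : ℤ} (hp : (p : K) = 0) (s t : K) : Ev (opsNN p) K where
  ev a := s ^ a.1 * t ^ a.2
  ev_add a b := by
    show s ^ (a.1 + b.1) * t ^ (a.2 + b.2) = _
    rw [pow_add, pow_add]; ring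
  ev_beq a b h := by
    have h' : (Nat.beq a.1 b.1 && Nat.beq a.2 b.2) = true := h
    rw [Bool.and_eq_true] at h'
    rw [Nat.eq_of_beq_eq_true h'.1, Nat.eq_of_beq_eq_true h'.2]
  nrm_eq c := (evP hp s).nrm_eq c

theorem evNN_zero {K : Type*} [Field K] {p : ℤ} (hp : (p : K) = 0) (s t : K) : (evNN hp s t).ev (0, 0) = 1 := by
  show s ^ 0 * t ^ 0 = 1
  simp

end

end Cfsg.Agent.ChevalleyStructure.SparseWordEq
end
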